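import Mathlib

set_option autoImplicit false
universe u
open CategoryTheory CategoryTheory.Limits

namespace Groth.Agent.Lib.lead.SheafModRestrict

/-- If `G ⊣ i` with `i` fully faithful and `G ⋙ H` preserves colimits of shape `K`, then so does
`H` (colimits in the reflective subcategory are computed by applying `G` to the colimit upstairs). -/
theorem preservesColimitsOfShape_of_reflective {P₀ A₀ B₀ : Type*} [Category P₀] [Category A₀]
    [Category B₀] {G : P₀ ⥤ A₀} {i : A₀ ⥤ P₀} (adj : G ⊣ i) [i.Full] [i.Faithful] (H : A₀ ⥤ B₀)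
    (K : Type*) [Category K] [HasColimitsOfShape K P₀] [PreservesColimitsOfShape K (G ⋙ H)] :
    PreservesColimitsOfShape K H := by
  refine ⟨fun {F} => ?_⟩
  have : PreservesColimitsOfShape K G := adj.leftAdjoint_preservesColimits.preservesColimitsOfShape
  let e : (F ⋙ i) ⋙ G ≅ F := Functor.isoWhiskerLeft F (asIso adj.counit)
  have h1 : IsColimit (G.mapCocone (colimit.cocone (F ⋙ i))) :=
    isColimitOfPreserves G (colimit.isColimit (F ⋙ i))
  have h2 : IsColimit (H.mapCocone (G.mapCocone (colimit.cocone (F ⋙ i)))) :=
    isColimitOfPreserves (G ⋙ H) (colimit.isColimit (F ⋙ i))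
  have : PreservesColimit ((F ⋙ i) ⋙ G) H := preservesColimit_of_preserves_colimit_cocone h1 h2
  exact preservesColimit_of_iso_diagram H e

section

variable {C : Type u} [SmallCategory C] {J : GrothendieckTopology C}

/-- The forgetful functor from sheaves of modules to abelian sheaves preserves colimits. -/
instance toSheaf_preservesColimitsOfShape (R : Sheaf J RingCat.{u}) (K : Type u) [SmallCategory K] :
    PreservesColimitsOfShape K (SheafOfModules.toSheaf.{u} R) := by
  have : PreservesColimitsOfShape K
      (PresheafOfModules.sheafification.{u} (𝟙 R.obj) ⋙ SheafOfModules.toSheaf.{u} R) :=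
    preservesColimitsOfShape_of_natIso
      (PresheafOfModules.sheafificationCompToSheaf.{u} (𝟙 R.obj)).symm
  exact preservesColimitsOfShape_of_reflective
    (PresheafOfModules.sheafificationAdjunction.{u} (𝟙 R.obj)) _ K

variable {A B : Sheaf J RingCat.{u}} (φ : A ⟶ B)

theorem restrictScalars_preservesColimitsOfShape (K : Type u) [SmallCategory K] :
    PreservesColimitsOfShape K (SheafOfModules.restrictScalars.{u} φ) := by
  refine ⟨fun {F} => ?_⟩
  have : PreservesColimit F (SheafOfModules.restrictScalars.{u} φ ⋙ SheafOfModules.toSheaf.{u} A) :=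
    inferInstanceAs (PreservesColimit F (SheafOfModules.toSheaf.{u} B))
  have : ReflectsColimit (F ⋙ SheafOfModules.restrictScalars.{u} φ) (SheafOfModules.toSheaf.{u} A) :=
    reflectsColimit_of_reflectsIsomorphisms _ _
  exact preservesColimit_of_reflects_of_preserves (SheafOfModules.restrictScalars.{u} φ)
    (SheafOfModules.toSheaf.{u} A)

theorem presheaf_restrictScalars_preservesLimitsOfShape {R R' : Cᵒᵖ ⥤ RingCat.{u}} (α : R ⟶ R')
    (K : Type u) [SmallCategory K] :
    PreservesLimitsOfShape K (PresheafOfModules.restrictScalars.{u} α) := by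
  refine ⟨fun {F} => ?_⟩
  have : PreservesLimit F (PresheafOfModules.restrictScalars.{u} α ⋙ PresheafOfModules.toPresheaf R) :=
    preservesLimit_of_natIso F (PresheafOfModules.restrictScalarsCompToPresheaf α).symm
  have : ReflectsLimit (F ⋙ PresheafOfModules.restrictScalars.{u} α)
      (PresheafOfModules.toPresheaf R) :=
    reflectsLimit_of_reflectsIsomorphisms _ _
  exact preservesLimit_of_reflects_of_preserves (PresheafOfModules.restrictScalars.{u} α)
    (PresheafOfModules.toPresheaf R)

theorem restrictScalars_preservesLimitsOfShape (K : Type u) [SmallCategory K] :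
    PreservesLimitsOfShape K (SheafOfModules.restrictScalars.{u} φ) := by
  refine ⟨fun {F} => ?_⟩
  have := presheaf_restrictScalars_preservesLimitsOfShape φ.hom K
  have : PreservesLimit F (SheafOfModules.restrictScalars.{u} φ ⋙ SheafOfModules.forget.{u} A) :=
    inferInstanceAs (PreservesLimit F
      (SheafOfModules.forget.{u} B ⋙ PresheafOfModules.restrictScalars.{u} φ.hom))
  have : ReflectsLimit (F ⋙ SheafOfModules.restrictScalars.{u} φ) (SheafOfModules.forget.{u} A) :=
    reflectsLimit_of_reflectsIsomorphisms _ _
  exact preservesLimit_of_reflects_of_preserves (SheafOfModules.restrictScalars.{u} φ)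
    (SheafOfModules.forget.{u} A)

theorem restrictScalars_reflectsIsomorphisms :
    (SheafOfModules.restrictScalars.{u} φ).ReflectsIsomorphisms := by
  refine ⟨fun {M N} f hf => ?_⟩
  have h : IsIso ((SheafOfModules.toSheaf.{u} A).map ((SheafOfModules.restrictScalars.{u} φ).map f)) :=
    inferInstance
  have h' : IsIso ((SheafOfModules.toSheaf.{u} B).map f) := h
  exact isIso_of_reflects_iso f (SheafOfModules.toSheaf.{u} B)

theorem main :
    PreservesLimitsOfSize.{u, u} (SheafOfModules.restrictScalars.{u} φ) ∧
    PreservesColimitsOfSize.{u, u} (SheafOfModules.restrictScalars.{u} φ) ∧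
    (SheafOfModules.restrictScalars.{u} φ).ReflectsIsomorphisms :=
  ⟨⟨fun {K} _ => restrictScalars_preservesLimitsOfShape φ K⟩,
   ⟨fun {K} _ => restrictScalars_preservesColimitsOfShape φ K⟩,
   restrictScalars_reflectsIsomorphisms φ⟩

end

end Groth.Agent.Lib.lead.SheafModRestrict

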