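import Mathlib
import Groth.Agent.Lib.Helper4.AffineDescent

/-!
# Global functions of a flat proper scheme over a Dedekind domain with trivial generic `H⁰`
-/

set_option autoImplicit false
set_option linter.style.haveILetI false
universe u
open CategoryTheory CategoryTheory.Limits AlgebraicGeometry Opposite TopologicalSpace

namespace Groth.Agent.Lib.lead.DvrFibre

/-- Ring-theoretic core: if `B` is a finite flat algebra over an integrally closed domain `R` with
fraction field `K` and `K → B ⊗_R K` is bijective, then `R → B` is bijective. -/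
theorem bijective_algebraMap_of_isPushout (R K B Cc : Type u) [CommRing R] [IsDomain R]
    [IsIntegrallyClosed R] [Field K] [Algebra R K] [IsFractionRing R K]
    [CommRing B] [Algebra R B] [Module.Finite R B] [Module.Flat R B]
    [CommRing Cc] [Algebra K Cc] [Algebra B Cc] [Algebra R Cc] [IsScalarTower R K Cc]
    [IsScalarTower R B Cc] [Algebra.IsPushout R B K Cc]
    (hK : Function.Bijective (algebraMap K Cc)) :
    Function.Bijective (algebraMap R B) := by
  have hRK : Function.Injective (algebraMap R K) := IsFractionRing.injective R K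
  have hBinj : Function.Injective (algebraMap B Cc) := by
    let inc : B →ₐ[B] TensorProduct R B K := Algebra.TensorProduct.includeLeft
    have h1 : Function.Injective inc :=
      Algebra.TensorProduct.includeLeft_injective hRK
    have h2 : ∀ b : B, algebraMap B Cc b = (Algebra.IsPushout.equiv R B K Cc) (inc b) := by
      intro b
      simp [inc, Algebra.IsPushout.equiv_tmul]
    intro b b' hbb'
    rw [h2, h2] at hbb'
    exact h1 ((Algebra.IsPushout.equiv R B K Cc).injective hbb')
  have hRinj : Function.Injective (algebraMap R B) := by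
    intro r r' h
    apply hRK
    apply hK.1
    rw [← IsScalarTower.algebraMap_apply R K Cc, ← IsScalarTower.algebraMap_apply R K Cc,
      IsScalarTower.algebraMap_apply R B Cc, IsScalarTower.algebraMap_apply R B Cc, h]
  refine ⟨hRinj, ?_⟩
  intro b
  obtain ⟨x, hx⟩ := hK.2 (algebraMap B Cc b)
  have hbint : IsIntegral R b := Algebra.IsIntegral.isIntegral b
  have hxint : IsIntegral R x := by
    rw [← isIntegral_algebraMap_iff (B := Cc) hK.1, hx]
    exact hbint.algebraMap
  obtain ⟨r, hr⟩ := IsIntegrallyClosed.algebraMap_eq_of_integral hxint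
  refine ⟨r, ?_⟩
  apply hBinj
  rw [← IsScalarTower.algebraMap_apply R B Cc, IsScalarTower.algebraMap_apply R K Cc, hr, hx]

/-- The structure map `R ⟶ Γ(X, O_X)` of a scheme over `Spec R`. -/
noncomputable def toGlobal (R : Type u) [CommRing R] {X : Scheme.{u}}
    (p : X ⟶ Spec (CommRingCat.of R)) : CommRingCat.of R ⟶ Γ(X, ⊤) :=
  (Scheme.ΓSpecIso (CommRingCat.of R)).inv ≫ p.appTop

/-- Sections over an affine open of a scheme flat over `Spec R` form a flat `R`-module. -/
theorem flat_toGlobal_comp_res (R : Type u) [CommRing R] {X : Scheme.{u}}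
    (p : X ⟶ Spec (CommRingCat.of R)) [Flat p] (U : X.affineOpens) :
    (toGlobal R p ≫ X.presheaf.map (homOfLE (le_top : U.1 ≤ ⊤)).op).hom.Flat := by
  have h := HasRingHomProperty.appLE (P := @Flat) p inferInstance
    ⟨⊤, isAffineOpen_top _⟩ U (by exact le_top)
  have heq : toGlobal R p ≫ X.presheaf.map (homOfLE (le_top : U.1 ≤ ⊤)).op =
      (Scheme.ΓSpecIso (CommRingCat.of R)).inv ≫ p.appLE ⊤ U.1 le_top := by
    rw [toGlobal, Category.assoc]
    congr 1
  rw [heq, CommRingCat.hom_comp]
  refine RingHom.Flat.comp ?_ h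
  exact RingHom.Flat.of_bijective
    (ConcreteCategory.bijective_of_isIso (Scheme.ΓSpecIso (CommRingCat.of R)).inv)

/-- Global sections of a scheme flat over `Spec R` form a torsion-free `R`-module. -/
theorem isTorsionFree_globalSections (R : Type u) [CommRing R] {X : Scheme.{u}}
    (p : X ⟶ Spec (CommRingCat.of R)) [Flat p] :
    letI : Algebra R Γ(X, ⊤) := (toGlobal R p).hom.toAlgebra
    Module.IsTorsionFree R Γ(X, ⊤) := by
  letI : Algebra R Γ(X, ⊤) := (toGlobal R p).hom.toAlgebra
  refine ⟨fun r hr s t hst => ?_⟩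
  have hst' : (toGlobal R p).hom r * s = (toGlobal R p).hom r * t := hst
  refine X.sheaf.eq_of_locally_eq' (fun U : X.affineOpens => U.1) ⊤
    (fun U => homOfLE le_top) (iSup_affineOpens_eq_top X).ge s t (fun U => ?_)
  have hflat := flat_toGlobal_comp_res R p U
  let ρ : Γ(X, ⊤) ⟶ Γ(X, U.1) := X.presheaf.map (homOfLE (le_top : U.1 ≤ ⊤)).op
  letI : Algebra R Γ(X, U.1) := (toGlobal R p ≫ ρ).hom.toAlgebra
  haveI : Module.Flat R Γ(X, U.1) := hflat
  have hreg : IsSMulRegular Γ(X, U.1) r := Module.Flat.isSMulRegular_of_isRegular hr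
  apply hreg
  change (toGlobal R p ≫ ρ).hom r * ρ.hom s = (toGlobal R p ≫ ρ).hom r * ρ.hom t
  rw [CommRingCat.hom_comp, RingHom.comp_apply, ← map_mul, ← map_mul, hst']

end Groth.Agent.Lib.lead.DvrFibre
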