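import Mathlib
import Groth.Agent.S0521

/-!
# Clopen subsets and henselian pairs: topological and affine lemmas
-/

set_option autoImplicit false
universe u
open PrimeSpectrum

namespace Groth.Agent.Lib.lead.HensClopen

/-- Along a closed continuous surjection with preconnected fibres, relatively clopen subsets of
the preimage of a closed set `C` extend to clopen subsets as soon as they do on the base. -/
theorem exists_isClopen_inter_eq {Y S : Type*} [TopologicalSpace Y] [TopologicalSpace S]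
    (π : Y → S) (hcont : Continuous π) (hcl : IsClosedMap π) (hsurj : Function.Surjective π)
    (hfib : ∀ s, IsPreconnected (π ⁻¹' {s})) (C : Set S)
    (hlift : ∀ W₀ : Set S, W₀ ⊆ C → IsClosed W₀ → IsClosed (C \ W₀) →
      ∃ W, IsClopen W ∧ W ∩ C = W₀)
    (V' : Set Y) (hV'Z : V' ⊆ π ⁻¹' C) (hV' : IsClosed V') (hV'' : IsClosed (π ⁻¹' C \ V')) :
    ∃ U, IsClopen U ∧ U ∩ π ⁻¹' C = V' := by
  -- a fibre over a point of `C` cannot meet both `V'` and its complement in `π ⁻¹' C`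
  have hsplit : ∀ y v, y ∈ π ⁻¹' C \ V' → v ∈ V' → π y ≠ π v := by
    intro y v hy hv heq
    have hpre := hfib (π y)
    rw [isPreconnected_closed_iff] at hpre
    have hcov : π ⁻¹' {π y} ⊆ V' ∪ (π ⁻¹' C \ V') := by
      intro z hz
      by_cases hzV : z ∈ V'
      · exact Or.inl hzV
      · refine Or.inr ⟨?_, hzV⟩
        have : π z = π y := hz
        change π z ∈ C
        rw [this]
        exact hy.1
    obtain ⟨z, -, hz1, hz2⟩ := hpre V' (π ⁻¹' C \ V') hV' hV'' hcov
      ⟨v, heq.symm, hv⟩ ⟨y, rfl, hy⟩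
    exact hz2.2 hz1
  have hW₀C : π '' V' ⊆ C := by
    rintro _ ⟨v, hv, rfl⟩
    exact hV'Z hv
  have hcompl : C \ π '' V' = π '' (π ⁻¹' C \ V') := by
    ext s
    constructor
    · rintro ⟨hsC, hsW⟩
      obtain ⟨y, rfl⟩ := hsurj s
      exact ⟨y, ⟨hsC, fun hyV => hsW ⟨y, hyV, rfl⟩⟩, rfl⟩
    · rintro ⟨y, hy, rfl⟩
      refine ⟨hy.1, ?_⟩
      rintro ⟨v, hv, hvy⟩
      exact hsplit y v hy hv hvy.symm
  obtain ⟨W, hW, hWC⟩ := hlift (π '' V') hW₀C (hcl _ hV') (by rw [hcompl]; exact hcl _ hV'')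
  refine ⟨π ⁻¹' W, hW.preimage hcont, ?_⟩
  rw [← Set.preimage_inter, hWC]
  apply Set.Subset.antisymm
  · rintro y ⟨v, hv, hvy⟩
    by_contra hyV
    have hyC : y ∈ π ⁻¹' C := by
      change π y ∈ C
      rw [← hvy]
      exact hV'Z hv
    exact hsplit y v ⟨hyC, hyV⟩ hv hvy.symm
  · exact Set.subset_preimage_image π V'

/-- A clopen subset of the source of a closed map to `Spec R` is determined by its trace on the
preimage of `V(K)` when `K` lies in the Jacobson radical. -/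
theorem eq_of_inter_eq {Y : Type*} [TopologicalSpace Y] {R : Type*} [CommRing R] (K : Ideal R)
    (hK : K ≤ Ideal.jacobson ⊥) (h : Y → PrimeSpectrum R) (hcl : IsClosedMap h)
    (U₁ U₂ : Set Y) (h₁ : IsClopen U₁) (h₂ : IsClopen U₂)
    (heq : U₁ ∩ h ⁻¹' (zeroLocus (K : Set R)) = U₂ ∩ h ⁻¹' (zeroLocus (K : Set R))) :
    U₁ = U₂ := by
  -- a closed subset of `Y` missing the preimage of `V(K)` is empty
  have key : ∀ D : Set Y, IsClosed D → Disjoint D (h ⁻¹' (zeroLocus (K : Set R))) → D = ∅ := by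
    intro D hD hdisj
    by_contra hne
    obtain ⟨y, hy⟩ := Set.nonempty_iff_ne_empty.mpr hne
    have hT : IsClosed (h '' D) := hcl _ hD
    have hTz : zeroLocus (vanishingIdeal (h '' D) : Set R) = h '' D := by
      rw [zeroLocus_vanishingIdeal_eq_closure, hT.closure_eq]
    have hJ : vanishingIdeal (h '' D) ≠ ⊤ := by
      intro htop
      have hmem : h y ∈ zeroLocus (vanishingIdeal (h '' D) : Set R) := by
        rw [hTz]; exact ⟨y, hy, rfl⟩
      rw [htop] at hmem
      simp at hmem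
    obtain ⟨m, hm, hJm⟩ := Ideal.exists_le_maximal _ hJ
    have hmT : (⟨m, hm.isPrime⟩ : PrimeSpectrum R) ∈ h '' D := by
      rw [← hTz]
      exact hJm
    obtain ⟨y', hy'D, hy'⟩ := hmT
    have hKm : K ≤ m := hK.trans (sInf_le ⟨bot_le, hm⟩)
    have : y' ∈ h ⁻¹' (zeroLocus (K : Set R)) := by
      change h y' ∈ zeroLocus (K : Set R)
      rw [hy']
      exact hKm
    exact Set.disjoint_left.mp hdisj hy'D this
  have h12 : U₁ \ U₂ = ∅ := by
    apply key _ (h₁.1.sdiff h₂.2)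
    rw [Set.disjoint_left]
    rintro y ⟨hy1, hy2⟩ hyZ
    have : y ∈ U₂ ∩ h ⁻¹' (zeroLocus (K : Set R)) := heq ▸ ⟨hy1, hyZ⟩
    exact hy2 this.1
  have h21 : U₂ \ U₁ = ∅ := by
    apply key _ (h₂.1.sdiff h₁.2)
    rw [Set.disjoint_left]
    rintro y ⟨hy2, hy1⟩ hyZ
    have : y ∈ U₁ ∩ h ⁻¹' (zeroLocus (K : Set R)) := heq ▸ ⟨hy2, hyZ⟩
    exact hy1 this.1
  exact Set.Subset.antisymm (Set.sdiff_eq_empty.mp h12) (Set.sdiff_eq_empty.mp h21)

/-- For a finite algebra `B` over a henselian pair `(R, K)`, relatively clopen subsets of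
`V(KB)` extend to clopen subsets of `Spec B`. -/
theorem exists_isClopen_inter_zeroLocus {R : Type u} [CommRing R] (K : Ideal R)
    [HenselianRing R K] (B : Type u) [CommRing B] [Algebra R B] [Module.Finite R B]
    (W₀ : Set (PrimeSpectrum B))
    (hsub : W₀ ⊆ zeroLocus (K.map (algebraMap R B) : Set B))
    (h1 : IsClosed W₀) (h2 : IsClosed (zeroLocus (K.map (algebraMap R B) : Set B) \ W₀)) :
    ∃ W, IsClopen W ∧ W ∩ zeroLocus (K.map (algebraMap R B) : Set B) = W₀ := by
  set KB := K.map (algebraMap R B) with hKB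
  let c : PrimeSpectrum (B ⧸ KB) → PrimeSpectrum B := PrimeSpectrum.comap (Ideal.Quotient.mk KB)
  have hc : Continuous c := PrimeSpectrum.continuous_comap (Ideal.Quotient.mk KB)
  have hrange : Set.range c = zeroLocus (KB : Set B) := by
    have := range_comap_of_surjective _ (Ideal.Quotient.mk KB)
      Ideal.Quotient.mk_surjective
    rw [Ideal.mk_ker] at this
    exact this
  have hT : IsClopen (c ⁻¹' W₀) := by
    refine ⟨h1.preimage hc, ?_⟩
    have : c ⁻¹' W₀ = (c ⁻¹' (zeroLocus (KB : Set B) \ W₀))ᶜ := by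
      ext p
      have hp : c p ∈ zeroLocus (KB : Set B) := hrange ▸ Set.mem_range_self p
      simp only [Set.mem_preimage, Set.mem_compl_iff, Set.mem_sdiff, not_and, not_not]
      exact ⟨fun h _ => h, fun h => h hp⟩
    rw [this]
    exact (h2.preimage hc).isOpen_compl
  obtain ⟨ebar, hebar, hTe⟩ := (PrimeSpectrum.isClopen_iff).mp hT
  have hbij := (Groth.Agent.S0521.result R K).mp inferInstance B inferInstance
  obtain ⟨e, he, hee⟩ := hbij.surjOn hebar
  refine ⟨basicOpen e, (PrimeSpectrum.isClopen_iff).mpr ⟨e, he, rfl⟩, ?_⟩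
  have hmem : ∀ pbar : PrimeSpectrum (B ⧸ KB), c pbar ∈ (basicOpen e : Set _) ↔ c pbar ∈ W₀ := by
    intro pbar
    have h1 : c pbar ∈ W₀ ↔ pbar ∈ (basicOpen ebar : Set _) := by
      rw [← hTe]; rfl
    rw [h1]
    change e ∉ (c pbar).asIdeal ↔ ebar ∉ pbar.asIdeal
    rw [← hee]
    rfl
  ext p
  constructor
  · rintro ⟨hp1, hp2⟩
    rw [← hrange] at hp2
    obtain ⟨pbar, rfl⟩ := hp2
    exact (hmem pbar).mp hp1
  · intro hp
    have hp2 := hsub hp
    refine ⟨?_, hp2⟩
    rw [← hrange] at hp2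
    obtain ⟨pbar, rfl⟩ := hp2
    exact (hmem pbar).mpr hp

end Groth.Agent.Lib.lead.HensClopen
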