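import Mathlib
import Groth.Agent.Lib.lead.HensClopenA
import Groth.Agent.Lib.Helper21.ZarConn5
import Groth.Agent.Lib.Helper21.ProperGamma1

/-!
# Clopen subsets of schemes proper over a Noetherian henselian pair
-/

set_option autoImplicit false
set_option linter.style.haveILetI false
universe u
open CategoryTheory CategoryTheory.Limits AlgebraicGeometry Opposite TopologicalSpace PrimeSpectrum

namespace Groth.Agent.Lib.lead.HensClopen

open Groth.Agent.Lib.Helper21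

/-- Zariski connectedness for the affinization morphism: if `Y ⟶ Spec Γ(Y, O_Y)` is proper and
`Γ(Y, O_Y)` is Noetherian, its fibres are connected (and nonempty). -/
theorem isConnected_toSpecΓ_preimage_singleton (Y : Scheme.{u}) [IsProper Y.toSpecΓ]
    [IsNoetherianRing Γ(Y, ⊤)] (p : Spec Γ(Y, ⊤)) :
    _root_.IsConnected (Y.toSpecΓ ⁻¹' {p}) := by
  haveI := ZarConn.flat_fromSpecStalk (Spec Γ(Y, ⊤)) p
  have hfU : IsIso (Y.toSpecΓ.app ⊤) := by
    have : Y.toSpecΓ.app ⊤ = (Scheme.ΓSpecIso Γ(Y, ⊤)).hom := Scheme.toSpecΓ_appTop Y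
    rw [this]; infer_instance
  have hconn := ZarConn.isConnected_closedFibre_of_flat Y.toSpecΓ
    ((Spec Γ(Y, ⊤)).presheaf.stalk p) ((Spec Γ(Y, ⊤)).fromSpecStalk p) ⊤
    (isAffineOpen_top (Spec Γ(Y, ⊤))) trivial hfU
  have himg : (pullback.fst Y.toSpecΓ ((Spec Γ(Y, ⊤)).fromSpecStalk p)) ''
      ((pullback.snd Y.toSpecΓ ((Spec Γ(Y, ⊤)).fromSpecStalk p)) ⁻¹'
        {IsLocalRing.closedPoint ((Spec Γ(Y, ⊤)).presheaf.stalk p)}) = Y.toSpecΓ ⁻¹' {p} := by
    ext x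
    constructor
    · rintro ⟨z, hz, rfl⟩
      change Y.toSpecΓ ((pullback.fst Y.toSpecΓ ((Spec Γ(Y, ⊤)).fromSpecStalk p)) z) = p
      rw [← Scheme.Hom.comp_apply, pullback.condition, Scheme.Hom.comp_apply]
      rw [show pullback.snd Y.toSpecΓ ((Spec Γ(Y, ⊤)).fromSpecStalk p) z =
        IsLocalRing.closedPoint ((Spec Γ(Y, ⊤)).presheaf.stalk p) from hz]
      exact Scheme.fromSpecStalk_closedPoint
    · intro hx
      have hx' : Y.toSpecΓ x = (Spec Γ(Y, ⊤)).fromSpecStalk p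
          (IsLocalRing.closedPoint ((Spec Γ(Y, ⊤)).presheaf.stalk p)) := by
        rw [Scheme.fromSpecStalk_closedPoint]; exact hx
      obtain ⟨z, hz1, hz2⟩ := Scheme.Pullback.exists_preimage_pullback x _ hx'
      exact ⟨z, hz2, hz1⟩
  rw [← himg]
  exact hconn.image _
    (pullback.fst Y.toSpecΓ ((Spec Γ(Y, ⊤)).fromSpecStalk p)).continuous.continuousOn

/-- **Proper schemes over a Noetherian henselian pair are henselian couples** (topological
form): for `h : Y ⟶ Spec R` proper, `(R, K)` henselian and `R` Noetherian, every relatively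
clopen subset of `h⁻¹ V(K)` is the trace of a unique clopen subset of `Y`. -/
theorem main (R : Type u) [CommRing R] [IsNoetherianRing R] (K : Ideal R) [HenselianRing R K]
    {Y : Scheme.{u}} (h : Y ⟶ Spec (CommRingCat.of R)) [IsProper h]
    (V' : Set Y) (hV'Z : V' ⊆ h ⁻¹' (zeroLocus (K : Set R)))
    (hV' : IsClosed V') (hV'' : IsClosed (h ⁻¹' (zeroLocus (K : Set R)) \ V')) :
    ∃! U : Set Y, IsClopen U ∧ U ∩ h ⁻¹' (zeroLocus (K : Set R)) = V' := by
  let ψ : CommRingCat.of R ⟶ Γ(Y, ⊤) := (Scheme.ΓSpecIso (CommRingCat.of R)).inv ≫ h.appTop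
  have hψfin : ψ.hom.Finite := ProperGamma.finite_toGlobal R Y h
  letI : Algebra R Γ(Y, ⊤) := ψ.hom.toAlgebra
  haveI : Module.Finite R Γ(Y, ⊤) := hψfin
  haveI : IsNoetherianRing Γ(Y, ⊤) := IsNoetherianRing.of_finite R Γ(Y, ⊤)
  have hfac : Y.toSpecΓ ≫ Spec.map ψ = h := by
    rw [Spec.map_comp, ← Category.assoc, ← Scheme.toSpecΓ_naturality, Category.assoc,
      toSpecΓ_SpecMap_ΓSpecIso_inv, Category.comp_id]
  haveI : IsProper (Y.toSpecΓ ≫ Spec.map ψ) := by rw [hfac]; infer_instance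
  haveI : IsProper Y.toSpecΓ := IsProper.of_comp Y.toSpecΓ (Spec.map ψ)
  have hfib : ∀ p : Spec Γ(Y, ⊤), _root_.IsConnected (Y.toSpecΓ ⁻¹' {p}) :=
    isConnected_toSpecΓ_preimage_singleton Y
  have hsurj : Function.Surjective Y.toSpecΓ := by
    intro p
    obtain ⟨y, hy⟩ := (hfib p).nonempty
    exact ⟨y, hy⟩
  have hcl : IsClosedMap Y.toSpecΓ := Y.toSpecΓ.isClosedMap
  set KB : Ideal Γ(Y, ⊤) := K.map (algebraMap R Γ(Y, ⊤)) with hKB
  have hZ : h ⁻¹' (zeroLocus (K : Set R)) = Y.toSpecΓ ⁻¹' (zeroLocus (KB : Set Γ(Y, ⊤))) := by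
    have h1 : (Spec.map ψ) ⁻¹' (zeroLocus (K : Set R)) = zeroLocus (KB : Set Γ(Y, ⊤)) := by
      have : (zeroLocus (KB : Set Γ(Y, ⊤)) : Set (PrimeSpectrum Γ(Y, ⊤))) =
          zeroLocus (ψ.hom '' (K : Set R)) := by
        rw [hKB, Ideal.map, zeroLocus_span]; rfl
      rw [this, ← PrimeSpectrum.preimage_comap_zeroLocus]
      rfl
    rw [← h1, ← hfac]
    rfl
  refine existsUnique_of_exists_of_unique ?_ ?_
  · rw [hZ] at hV'Z hV'' ⊢
    exact exists_isClopen_inter_eq (fun y => Y.toSpecΓ y) Y.toSpecΓ.continuous hcl hsurj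
      (fun p => (hfib p).isPreconnected) (zeroLocus (KB : Set Γ(Y, ⊤)))
      (fun W₀ hW₀ h1 h2 => exists_isClopen_inter_zeroLocus K Γ(Y, ⊤) W₀ hW₀ h1 h2)
      V' hV'Z hV' hV''
  · rintro U₁ U₂ ⟨hU₁, h₁⟩ ⟨hU₂, h₂⟩
    exact eq_of_inter_eq K HenselianRing.jac (fun y => h y) h.isClosedMap U₁ U₂ hU₁ hU₂
      (h₁.trans h₂.symm)

end Groth.Agent.Lib.lead.HensClopen
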