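import Mathlib
import Groth.Agent.Lib.lead.DvrFibreA
import Groth.Agent.Lib.lead.HensClopenB

/-!
# The special fibre of a flat proper scheme over a DVR with trivial generic `H⁰` is connected
-/

set_option autoImplicit false
set_option linter.style.haveILetI false
universe u
open CategoryTheory CategoryTheory.Limits AlgebraicGeometry Opposite TopologicalSpace

namespace Groth.Agent.Lib.lead.DvrFibre

open Groth.Agent.Lib.Helper21 Groth.Agent.Lib.lead.HensClopen

/-- If `X` is flat and proper over a Dedekind domain `R` and the generic fibre `C` has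
`H⁰(C, O_C) = K`, then `H⁰(X, O_X) = R`. -/
theorem bijective_toGlobal (R : Type u) [CommRing R] [IsDomain R] [IsDedekindDomain R]
    {C X : Scheme.{u}} (f : C ⟶ Spec (CommRingCat.of (FractionRing R)))
    (p : X ⟶ Spec (CommRingCat.of R)) [IsProper p] [Flat p] (g : C ⟶ X)
    (H : IsPullback g f p (Spec.map (CommRingCat.ofHom (algebraMap R (FractionRing R)))))
    (hH0 : IsIso f.appTop) :
    Function.Bijective (toGlobal R p).hom := by
  let K := FractionRing R
  let q : Spec (CommRingCat.of K) ⟶ Spec (CommRingCat.of R) :=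
    Spec.map (CommRingCat.ofHom (algebraMap R K))
  haveI : Flat q := by
    rw [HasRingHomProperty.Spec_iff (P := @Flat)]
    change (algebraMap R K).Flat
    rw [RingHom.flat_algebraMap_iff]
    exact IsLocalization.flat K (nonZeroDivisors R)
  haveI : CompactSpace X := QuasiCompact.compactSpace_of_compactSpace p
  haveI : QuasiSeparatedSpace X := quasiSeparatedSpace_of_quasiSeparated p
  have hpo : IsPushout p.appTop q.appTop g.appTop f.appTop :=
    Groth.Agent.Lib.Helper4.AffineDescent.isPushout_appTop H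
  have hpo' : IsPushout (toGlobal R p) (CommRingCat.ofHom (algebraMap R K)) g.appTop
      (toGlobal K f) := by
    refine hpo.of_iso (Scheme.ΓSpecIso (CommRingCat.of R)) (Iso.refl _)
      (Scheme.ΓSpecIso (CommRingCat.of K)) (Iso.refl _) ?_ ?_ ?_ ?_
    · simp [toGlobal]
    · exact Scheme.ΓSpecIso_naturality _
    · simp
    · simp [toGlobal]
  letI : Algebra R Γ(X, ⊤) := (toGlobal R p).hom.toAlgebra
  letI : Algebra K Γ(C, ⊤) := (toGlobal K f).hom.toAlgebra
  letI : Algebra Γ(X, ⊤) Γ(C, ⊤) := g.appTop.hom.toAlgebra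
  letI : Algebra R Γ(C, ⊤) := (toGlobal R p ≫ g.appTop).hom.toAlgebra
  haveI : IsScalarTower R Γ(X, ⊤) Γ(C, ⊤) := IsScalarTower.of_algebraMap_eq' rfl
  haveI : IsScalarTower R K Γ(C, ⊤) :=
    IsScalarTower.of_algebraMap_eq' (congrArg CommRingCat.Hom.hom hpo'.w)
  haveI : Algebra.IsPushout R Γ(X, ⊤) K Γ(C, ⊤) :=
    CommRingCat.isPushout_iff_isPushout.mp hpo'
  haveI : Module.Finite R Γ(X, ⊤) := ProperGamma.finite_toGlobal R X p
  haveI : Module.IsTorsionFree R Γ(X, ⊤) := isTorsionFree_globalSections R p
  haveI : Module.Flat R Γ(X, ⊤) := inferInstance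
  haveI : IsIso (toGlobal K f) := by unfold toGlobal; infer_instance
  have hK : Function.Bijective (algebraMap K Γ(C, ⊤)) :=
    ConcreteCategory.bijective_of_isIso (toGlobal K f)
  exact bijective_algebraMap_of_isPushout R K Γ(X, ⊤) Γ(C, ⊤) hK

/-- **Connectedness of the special fibre**: for `X` flat and proper over a discrete valuation ring
`R` whose generic fibre `C` satisfies `H⁰(C, O_C) = K`, the special fibre is connected. -/
theorem connectedSpace_specialFibre (R : Type u) [CommRing R] [IsDomain R]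
    [IsDiscreteValuationRing R]
    {C X : Scheme.{u}} (f : C ⟶ Spec (CommRingCat.of (FractionRing R)))
    (p : X ⟶ Spec (CommRingCat.of R)) [IsProper p] [Flat p] (g : C ⟶ X)
    (H : IsPullback g f p (Spec.map (CommRingCat.ofHom (algebraMap R (FractionRing R)))))
    (hH0 : IsIso f.appTop) :
    ConnectedSpace ↥(pullback p (Spec.map (CommRingCat.ofHom
      (algebraMap R (IsLocalRing.ResidueField R))))) := by
  have hbij := bijective_toGlobal R f p g H hH0
  let ψ : CommRingCat.of R ⟶ Γ(X, ⊤) := toGlobal R p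
  haveI : IsIso ψ := (ConcreteCategory.isIso_iff_bijective ψ).mpr hbij
  have hfac : X.toSpecΓ ≫ Spec.map ψ = p := by
    change X.toSpecΓ ≫ Spec.map ((Scheme.ΓSpecIso (CommRingCat.of R)).inv ≫ p.appTop) = p
    rw [Spec.map_comp, ← Category.assoc, ← Scheme.toSpecΓ_naturality, Category.assoc,
      toSpecΓ_SpecMap_ΓSpecIso_inv, Category.comp_id]
  haveI : IsProper (X.toSpecΓ ≫ Spec.map ψ) := by rw [hfac]; infer_instance
  haveI : IsProper X.toSpecΓ := IsProper.of_comp X.toSpecΓ (Spec.map ψ)
  letI : Algebra R Γ(X, ⊤) := ψ.hom.toAlgebra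
  haveI : Module.Finite R Γ(X, ⊤) := ProperGamma.finite_toGlobal R X p
  haveI : IsNoetherianRing Γ(X, ⊤) := IsNoetherianRing.of_finite R Γ(X, ⊤)
  let q₀ := Spec.map (CommRingCat.ofHom (algebraMap R (IsLocalRing.ResidueField R)))
  haveI : IsClosedImmersion q₀ :=
    IsClosedImmersion.spec_of_surjective _ IsLocalRing.residue_surjective
  let j := pullback.fst p q₀
  let s₀ : Spec (CommRingCat.of R) := q₀ default
  have hrq : Set.range q₀ = {s₀} := by
    ext s
    constructor
    · rintro ⟨t, rfl⟩
      rw [Unique.eq_default t]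
      rfl
    · rintro rfl
      exact ⟨default, rfl⟩
  let e : Spec Γ(X, ⊤) ≃ₜ Spec (CommRingCat.of R) := Scheme.homeoOfIso (asIso (Spec.map ψ))
  let t₀ : Spec Γ(X, ⊤) := e.symm s₀
  have hrange : Set.range j = X.toSpecΓ ⁻¹' {t₀} := by
    rw [Scheme.Pullback.range_fst, hrq]
    ext x
    have hx : p x = e (X.toSpecΓ x) := by
      rw [← hfac]; rfl
    simp only [Set.mem_preimage, Set.mem_singleton_iff]
    rw [hx]
    constructor
    · intro h
      show X.toSpecΓ x = e.symm s₀
      rw [← h, Homeomorph.symm_apply_apply]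
    · intro h
      rw [h]
      exact e.apply_symm_apply s₀
  have hconn : _root_.IsConnected (Set.range j) := by
    rw [hrange]
    exact isConnected_toSpecΓ_preimage_singleton X t₀
  rw [connectedSpace_iff_univ]
  have hind : Topology.IsInducing j := j.isClosedEmbedding.isEmbedding.isInducing
  refine ⟨?_, ?_⟩
  · obtain ⟨x, y, rfl⟩ := hconn.nonempty
    exact ⟨y, trivial⟩
  · rw [← hind.isPreconnected_image, Set.image_univ]
    exact hconn.isPreconnected

end Groth.Agent.Lib.lead.DvrFibre
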