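import Mathlib
import Groth.Prelude.Def_CAlg2
import Groth.Agent.Lib.Helper17.GeomUnibranch

set_option autoImplicit false
set_option linter.style.haveILetI false

universe u

namespace Groth.Agent.Lib.lead.GUPack

open IsLocalRing Groth.Agent.Lib.Helper17.Unibranch Groth.Agent.Lib.Helper17.GeomUnibranch

/-- **Criterion (general local ring)**: a local ring `R` with a normal local domain `D'` integral
over it, with nilpotent kernel, the same fraction field and purely inseparable residue field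
extension, is geometrically unibranch. -/
theorem pack {R : Type u} [CommRing R] [IsLocalRing R]
    (D' : Type u) [CommRing D'] [IsDomain D'] [IsIntegrallyClosed D'] [Algebra R D']
    [Algebra.IsIntegral R D'] [IsLocalRing D']
    (hker : ∀ a : R, algebraMap R D' a = 0 → IsNilpotent a)
    (hfrac : ∀ y : D', ∃ d : R, algebraMap R D' d ≠ 0 ∧
      ∃ d₂ : R, algebraMap R D' d * y = algebraMap R D' d₂)
    (e : ℕ) (he : e = 1 ∨ (e.Prime ∧ (e : D') ∈ maximalIdeal D'))
    (hpi : ∀ y : D', ∃ (n : ℕ) (d : R), y ^ (e ^ n) - algebraMap R D' d ∈ maximalIdeal D') :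
    CAlg2.IsGeomUnibranch R := by
  have h0 : ∀ a ∈ nilradical R, algebraMap R D' a = 0 := by
    intro a ha
    exact IsNilpotent.eq_zero (IsNilpotent.map (mem_nilradical.mp ha) (algebraMap R D'))
  -- D' as an algebra over red R
  let ρ : CAlg2.red R →+* D' := Ideal.Quotient.lift (nilradical R) (algebraMap R D') h0
  letI algA : Algebra (CAlg2.red R) D' := ρ.toAlgebra
  have hρ : ∀ a : R, algebraMap (CAlg2.red R) D' (Ideal.Quotient.mk _ a) = algebraMap R D' a :=
    fun a => rfl
  haveI : IsScalarTower R (CAlg2.red R) D' := IsScalarTower.of_algebraMap_eq (fun a => (hρ a).symm)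
  haveI : Algebra.IsIntegral (CAlg2.red R) D' :=
    ⟨fun y => (Algebra.IsIntegral.isIntegral (R := R) y).tower_top⟩
  have hinjA : Function.Injective (algebraMap (CAlg2.red R) D') := by
    rw [injective_iff_map_eq_zero]
    intro x hx
    obtain ⟨a, rfl⟩ := Ideal.Quotient.mk_surjective x
    rw [hρ] at hx
    exact Ideal.Quotient.eq_zero_iff_mem.mpr (mem_nilradical.mpr (hker a hx))
  haveI hdomA : IsDomain (CAlg2.red R) := hinjA.isDomain _
  have hfracA : ∀ y : D', ∃ d : CAlg2.red R, d ≠ 0 ∧ ∃ d₂ : CAlg2.red R,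
      algebraMap (CAlg2.red R) D' d * y = algebraMap (CAlg2.red R) D' d₂ := by
    intro y
    obtain ⟨d, hd, d₂, h⟩ := hfrac y
    refine ⟨Ideal.Quotient.mk _ d, fun h0 => hd ?_, Ideal.Quotient.mk _ d₂, ?_⟩
    · rw [← hρ, h0, map_zero]
    · rw [hρ, hρ, h]
  obtain ⟨φ⟩ := nonempty_algEquiv_integralClosure (CAlg2.red R) D' hinjA hfracA
  haveI hlocN : IsLocalRing (CAlg2.normRed R) := φ.symm.toRingEquiv.isLocalRing
  refine ⟨⟨hdomA, hlocN⟩, ?_⟩
  intro m' hm' x
  obtain ⟨ν, rfl⟩ := Ideal.Quotient.mk_surjective x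
  obtain ⟨n, d, hd⟩ := hpi (φ ν)
  have hm'eq : m' = maximalIdeal (CAlg2.normRed R) := IsLocalRing.eq_maximalIdeal hm'
  have hmem : ∀ z : CAlg2.normRed R, φ z ∈ maximalIdeal D' → z ∈ m' := by
    intro z hz
    rw [hm'eq, mem_maximalIdeal, mem_nonunits_iff]
    intro hu
    exact (mem_maximalIdeal _).mp hz (hu.map φ)
  have hkey : ν ^ (e ^ n) -
      algebraMap (CAlg2.red R) (CAlg2.normRed R) (Ideal.Quotient.mk _ d) ∈ m' := by
    apply hmem
    rw [map_sub, map_pow, φ.commutes, hρ]
    exact hd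
  rcases he with he1 | ⟨hp, hpm⟩
  · subst he1
    refine ⟨0, d, ?_⟩
    rw [pow_zero, pow_one]
    simp only [one_pow, pow_one] at hkey
    exact (Ideal.Quotient.eq.mpr hkey).symm
  · have hpN : (e : CAlg2.normRed R) ∈ m' := by
      apply hmem
      rw [map_natCast]
      exact hpm
    letI : Field (CAlg2.normRed R ⧸ m') := Ideal.Quotient.field m'
    have h0 : ((e : ℕ) : CAlg2.normRed R ⧸ m') = 0 := by
      rw [← map_natCast (Ideal.Quotient.mk m'), Ideal.Quotient.eq_zero_iff_mem]
      exact hpN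
    haveI : CharP (CAlg2.normRed R ⧸ m') e := (CharP.charP_iff_prime_eq_zero hp).mpr h0
    haveI : ExpChar (CAlg2.normRed R ⧸ m') e := ExpChar.prime hp
    rw [ringExpChar.eq (CAlg2.normRed R ⧸ m') e]
    refine ⟨n, d, ?_⟩
    rw [← map_pow]
    exact (Ideal.Quotient.eq.mpr hkey).symm

/-- Unpacking the Prelude definition of geometric unibranchness for a general local ring. -/
theorem unpack {R : Type u} [CommRing R] [IsLocalRing R]
    (h : CAlg2.IsGeomUnibranch R) (motive : Prop)
    (k : ∀ (R' : Type u) [CommRing R'] [IsDomain R'] [IsIntegrallyClosed R'] [Algebra R R']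
      [Algebra.IsIntegral R R'] [IsLocalRing R'],
      (∀ a : R, algebraMap R R' a = 0 → IsNilpotent a) →
      (∀ r' : R', ∃ b : R, algebraMap R R' b ≠ 0 ∧
        ∃ a : R, algebraMap R R' b * r' = algebraMap R R' a) →
      ∀ e : ℕ, (e = 1 ∨ (e.Prime ∧ (e : R') ∈ maximalIdeal R')) →
      (∀ r' : R', ∃ (n : ℕ) (r : R), r' ^ (e ^ n) - algebraMap R R' r ∈ maximalIdeal R') →
      motive) : motive := by
  obtain ⟨⟨hdom, hloc⟩, hpi⟩ := h
  haveI := hdom
  haveI := hloc
  letI algR : Algebra R (CAlg2.normRed R) :=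
    ((algebraMap (CAlg2.red R) (CAlg2.normRed R)).comp (Ideal.Quotient.mk (nilradical R))).toAlgebra
  have halgR : ∀ r : R, algebraMap R (CAlg2.normRed R) r =
      algebraMap (CAlg2.red R) (CAlg2.normRed R) (Ideal.Quotient.mk _ r) := fun r => rfl
  haveI : IsIntegrallyClosed (CAlg2.normRed R) :=
    integralClosure.isIntegrallyClosedOfFiniteExtension (FractionRing (CAlg2.red R))
  haveI : Algebra.IsIntegral R (CAlg2.normRed R) := by
    have h1 : (Ideal.Quotient.mk (nilradical R)).IsIntegral :=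
      RingHom.isIntegral_of_surjective _ Ideal.Quotient.mk_surjective
    have h2 : (algebraMap (CAlg2.red R) (CAlg2.normRed R)).IsIntegral :=
      algebraMap_isIntegral_iff.mpr inferInstance
    exact ⟨RingHom.IsIntegral.trans _ _ h1 h2⟩
  have h2inj : Function.Injective (algebraMap (CAlg2.red R) (CAlg2.normRed R)) := by
    have h3 : Function.Injective (algebraMap (CAlg2.red R) (FractionRing (CAlg2.red R))) :=
      IsFractionRing.injective _ _
    rw [IsScalarTower.algebraMap_eq (CAlg2.red R) (CAlg2.normRed R)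
      (FractionRing (CAlg2.red R)), RingHom.coe_comp] at h3
    exact Function.Injective.of_comp h3
  have hker : ∀ a : R, algebraMap R (CAlg2.normRed R) a = 0 → IsNilpotent a := by
    intro a ha
    rw [halgR] at ha
    have h1 : Ideal.Quotient.mk (nilradical R) a = 0 := h2inj (by rw [ha, map_zero])
    exact mem_nilradical.mp (Ideal.Quotient.eq_zero_iff_mem.mp h1)
  have hfracR : ∀ r' : CAlg2.normRed R, ∃ b : R, algebraMap R (CAlg2.normRed R) b ≠ 0 ∧ ∃ a : R,
      algebraMap R (CAlg2.normRed R) b * r' = algebraMap R (CAlg2.normRed R) a := by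
    intro r'
    obtain ⟨α, β, hβ, hαβ⟩ := IsFractionRing.div_surjective (A := CAlg2.red R)
      (r' : FractionRing (CAlg2.red R))
    obtain ⟨a, rfl⟩ := Ideal.Quotient.mk_surjective α
    obtain ⟨b, rfl⟩ := Ideal.Quotient.mk_surjective β
    have hb0 : (Ideal.Quotient.mk (nilradical R)) b ≠ 0 := nonZeroDivisors.ne_zero hβ
    refine ⟨b, fun h0 => hb0 (h2inj (by rw [← halgR, h0, map_zero])), a, ?_⟩
    rw [halgR, halgR]
    apply Subtype.ext
    have hb1 : algebraMap (CAlg2.red R) (FractionRing (CAlg2.red R))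
        ((Ideal.Quotient.mk (nilradical R)) b) ≠ 0 := fun h0 =>
      hb0 (IsFractionRing.injective (CAlg2.red R) (FractionRing (CAlg2.red R))
        (by rw [h0, map_zero]))
    change algebraMap (CAlg2.red R) (FractionRing (CAlg2.red R)) _ *
      (r' : FractionRing (CAlg2.red R)) = algebraMap (CAlg2.red R) (FractionRing (CAlg2.red R)) _
    rw [← hαβ, mul_div_cancel₀ _ hb1]
  have he : ringExpChar (CAlg2.normRed R ⧸ maximalIdeal (CAlg2.normRed R)) = 1 ∨
      ((ringExpChar (CAlg2.normRed R ⧸ maximalIdeal (CAlg2.normRed R))).Prime ∧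
        ((ringExpChar (CAlg2.normRed R ⧸ maximalIdeal (CAlg2.normRed R)) : ℕ) :
          CAlg2.normRed R) ∈ maximalIdeal (CAlg2.normRed R)) := by
    letI : Field (CAlg2.normRed R ⧸ maximalIdeal (CAlg2.normRed R)) := Ideal.Quotient.field _
    rcases expChar_is_prime_or_one (CAlg2.normRed R ⧸ maximalIdeal (CAlg2.normRed R))
      (ringExpChar (CAlg2.normRed R ⧸ maximalIdeal (CAlg2.normRed R))) with hp | h1
    · right
      refine ⟨hp, ?_⟩
      rw [← Ideal.Quotient.eq_zero_iff_mem, map_natCast]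
      exact natCast_eq_zero_of_expChar_prime _ _ hp
    · left
      exact h1
  have hpi' : ∀ r' : CAlg2.normRed R, ∃ (n : ℕ) (r : R),
      r' ^ ((ringExpChar (CAlg2.normRed R ⧸ maximalIdeal (CAlg2.normRed R))) ^ n) -
        algebraMap R (CAlg2.normRed R) r ∈ maximalIdeal (CAlg2.normRed R) := by
    intro r'
    obtain ⟨n, r, hr⟩ := hpi (maximalIdeal (CAlg2.normRed R))
      (Ideal.Quotient.mk (maximalIdeal (CAlg2.normRed R)) r')
    refine ⟨n, r, ?_⟩
    refine Ideal.Quotient.eq.mp ?_
    rw [RingHom.map_pow]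
    exact hr.symm
  exact k (CAlg2.normRed R) hker hfracR _ he hpi'

/-- Geometric unibranchness of local rings is invariant under ring isomorphisms. -/
theorem of_ringEquiv {D₁ D₂ : Type u} [CommRing D₁] [IsLocalRing D₁]
    [CommRing D₂] [IsLocalRing D₂] (σ : D₂ ≃+* D₁)
    (h : CAlg2.IsGeomUnibranch D₁) : CAlg2.IsGeomUnibranch D₂ := by
  refine unpack h _ (fun R' _ _ _ _ _ _ hker hfracR e he hpi => ?_)
  letI alg2 : Algebra D₂ R' := ((algebraMap D₁ R').comp σ.toRingHom).toAlgebra
  have halg2 : ∀ d : D₂, algebraMap D₂ R' d = algebraMap D₁ R' (σ d) := fun d => rfl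
  haveI : Algebra.IsIntegral D₂ R' := by
    refine ⟨fun y => ?_⟩
    obtain ⟨p, hp, hpy⟩ := Algebra.IsIntegral.isIntegral (R := D₁) y
    refine ⟨p.map σ.symm.toRingHom, hp.map _, ?_⟩
    rw [Polynomial.eval₂_map]
    have : (algebraMap D₂ R').comp σ.symm.toRingHom = algebraMap D₁ R' := by
      ext d
      simp [halg2]
    rw [this]
    exact hpy
  refine pack R' ?_ ?_ e he ?_
  · intro a ha
    rw [halg2] at ha
    have h1 := hker _ ha
    have h2 := h1.map σ.symm
    rwa [σ.symm_apply_apply] at h2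
  · intro y
    obtain ⟨b, hb, a, hab⟩ := hfracR y
    refine ⟨σ.symm b, ?_, σ.symm a, ?_⟩
    · rw [halg2, σ.apply_symm_apply]
      exact hb
    · rw [halg2, halg2, σ.apply_symm_apply, σ.apply_symm_apply, hab]
  · intro y
    obtain ⟨n, r, hr⟩ := hpi y
    exact ⟨n, σ.symm r, by rw [halg2, σ.apply_symm_apply]; exact hr⟩

end Groth.Agent.Lib.lead.GUPack
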