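import Mathlib
import Groth.Prelude.Def_CAlg2
import Groth.Agent.Lib.lead.GUPack

set_option autoImplicit false
set_option linter.style.haveILetI false

universe u

namespace Groth.Agent.Lib.lead.GUCore

open IsLocalRing Groth.Agent.Lib.lead.GUPack

set_option maxHeartbeats 1600000 in
/-- **Abstract core**: `R` local with "normalisation" `R'` (local, integral over `R`), `C` an
`R`-algebra and `E` a normal domain integral over `C` containing `R'`, such that `E` has the same
fractions as `C` up to `R`-denominators and every element of `E` has a `e^n`-th power congruent to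
an element of `C` modulo `m' E`.  Then local rings of `C` at primes over `m_R` are geometrically
unibranch. -/
theorem core {R : Type u} [CommRing R] [IsLocalRing R]
    (R' : Type u) [CommRing R'] [Algebra R R'] [Algebra.IsIntegral R R'] [IsLocalRing R']
    (e : ℕ) (he : e = 1 ∨ (e.Prime ∧ (e : R') ∈ maximalIdeal R'))
    (C : Type u) [CommRing C] [Algebra R C]
    (E : Type u) [CommRing E] [IsDomain E] [IsIntegrallyClosed E] [Algebra C E] [Algebra R' E]
    [Algebra R E] [IsScalarTower R C E] [IsScalarTower R R' E] [Algebra.IsIntegral C E]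
    (hkerE : ∀ c : C, algebraMap C E c = 0 → IsNilpotent c)
    (hfracE : ∀ x : E, ∃ b : R, algebraMap R E b ≠ 0 ∧
      ∃ c : C, algebraMap R E b * x = algebraMap C E c)
    (hpiE : ∀ x : E, ∃ (n : ℕ) (c : C),
      x ^ (e ^ n) - algebraMap C E c ∈ (maximalIdeal R').map (algebraMap R' E))
    (Q : Ideal C) [Q.IsPrime] (hQ : Q.comap (algebraMap R C) = maximalIdeal R)
    (O₂ : Type u) [CommRing O₂] [IsLocalRing O₂] [Algebra C O₂] [IsLocalization.AtPrime O₂ Q] :
    CAlg2.IsGeomUnibranch O₂ := by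
  have hnilQ : ∀ c : C, algebraMap C E c = 0 → c ∈ Q := fun c hc =>
    nilradical_le_prime Q (mem_nilradical.mpr (hkerE c hc))
  -- a prime over Q
  obtain ⟨P, -, hPprime, hPQ⟩ := Ideal.exists_ideal_over_prime_of_isIntegral (S := E) Q ⊥ (by
      intro c hc
      rw [Ideal.mem_comap, Ideal.mem_bot] at hc
      exact hnilQ c hc)
  haveI := hPprime
  -- every prime over Q contains m'
  have hm' : ∀ (P' : Ideal E) [P'.IsPrime], P'.comap (algebraMap C E) = Q →
      (maximalIdeal R').map (algebraMap R' E) ≤ P' := by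
    intro P' _ hP'
    rw [Ideal.map_le_iff_le_comap]
    have h1 : (P'.comap (algebraMap R' E)).comap (algebraMap R R') = maximalIdeal R := by
      rw [← hQ, ← hP', Ideal.comap_comap, Ideal.comap_comap, ← IsScalarTower.algebraMap_eq,
        ← IsScalarTower.algebraMap_eq]
    have h2 : (P'.comap (algebraMap R' E)).IsMaximal :=
      Ideal.isMaximal_of_isIntegral_of_isMaximal_comap (R := R) _ (by rw [h1]; infer_instance)
    exact (IsLocalRing.eq_maximalIdeal h2).ge
  have hpos : ∀ n : ℕ, 0 < e ^ n := by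
    intro n
    rcases he with he | ⟨hp, _⟩
    · subst he; simp
    · exact pow_pos hp.pos n
  -- uniqueness
  have hle' : ∀ (P₁ P₂ : Ideal E) [P₁.IsPrime] [P₂.IsPrime], P₁.comap (algebraMap C E) = Q →
      P₂.comap (algebraMap C E) = Q → P₁ ≤ P₂ := by
    intro P₁ P₂ _ _ h₁ h₂ x hx
    obtain ⟨n, c, hc⟩ := hpiE x
    have h3 : algebraMap C E c ∈ P₁ := by
      have h4 := sub_mem (Ideal.pow_mem_of_mem P₁ hx (e ^ n) (hpos n)) (hm' P₁ h₁ hc)
      rwa [sub_sub_cancel] at h4
    have h5 : c ∈ Q := by rw [← h₁]; exact h3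
    have h6 : algebraMap C E c ∈ P₂ := by
      have : c ∈ P₂.comap (algebraMap C E) := by rw [h₂]; exact h5
      exact this
    have h7 := add_mem (hm' P₂ h₂ hc) h6
    rw [sub_add_cancel] at h7
    exact Ideal.IsPrime.mem_of_pow_mem inferInstance _ h7
  have huniq : ∀ (P' : Ideal E) [P'.IsPrime], P'.comap (algebraMap C E) = Q → P' = P :=
    fun P' _ hP' => le_antisymm (hle' P' P hP' hPQ) (hle' P P' hPQ hP')
  -- the localization of E at C ∖ Q
  let ME : Submonoid E := Algebra.algebraMapSubmonoid E Q.primeCompl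
  let LE := Localization ME
  have hMEP : ME ≤ P.primeCompl := by
    rintro _ ⟨s, hs, rfl⟩ hmem
    apply hs
    rw [← hPQ]
    exact hmem
  have hME0 : ME ≤ nonZeroDivisors E := hMEP.trans P.primeCompl_le_nonZeroDivisors
  haveI : IsDomain LE := IsLocalization.isDomain_of_le_nonZeroDivisors LE hME0
  haveI : IsIntegrallyClosed LE := isIntegrallyClosed_of_isLocalization LE ME hME0
  have hinjLE : Function.Injective (algebraMap E LE) := IsLocalization.injective LE hME0
  -- every element outside `P` is a unit in LE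
  have hunits : ∀ t : E, t ∉ P → IsUnit (algebraMap E LE t) := by
    intro t ht
    by_contra hnu
    obtain ⟨𝔪, h𝔪, ht𝔪⟩ := exists_max_ideal_of_mem_nonunits hnu
    haveI := h𝔪.isPrime
    have hdisj : ∀ c : C, algebraMap C E c ∈ 𝔪.comap (algebraMap E LE) → c ∈ Q := by
      intro c hc
      by_contra hcQ
      have hu : IsUnit (algebraMap E LE (algebraMap C E c)) :=
        IsLocalization.map_units _ (⟨_, c, hcQ, rfl⟩ : ME)
      exact h𝔪.ne_top (Ideal.eq_top_of_isUnit_mem _ hc hu)
    obtain ⟨P₂, hP₂ge, hP₂prime, hP₂Q⟩ :=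
      Ideal.exists_ideal_over_prime_of_isIntegral_of_isPrime Q (𝔪.comap (algebraMap E LE)) hdisj
    have hP₂ : P₂ = P := huniq P₂ hP₂Q
    exact ht (hP₂ ▸ hP₂ge ht𝔪)
  haveI hlocP : IsLocalization.AtPrime LE P :=
    IsLocalization.of_le ME P.primeCompl hMEP (fun t ht => hunits t ht)
  haveI hlocalLE : IsLocalRing LE := IsLocalization.AtPrime.isLocalRing LE P
  have hmaxLE : ∀ x : E, algebraMap E LE x ∈ maximalIdeal LE ↔ x ∈ P :=
    fun x => IsLocalization.AtPrime.to_map_mem_maximal_iff LE P x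
  -- the algebra structure O₂ → LE
  letI algO₂ : Algebra O₂ LE := localizationAlgebra Q.primeCompl E
  have hO₂LE : ∀ c : C, algebraMap O₂ LE (algebraMap C O₂ c) = algebraMap E LE (algebraMap C E c) :=
    fun c => IsLocalization.map_eq _ _
  haveI hintO₂ : Algebra.IsIntegral O₂ LE :=
    ⟨isIntegral_localization (R := C) (S := E) (M := Q.primeCompl) (Rₘ := O₂) (Sₘ := LE)⟩
  -- kernel
  have hkerO₂ : ∀ z : O₂, algebraMap O₂ LE z = 0 → IsNilpotent z := by
    intro z hz
    obtain ⟨x, s, rfl⟩ := IsLocalization.exists_mk'_eq Q.primeCompl z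
    have h1 : algebraMap O₂ LE (algebraMap C O₂ x) = 0 := by
      rw [← IsLocalization.mk'_spec O₂ x s, map_mul, hz, zero_mul]
    rw [hO₂LE] at h1
    have h2 : algebraMap C E x = 0 := hinjLE (by rw [h1, map_zero])
    have h3 : IsNilpotent x := hkerE x h2
    rw [IsLocalization.mk'_eq_mul_mk'_one x s]
    exact Commute.isNilpotent_mul_right (Commute.all _ _) (h3.map (algebraMap C O₂))
  have hRE : ∀ b : R, algebraMap R E b = algebraMap C E (algebraMap R C b) :=
    fun b => IsScalarTower.algebraMap_apply R C E b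
  -- fraction condition
  have hfrac : ∀ y : LE, ∃ d : O₂, algebraMap O₂ LE d ≠ 0 ∧
      ∃ d₂ : O₂, algebraMap O₂ LE d * y = algebraMap O₂ LE d₂ := by
    intro y
    obtain ⟨⟨x, ⟨_, s, hs, rfl⟩⟩, hxy⟩ := IsLocalization.surj ME y
    simp only at hxy
    obtain ⟨b, hb, c, hbc⟩ := hfracE x
    refine ⟨algebraMap C O₂ (algebraMap R C b * s), ?_, algebraMap C O₂ c, ?_⟩
    · rw [hO₂LE, map_mul, map_mul, ← hRE]
      refine mul_ne_zero (fun h0 => hb (hinjLE (by rw [h0, map_zero]))) ?_
      exact (IsLocalization.map_units LE (⟨_, s, hs, rfl⟩ : ME)).ne_zero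
    · rw [hO₂LE, hO₂LE, map_mul, map_mul, mul_assoc, mul_comm _ y, hxy, ← map_mul, ← hRE, hbc]
  -- characteristic exponent
  have hP : (maximalIdeal R').map (algebraMap R' E) ≤ P := hm' P hPQ
  have he' : e = 1 ∨ (e.Prime ∧ (e : LE) ∈ maximalIdeal LE) := by
    rcases he with he | ⟨hp, hpm⟩
    · exact Or.inl he
    · refine Or.inr ⟨hp, ?_⟩
      have h1 : (e : E) ∈ P := by
        apply hP
        rw [← map_natCast (algebraMap R' E)]
        exact Ideal.mem_map_of_mem _ hpm
      rw [← map_natCast (algebraMap E LE)]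
      exact (hmaxLE _).mpr h1
  -- purely inseparable residue extension
  have hpi' : ∀ y : LE, ∃ (n : ℕ) (d : O₂),
      y ^ (e ^ n) - algebraMap O₂ LE d ∈ maximalIdeal LE := by
    intro y
    obtain ⟨⟨x, ⟨_, s, hs, rfl⟩⟩, hxy⟩ := IsLocalization.surj ME y
    simp only at hxy
    obtain ⟨n, c, hc⟩ := hpiE x
    have hsN : s ^ (e ^ n) ∈ Q.primeCompl := Q.primeCompl.pow_mem hs _
    refine ⟨n, IsLocalization.mk' O₂ c ⟨s ^ (e ^ n), hsN⟩, ?_⟩
    have hu : IsUnit (algebraMap E LE (algebraMap C E s) ^ (e ^ n)) :=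
      (IsLocalization.map_units LE (⟨_, s, hs, rfl⟩ : ME)).pow _
    rw [← Ideal.unit_mul_mem_iff_mem _ hu, mul_sub, ← mul_pow, mul_comm _ y, hxy]
    have h2 : algebraMap E LE (algebraMap C E s) ^ (e ^ n) *
        algebraMap O₂ LE (IsLocalization.mk' O₂ c ⟨s ^ (e ^ n), hsN⟩) =
        algebraMap E LE (algebraMap C E c) := by
      rw [← map_pow, ← map_pow, ← hO₂LE, ← map_mul, mul_comm,
        show IsLocalization.mk' O₂ c ⟨s ^ (e ^ n), hsN⟩ * algebraMap C O₂ (s ^ (e ^ n)) =
          algebraMap C O₂ c from IsLocalization.mk'_spec _ c ⟨s ^ (e ^ n), hsN⟩, hO₂LE]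
    rw [h2, ← map_pow, ← map_sub]
    exact (hmaxLE _).mpr (hP hc)
  exact pack LE hkerO₂ hfrac e he' hpi'

end Groth.Agent.Lib.lead.GUCore
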