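import Mathlib
import Groth.Prelude.Def_CAlg2
import Groth.Agent.Lib.lead.GUCore

set_option autoImplicit false
set_option linter.style.haveILetI false

universe u

namespace Groth.Agent.Lib.lead.GUPoly

open IsLocalRing Groth.Agent.Lib.lead.GUPack Groth.Agent.Lib.lead.GUCore

attribute [local instance] MvPolynomial.algebraMvPolynomial

/-- polynomial rings over a normal domain are normal -/
theorem isIntegrallyClosed_mvPolynomial (σ : Type*) (R : Type*) [CommRing R] [IsDomain R]
    [IsIntegrallyClosed R] : IsIntegrallyClosed (MvPolynomial σ R) := by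
  let K := FractionRing R
  have : IsIntegrallyClosed (MvPolynomial σ K) := UniqueFactorizationMonoid.instIsIntegrallyClosed
  suffices IsIntegrallyClosedIn (MvPolynomial σ R) (MvPolynomial σ K) from
    .of_isIntegrallyClosed_of_isIntegrallyClosedIn _ (MvPolynomial σ K)
  refine isIntegrallyClosedIn_iff.mpr
    ⟨MvPolynomial.map_injective _ (IsFractionRing.injective _ _), ?_⟩
  intro p hp
  have h1 := MvPolynomial.isIntegral_iff_isIntegral_coeff.mp hp
  have h2 : p ∈ Set.range (MvPolynomial.map (algebraMap R K)) := by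
    rw [MvPolynomial.mem_range_map_iff_coeffs_subset]
    intro c hc
    rw [Finset.mem_coe, MvPolynomial.mem_coeffs_iff] at hc
    obtain ⟨n, -, rfl⟩ := hc
    exact IsIntegrallyClosed.isIntegral_iff.mp (h1 n)
  exact h2

section Hyp

variable {R : Type u} [CommRing R] (R' : Type u) [CommRing R'] [Algebra R R']
  (σ : Type u)

theorem hkerE (hker : ∀ a : R, algebraMap R R' a = 0 → IsNilpotent a)
    (c : MvPolynomial σ R) (hc : algebraMap (MvPolynomial σ R) (MvPolynomial σ R') c = 0) :
    IsNilpotent c := by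
  rw [MvPolynomial.isNilpotent_iff]
  intro i
  apply hker
  have := congrArg (MvPolynomial.coeff i) hc
  rwa [MvPolynomial.algebraMap_def, MvPolynomial.coeff_map, MvPolynomial.coeff_zero] at this

theorem hfracE [IsDomain R']
    (hfracR : ∀ r' : R', ∃ b : R, algebraMap R R' b ≠ 0 ∧
      ∃ a : R, algebraMap R R' b * r' = algebraMap R R' a)
    (x : MvPolynomial σ R') : ∃ b : R, algebraMap R (MvPolynomial σ R') b ≠ 0 ∧
      ∃ c : MvPolynomial σ R, algebraMap R (MvPolynomial σ R') b * x =
        algebraMap (MvPolynomial σ R) (MvPolynomial σ R') c := by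
  have hC : ∀ b : R, algebraMap R (MvPolynomial σ R') b = MvPolynomial.C (algebraMap R R' b) :=
    fun b => by
      rw [IsScalarTower.algebraMap_apply R R' (MvPolynomial σ R'), MvPolynomial.algebraMap_eq]
  suffices h : ∃ b : R, algebraMap R R' b ≠ 0 ∧ ∃ c : MvPolynomial σ R,
      MvPolynomial.C (algebraMap R R' b) * x = MvPolynomial.map (algebraMap R R') c by
    obtain ⟨b, hb, c, hc⟩ := h
    refine ⟨b, ?_, c, ?_⟩
    · rw [hC]
      intro h0
      exact hb (MvPolynomial.C_injective σ R' (by rw [h0, map_zero]))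
    · rw [hC, hc, MvPolynomial.algebraMap_def]
  induction x using MvPolynomial.induction_on' with
  | monomial m a =>
    obtain ⟨b, hb, a₀, hab⟩ := hfracR a
    refine ⟨b, hb, MvPolynomial.monomial m a₀, ?_⟩
    rw [MvPolynomial.C_mul_monomial, hab, MvPolynomial.map_monomial]
  | add x y hx hy =>
    obtain ⟨b₁, hb₁, c₁, h₁⟩ := hx
    obtain ⟨b₂, hb₂, c₂, h₂⟩ := hy
    refine ⟨b₁ * b₂, ?_, MvPolynomial.C b₂ * c₁ + MvPolynomial.C b₁ * c₂, ?_⟩
    · rw [map_mul]
      exact mul_ne_zero hb₁ hb₂
    · have e1 : MvPolynomial.map (algebraMap R R') (MvPolynomial.C b₂ * c₁ + MvPolynomial.C b₁ * c₂) =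
          MvPolynomial.C (algebraMap R R' b₂) * MvPolynomial.map (algebraMap R R') c₁ +
          MvPolynomial.C (algebraMap R R' b₁) * MvPolynomial.map (algebraMap R R') c₂ := by
        rw [map_add, map_mul, map_mul, MvPolynomial.map_C, MvPolynomial.map_C]
      rw [e1, ← h₁, ← h₂, map_mul, map_mul]
      ring

theorem hpiE [IsLocalRing R'] (e : ℕ) (he : e = 1 ∨ (e.Prime ∧ (e : R') ∈ maximalIdeal R'))
    (hpi : ∀ r' : R', ∃ (n : ℕ) (r : R), r' ^ (e ^ n) - algebraMap R R' r ∈ maximalIdeal R')
    (x : MvPolynomial σ R') : ∃ (n : ℕ) (c : MvPolynomial σ R),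
      x ^ (e ^ n) - algebraMap (MvPolynomial σ R) (MvPolynomial σ R') c ∈
        (maximalIdeal R').map (algebraMap R' (MvPolynomial σ R')) := by
  simp only [MvPolynomial.algebraMap_def, MvPolynomial.algebraMap_eq]
  induction x using MvPolynomial.induction_on with
  | C a =>
    obtain ⟨n, r, hr⟩ := hpi a
    refine ⟨n, MvPolynomial.C r, ?_⟩
    rw [MvPolynomial.map_C, ← map_pow, ← map_sub]
    exact Ideal.mem_map_of_mem _ hr
  | add x y hx hy =>
    obtain ⟨n₁, c₁, h₁⟩ := hx
    obtain ⟨n₂, c₂, h₂⟩ := hy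
    have h₁' : x ^ (e ^ (n₁ + n₂)) - MvPolynomial.map (algebraMap R R') (c₁ ^ (e ^ n₂)) ∈
        (maximalIdeal R').map (MvPolynomial.C : R' →+* MvPolynomial σ R') := by
      have := Groth.Agent.Lib.Helper17.Unibranch.pow_sub_mem_of_sub_mem _ h₁ (e ^ n₂)
      rwa [← pow_mul, ← pow_add, ← map_pow] at this
    have h₂' : y ^ (e ^ (n₁ + n₂)) - MvPolynomial.map (algebraMap R R') (c₂ ^ (e ^ n₁)) ∈
        (maximalIdeal R').map (MvPolynomial.C : R' →+* MvPolynomial σ R') := by
      have := Groth.Agent.Lib.Helper17.Unibranch.pow_sub_mem_of_sub_mem _ h₂ (e ^ n₁)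
      rwa [← pow_mul, ← pow_add, ← map_pow, add_comm n₂] at this
    refine ⟨n₁ + n₂, c₁ ^ (e ^ n₂) + c₂ ^ (e ^ n₁), ?_⟩
    rcases he with he | ⟨hp, hpm⟩
    · subst he
      simp only [one_pow, pow_one] at h₁' h₂' ⊢
      rw [map_add]
      have : x + y - (MvPolynomial.map (algebraMap R R') c₁ + MvPolynomial.map (algebraMap R R') c₂)
          = (x - MvPolynomial.map (algebraMap R R') c₁) +
            (y - MvPolynomial.map (algebraMap R R') c₂) := by ring
      rw [this]
      exact add_mem h₁' h₂'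
    · obtain ⟨r, hr⟩ := exists_add_pow_prime_pow_eq hp x y (n₁ + n₂)
      rw [hr, map_add]
      have : x ^ e ^ (n₁ + n₂) + y ^ e ^ (n₁ + n₂) + (e : MvPolynomial σ R') * x * y * r -
          (MvPolynomial.map (algebraMap R R') (c₁ ^ e ^ n₂) +
            MvPolynomial.map (algebraMap R R') (c₂ ^ e ^ n₁)) =
          (x ^ e ^ (n₁ + n₂) - MvPolynomial.map (algebraMap R R') (c₁ ^ e ^ n₂)) +
          (y ^ e ^ (n₁ + n₂) - MvPolynomial.map (algebraMap R R') (c₂ ^ e ^ n₁))
          + (e : MvPolynomial σ R') * (x * y * r) := by ring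
      rw [this]
      refine add_mem (add_mem h₁' h₂') (Ideal.mul_mem_right _ _ ?_)
      have : (e : MvPolynomial σ R') = MvPolynomial.C (e : R') := by simp
      rw [this]
      exact Ideal.mem_map_of_mem _ hpm
  | mul_X x i hx =>
    obtain ⟨n, c, hc⟩ := hx
    refine ⟨n, c * MvPolynomial.X i ^ (e ^ n), ?_⟩
    have : (x * MvPolynomial.X i) ^ e ^ n -
        MvPolynomial.map (algebraMap R R') (c * MvPolynomial.X i ^ e ^ n) =
        (x ^ e ^ n - MvPolynomial.map (algebraMap R R') c) * MvPolynomial.X i ^ e ^ n := by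
      rw [map_mul, map_pow, MvPolynomial.map_X]
      ring
    rw [this]
    exact Ideal.mul_mem_right _ _ hc

end Hyp

/-- **Local case**: local rings of `R[T₁,…]` at primes over the maximal ideal of a geometrically
unibranch local ring `R` are geometrically unibranch. -/
theorem isGeomUnibranch_mvPolynomial_local {R : Type u} [CommRing R] [IsLocalRing R]
    (h : CAlg2.IsGeomUnibranch R) (σ : Type u) (Q : Ideal (MvPolynomial σ R)) [Q.IsPrime]
    (hQ : Q.comap (algebraMap R (MvPolynomial σ R)) = maximalIdeal R)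
    (O₂ : Type u) [CommRing O₂] [IsLocalRing O₂] [Algebra (MvPolynomial σ R) O₂]
    [IsLocalization.AtPrime O₂ Q] : CAlg2.IsGeomUnibranch O₂ := by
  refine unpack h _ (fun R' _ _ _ _ _ _ hker hfracR e he hpi => ?_)
  haveI : IsIntegrallyClosed (MvPolynomial σ R') := isIntegrallyClosed_mvPolynomial σ R'
  exact core R' e he (MvPolynomial σ R) (MvPolynomial σ R') (hkerE R' σ hker)
    (hfracE R' σ hfracR) (hpiE R' σ e he hpi) Q hQ O₂

set_option maxHeartbeats 1600000 in
/-- **General case**: if `A_p` is geometrically unibranch then so is the local ring of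
`A[T₁,…]` at any prime `q` over `p`. -/
theorem isGeomUnibranch_mvPolynomial {A : Type u} [CommRing A] (p : Ideal A) [p.IsPrime]
    (O : Type u) [CommRing O] [IsLocalRing O] [Algebra A O] [IsLocalization.AtPrime O p]
    (hO : CAlg2.IsGeomUnibranch O) (σ : Type u) (q : Ideal (MvPolynomial σ A)) [q.IsPrime]
    (hq : q.comap (algebraMap A (MvPolynomial σ A)) = p)
    (O₂ : Type u) [CommRing O₂] [IsLocalRing O₂] [Algebra (MvPolynomial σ A) O₂]
    [IsLocalization.AtPrime O₂ q] : CAlg2.IsGeomUnibranch O₂ := by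
  let M : Submonoid (MvPolynomial σ A) := p.primeCompl.map (MvPolynomial.C (σ := σ))
  haveI hlocM : IsLocalization M (MvPolynomial σ O) := MvPolynomial.isLocalization p.primeCompl O
  have hdisj : Disjoint (M : Set (MvPolynomial σ A)) (q : Set (MvPolynomial σ A)) := by
    rw [Set.disjoint_left]
    rintro _ ⟨a, ha, rfl⟩ haq
    apply ha
    change a ∈ p
    rw [← hq]
    exact haq
  let Q : Ideal (MvPolynomial σ O) := q.map (algebraMap (MvPolynomial σ A) (MvPolynomial σ O))
  haveI hQprime : Q.IsPrime :=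
    IsLocalization.isPrime_of_isPrime_disjoint M (MvPolynomial σ O) q inferInstance hdisj
  have hQq : Q.comap (algebraMap (MvPolynomial σ A) (MvPolynomial σ O)) = q :=
    IsLocalization.under_map_of_isPrime_disjoint M (MvPolynomial σ O) inferInstance hdisj
  have hQ : Q.comap (algebraMap O (MvPolynomial σ O)) = maximalIdeal O := by
    have h1 : (Q.comap (algebraMap O (MvPolynomial σ O))).comap (algebraMap A O) = p := by
      rw [Ideal.comap_comap, ← IsScalarTower.algebraMap_eq A O (MvPolynomial σ O),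
        IsScalarTower.algebraMap_eq A (MvPolynomial σ A) (MvPolynomial σ O), ← Ideal.comap_comap,
        hQq, hq]
    rw [← IsLocalization.map_under p.primeCompl O (Q.comap (algebraMap O (MvPolynomial σ O))),
      Ideal.under_def, h1, IsLocalization.AtPrime.map_eq_maximalIdeal p O]
  have hGU := isGeomUnibranch_mvPolynomial_local hO σ Q hQ (Localization.AtPrime Q)
  have hloc : IsLocalization.AtPrime (Localization.AtPrime Q)
      (Q.comap (algebraMap (MvPolynomial σ A) (MvPolynomial σ O))) :=
    IsLocalization.isLocalization_isLocalization_atPrime_isLocalization M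
      (Localization.AtPrime Q) Q
  have heq : (Q.comap (algebraMap (MvPolynomial σ A) (MvPolynomial σ O))).primeCompl =
      q.primeCompl := by
    ext x
    change x ∉ _ ↔ x ∉ _
    rw [hQq]
  rw [IsLocalization.AtPrime, heq] at hloc
  haveI := hloc
  exact of_ringEquiv (IsLocalization.algEquiv q.primeCompl O₂
    (Localization.AtPrime Q)).toRingEquiv hGU

end Groth.Agent.Lib.lead.GUPoly
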