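import Mathlib
import Groth.Agent.Lib.Helper26.DimFormulaPoly

set_option autoImplicit false
universe u
open Polynomial Cardinal

namespace Groth.Agent.Lib.lead.DimFormula

/-- pulling back along a surjection with nonzero kernel from a domain raises heights -/
theorem height_add_one_le_comap {A B : Type*} [CommRing A] [CommRing B] [IsDomain A] (φ : A →+* B)
    (hφ : Function.Surjective φ) (hker : RingHom.ker φ ≠ ⊥) (q : Ideal B) [q.IsPrime] :
    q.height + 1 ≤ (q.comap φ).height := by
  rw [show q.height = Order.height (⟨q, inferInstance⟩ : PrimeSpectrum B) from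
      PrimeSpectrum.height_eq_orderHeight ⟨q, inferInstance⟩,
    show (q.comap φ).height = Order.height (⟨q.comap φ, inferInstance⟩ : PrimeSpectrum A) from
      PrimeSpectrum.height_eq_orderHeight ⟨q.comap φ, inferInstance⟩]
  rw [← ENat.forall_natCast_le_iff_le]
  intro n hn
  rcases n with _ | k
  · simp
  have hk : (k : ℕ∞) ≤ Order.height (⟨q, inferInstance⟩ : PrimeSpectrum B) := by
    have : ((k : ℕ∞) + 1) ≤ Order.height (⟨q, inferInstance⟩ : PrimeSpectrum B) + 1 := by
      exact_mod_cast hn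
    exact (ENat.add_le_add_iff_right ENat.one_ne_top).1 this
  obtain ⟨p, hp, hlen⟩ := Order.exists_series_of_le_height _ hk
  have hsm : StrictMono (PrimeSpectrum.comap φ) := by
    intro a b hab
    rw [lt_iff_le_not_ge] at hab ⊢
    refine ⟨Ideal.comap_mono hab.1, fun h => hab.2 ?_⟩
    exact (Ideal.comap_le_comap_iff_of_surjective φ hφ _ _).1 h
  let p' : LTSeries (PrimeSpectrum A) := p.map (PrimeSpectrum.comap φ) hsm
  have hbot : (⟨⊥, Ideal.isPrime_bot⟩ : PrimeSpectrum A) < p'.head := by
    rw [lt_iff_le_not_ge]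
    refine ⟨bot_le (a := (p'.head).asIdeal), fun h => hker ?_⟩
    rw [eq_bot_iff]
    refine le_trans ?_ (show (p'.head).asIdeal ≤ ⊥ from h)
    show RingHom.ker φ ≤ (p.head).asIdeal.comap φ
    intro x hx
    rw [Ideal.mem_comap, (RingHom.mem_ker).1 hx]
    exact zero_mem _
  let p'' : LTSeries (PrimeSpectrum A) := p'.cons _ hbot
  have hlast : p''.last = ⟨q.comap φ, inferInstance⟩ := by
    simp only [p'', RelSeries.last_cons, p', LTSeries.last_map, hp]
    rfl
  have := Order.length_le_height (p := p'') (x := ⟨q.comap φ, inferInstance⟩) (le_of_eq hlast)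
  simp only [p'', RelSeries.cons_length, p', LTSeries.map_length, hlen] at this
  exact_mod_cast this


section OneStep

variable (R : Type u) [CommRing R] [IsDomain R] [IsNoetherianRing R] (S : Type u) [CommRing S]
  [IsDomain S] [Algebra R S] [FaithfulSMul R S]

/-- transfer of the residue transcendence degree along a surjection -/
theorem trdeg_quotient_comap_eq (T : Type u) [CommRing T] [Algebra R T] (φ : T →ₐ[R] S)
    (hφ : Function.Surjective φ) (p : Ideal R) (q : Ideal S) [q.LiesOver p] :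
    Algebra.trdeg (R ⧸ p) (T ⧸ q.comap φ) = Algebra.trdeg (R ⧸ p) (S ⧸ q) := by
  let ψ0 : (T ⧸ q.comap φ) →+* (S ⧸ q) := Ideal.quotientMap q (φ : T →+* S) le_rfl
  have hinj : Function.Injective ψ0 := Ideal.quotientMap_injective
  have hsurj : Function.Surjective ψ0 := Ideal.quotientMap_surjective hφ
  let ψ : (T ⧸ q.comap φ) →ₐ[R ⧸ p] (S ⧸ q) :=
    { ψ0 with
      commutes' := by
        rintro ⟨r⟩
        show ψ0 (algebraMap (R ⧸ p) (T ⧸ q.comap φ) (Ideal.Quotient.mk p r)) =
          algebraMap (R ⧸ p) (S ⧸ q) (Ideal.Quotient.mk p r)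
        rw [Ideal.Quotient.algebraMap_mk_of_liesOver, Ideal.Quotient.algebraMap_mk_of_liesOver]
        show Ideal.Quotient.mk q (φ (algebraMap R T r)) = _
        rw [φ.commutes] }
  exact (AlgEquiv.ofBijective ψ ⟨hinj, hsurj⟩).trdeg_eq

theorem one_step (s : S) (hs : Algebra.adjoin R {s} = ⊤)
    (p : Ideal R) [p.IsPrime] (q : Ideal S) [q.IsPrime] [q.LiesOver p] :
    (q.height : Cardinal.{u}) + Algebra.trdeg (R ⧸ p) (S ⧸ q) ≤
      (p.height : Cardinal.{u}) + Algebra.trdeg R S := by
  let φ : R[X] →ₐ[R] S := Polynomial.aeval s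
  have hφ : Function.Surjective φ := by
    rw [← AlgHom.range_eq_top, ← Algebra.adjoin_singleton_eq_range_aeval, hs]
  have hmain := Groth.Agent.Lib.Helper26.DimFormulaPoly.main p (q.comap φ)
  rw [trdeg_quotient_comap_eq R S R[X] φ hφ p q] at hmain
  by_cases hker : RingHom.ker (φ : R[X] →+* S) = ⊥
  · -- φ is an isomorphism
    have hinj : Function.Injective φ := (RingHom.injective_iff_ker_eq_bot _).2 hker
    let e : R[X] ≃ₐ[R] S := AlgEquiv.ofBijective φ ⟨hinj, hφ⟩
    have h1 : Algebra.trdeg R S = 1 := by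
      rw [← e.trdeg_eq, Polynomial.trdeg_of_isDomain]
    have h2 : (q.comap φ).height = q.height := RingEquiv.height_comap e.toRingEquiv q
    rw [h1, hmain, h2]
  · have h1 : q.height + 1 ≤ (q.comap φ).height :=
      height_add_one_le_comap (φ : R[X] →+* S) hφ hker q
    have h2 : ((q.height : Cardinal.{u}) + Algebra.trdeg (R ⧸ p) (S ⧸ q)) + 1 ≤
        (p.height : Cardinal.{u}) + 1 := by
      rw [hmain]
      calc ((q.height : Cardinal.{u}) + Algebra.trdeg (R ⧸ p) (S ⧸ q)) + 1
          = ((q.height + 1 : ℕ∞) : Cardinal.{u}) + Algebra.trdeg (R ⧸ p) (S ⧸ q) := by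
            rw [Cardinal.ofENat_add, Cardinal.ofENat_one]; ring
        _ ≤ _ := by
            gcongr
    have h3 := (Cardinal.add_le_add_iff_of_lt_aleph0 Cardinal.one_lt_aleph0).1 h2
    exact h3.trans (self_le_add_right _ _)

end OneStep

section Induction

theorem isScalarTower_quotients (R : Type u) [CommRing R] (R' : Type u) [CommRing R'] (S : Type u)
    [CommRing S] [Algebra R R'] [Algebra R' S] [Algebra R S] [IsScalarTower R R' S]
    (p : Ideal R) (p' : Ideal R') (q : Ideal S) [p'.LiesOver p] [q.LiesOver p'] [q.LiesOver p] :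
    IsScalarTower (R ⧸ p) (R' ⧸ p') (S ⧸ q) := by
  apply IsScalarTower.of_algebraMap_eq
  rintro ⟨r⟩
  show algebraMap (R ⧸ p) (S ⧸ q) (Ideal.Quotient.mk p r) =
    algebraMap (R' ⧸ p') (S ⧸ q) (algebraMap (R ⧸ p) (R' ⧸ p') (Ideal.Quotient.mk p r))
  rw [Ideal.Quotient.algebraMap_mk_of_liesOver, Ideal.Quotient.algebraMap_mk_of_liesOver,
    Ideal.Quotient.algebraMap_mk_of_liesOver, IsScalarTower.algebraMap_apply R R' S]

theorem tower_step (R R' S : Type u) [CommRing R] [CommRing R'] [CommRing S] [IsDomain R]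
    [IsDomain S] [Algebra R R'] [Algebra R' S] [Algebra R S] [IsScalarTower R R' S]
    [FaithfulSMul R R'] [FaithfulSMul R' S] (p : Ideal R) (p' : Ideal R') (q : Ideal S)
    [p.IsPrime] [p'.IsPrime] [q.IsPrime] [p'.LiesOver p] [q.LiesOver p'] [q.LiesOver p]
    (h1 : (p'.height : Cardinal.{u}) + Algebra.trdeg (R ⧸ p) (R' ⧸ p') ≤
      (p.height : Cardinal.{u}) + Algebra.trdeg R R')
    (h2 : (q.height : Cardinal.{u}) + Algebra.trdeg (R' ⧸ p') (S ⧸ q) ≤
      (p'.height : Cardinal.{u}) + Algebra.trdeg R' S) :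
    (q.height : Cardinal.{u}) + Algebra.trdeg (R ⧸ p) (S ⧸ q) ≤
      (p.height : Cardinal.{u}) + Algebra.trdeg R S := by
  have := isScalarTower_quotients R R' S p p' q
  have e1 : Algebra.trdeg R R' + Algebra.trdeg R' S = Algebra.trdeg R S :=
    trdeg_add_eq R R' (A := S)
  have e2 : Algebra.trdeg (R ⧸ p) (R' ⧸ p') + Algebra.trdeg (R' ⧸ p') (S ⧸ q) =
      Algebra.trdeg (R ⧸ p) (S ⧸ q) := trdeg_add_eq (R ⧸ p) (R' ⧸ p') (A := S ⧸ q)
  rw [← e1, ← e2]
  calc (q.height : Cardinal.{u}) +
        (Algebra.trdeg (R ⧸ p) (R' ⧸ p') + Algebra.trdeg (R' ⧸ p') (S ⧸ q))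
      = ((q.height : Cardinal.{u}) + Algebra.trdeg (R' ⧸ p') (S ⧸ q)) +
          Algebra.trdeg (R ⧸ p) (R' ⧸ p') := by ring
    _ ≤ ((p'.height : Cardinal.{u}) + Algebra.trdeg R' S) + Algebra.trdeg (R ⧸ p) (R' ⧸ p') := by
        gcongr
    _ = ((p'.height : Cardinal.{u}) + Algebra.trdeg (R ⧸ p) (R' ⧸ p')) + Algebra.trdeg R' S := by
        ring
    _ ≤ ((p.height : Cardinal.{u}) + Algebra.trdeg R R') + Algebra.trdeg R' S := by
        gcongr
    _ = _ := by ring

theorem dim_ineq_aux : ∀ (n : ℕ) (R : Type u) [CommRing R] [IsDomain R] [IsNoetherianRing R]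
    (S : Type u) [CommRing S] [IsDomain S] [Algebra R S] [FaithfulSMul R S] (s : Fin n → S)
    (_ : Algebra.adjoin R (Set.range s) = ⊤) (p : Ideal R) [p.IsPrime] (q : Ideal S) [q.IsPrime]
    [q.LiesOver p],
    (q.height : Cardinal.{u}) + Algebra.trdeg (R ⧸ p) (S ⧸ q) ≤
      (p.height : Cardinal.{u}) + Algebra.trdeg R S := by
  intro n
  induction n with
  | zero =>
    intro R _ _ _ S _ _ _ _ s hs p _ q _ _
    apply one_step R S 0
    rw [eq_top_iff, ← hs]
    apply Algebra.adjoin_mono
    rintro _ ⟨i, _⟩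
    exact i.elim0
  | succ n ih =>
    intro R _ _ _ S _ _ _ _ s hs p _ q _ _
    let R' : Subalgebra R S := Algebra.adjoin R (Set.range (s ∘ Fin.castSucc))
    have hfg : R'.FG := by
      have : (Set.range (s ∘ Fin.castSucc)) = ((Set.finite_range (s ∘ Fin.castSucc)).toFinset : Set S) := by
        simp
      show (Algebra.adjoin R (Set.range (s ∘ Fin.castSucc))).FG
      rw [this]
      exact Subalgebra.fg_adjoin_finset _
    have : Algebra.FiniteType R R' := ⟨(Subalgebra.fg_top R').2 hfg⟩
    have : IsNoetherianRing R' := Algebra.FiniteType.isNoetherianRing R R'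
    have : FaithfulSMul R R' := by
      rw [faithfulSMul_iff_algebraMap_injective]
      have h0 : Function.Injective (algebraMap R S) := FaithfulSMul.algebraMap_injective R S
      rw [IsScalarTower.algebraMap_eq R R' S, RingHom.coe_comp] at h0
      exact Function.Injective.of_comp h0
    have : FaithfulSMul R' S := by
      rw [faithfulSMul_iff_algebraMap_injective]
      exact Subtype.val_injective
    let t : Fin n → R' := fun i => ⟨s (Fin.castSucc i), Algebra.subset_adjoin ⟨i, rfl⟩⟩
    have ht : Algebra.adjoin R (Set.range t) = ⊤ := by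
      have h1 := Algebra.adjoin_adjoin_coe_preimage (R := R) (s := Set.range (s ∘ Fin.castSucc))
      have h2 : Set.range t = ((↑) : R' → S) ⁻¹' (Set.range (s ∘ Fin.castSucc)) := by
        ext ⟨x, hx⟩
        constructor
        · rintro ⟨i, hi⟩
          exact ⟨i, congrArg Subtype.val hi⟩
        · rintro ⟨i, hi⟩
          exact ⟨i, Subtype.ext hi⟩
      rw [h2]
      exact h1
    have hs' : Algebra.adjoin R' {s (Fin.last n)} = ⊤ := by
      have hrange : Set.range s = Set.range (s ∘ Fin.castSucc) ∪ {s (Fin.last n)} := by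
        ext x
        constructor
        · rintro ⟨i, rfl⟩
          induction i using Fin.lastCases with
          | last => exact Or.inr rfl
          | cast j => exact Or.inl ⟨j, rfl⟩
        · rintro (⟨j, rfl⟩ | h)
          · exact ⟨_, rfl⟩
          · exact ⟨Fin.last n, h.symm⟩
      have h3 := Algebra.adjoin_union_eq_adjoin_adjoin R (Set.range (s ∘ Fin.castSucc))
        {s (Fin.last n)}
      rw [← hrange, hs] at h3
      apply Subalgebra.restrictScalars_injective R
      rw [← h3, Subalgebra.restrictScalars_top]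
    let p' : Ideal R' := q.under R'
    have : p'.LiesOver p := Ideal.LiesOver.tower_bot q p' p
    have h1 := ih R R' t ht p p'
    have h2 := one_step R' S (s (Fin.last n)) hs' p' q
    exact tower_step R R' S p p' q h1 h2

theorem dim_ineq (R : Type u) [CommRing R] [IsDomain R]
    [IsNoetherianRing R] (S : Type u) [CommRing S] [IsDomain S] [Algebra R S]
    [FaithfulSMul R S] [Algebra.FiniteType R S] (p : Ideal R) [p.IsPrime] (q : Ideal S) [q.IsPrime]
    [q.LiesOver p] :
    (q.height : Cardinal.{u}) + Algebra.trdeg (R ⧸ p) (S ⧸ q) ≤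
      (p.height : Cardinal.{u}) + Algebra.trdeg R S := by
  obtain ⟨t, ht⟩ := (Algebra.FiniteType.out : (⊤ : Subalgebra R S).FG)
  let e := t.equivFin
  refine dim_ineq_aux t.card R S (fun i => (e.symm i : S)) ?_ p q
  rw [← ht]
  congr 1
  ext x
  constructor
  · rintro ⟨i, rfl⟩
    exact (e.symm i).2
  · intro hx
    exact ⟨e ⟨x, hx⟩, by simp⟩

end Induction

end Groth.Agent.Lib.lead.DimFormula
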