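import Mathlib
import Groth.Prelude.Def_Found
import Groth.Agent.Lib.lead.DimFormula
import Groth.Agent.Lib.Helper21.CatKit2

set_option autoImplicit false
universe u
open Polynomial Cardinal Order
open Groth.Agent.Lib.Helper21.CatKit

namespace Groth.Agent.Lib.lead.DimFormulaEq

/-- a nonzero prime of `R[X]` meeting `R` trivially has height one -/
theorem height_eq_one_of_comap_C_eq_bot {R : Type u} [CommRing R] [IsDomain R] (P : Ideal R[X])
    [P.IsPrime] (hP : P ≠ ⊥) (hPR : P.comap (C : R →+* R[X]) = ⊥) : P.height = 1 := by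
  apply le_antisymm
  · have := (Ideal.height_le_iff (p := P) (n := 1)).2 ?_
    · exact_mod_cast this
    intro Q hQ hQP
    suffices hb : Q = ⊥ by
      rw [hb, Ideal.height_bot]; norm_num
    by_contra hQb
    have hQR : Q.comap (C : R →+* R[X]) = ⊥ := by
      rw [eq_bot_iff, ← hPR]
      exact Ideal.comap_mono hQP.le
    refine Groth.Agent.Lib.Helper26.DimFormulaPoly.no_three (A := R) ⟨⊥, Ideal.isPrime_bot⟩
      ⟨⊥, Ideal.isPrime_bot⟩ ⟨Q, hQ⟩ ⟨P, inferInstance⟩ ?_ ?_ ?_ ?_ (by rw [← PrimeSpectrum.asIdeal_lt_asIdeal]; exact hQP)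
    · apply PrimeSpectrum.ext
      show (⊥ : Ideal R[X]).comap C = ⊥
      rw [← RingHom.ker_eq_comap_bot, (RingHom.injective_iff_ker_eq_bot _).1 Polynomial.C_injective]
    · exact PrimeSpectrum.ext hQR
    · exact PrimeSpectrum.ext hPR
    · rw [← PrimeSpectrum.asIdeal_lt_asIdeal]
      exact bot_lt_iff_ne_bot.2 hQb
  · have : (⊥ : Ideal R[X]) < P := bot_lt_iff_ne_bot.2 hP
    have h := Ideal.height_add_one_le_of_lt_of_isPrime this
    rwa [Ideal.height_bot, zero_add] at h


/-- `comap` along a surjection preserves covering relations of primes -/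
theorem comap_covBy {A B : Type u} [CommRing A] [CommRing B] (φ : A →+* B)
    (hφ : Function.Surjective φ) {a b : PrimeSpectrum B} (hab : a ⋖ b) :
    PrimeSpectrum.comap φ a ⋖ PrimeSpectrum.comap φ b := by
  have hsm : ∀ {x y : PrimeSpectrum B}, PrimeSpectrum.comap φ x ≤ PrimeSpectrum.comap φ y ↔ x ≤ y :=
    fun {x y} => Ideal.comap_le_comap_iff_of_surjective φ hφ _ _
  refine ⟨?_, ?_⟩
  · rw [lt_iff_le_not_ge, hsm, hsm, ← lt_iff_le_not_ge]
    exact hab.lt
  · intro c hac hcb
    have hker : RingHom.ker φ ≤ c.asIdeal := by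
      refine le_trans ?_ hac.le
      intro x hx
      show φ x ∈ a.asIdeal
      rw [(RingHom.mem_ker).1 hx]
      exact zero_mem _
    have hc' : (c.asIdeal.map φ).IsPrime := Ideal.map_isPrime_of_surjective hφ hker
    have hcc : PrimeSpectrum.comap φ ⟨c.asIdeal.map φ, hc'⟩ = c := by
      apply PrimeSpectrum.ext
      show (c.asIdeal.map φ).comap φ = c.asIdeal
      rw [Ideal.comap_map_of_surjective φ hφ, ← RingHom.ker_eq_comap_bot, sup_eq_left.2 hker]
    rw [← hcc] at hac hcb
    rw [lt_iff_le_not_ge, hsm, hsm, ← lt_iff_le_not_ge] at hac hcb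
    exact hab.2 hac hcb

theorem height_comap_eq_add {A B : Type u} [CommRing A] [CommRing B] [IsDomain A] [IsDomain B]
    [IsNoetherianRing A] (hcat : CAlg.IsCatenary A) (φ : A →+* B) (hφ : Function.Surjective φ)
    (q : Ideal B) [q.IsPrime] :
    (q.comap φ).height = (RingHom.ker φ).height + q.height := by
  have hB : IsNoetherianRing B := isNoetherianRing_of_surjective A B φ hφ
  have hkp : (RingHom.ker φ).IsPrime := RingHom.ker_isPrime φ
  let P' : PrimeSpectrum A := ⟨RingHom.ker φ, hkp⟩
  let Q : PrimeSpectrum B := ⟨q, inferInstance⟩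
  let Q' : PrimeSpectrum A := PrimeSpectrum.comap φ Q
  obtain ⟨n1, hn1⟩ := ENat.ne_top_iff_exists.1 (Ideal.height_ne_top hkp.ne_top)
  obtain ⟨n2, hn2⟩ := ENat.ne_top_iff_exists.1 (Ideal.height_ne_top (I := q) (Ideal.IsPrime.ne_top'))
  obtain ⟨n3, hn3⟩ := ENat.ne_top_iff_exists.1
    (Ideal.height_ne_top (I := q.comap φ) (Ideal.IsPrime.ne_top'))
  obtain ⟨t1, h11, h12, h13⟩ := exists_covSeries_of_height_eq n1 P'
    (by rw [← PrimeSpectrum.height_eq_orderHeight]; exact hn1.symm)
  obtain ⟨t2, h21, h22, h23⟩ := exists_covSeries_of_height_eq n2 Q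
    (by rw [← PrimeSpectrum.height_eq_orderHeight]; exact hn2.symm)
  obtain ⟨t3, h31, h32, h33⟩ := exists_covSeries_of_height_eq n3 Q'
    (by rw [← PrimeSpectrum.height_eq_orderHeight]; exact hn3.symm)
  let F : SetRel.Hom {(a, b) : PrimeSpectrum B × PrimeSpectrum B | a ⋖ b}
      {(a, b) : PrimeSpectrum A × PrimeSpectrum A | a ⋖ b} :=
    { toFun := PrimeSpectrum.comap φ
      map_rel' := fun {a b} h => by
        exact (show PrimeSpectrum.comap φ a ⋖ PrimeSpectrum.comap φ b from
          comap_covBy φ hφ (show a ⋖ b from h)) }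
  let t2' : CovSeries (PrimeSpectrum A) := t2.map F
  have hhead2 : t2'.head = P' := by
    show PrimeSpectrum.comap φ t2.head = P'
    rw [h22.eq_bot]
    apply PrimeSpectrum.ext
    show (⊥ : Ideal B).comap φ = RingHom.ker φ
    rw [RingHom.ker_eq_comap_bot]
  have hlast2 : t2'.last = Q' := by
    show PrimeSpectrum.comap φ t2.last = Q'
    rw [h21]
  have hconn : t1.last = t2'.head := by rw [h11, hhead2]
  have hlen := length_eq_of_satEq hcat.2 (t1.smash t2' hconn) t3
    (by rw [RelSeries.head_smash, h12.eq_bot, h32.eq_bot])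
    (by rw [RelSeries.last_smash, hlast2, h31])
  have hlen' : n1 + n2 = n3 := by
    have e1 : (t1.smash t2' hconn).length = t1.length + t2'.length := rfl
    have e2 : t2'.length = t2.length := rfl
    omega
  rw [← hn1, ← hn2, ← hn3, ← hlen']
  simp


open Groth.Agent.Lib.lead.DimFormula

theorem univCat_of_finiteType (R : Type u) [CommRing R] (hR : CAlg.IsUniversallyCatenary R)
    (R' : Type u) [CommRing R'] [Algebra R R'] [Algebra.FiniteType R R'] :
    CAlg.IsUniversallyCatenary R' := by
  have := hR.1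
  refine ⟨Algebra.FiniteType.isNoetherianRing R R', fun T _ _ hT => ?_⟩
  let _ : Algebra R T := ((algebraMap R' T).comp (algebraMap R R')).toAlgebra
  have : IsScalarTower R R' T := .of_algebraMap_eq (fun _ => rfl)
  exact hR.2 T (Algebra.FiniteType.trans ‹Algebra.FiniteType R R'› hT)

theorem one_step_eq (R : Type u) [CommRing R] [IsDomain R] (hR : CAlg.IsUniversallyCatenary R)
    (S : Type u) [CommRing S] [IsDomain S] [Algebra R S] [FaithfulSMul R S]
    (s : S) (hs : Algebra.adjoin R {s} = ⊤)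
    (p : Ideal R) [p.IsPrime] (q : Ideal S) [q.IsPrime] [q.LiesOver p] :
    (q.height : Cardinal.{u}) + Algebra.trdeg (R ⧸ p) (S ⧸ q) =
      (p.height : Cardinal.{u}) + Algebra.trdeg R S := by
  have := hR.1
  let φ : R[X] →ₐ[R] S := Polynomial.aeval s
  have hφ : Function.Surjective φ := by
    rw [← AlgHom.range_eq_top, ← Algebra.adjoin_singleton_eq_range_aeval, hs]
  have hmain := Groth.Agent.Lib.Helper26.DimFormulaPoly.main p (q.comap φ)
  rw [trdeg_quotient_comap_eq R S R[X] φ hφ p q] at hmain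
  by_cases hker : RingHom.ker (φ : R[X] →+* S) = ⊥
  · have hinj : Function.Injective φ := (RingHom.injective_iff_ker_eq_bot _).2 hker
    let e : R[X] ≃ₐ[R] S := AlgEquiv.ofBijective φ ⟨hinj, hφ⟩
    have h1 : Algebra.trdeg R S = 1 := by
      rw [← e.trdeg_eq, Polynomial.trdeg_of_isDomain]
    have h2 : (q.comap φ).height = q.height := RingEquiv.height_comap e.toRingEquiv q
    rw [h1, hmain, h2]
  · -- `s` is algebraic
    have hcat : CAlg.IsCatenary R[X] := hR.2 R[X] inferInstance
    have hkp : (RingHom.ker (φ : R[X] →+* S)).IsPrime := RingHom.ker_isPrime _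
    have hkR : (RingHom.ker (φ : R[X] →+* S)).comap (C : R →+* R[X]) = ⊥ := by
      rw [eq_bot_iff]
      intro r hr
      rw [Ideal.mem_comap, RingHom.mem_ker] at hr
      have : algebraMap R S r = 0 := by
        have h0 : φ (C r) = algebraMap R S r := by simp [φ]
        rw [← h0]; exact hr
      rw [Ideal.mem_bot]
      exact (FaithfulSMul.algebraMap_injective R S) (this.trans (map_zero _).symm)
    have h1 : (RingHom.ker (φ : R[X] →+* S)).height = 1 :=
      height_eq_one_of_comap_C_eq_bot _ hker hkR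
    have h2 : (q.comap φ).height = 1 + q.height := by
      have := height_comap_eq_add hcat (φ : R[X] →+* S) hφ q
      rw [h1] at this
      exact this
    have halg : Algebra.IsAlgebraic R S := by
      have hs_alg : IsAlgebraic R s := by
        obtain ⟨f, hf, hf0⟩ := Submodule.exists_mem_ne_zero_of_ne_bot hker
        exact ⟨f, hf0, hf⟩
      refine ⟨fun x => ?_⟩
      exact Algebra.isAlgebraic_adjoin_singleton_iff.2 hs_alg x (by rw [hs]; trivial)
    have h3 : Algebra.trdeg R S = 0 := trdeg_eq_zero_iff.2 halg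
    rw [h3, add_zero]
    have h4 : ((q.height : Cardinal.{u}) + Algebra.trdeg (R ⧸ p) (S ⧸ q)) + 1 =
        (p.height : Cardinal.{u}) + 1 := by
      rw [hmain, h2, Cardinal.ofENat_add, Cardinal.ofENat_one]
      ring
    exact (Cardinal.add_right_inj_of_lt_aleph0 Cardinal.one_lt_aleph0).1 h4


theorem tower_step_eq (R R' S : Type u) [CommRing R] [CommRing R'] [CommRing S] [IsDomain R]
    [IsDomain S] [Algebra R R'] [Algebra R' S] [Algebra R S] [IsScalarTower R R' S]
    [FaithfulSMul R R'] [FaithfulSMul R' S] (p : Ideal R) (p' : Ideal R') (q : Ideal S)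
    [p.IsPrime] [p'.IsPrime] [q.IsPrime] [p'.LiesOver p] [q.LiesOver p'] [q.LiesOver p]
    (h1 : (p'.height : Cardinal.{u}) + Algebra.trdeg (R ⧸ p) (R' ⧸ p') =
      (p.height : Cardinal.{u}) + Algebra.trdeg R R')
    (h2 : (q.height : Cardinal.{u}) + Algebra.trdeg (R' ⧸ p') (S ⧸ q) =
      (p'.height : Cardinal.{u}) + Algebra.trdeg R' S) :
    (q.height : Cardinal.{u}) + Algebra.trdeg (R ⧸ p) (S ⧸ q) =
      (p.height : Cardinal.{u}) + Algebra.trdeg R S := by
  have := isScalarTower_quotients R R' S p p' q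
  have e1 : Algebra.trdeg R R' + Algebra.trdeg R' S = Algebra.trdeg R S :=
    trdeg_add_eq R R' (A := S)
  have e2 : Algebra.trdeg (R ⧸ p) (R' ⧸ p') + Algebra.trdeg (R' ⧸ p') (S ⧸ q) =
      Algebra.trdeg (R ⧸ p) (S ⧸ q) := trdeg_add_eq (R ⧸ p) (R' ⧸ p') (A := S ⧸ q)
  rw [← e1, ← e2]
  calc (q.height : Cardinal.{u}) +
        (Algebra.trdeg (R ⧸ p) (R' ⧸ p') + Algebra.trdeg (R' ⧸ p') (S ⧸ q))
      = ((q.height : Cardinal.{u}) + Algebra.trdeg (R' ⧸ p') (S ⧸ q)) +
          Algebra.trdeg (R ⧸ p) (R' ⧸ p') := by ring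
    _ = ((p'.height : Cardinal.{u}) + Algebra.trdeg R' S) + Algebra.trdeg (R ⧸ p) (R' ⧸ p') := by
        rw [h2]
    _ = ((p'.height : Cardinal.{u}) + Algebra.trdeg (R ⧸ p) (R' ⧸ p')) + Algebra.trdeg R' S := by
        ring
    _ = ((p.height : Cardinal.{u}) + Algebra.trdeg R R') + Algebra.trdeg R' S := by
        rw [h1]
    _ = _ := by ring

theorem dim_eq_aux : ∀ (n : ℕ) (R : Type u) [CommRing R] [IsDomain R]
    (_ : CAlg.IsUniversallyCatenary R)
    (S : Type u) [CommRing S] [IsDomain S] [Algebra R S] [FaithfulSMul R S] (s : Fin n → S)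
    (_ : Algebra.adjoin R (Set.range s) = ⊤) (p : Ideal R) [p.IsPrime] (q : Ideal S) [q.IsPrime]
    [q.LiesOver p],
    (q.height : Cardinal.{u}) + Algebra.trdeg (R ⧸ p) (S ⧸ q) =
      (p.height : Cardinal.{u}) + Algebra.trdeg R S := by
  intro n
  induction n with
  | zero =>
    intro R _ _ hR S _ _ _ _ s hs p _ q _ _
    apply one_step_eq R hR S 0
    rw [eq_top_iff, ← hs]
    apply Algebra.adjoin_mono
    rintro _ ⟨i, _⟩
    exact i.elim0
  | succ n ih =>
    intro R _ _ hR S _ _ _ _ s hs p _ q _ _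
    let R' : Subalgebra R S := Algebra.adjoin R (Set.range (s ∘ Fin.castSucc))
    have hfg : R'.FG := by
      have : (Set.range (s ∘ Fin.castSucc)) = ((Set.finite_range (s ∘ Fin.castSucc)).toFinset : Set S) := by
        simp
      show (Algebra.adjoin R (Set.range (s ∘ Fin.castSucc))).FG
      rw [this]
      exact Subalgebra.fg_adjoin_finset _
    have : Algebra.FiniteType R R' := ⟨(Subalgebra.fg_top R').2 hfg⟩
    have hR' : CAlg.IsUniversallyCatenary R' := univCat_of_finiteType R hR R'
    have : FaithfulSMul R R' := by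
      rw [faithfulSMul_iff_algebraMap_injective]
      have h0 : Function.Injective (algebraMap R S) := FaithfulSMul.algebraMap_injective R S
      rw [IsScalarTower.algebraMap_eq R R' S, RingHom.coe_comp] at h0
      exact Function.Injective.of_comp h0
    have : FaithfulSMul R' S := by
      rw [faithfulSMul_iff_algebraMap_injective]
      exact Subtype.val_injective
    let t : Fin n → R' := fun i => ⟨s (Fin.castSucc i), Algebra.subset_adjoin ⟨i, rfl⟩⟩
    have ht : Algebra.adjoin R (Set.range t) = ⊤ := by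
      have h1 := Algebra.adjoin_adjoin_coe_preimage (R := R) (s := Set.range (s ∘ Fin.castSucc))
      have h2 : Set.range t = ((↑) : R' → S) ⁻¹' (Set.range (s ∘ Fin.castSucc)) := by
        ext ⟨x, hx⟩
        constructor
        · rintro ⟨i, hi⟩
          exact ⟨i, congrArg Subtype.val hi⟩
        · rintro ⟨i, hi⟩
          exact ⟨i, Subtype.ext hi⟩
      rw [h2]
      exact h1
    have hs' : Algebra.adjoin R' {s (Fin.last n)} = ⊤ := by
      have hrange : Set.range s = Set.range (s ∘ Fin.castSucc) ∪ {s (Fin.last n)} := by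
        ext x
        constructor
        · rintro ⟨i, rfl⟩
          induction i using Fin.lastCases with
          | last => exact Or.inr rfl
          | cast j => exact Or.inl ⟨j, rfl⟩
        · rintro (⟨j, rfl⟩ | h)
          · exact ⟨_, rfl⟩
          · exact ⟨Fin.last n, h.symm⟩
      have h3 := Algebra.adjoin_union_eq_adjoin_adjoin R (Set.range (s ∘ Fin.castSucc))
        {s (Fin.last n)}
      rw [← hrange, hs] at h3
      apply Subalgebra.restrictScalars_injective R
      rw [← h3, Subalgebra.restrictScalars_top]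
    let p' : Ideal R' := q.under R'
    have : p'.LiesOver p := Ideal.LiesOver.tower_bot q p' p
    have h1 := ih R hR R' t ht p p'
    have h2 := one_step_eq R' hR' S (s (Fin.last n)) hs' p' q
    exact tower_step_eq R R' S p p' q h1 h2

theorem dim_eq (R : Type u) [CommRing R] [IsDomain R]
    (hR : CAlg.IsUniversallyCatenary R) (S : Type u) [CommRing S] [IsDomain S] [Algebra R S]
    [FaithfulSMul R S] [Algebra.FiniteType R S] (p : Ideal R) [p.IsPrime] (q : Ideal S) [q.IsPrime]
    [q.LiesOver p] :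
    (q.height : Cardinal.{u}) + Algebra.trdeg (R ⧸ p) (S ⧸ q) =
      (p.height : Cardinal.{u}) + Algebra.trdeg R S := by
  obtain ⟨t, ht⟩ := (Algebra.FiniteType.out : (⊤ : Subalgebra R S).FG)
  let e := t.equivFin
  refine dim_eq_aux t.card R hR S (fun i => (e.symm i : S)) ?_ p q
  rw [← ht]
  congr 1
  ext x
  constructor
  · rintro ⟨i, rfl⟩
    exact (e.symm i).2
  · intro hx
    exact ⟨e ⟨x, hx⟩, by simp⟩

end Groth.Agent.Lib.lead.DimFormulaEq
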