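import Mathlib
import Groth.Prelude.Def_Found
import Groth.Agent.Lib.lead.DimFormulaEq
import Groth.Agent.Lib.Helper24.Catenary
import Groth.Agent.Lib.Helper24.Cat.Stalks

set_option autoImplicit false
set_option linter.style.haveILetI false
universe u
open Polynomial Cardinal Order
open Groth.Agent.Lib.Helper21.CatKit Groth.Agent.Lib.Helper24
open Groth.Agent.Lib.lead.DimFormula Groth.Agent.Lib.lead.DimFormulaEq

namespace Groth.Agent.Lib.lead.DimFormulaLoc

/-- order-level: saturated chains inside an order-connected catenary sub-poset have equal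
length -/
theorem length_eq_of_embedding {P : Type u} {Q : Type u} [PartialOrder P] [PartialOrder Q]
    (e : P ↪o Q) (hoc : (Set.range e).OrdConnected) (hP : CatOrd P)
    (s t : LTSeries Q) (hsr : ∀ i, s i ∈ Set.range e) (htr : ∀ i, t i ∈ Set.range e)
    (hh : s.head = t.head) (hl : s.last = t.last)
    (hs : ∀ i : Fin s.length, s (Fin.castSucc i) ⋖ s (Fin.succ i))
    (ht : ∀ i : Fin t.length, t (Fin.castSucc i) ⋖ t (Fin.succ i)) :
    s.length = t.length := by
  obtain ⟨s', hlen, hs'⟩ := exists_lift_ltSeries e s hsr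
  obtain ⟨t', hlen', ht'⟩ := exists_lift_ltSeries e t htr
  rw [← hlen, ← hlen']
  apply hP.2
  · apply e.injective
    rw [← LTSeries.head_map s' e e.strictMono, ← LTSeries.head_map t' e e.strictMono, hs', ht',
      hh]
  · apply e.injective
    rw [← LTSeries.last_map s' e e.strictMono, ← LTSeries.last_map t' e e.strictMono, hs', ht',
      hl]
  · intro i
    rw [← hoc.apply_covBy_apply_iff e]
    have := hs (Fin.cast hlen i)
    subst hs'
    exact this
  · intro i
    rw [← hoc.apply_covBy_apply_iff e]
    have := ht (Fin.cast hlen' i)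
    subst ht'
    exact this

/-- saturated chains ending below `Q` have the same length when `A_Q` is catenary -/
theorem length_eq_of_catenary_localization {A : Type u} [CommRing A] (Q : Ideal A) [Q.IsPrime]
    (hcat : CAlg.IsCatenary (Localization.AtPrime Q))
    (s t : CovSeries (PrimeSpectrum A)) (hh : s.head = t.head) (hl : s.last = t.last)
    (hQ : t.last ≤ ⟨Q, inferInstance⟩) : s.length = t.length := by
  let e := locOrderEmbedding Q.primeCompl (Localization.AtPrime Q)
  have hoc := ordConnected_range_locOrderEmbedding Q.primeCompl (Localization.AtPrime Q)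
  have hrange : ∀ x : PrimeSpectrum A, x ≤ ⟨Q, inferInstance⟩ → x ∈ Set.range e := by
    intro x hx
    rw [range_locOrderEmbedding]
    show Disjoint _ _
    rw [Set.disjoint_left]
    intro a ha hax
    exact ha (hx hax)
  have hsQ : s.last ≤ ⟨Q, inferInstance⟩ := hl ▸ hQ
  exact length_eq_of_embedding e hoc hcat (s.ofLE cov_le_lt) (t.ofLE cov_le_lt)
    (fun i => hrange _ ((LTSeries.monotone (s.ofLE cov_le_lt) (Fin.le_last i)).trans hsQ))
    (fun i => hrange _ ((LTSeries.monotone (t.ofLE cov_le_lt) (Fin.le_last i)).trans hQ))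
    hh hl (fun i => s.step i) (fun i => t.step i)


theorem height_comap_eq_add_loc {A B : Type u} [CommRing A] [CommRing B] [IsDomain A] [IsDomain B]
    [IsNoetherianRing A] (φ : A →+* B) (hφ : Function.Surjective φ)
    (q : Ideal B) [q.IsPrime] (hcat : CAlg.IsCatenary (Localization.AtPrime (q.comap φ))) :
    (q.comap φ).height = (RingHom.ker φ).height + q.height := by
  have hB : IsNoetherianRing B := isNoetherianRing_of_surjective A B φ hφ
  have hkp : (RingHom.ker φ).IsPrime := RingHom.ker_isPrime φ
  let P' : PrimeSpectrum A := ⟨RingHom.ker φ, hkp⟩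
  let Q : PrimeSpectrum B := ⟨q, inferInstance⟩
  let Q' : PrimeSpectrum A := PrimeSpectrum.comap φ Q
  obtain ⟨n1, hn1⟩ := ENat.ne_top_iff_exists.1 (Ideal.height_ne_top hkp.ne_top)
  obtain ⟨n2, hn2⟩ := ENat.ne_top_iff_exists.1 (Ideal.height_ne_top (I := q) (Ideal.IsPrime.ne_top'))
  obtain ⟨n3, hn3⟩ := ENat.ne_top_iff_exists.1
    (Ideal.height_ne_top (I := q.comap φ) (Ideal.IsPrime.ne_top'))
  obtain ⟨t1, h11, h12, h13⟩ := exists_covSeries_of_height_eq n1 P'
    (by rw [← PrimeSpectrum.height_eq_orderHeight]; exact hn1.symm)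
  obtain ⟨t2, h21, h22, h23⟩ := exists_covSeries_of_height_eq n2 Q
    (by rw [← PrimeSpectrum.height_eq_orderHeight]; exact hn2.symm)
  obtain ⟨t3, h31, h32, h33⟩ := exists_covSeries_of_height_eq n3 Q'
    (by rw [← PrimeSpectrum.height_eq_orderHeight]; exact hn3.symm)
  let F : SetRel.Hom {(a, b) : PrimeSpectrum B × PrimeSpectrum B | a ⋖ b}
      {(a, b) : PrimeSpectrum A × PrimeSpectrum A | a ⋖ b} :=
    { toFun := PrimeSpectrum.comap φ
      map_rel' := fun {a b} h => by
        exact (show PrimeSpectrum.comap φ a ⋖ PrimeSpectrum.comap φ b from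
          comap_covBy φ hφ (show a ⋖ b from h)) }
  let t2' : CovSeries (PrimeSpectrum A) := t2.map F
  have hhead2 : t2'.head = P' := by
    show PrimeSpectrum.comap φ t2.head = P'
    rw [h22.eq_bot]
    apply PrimeSpectrum.ext
    show (⊥ : Ideal B).comap φ = RingHom.ker φ
    rw [RingHom.ker_eq_comap_bot]
  have hlast2 : t2'.last = Q' := by
    show PrimeSpectrum.comap φ t2.last = Q'
    rw [h21]
  have hconn : t1.last = t2'.head := by rw [h11, hhead2]
  have hlen := length_eq_of_catenary_localization (q.comap φ) hcat (t1.smash t2' hconn) t3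
    (by rw [RelSeries.head_smash, h12.eq_bot, h32.eq_bot])
    (by rw [RelSeries.last_smash, hlast2, h31])
    (by rw [h31]; exact le_refl _)
  have hlen' : n1 + n2 = n3 := by
    have e1 : (t1.smash t2' hconn).length = t1.length + t2'.length := rfl
    have e2 : t2'.length = t2.length := rfl
    omega
  rw [← hn1, ← hn2, ← hn3, ← hlen']
  simp

theorem one_step_eq_loc (R : Type u) [CommRing R] [IsDomain R] [IsNoetherianRing R]
    (S : Type u) [CommRing S] [IsDomain S] [Algebra R S] [FaithfulSMul R S]
    (s : S) (hs : Algebra.adjoin R {s} = ⊤)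
    (p : Ideal R) [p.IsPrime] (q : Ideal S) [q.IsPrime] [q.LiesOver p]
    (hcat : CAlg.IsCatenary (Localization.AtPrime
      (q.comap ((Polynomial.aeval s : R[X] →ₐ[R] S) : R[X] →+* S)))) :
    (q.height : Cardinal.{u}) + Algebra.trdeg (R ⧸ p) (S ⧸ q) =
      (p.height : Cardinal.{u}) + Algebra.trdeg R S := by
  let φ : R[X] →ₐ[R] S := Polynomial.aeval s
  have hφ : Function.Surjective φ := by
    rw [← AlgHom.range_eq_top, ← Algebra.adjoin_singleton_eq_range_aeval, hs]
  have hmain := Groth.Agent.Lib.Helper26.DimFormulaPoly.main p (q.comap φ)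
  rw [trdeg_quotient_comap_eq R S R[X] φ hφ p q] at hmain
  by_cases hker : RingHom.ker (φ : R[X] →+* S) = ⊥
  · have hinj : Function.Injective φ := (RingHom.injective_iff_ker_eq_bot _).2 hker
    let e : R[X] ≃ₐ[R] S := AlgEquiv.ofBijective φ ⟨hinj, hφ⟩
    have h1 : Algebra.trdeg R S = 1 := by
      rw [← e.trdeg_eq, Polynomial.trdeg_of_isDomain]
    have h2 : (q.comap φ).height = q.height := RingEquiv.height_comap e.toRingEquiv q
    rw [h1, hmain, h2]
  · -- `s` is algebraic
    have hkp : (RingHom.ker (φ : R[X] →+* S)).IsPrime := RingHom.ker_isPrime _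
    have hkR : (RingHom.ker (φ : R[X] →+* S)).comap (C : R →+* R[X]) = ⊥ := by
      rw [eq_bot_iff]
      intro r hr
      rw [Ideal.mem_comap, RingHom.mem_ker] at hr
      have : algebraMap R S r = 0 := by
        have h0 : φ (C r) = algebraMap R S r := by simp [φ]
        rw [← h0]; exact hr
      rw [Ideal.mem_bot]
      exact (FaithfulSMul.algebraMap_injective R S) (this.trans (map_zero _).symm)
    have h1 : (RingHom.ker (φ : R[X] →+* S)).height = 1 :=
      height_eq_one_of_comap_C_eq_bot _ hker hkR
    have h2 : (q.comap φ).height = 1 + q.height := by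
      have := height_comap_eq_add_loc (φ : R[X] →+* S) hφ q hcat
      rw [h1] at this
      exact this
    have halg : Algebra.IsAlgebraic R S := by
      have hs_alg : IsAlgebraic R s := by
        obtain ⟨f, hf, hf0⟩ := Submodule.exists_mem_ne_zero_of_ne_bot hker
        exact ⟨f, hf0, hf⟩
      refine ⟨fun x => ?_⟩
      exact Algebra.isAlgebraic_adjoin_singleton_iff.2 hs_alg x (by rw [hs]; trivial)
    have h3 : Algebra.trdeg R S = 0 := trdeg_eq_zero_iff.2 halg
    rw [h3, add_zero]
    have h4 : ((q.height : Cardinal.{u}) + Algebra.trdeg (R ⧸ p) (S ⧸ q)) + 1 =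
        (p.height : Cardinal.{u}) + 1 := by
      rw [hmain, h2, Cardinal.ofENat_add, Cardinal.ofENat_one]
      ring
    exact (Cardinal.add_right_inj_of_lt_aleph0 Cardinal.one_lt_aleph0).1 h4


/-- for primes `Q ≤ M`, catenarity of `A_M` implies that of `A_Q` -/
theorem catenary_localization_of_le {A : Type u} [CommRing A] (Q M : Ideal A) [Q.IsPrime]
    [M.IsPrime] (hM : Q ≤ M) (hcat : CAlg.IsCatenary (Localization.AtPrime M)) :
    CAlg.IsCatenary (Localization.AtPrime Q) := by
  rw [isCatenary_iff_catOrd]
  let e1 := locOrderEmbedding Q.primeCompl (Localization.AtPrime Q)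
  let e2 := locOrderEmbedding M.primeCompl (Localization.AtPrime M)
  have hr1 := range_locOrderEmbedding Q.primeCompl (Localization.AtPrime Q)
  have hr2 := range_locOrderEmbedding M.primeCompl (Localization.AtPrime M)
  have hsub : ∀ x, e1 x ∈ Set.range e2 := by
    intro x
    have hx : e1 x ∈ Set.range e1 := ⟨x, rfl⟩
    rw [hr1] at hx
    rw [hr2]
    change Disjoint _ _ at hx
    show Disjoint _ _
    rw [Set.disjoint_left] at hx ⊢
    intro a ha hax
    exact hx (fun h => ha (hM h)) hax
  choose g hg using hsub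
  let e3 : PrimeSpectrum (Localization.AtPrime Q) ↪o PrimeSpectrum (Localization.AtPrime M) :=
    OrderEmbedding.ofMapLEIff g (fun a b => by
      rw [← e2.le_iff_le, hg, hg, e1.le_iff_le])
  refine CatOrd.of_orderEmbedding e3 ?_ hcat
  constructor
  rintro _ ⟨a, rfl⟩ _ ⟨b, rfl⟩ c ⟨hac, hcb⟩
  have hoc1 := ordConnected_range_locOrderEmbedding Q.primeCompl (Localization.AtPrime Q)
  have : e2 c ∈ Set.range e1 := by
    refine hoc1.out ⟨a, rfl⟩ ⟨b, rfl⟩ ⟨?_, ?_⟩
    · have := e2.monotone hac
      rwa [show e2 (e3 a) = e1 a from hg a] at this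
    · have := e2.monotone hcb
      rwa [show e2 (e3 b) = e1 b from hg b] at this
  obtain ⟨d, hd⟩ := this
  refine ⟨d, ?_⟩
  apply e2.injective
  rw [show e2 (e3 d) = e1 d from hg d, hd]

theorem isCatenary_of_ringEquiv {A B : Type u} [CommRing A] [CommRing B] (e : A ≃+* B)
    (h : CAlg.IsCatenary A) : CAlg.IsCatenary B := by
  rw [isCatenary_iff_catOrd] at h ⊢
  refine CatOrd.of_orderEmbedding (PrimeSpectrum.comapEquiv e).symm.toOrderEmbedding ?_ h
  have : Set.range (PrimeSpectrum.comapEquiv e).symm.toOrderEmbedding = Set.univ :=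
    (PrimeSpectrum.comapEquiv e).symm.surjective.range_eq
  rw [this]
  exact Set.ordConnected_univ

/-- the local catenary hypothesis, in a transport-friendly form -/
def H (R : Type u) [CommRing R] (p : Ideal R) (S : Type u) [CommRing S] [Algebra R S] : Prop :=
  ∀ (A' : Type u) [CommRing A'] [Algebra R A'], Algebra.FiniteType R A' →
    ∀ (ι : A' →ₐ[R] S[X]), Function.Injective ι →
    ∀ (Q' : Ideal A') [Q'.IsPrime], Q'.comap (algebraMap R A') = p →
      CAlg.IsCatenary (Localization.AtPrime Q')

theorem dim_eq_aux_loc : ∀ (n : ℕ) (R : Type u) [CommRing R] [IsDomain R] [IsNoetherianRing R]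
    (S : Type u) [CommRing S] [IsDomain S] [Algebra R S] [FaithfulSMul R S] (s : Fin n → S)
    (_ : Algebra.adjoin R (Set.range s) = ⊤) (p : Ideal R) [p.IsPrime] (_ : H R p S)
    (q : Ideal S) [q.IsPrime] [q.LiesOver p],
    (q.height : Cardinal.{u}) + Algebra.trdeg (R ⧸ p) (S ⧸ q) =
      (p.height : Cardinal.{u}) + Algebra.trdeg R S := by
  intro n
  induction n with
  | zero =>
    intro R _ _ _ S _ _ _ _ s hs p _ hH q _ _
    have hs0 : Algebra.adjoin R {(0 : S)} = ⊤ := by
      rw [eq_top_iff, ← hs]
      apply Algebra.adjoin_mono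
      rintro _ ⟨i, _⟩
      exact i.elim0
    apply one_step_eq_loc R S 0 hs0 p q
    refine hH R[X] inferInstance (Polynomial.mapAlgHom (Algebra.ofId R S)) ?_ _ ?_
    · exact Polynomial.map_injective _ (FaithfulSMul.algebraMap_injective R S)
    · rw [Ideal.comap_comap]
      have : ((Polynomial.aeval (0 : S) : R[X] →ₐ[R] S) : R[X] →+* S).comp (algebraMap R R[X]) =
          algebraMap R S := by
        ext r; simp
      rw [this]
      exact (Ideal.LiesOver.over (P := q) (p := p)).symm
  | succ n ih =>
    intro R _ _ _ S _ _ _ _ s hs p _ hH q _ _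
    let R' : Subalgebra R S := Algebra.adjoin R (Set.range (s ∘ Fin.castSucc))
    have hfg : R'.FG := by
      have : (Set.range (s ∘ Fin.castSucc)) = ((Set.finite_range (s ∘ Fin.castSucc)).toFinset : Set S) := by
        simp
      show (Algebra.adjoin R (Set.range (s ∘ Fin.castSucc))).FG
      rw [this]
      exact Subalgebra.fg_adjoin_finset _
    have hft : Algebra.FiniteType R R' := ⟨(Subalgebra.fg_top R').2 hfg⟩
    haveI : IsNoetherianRing R' := Algebra.FiniteType.isNoetherianRing R R'
    have : FaithfulSMul R R' := by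
      rw [faithfulSMul_iff_algebraMap_injective]
      have h0 : Function.Injective (algebraMap R S) := FaithfulSMul.algebraMap_injective R S
      rw [IsScalarTower.algebraMap_eq R R' S, RingHom.coe_comp] at h0
      exact Function.Injective.of_comp h0
    have : FaithfulSMul R' S := by
      rw [faithfulSMul_iff_algebraMap_injective]
      exact Subtype.val_injective
    let t : Fin n → R' := fun i => ⟨s (Fin.castSucc i), Algebra.subset_adjoin ⟨i, rfl⟩⟩
    have ht : Algebra.adjoin R (Set.range t) = ⊤ := by
      have h1 := Algebra.adjoin_adjoin_coe_preimage (R := R) (s := Set.range (s ∘ Fin.castSucc))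
      have h2 : Set.range t = ((↑) : R' → S) ⁻¹' (Set.range (s ∘ Fin.castSucc)) := by
        ext ⟨x, hx⟩
        constructor
        · rintro ⟨i, hi⟩
          exact ⟨i, congrArg Subtype.val hi⟩
        · rintro ⟨i, hi⟩
          exact ⟨i, Subtype.ext hi⟩
      rw [h2]
      exact h1
    have hs' : Algebra.adjoin R' {s (Fin.last n)} = ⊤ := by
      have hrange : Set.range s = Set.range (s ∘ Fin.castSucc) ∪ {s (Fin.last n)} := by
        ext x
        constructor
        · rintro ⟨i, rfl⟩
          induction i using Fin.lastCases with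
          | last => exact Or.inr rfl
          | cast j => exact Or.inl ⟨j, rfl⟩
        · rintro (⟨j, rfl⟩ | h)
          · exact ⟨_, rfl⟩
          · exact ⟨Fin.last n, h.symm⟩
      have h3 := Algebra.adjoin_union_eq_adjoin_adjoin R (Set.range (s ∘ Fin.castSucc))
        {s (Fin.last n)}
      rw [← hrange, hs] at h3
      apply Subalgebra.restrictScalars_injective R
      rw [← h3, Subalgebra.restrictScalars_top]
    let p' : Ideal R' := q.under R'
    have : p'.LiesOver p := Ideal.LiesOver.tower_bot q p' p
    -- the hypothesis for `R ⊆ R'`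
    have hH' : H R p R' := by
      intro A' _ _ hA' ι hι Q' _ hQ'
      refine hH A' hA' ((Polynomial.mapAlgHom R'.val).comp ι) ?_ Q' hQ'
      exact (Polynomial.map_injective _ Subtype.val_injective).comp hι
    have h1 := ih R R' t ht p hH' p'
    -- the catenary hypothesis for the last step
    have hcat : CAlg.IsCatenary (Localization.AtPrime
        (q.comap ((Polynomial.aeval (s (Fin.last n)) : R'[X] →ₐ[R'] S) : R'[X] →+* S))) := by
      refine hH R'[X] (Algebra.FiniteType.trans hft inferInstance)
        (Polynomial.mapAlgHom R'.val) (Polynomial.map_injective _ Subtype.val_injective) _ ?_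
      rw [Ideal.comap_comap]
      have : ((Polynomial.aeval (s (Fin.last n)) : R'[X] →ₐ[R'] S) : R'[X] →+* S).comp
          (algebraMap R R'[X]) = algebraMap R S := by
        ext r
        simp
      rw [this]
      exact (Ideal.LiesOver.over (P := q) (p := p)).symm
    have h2 := one_step_eq_loc R' S (s (Fin.last n)) hs' p' q hcat
    exact tower_step_eq R R' S p p' q h1 h2


open IsLocalRing in
theorem S12126 (R : Type u) [CommRing R] [IsDomain R]
    [IsNoetherianRing R] [IsLocalRing R] (S : Type u) [CommRing S] [IsDomain S] [Algebra R S]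
    [FaithfulSMul R S] [Algebra.FiniteType R S] (q : Ideal S) [q.IsPrime]
    [q.LiesOver (IsLocalRing.maximalIdeal R)]
    (hcat : ∀ A' : Subalgebra R (Polynomial S), A'.FG →
      ∀ (m' : Ideal A') [m'.IsMaximal], m'.LiesOver (IsLocalRing.maximalIdeal R) →
        CAlg.IsCatenary (Localization.AtPrime m')) :
    (q.height : Cardinal.{u}) + Algebra.trdeg (R ⧸ IsLocalRing.maximalIdeal R) (S ⧸ q) =
      ((IsLocalRing.maximalIdeal R).height : Cardinal.{u}) + Algebra.trdeg R S := by
  have hH : H R (maximalIdeal R) S := by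
    intro A' _ _ hA' ι hι Q' _ hQ'
    let A'' : Subalgebra R S[X] := ι.range
    have hfg : A''.FG := by
      have h2 := hA'.out.map ι
      rwa [Algebra.map_top] at h2
    let e : A' ≃ₐ[R] A'' := AlgEquiv.ofInjective ι hι
    let Q'' : Ideal A'' := Q'.comap (e.symm : A'' →+* A')
    have : Q''.IsPrime := Ideal.comap_isPrime _ _
    obtain ⟨M'', hM''max, hQM⟩ := Ideal.exists_le_maximal Q'' (Ideal.IsPrime.ne_top')
    have hover : M''.LiesOver (maximalIdeal R) := by
      constructor
      have hle : maximalIdeal R ≤ M''.comap (algebraMap R A'') := by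
        rw [← hQ']
        intro r hr
        apply hQM
        show e.symm (algebraMap R A'' r) ∈ Q'
        rw [AlgEquiv.commutes]; exact hr
      exact ((maximalIdeal.isMaximal R).eq_of_le (Ideal.comap_ne_top _ hM''max.ne_top) hle)
    have hc := hcat A'' hfg M'' hover
    let M : Ideal A' := M''.comap (e : A' →+* A'')
    have : M.IsPrime := Ideal.comap_isPrime _ _
    have hQ'M : Q' ≤ M := by
      intro a ha
      show e a ∈ M''
      apply hQM
      show e.symm (e a) ∈ Q'
      rw [AlgEquiv.symm_apply_apply]; exact ha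
    apply catenary_localization_of_le Q' M hQ'M
    have hmap : M''.primeCompl.map (e.symm.toRingEquiv.toMonoidHom) = M.primeCompl := by
      ext x
      constructor
      · rintro ⟨a, ha, rfl⟩
        show e (e.symm a) ∉ M''
        rw [AlgEquiv.apply_symm_apply]; exact ha
      · intro hx
        exact ⟨e x, hx, by simp⟩
    exact isCatenary_of_ringEquiv
      (IsLocalization.ringEquivOfRingEquiv (Localization.AtPrime M'') (Localization.AtPrime M)
        e.symm.toRingEquiv hmap) hc
  obtain ⟨t, ht⟩ := (Algebra.FiniteType.out : (⊤ : Subalgebra R S).FG)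
  let e := t.equivFin
  refine dim_eq_aux_loc t.card R S (fun i => (e.symm i : S)) ?_ (maximalIdeal R) hH q
  rw [← ht]
  congr 1
  ext x
  constructor
  · rintro ⟨i, rfl⟩
    exact (e.symm i).2
  · intro hx
    exact ⟨e ⟨x, hx⟩, by simp⟩

end Groth.Agent.Lib.lead.DimFormulaLoc

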