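import Mathlib
import Groth.Agent.Lib.lead.DimFormula

set_option autoImplicit false
universe u
open Cardinal

namespace Groth.Agent.Lib.lead.NonDomainDim

/-- heights can only go up when pulling back along a surjection -/
theorem height_le_height_comap_of_surjective {A B : Type*} [CommRing A] [CommRing B] (φ : A →+* B)
    (hφ : Function.Surjective φ) (q : Ideal B) [q.IsPrime] :
    q.height ≤ (q.comap φ).height := by
  rw [show q.height = Order.height (⟨q, inferInstance⟩ : PrimeSpectrum B) from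
      PrimeSpectrum.height_eq_orderHeight ⟨q, inferInstance⟩,
    show (q.comap φ).height = Order.height (⟨q.comap φ, inferInstance⟩ : PrimeSpectrum A) from
      PrimeSpectrum.height_eq_orderHeight ⟨q.comap φ, inferInstance⟩]
  have hsm : StrictMono (PrimeSpectrum.comap φ) := by
    intro a b hab
    rw [lt_iff_le_not_ge] at hab ⊢
    refine ⟨Ideal.comap_mono hab.1, fun h => hab.2 ?_⟩
    exact (Ideal.comap_le_comap_iff_of_surjective φ hφ _ _).1 h
  exact Order.height_le_height_apply_of_strictMono _ hsm ⟨q, inferInstance⟩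

theorem height_map_mk_le {A : Type*} [CommRing A] (q p : Ideal A) [p.IsPrime] (hqp : q ≤ p) :
    (p.map (Ideal.Quotient.mk q)).height ≤ p.height := by
  haveI : (p.map (Ideal.Quotient.mk q)).IsPrime :=
    Ideal.map_isPrime_of_surjective Ideal.Quotient.mk_surjective (by rwa [Ideal.mk_ker])
  have h := height_le_height_comap_of_surjective (Ideal.Quotient.mk q) Ideal.Quotient.mk_surjective
    (p.map (Ideal.Quotient.mk q))
  have h2 : (p.map (Ideal.Quotient.mk q)).comap (Ideal.Quotient.mk q) = p := by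
    rw [Ideal.comap_map_of_surjective _ Ideal.Quotient.mk_surjective, ← RingHom.ker_eq_comap_bot,
      Ideal.mk_ker]
    exact sup_eq_left.2 hqp
  rwa [h2] at h

/-- there is a minimal prime below `P` computing the height of `P` -/
theorem exists_minimalPrime_height_le {B : Type*} [CommRing B] (P : Ideal B) [P.IsPrime]
    [P.FiniteHeight] :
    ∃ Q ∈ minimalPrimes B, Q ≤ P ∧ P.height ≤ (P.map (Ideal.Quotient.mk Q)).height := by
  obtain ⟨l, hlast, hlen⟩ := P.exists_ltSeries_length_eq_height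
  obtain ⟨Q, hQmin, hQle⟩ := Ideal.exists_minimalPrimes_le (bot_le : (⊥ : Ideal B) ≤ l.head.asIdeal)
  have hQi : ∀ i, Q ≤ (l i).asIdeal := fun i =>
    le_trans hQle (l.head_le i)
  have hQP : Q ≤ P := by
    have := hQi (Fin.last _)
    have h2 : l (Fin.last _) = ⟨P, inferInstance⟩ := hlast
    rw [h2] at this
    exact this
  refine ⟨Q, hQmin, hQP, ?_⟩
  haveI : Q.IsPrime := hQmin.1.1
  let e := Ideal.primeSpectrumQuotientOrderIsoZeroLocus Q
  let l' : LTSeries (PrimeSpectrum.zeroLocus (R := B) Q) :=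
    LTSeries.mk l.length (fun i => ⟨l i, hQi i⟩) (fun i j hij => l.strictMono hij)
  let z : PrimeSpectrum.zeroLocus (R := B) Q := ⟨⟨P, inferInstance⟩, hQP⟩
  have hl' : l'.last ≤ z := by
    show l (Fin.last _) ≤ ⟨P, inferInstance⟩
    exact le_of_eq hlast
  have h1 := Order.length_le_height (p := l') (x := z) hl'
  have h2 : Order.height (e.symm z) = Order.height z := Order.height_orderIso e.symm z
  have hPbar : (P.map (Ideal.Quotient.mk Q)).IsPrime :=
    Ideal.map_isPrime_of_surjective Ideal.Quotient.mk_surjective (by rwa [Ideal.mk_ker])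
  have h3 : e.symm z = ⟨P.map (Ideal.Quotient.mk Q), hPbar⟩ := rfl
  have h4 : (P.map (Ideal.Quotient.mk Q)).height =
      Order.height (⟨P.map (Ideal.Quotient.mk Q), hPbar⟩ : PrimeSpectrum (B ⧸ Q)) :=
    PrimeSpectrum.height_eq_orderHeight ⟨_, hPbar⟩
  rw [h4, ← h3, h2, ← hlen]
  exact h1


theorem trdeg_le_of_ringHom {R R' S S' : Type u} [CommRing R] [CommRing R'] [CommRing S]
    [CommRing S'] [Nontrivial R'] [Algebra R S] [Algebra R' S'] (f : R →+* R') (g : S →+* S')
    (hf : Function.Surjective f) (hg : Function.Injective g)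
    (h : (algebraMap R' S').comp f = g.comp (algebraMap R S)) :
    Algebra.trdeg R S ≤ Algebra.trdeg R' S' := by
  rw [Algebra.trdeg]
  apply ciSup_le'
  rintro ⟨s, hs⟩
  have := AlgebraicIndependent.ringHom_of_comp_eq f g hs hf hg h
  exact this.cardinalMk_le_trdeg

theorem trdeg_eq_of_ringEquiv {R R' S S' : Type u} [CommRing R] [CommRing R'] [CommRing S]
    [CommRing S'] [Nontrivial R] [Nontrivial R'] [Algebra R S] [Algebra R' S'] (e₁ : R ≃+* R')
    (e₂ : S ≃+* S') (h : ∀ r, e₂ (algebraMap R S r) = algebraMap R' S' (e₁ r)) :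
    Algebra.trdeg R S = Algebra.trdeg R' S' := by
  apply le_antisymm
  · refine trdeg_le_of_ringHom (e₁ : R →+* R') (e₂ : S →+* S') e₁.surjective e₂.injective ?_
    ext r
    exact (h r).symm
  · refine trdeg_le_of_ringHom (e₁.symm : R' →+* R) (e₂.symm : S' →+* S) e₁.symm.surjective
      e₂.symm.injective ?_
    ext r
    show algebraMap R S (e₁.symm r) = e₂.symm (algebraMap R' S' r)
    apply e₂.injective
    rw [h, RingEquiv.apply_symm_apply, RingEquiv.apply_symm_apply]

section DoubleQuot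

variable {A B : Type u} [CommRing A] [CommRing B] [Algebra A B]
  (q p : Ideal A) (Q P : Ideal B) [Q.LiesOver q] [P.LiesOver p] (hqp : q ≤ p) (hQP : Q ≤ P)

include hqp hQP in
theorem liesOver_map_mk :
    (P.map (Ideal.Quotient.mk Q)).LiesOver (p.map (Ideal.Quotient.mk q)) := by
  constructor
  ext x
  obtain ⟨a, rfl⟩ := Ideal.Quotient.mk_surjective x
  rw [Ideal.mem_quotient_iff_mem hqp, Ideal.under, Ideal.mem_comap,
    Ideal.Quotient.algebraMap_mk_of_liesOver, Ideal.mem_quotient_iff_mem hQP,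
    P.over_def p, Ideal.under, Ideal.mem_comap]

theorem trdeg_doubleQuot [p.IsPrime] [(P.map (Ideal.Quotient.mk Q)).LiesOver (p.map (Ideal.Quotient.mk q))]
    (hqp : q ≤ p) (hQP : Q ≤ P) :
    Algebra.trdeg ((A ⧸ q) ⧸ p.map (Ideal.Quotient.mk q)) ((B ⧸ Q) ⧸ P.map (Ideal.Quotient.mk Q)) =
      Algebra.trdeg (A ⧸ p) (B ⧸ P) := by
  haveI : Nontrivial (A ⧸ p) := Ideal.Quotient.nontrivial_iff.2 (Ideal.IsPrime.ne_top inferInstance)
  haveI : Nontrivial ((A ⧸ q) ⧸ p.map (Ideal.Quotient.mk q)) :=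
    (DoubleQuot.quotQuotEquivQuotOfLE hqp).surjective.nontrivial
  refine trdeg_eq_of_ringEquiv (DoubleQuot.quotQuotEquivQuotOfLE hqp)
    (DoubleQuot.quotQuotEquivQuotOfLE hQP) ?_
  intro r
  obtain ⟨r', rfl⟩ := Ideal.Quotient.mk_surjective r
  obtain ⟨a, rfl⟩ := Ideal.Quotient.mk_surjective r'
  rfl

end DoubleQuot


theorem finiteType_quotient {A B : Type u} [CommRing A] [CommRing B] [Algebra A B]
    [Algebra.FiniteType A B] (p : Ideal A) (P : Ideal B) [P.LiesOver p] :
    Algebra.FiniteType (A ⧸ p) (B ⧸ P) := by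
  haveI : Algebra.FiniteType A (B ⧸ P) :=
    Algebra.FiniteType.of_surjective (Ideal.Quotient.mkₐ A P) Ideal.Quotient.mk_surjective
  exact Algebra.FiniteType.of_restrictScalars_finiteType A (A ⧸ p) (B ⧸ P)

/-- The dimension inequality for a finite type algebra over a Noetherian ring (no domain
hypotheses): `ht P + trdeg κ(P)/κ(p) ≤ ht p + E` where `E` bounds the transcendence degrees of
`B/Q` over `A/(Q ∩ A)` for the minimal primes `Q ≤ P`. -/
theorem height_add_le {A B : Type u} [CommRing A] [CommRing B] [Algebra A B] [IsNoetherianRing A]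
    [Algebra.FiniteType A B] (p : Ideal A) [p.IsPrime] (P : Ideal B) [P.IsPrime] [P.LiesOver p]
    (n E : ℕ) (hn : Algebra.trdeg (A ⧸ p) (B ⧸ P) = n)
    (hE : ∀ Q ∈ minimalPrimes B, Q ≤ P → Algebra.trdeg (A ⧸ Q.under A) (B ⧸ Q) ≤ E) :
    P.height + n ≤ p.height + E := by
  haveI : IsNoetherianRing B := Algebra.FiniteType.isNoetherianRing A B
  obtain ⟨Q, hQmin, hQP, hht⟩ := exists_minimalPrime_height_le P
  haveI : Q.IsPrime := hQmin.1.1
  set q := Q.under A with hq
  have hqp : q ≤ p := by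
    rw [P.over_def p]
    exact Ideal.comap_mono hQP
  haveI : Algebra.FiniteType (A ⧸ q) (B ⧸ Q) := finiteType_quotient q Q
  have hpbar : (p.map (Ideal.Quotient.mk q)).IsPrime :=
    Ideal.map_isPrime_of_surjective Ideal.Quotient.mk_surjective (by rwa [Ideal.mk_ker])
  have hPbar : (P.map (Ideal.Quotient.mk Q)).IsPrime :=
    Ideal.map_isPrime_of_surjective Ideal.Quotient.mk_surjective (by rwa [Ideal.mk_ker])
  haveI := liesOver_map_mk q p Q P hqp hQP
  have main := Groth.Agent.Lib.lead.DimFormula.dim_ineq (A ⧸ q) (B ⧸ Q)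
    (p.map (Ideal.Quotient.mk q)) (P.map (Ideal.Quotient.mk Q))
  rw [trdeg_doubleQuot q p Q P hqp hQP, hn] at main
  have hE' := hE Q hQmin hQP
  have h1 := height_map_mk_le q p hqp
  -- pass to natural numbers
  obtain ⟨a, ha⟩ := ENat.ne_top_iff_exists.mp (Ideal.height_ne_top (I := P) (Ideal.IsPrime.ne_top inferInstance))
  obtain ⟨a', ha'⟩ := ENat.ne_top_iff_exists.mp
    (Ideal.height_ne_top (I := P.map (Ideal.Quotient.mk Q)) (Ideal.IsPrime.ne_top hPbar))
  obtain ⟨b, hb⟩ := ENat.ne_top_iff_exists.mp (Ideal.height_ne_top (I := p) (Ideal.IsPrime.ne_top inferInstance))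
  obtain ⟨b', hb'⟩ := ENat.ne_top_iff_exists.mp
    (Ideal.height_ne_top (I := p.map (Ideal.Quotient.mk q)) (Ideal.IsPrime.ne_top hpbar))
  rw [← ha'] at main hht
  rw [← hb'] at main h1
  rw [← ha] at hht ⊢
  rw [← hb] at h1 ⊢
  have h2 : ((a' : ℕ∞) : Cardinal.{u}) + (n : Cardinal.{u}) ≤ ((b' : ℕ∞) : Cardinal.{u}) + (E : Cardinal.{u}) :=
    le_trans main (add_le_add_right hE' _)
  have h3 : a' + n ≤ b' + E := by
    have : ((a' + n : ℕ) : Cardinal.{u}) ≤ ((b' + E : ℕ) : Cardinal.{u}) := by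
      simpa using h2
    exact_mod_cast this
  have h4 : a ≤ a' := by exact_mod_cast hht
  have h5 : b' ≤ b := by exact_mod_cast h1
  have : a + n ≤ b + E := by omega
  exact_mod_cast this

end Groth.Agent.Lib.lead.NonDomainDim
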