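import Mathlib
import Groth.Agent.Lib.Helper4.ChowMain

set_option linter.style.haveILetI false
set_option autoImplicit false
universe u
open CategoryTheory CategoryTheory.Limits AlgebraicGeometry Opposite TopologicalSpace

namespace Groth.Agent.Lib.lead.ChowQ

open Groth.Agent.Lib.Helper4.ChowStep Groth.Agent.Lib.Helper4.ChowMain

variable {X : Scheme.{u}}

/-- the open complement of the other irreducible components -/
def N (Z : Set X) : Set X := (⋃₀ (irreducibleComponents X \ {Z}))ᶜ

variable (finC : (irreducibleComponents X).Finite)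

include finC

theorem isOpen_N (Z : Set X) : IsOpen (N Z) := by
  rw [N, isOpen_compl_iff, Set.sUnion_eq_biUnion]
  exact finC.sdiff.isClosed_biUnion fun W hW ↦ isClosed_of_mem_irreducibleComponents W hW.1

theorem N_subset (Z : Set X) (hZ : Z ∈ irreducibleComponents X) : N Z ⊆ Z := by
  have h := closure_sUnion_irreducibleComponents_sdiff_singleton finC Z hZ
  intro y hy
  rw [← h]
  exact subset_closure hy

theorem N_nonempty (Z : Set X) (hZ : Z ∈ irreducibleComponents X) : (N Z).Nonempty := by
  by_contra h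
  rw [Set.not_nonempty_iff_eq_empty] at h
  have h1 := closure_sUnion_irreducibleComponents_sdiff_singleton finC Z hZ
  rw [show (⋃₀ (irreducibleComponents X \ {Z}))ᶜ = N Z from rfl, h, closure_empty] at h1
  exact hZ.1.nonempty.ne_empty h1.symm

omit finC in
theorem N_disjoint (Z Z' : Set X) (hZ : Z ∈ irreducibleComponents X) (hne : Z ≠ Z') :
    Disjoint Z (N Z') := by
  rw [Set.disjoint_left]
  intro x hx hx'
  exact hx' (Set.mem_sUnion.mpr ⟨Z, ⟨hZ, hne⟩, hx⟩)

/-- every point has an affine open neighbourhood meeting all irreducible components -/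
theorem exists_affine_meeting (x : X) : ∃ V : X.Opens, IsAffineOpen V ∧ x ∈ V ∧
    ∀ Z ∈ irreducibleComponents X, (Z ∩ (V : Set X)).Nonempty := by
  classical
  obtain ⟨V₀, hV₀, hxV₀, -⟩ :=
    Opens.isBasis_iff_nbhd.1 X.isBasis_affineOpens (U := ⊤) (x := x) trivial
  -- choose affine opens in each N Z
  have hD : ∀ Z : Set X, ∃ D : X.Opens, Z ∈ irreducibleComponents X →
      IsAffineOpen D ∧ (D : Set X) ⊆ N Z ∧ (D : Set X).Nonempty := by
    intro Z
    by_cases hZ : Z ∈ irreducibleComponents X
    · obtain ⟨y, hy⟩ := N_nonempty finC Z hZ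
      obtain ⟨D, hD, hyD, hDN⟩ :=
        Opens.isBasis_iff_nbhd.1 X.isBasis_affineOpens (U := ⟨N Z, isOpen_N finC Z⟩) (x := y) hy
      exact ⟨D, fun _ => ⟨hD, hDN, ⟨y, hyD⟩⟩⟩
    · exact ⟨⊥, fun h => absurd h hZ⟩
  choose D hD using hD
  let C₂ : Set (Set X) := {Z | Z ∈ irreducibleComponents X ∧ Z ∩ (V₀ : Set X) = ∅}
  have hC₂fin : C₂.Finite := finC.subset fun Z hZ => hZ.1
  have hdis : C₂.Pairwise (Function.onFun Disjoint D) := by
    intro Z hZ Z' hZ' hne
    show Disjoint (D Z) (D Z')
    rw [← TopologicalSpace.Opens.coe_disjoint]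
    exact ((N_disjoint Z Z' hZ.1 hne).mono_left
      ((hD Z hZ.1).2.1.trans (N_subset finC Z hZ.1))).mono_right (hD Z' hZ'.1).2.1
  have haff : IsAffineOpen (⨆ Z ∈ C₂, D Z) :=
    IsAffineOpen.biSup_of_disjoint hC₂fin (fun Z hZ => (hD Z hZ.1).1) hdis
  have hdis0 : Disjoint V₀ (⨆ Z ∈ C₂, D Z) := by
    rw [← TopologicalSpace.Opens.coe_disjoint, Set.disjoint_left]
    intro y hy hy'
    simp only [TopologicalSpace.Opens.coe_iSup, Set.mem_iUnion] at hy'
    obtain ⟨Z, hZ, hyZ⟩ := hy'
    have : y ∈ Z ∩ (V₀ : Set X) := ⟨N_subset finC Z hZ.1 ((hD Z hZ.1).2.1 hyZ), hy⟩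
    rw [hZ.2] at this
    exact this
  refine ⟨V₀ ⊔ ⨆ Z ∈ C₂, D Z, hV₀.sup_of_disjoint haff hdis0, Or.inl hxV₀, ?_⟩
  intro Z hZ
  by_cases h : Z ∩ (V₀ : Set X) = ∅
  · obtain ⟨y, hy⟩ := (hD Z hZ).2.2
    refine ⟨y, N_subset finC Z hZ ((hD Z hZ).2.1 hy), Or.inr ?_⟩
    simp only [TopologicalSpace.Opens.coe_iSup, Set.mem_iUnion]
    exact ⟨Z, ⟨hZ, h⟩, hy⟩
  · obtain ⟨y, hy⟩ := Set.nonempty_iff_ne_empty.mpr h
    exact ⟨y, hy.1, Or.inl hy.2⟩

omit finC in
/-- an open meeting all irreducible components is dense -/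
theorem dense_of_meeting (U : Set X) (hU : IsOpen U)
    (h : ∀ Z ∈ irreducibleComponents X, (Z ∩ U).Nonempty) : Dense U := by
  rw [dense_iff_inter_open]
  intro O hO ⟨o, ho⟩
  have hZ := irreducibleComponent_mem_irreducibleComponents o
  have h1 : (irreducibleComponent o ∩ O).Nonempty := ⟨o, mem_irreducibleComponent, ho⟩
  obtain ⟨y, hy, hyO, hyU⟩ := hZ.1.2 O U hO hU h1 (h _ hZ)
  exact ⟨y, hyO, hyU⟩

/-- a finite affine open cover all of whose members contain a common dense (compact) open -/
theorem exists_cover [CompactSpace X] [QuasiSeparatedSpace X] :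
    ∃ (t : Finset X.Opens) (U : X.Opens),
    (∀ W ∈ t, IsAffineOpen W ∧ U ≤ W) ∧ (∀ x : X, ∃ W ∈ t, x ∈ W) ∧ Dense (U : Set X) ∧
      IsCompact (U : Set X) := by
  classical
  choose V hVaff hxV hVmeet using exists_affine_meeting (X := X) finC
  obtain ⟨t₀, ht₀⟩ := CompactSpace.elim_nhds_subcover (fun x => (V x : Set X))
    (fun x => (V x).isOpen.mem_nhds (hxV x))
  refine ⟨t₀.image V, t₀.inf V, ?_, ?_, ?_, ?_⟩
  · intro W hW
    obtain ⟨x, hx, rfl⟩ := Finset.mem_image.mp hW
    exact ⟨hVaff x, Finset.inf_le hx⟩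
  · intro x
    have : x ∈ ⋃ y ∈ t₀, (V y : Set X) := by rw [ht₀]; trivial
    simp only [Set.mem_iUnion] at this
    obtain ⟨y, hy, hxy⟩ := this
    exact ⟨V y, Finset.mem_image_of_mem V hy, hxy⟩
  · refine dense_of_meeting _ (t₀.inf V).isOpen ?_
    intro Z hZ
    have h := isIrreducible_iff_sInter.mp hZ.1 (t₀.image fun x => (V x : Set X))
      (by
        intro u hu
        obtain ⟨x, -, rfl⟩ := Finset.mem_image.mp hu
        exact (V x).isOpen)
      (by
        intro u hu
        obtain ⟨x, -, rfl⟩ := Finset.mem_image.mp hu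
        exact hVmeet x Z hZ)
    obtain ⟨y, hyZ, hy⟩ := h
    refine ⟨y, hyZ, ?_⟩
    rw [TopologicalSpace.Opens.coe_finset_inf, Finset.inf_eq_iInf]
    simp only [Set.iInf_eq_iInter, Set.mem_iInter, Function.comp_apply]
    intro x hx
    exact Set.mem_sInter.mp hy (V x : Set X)
      (Finset.mem_coe.mpr (Finset.mem_image.mpr ⟨x, hx, rfl⟩))
  · -- compactness of the finite intersection
    have hcpt : ∀ s : Finset X, IsCompact ((s.inf V : X.Opens) : Set X) := by
      intro s
      induction s using Finset.induction_on with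
      | empty =>
        rw [Finset.inf_empty]
        exact isCompact_univ
      | insert a s ha ih =>
        rw [Finset.inf_insert, TopologicalSpace.Opens.coe_inf]
        exact QuasiSeparatedSpace.inter_isCompact _ _ (V a).isOpen (hVaff a).isCompact
          (s.inf V).isOpen ih
    exact hcpt t₀

omit finC in
/-- **Chow's lemma** for a scheme with finitely many irreducible components over a
quasi-separated base. -/
theorem chow_of_finite_irreducibleComponents {X S : Scheme.{u}} (f : X ⟶ S)
    [QuasiSeparatedSpace S] [CompactSpace X]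
    [IsSeparated f] [LocallyOfFiniteType f]
    (finC : (irreducibleComponents X).Finite) :
    ∃ (n : ℕ) (X' : Scheme.{u}) (π : X' ⟶ X) (j : X' ⟶ CohB1.ProjSpaceOver n S),
      IsImmersion j ∧ j ≫ CohB1.ProjSpaceOver.toBase n S = π ≫ f ∧ IsProper π ∧ Surjective π ∧
      ∃ U : X.Opens, Dense (U : Set X) ∧ IsIso (π ∣_ U) := by
  haveI : QuasiSeparatedSpace X := quasiSeparatedSpace_of_quasiSeparated f
  obtain ⟨t, U, ht, hcov, hdense, hUc⟩ := exists_cover (X := X) finC
  -- the piece over the whole of X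
  have hmain : HasPiece f U ⊤ := by
    rcases isEmpty_or_nonempty X with hX | hX
    · haveI : IsAffine X := inferInstance
      exact base f (isAffineOpen_top X) le_top
    · obtain ⟨x⟩ := hX
      have htne : t.Nonempty := by
        obtain ⟨W, hW, -⟩ := hcov x
        exact ⟨W, hW⟩
      haveI : CompactSpace (U : Scheme.{u}) := isCompact_iff_compactSpace.mp hUc
      have key : ∀ s : Finset X.Opens, s.Nonempty → s ⊆ t → HasPiece f U (s.sup id) := by
        intro s hs
        induction hs using Finset.Nonempty.cons_induction with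
        | singleton a =>
          intro hst
          rw [Finset.sup_singleton]
          exact base f (ht a (hst (Finset.mem_singleton_self a))).1
            (ht a (hst (Finset.mem_singleton_self a))).2
        | cons a s ha hs ih =>
          intro hst
          rw [Finset.sup_cons]
          have ha' := ht a (hst (Finset.mem_cons_self a s))
          exact step f (base f ha'.1 ha'.2)
            (ih fun b hb => hst (Finset.mem_cons.mpr (Or.inr hb)))
      have htop : t.sup id = ⊤ := by
        rw [eq_top_iff]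
        intro y _
        obtain ⟨W, hW, hyW⟩ := hcov y
        exact (Finset.le_sup (f := id) hW) hyW
      rw [← htop]
      exact key t htne subset_rfl
  obtain ⟨n, Y, π, j, himm, hcomm, -, hprop, hiso⟩ := hmain
  have hπ : IsProper π :=
    IsZariskiLocalAtTarget.of_iSup_eq_top (P := @IsProper) (fun _ : Unit => (⊤ : X.Opens))
      (by simp) (fun _ => hprop)
  refine ⟨n, Y, π, j, himm, hcomm, hπ, ?_, U, hdense, hiso⟩
  -- surjectivity
  have hc : IsClosed (Set.range π) := π.isClosedMap.isClosed_range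
  have hsub : (U : Set X) ⊆ Set.range π := by
    intro y hy
    have hs : Function.Surjective (π ∣_ U) := (inferInstance : Surjective (π ∣_ U)).surj
    obtain ⟨z, hz⟩ := hs ⟨y, hy⟩
    refine ⟨(π ⁻¹ᵁ U).ι z, ?_⟩
    have := congrArg (fun φ : _ ⟶ X => φ z) (morphismRestrict_ι π U)
    simp only [Scheme.Hom.comp_apply] at this
    rw [← this, hz]
    rfl
  refine ⟨fun y => ?_⟩
  have : y ∈ closure (U : Set X) := hdense y
  exact (hc.closure_subset_iff.mpr hsub) this

end Groth.Agent.Lib.lead.ChowQ
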