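import Mathlib
import Groth.Agent.S9347
import Groth.Agent.Lib.Helper7.AffinePoints

set_option autoImplicit false
universe u
open CategoryTheory CategoryTheory.Limits AlgebraicGeometry

namespace Groth.Agent.Lib.lead.GenFiniteSep

open Groth.Agent.Lib.Helper7

/-- `primeIdealOf` is compatible with `appLE`. -/
theorem primeIdealOf_map {X Y : Scheme.{u}} (f : X ⟶ Y) {V : Y.Opens} (hV : IsAffineOpen V)
    {U : X.Opens} (hU : IsAffineOpen U) (hUV : U ≤ f ⁻¹ᵁ V) (x : U) :
    (hV.primeIdealOf ⟨f x.1, hUV x.2⟩).asIdeal =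
      (hU.primeIdealOf x).asIdeal.comap (f.appLE V U hUV).hom := by
  ext g
  rw [Ideal.mem_comap, AffPts.mem_primeIdealOf_iff hV ⟨f x.1, hUV x.2⟩ g,
    AffPts.mem_primeIdealOf_iff hU x, Scheme.Hom.appLE, CommRingCat.hom_comp, RingHom.comp_apply,
    Scheme.basicOpen_res, ← Scheme.preimage_basicOpen]
  constructor
  · intro h h'
    exact h h'.2
  · intro h h'
    exact h ⟨x.2, h'⟩

/-- An integral morphism has no nontrivial specializations inside its fibres. -/
theorem eq_of_specializes_of_isIntegralHom {N Y : Scheme.{u}} (ν : N ⟶ Y) [IsIntegralHom ν]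
    {a b : N} (hab : a ⤳ b) (h : ν a = ν b) : a = b := by
  obtain ⟨_, ⟨V, hV : IsAffineOpen V, rfl⟩, hbV, -⟩ :=
    Y.isBasis_affineOpens.exists_subset_of_mem_open (Set.mem_univ (ν b)) isOpen_univ
  have hU : IsAffineOpen (ν ⁻¹ᵁ V) := hV.preimage ν
  have hbU : b ∈ ν ⁻¹ᵁ V := hbV
  have haU : a ∈ ν ⁻¹ᵁ V := hab.mem_open (ν ⁻¹ᵁ V).isOpen hbU
  have hint : (ν.appLE V (ν ⁻¹ᵁ V) le_rfl).hom.IsIntegral := by
    have := ν.isIntegral_app V hV
    rwa [Scheme.Hom.app_eq_appLE] at this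
  have h1 := primeIdealOf_map ν hV hU le_rfl ⟨a, haU⟩
  have h2 := primeIdealOf_map ν hV hU le_rfl ⟨b, hbU⟩
  have hle : hU.primeIdealOf ⟨a, haU⟩ ≤ hU.primeIdealOf ⟨b, hbU⟩ :=
    (AffPts.primeIdealOf_le_iff hU ⟨a, haU⟩ ⟨b, hbU⟩).2 hab
  have hcomap : (hU.primeIdealOf ⟨a, haU⟩).asIdeal.comap (ν.appLE V (ν ⁻¹ᵁ V) le_rfl).hom =
      (hU.primeIdealOf ⟨b, hbU⟩).asIdeal.comap (ν.appLE V (ν ⁻¹ᵁ V) le_rfl).hom := by
    rw [← h1, ← h2]
    congr 2
    exact Subtype.ext h
  by_contra hne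
  have hlt : hU.primeIdealOf ⟨a, haU⟩ < hU.primeIdealOf ⟨b, hbU⟩ := by
    refine lt_of_le_of_ne hle ?_
    intro heq
    exact hne (congrArg Subtype.val (AffPts.primeIdealOf_injective hU heq))
  algebraize [(ν.appLE V (ν ⁻¹ᵁ V) le_rfl).hom]
  haveI : Algebra.IsIntegral Γ(Y, V) Γ(N, ν ⁻¹ᵁ V) := ⟨hint⟩
  haveI := (hU.primeIdealOf ⟨a, haU⟩).isPrime
  have hlt' : (hU.primeIdealOf ⟨a, haU⟩).asIdeal < (hU.primeIdealOf ⟨b, hbU⟩).asIdeal := hlt
  have := Ideal.IsIntegral.comap_lt_comap (R := Γ(Y, V)) hlt'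
  rw [RingHom.algebraMap_toAlgebra, hcomap] at this
  exact lt_irrefl _ this

/-- Restricting further a morphism restriction satisfying a property stable under restriction. -/
theorem morphismRestrict_of_le (P : MorphismProperty Scheme.{u}) [P.RespectsIso]
    (hP : ∀ {X Y : Scheme.{u}} (g : X ⟶ Y) (V : Y.Opens), P g → P (g ∣_ V))
    {X Y : Scheme.{u}} (f : X ⟶ Y) {U W : Y.Opens} (hWU : W ≤ U) (h : P (f ∣_ U)) :
    P (f ∣_ W) := by
  have h1 : P ((f ∣_ U) ∣_ (U.ι ⁻¹ᵁ W)) := hP _ _ h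
  have e1 := morphismRestrictRestrict f U (U.ι ⁻¹ᵁ W)
  have heq : U.ι ''ᵁ (U.ι ⁻¹ᵁ W) = W := by
    rw [Scheme.Hom.image_preimage_eq_opensRange_inf, Scheme.Opens.opensRange_ι]
    exact inf_eq_right.2 hWU
  have e2 := morphismRestrictEq f heq
  exact (P.arrow_mk_iso_iff (e1 ≪≫ e2)).1 h1

theorem isIso_morphismRestrict_of_le {X Y : Scheme.{u}} (f : X ⟶ Y) {U W : Y.Opens}
    (hWU : W ≤ U) (h : IsIso (f ∣_ U)) : IsIso (f ∣_ W) :=
  morphismRestrict_of_le (MorphismProperty.isomorphisms Scheme.{u})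
    (fun g V (hg : IsIso g) => (inferInstance : IsIso (g ∣_ V))) f hWU h

theorem isFinite_morphismRestrict_of_le {X Y : Scheme.{u}} (f : X ⟶ Y) {U W : Y.Opens}
    (hWU : W ≤ U) (h : IsFinite (f ∣_ U)) : IsFinite (f ∣_ W) :=
  haveI : MorphismProperty.RespectsIso @IsFinite.{u} :=
    MorphismProperty.IsStableUnderBaseChange.respectsIso
  morphismRestrict_of_le @IsFinite
    (fun g V (hg : IsFinite g) => (inferInstance : IsFinite (g ∣_ V))) f hWU h

/-- **Generic finiteness, separated case**: a separated morphism of finite type which is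
quasi-finite at all points over a maximal point `η` is finite over a neighbourhood of `η`. -/
theorem main {X Y : Scheme.{u}} (f : X ⟶ Y) [LocallyOfFiniteType f] [IsSeparated f]
    [QuasiCompact f] (η : Y) (hη : ∀ y : Y, y ⤳ η → y = η)
    (hq : ∀ x : X, f x = η → f.QuasiFiniteAt x) :
    ∃ V : Y.Opens, η ∈ V ∧ IsFinite (f ∣_ V) := by
  obtain ⟨U, hU, e⟩ := f.exists_isIso_morphismRestrict_toNormalization
  have hfac : f.toNormalization ≫ f.fromNormalization = f := f.toNormalization_fromNormalization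
  have hclosed : IsClosed (f.fromNormalization '' ((U : Set f.normalization)ᶜ)) :=
    f.fromNormalization.isClosedMap _ U.isOpen.isClosed_compl
  let V : Y.Opens := ⟨(f.fromNormalization '' ((U : Set f.normalization)ᶜ))ᶜ, hclosed.isOpen_compl⟩
  have hηV : η ∈ V := by
    rintro ⟨c, hc, hcη⟩
    have hcl : c ∈ closure (Set.range f.toNormalization) := by
      rw [f.toNormalization.denseRange.closure_eq]; trivial
    obtain ⟨x, hx⟩ :=
      Groth.Agent.S9347.exists_specializes_of_mem_closure_range f.toNormalization c hcl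
    have hfx' : f.fromNormalization (f.toNormalization x) = f x := by
      rw [← Scheme.Hom.comp_apply, hfac]
    have hfx : f x = η := by
      apply hη
      rw [← hcη, ← hfx']
      exact hx.map f.fromNormalization.continuous
    have hxU : f.toNormalization x ∈ U := by
      have : x ∈ (f.toNormalization ⁻¹ᵁ U).1 := by rw [e]; exact hq x hfx
      exact this
    have heq := eq_of_specializes_of_isIntegralHom f.fromNormalization hx
      (by rw [hcη, hfx', hfx])
    exact hc (heq ▸ hxU)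
  refine ⟨V, hηV, ?_⟩
  have hVU : f.fromNormalization ⁻¹ᵁ V ≤ U := by
    intro n hn
    by_contra hnU
    exact hn ⟨n, hnU, rfl⟩
  have hiso : IsIso (f.toNormalization ∣_ (f.fromNormalization ⁻¹ᵁ V)) :=
    isIso_morphismRestrict_of_le f.toNormalization hVU hU
  have h1 : IsIntegralHom ((f.toNormalization ≫ f.fromNormalization) ∣_ V) := by
    rw [morphismRestrict_comp]
    have h2 : IsIntegralHom (f.toNormalization ∣_ (f.fromNormalization ⁻¹ᵁ V)) := inferInstance
    have h3 : IsIntegralHom (f.fromNormalization ∣_ V) := inferInstance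
    exact MorphismProperty.comp_mem @IsIntegralHom _ _ h2 h3
  rw [hfac] at h1
  exact (IsFinite.iff_isIntegralHom_and_locallyOfFiniteType _).2 ⟨h1, inferInstance⟩

end Groth.Agent.Lib.lead.GenFiniteSep
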