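import Mathlib
import Groth.Agent.Lib.lead.GenFiniteSep

set_option autoImplicit false
universe u
open CategoryTheory CategoryTheory.Limits AlgebraicGeometry Topology

namespace Groth.Agent.Lib.lead.GenFiniteCore

open Groth.Agent.Lib.Helper7

/-- For a quasi-compact morphism, points in the closure of the image of a closed set are
specializations of points of the image. -/
theorem exists_specializes_of_mem_closure_image {X Y : Scheme.{u}} (f : X ⟶ Y) [QuasiCompact f]
    (C : Set X) (hC : IsClosed C) (y : Y) (hy : y ∈ closure (f '' C)) :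
    ∃ c ∈ C, f c ⤳ y := by
  let I := Scheme.IdealSheafData.vanishingIdeal (X := X) ⟨C, hC⟩
  have hrange : Set.range I.subschemeι = C := by
    rw [I.range_subschemeι]
    exact Scheme.IdealSheafData.coe_support_vanishingIdeal _
  have hr : Set.range (I.subschemeι ≫ f) = f '' C := by
    rw [Scheme.Hom.comp_base, TopCat.coe_comp, Set.range_comp, hrange]
  obtain ⟨z, hz⟩ := Groth.Agent.S9347.exists_specializes_of_mem_closure_range
    (I.subschemeι ≫ f) y (by rw [hr]; exact hy)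
  refine ⟨I.subschemeι z, ?_, hz⟩
  rw [← hrange]
  exact ⟨z, rfl⟩

/-- Finite fibres of morphisms locally of finite type consist of quasi-finite points. -/
theorem quasiFiniteAt_of_finite_fibre {X Y : Scheme.{u}} (f : X ⟶ Y) [LocallyOfFiniteType f]
    (x : X) (hfin : (f ⁻¹' {f x}).Finite) : f.QuasiFiniteAt x := by
  have : Finite (f.fiber (f x)) := (f.fiberHomeo (f x)).finite_iff.mpr hfin
  exact Scheme.Hom.quasiFiniteAt_iff_isOpen_singleton_asFiber.mpr (isOpen_discrete _)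

theorem exists_pairwiseDisjoint_opens {T : Type*} [TopologicalSpace T] {s : Set T} (hs : s.Finite)
    (hsep : ∀ x ∈ s, ∀ y ∈ s, x ≠ y → Disjoint (𝓝 x) (𝓝 y)) :
    ∃ U : T → Set T, (∀ x, x ∈ U x ∧ IsOpen (U x)) ∧ s.PairwiseDisjoint U :=
  (show s.PairwiseDisjoint 𝓝 from fun x hx y hy h => hsep x hx y hy h).exists_mem_filter_basis hs
    nhds_basis_opens

/-- **Generic finiteness over an affine base.** -/
theorem core_affine {X Y : Scheme.{u}} (f : X ⟶ Y) [IsAffine Y] [LocallyOfFiniteType f]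
    [QuasiCompact f] (η : Y) (hη : ∀ y : Y, y ⤳ η → y = η) (hfin : (f ⁻¹' {η}).Finite)
    (hsep : ∀ x x' : X, f x = η → f x' = η → x ≠ x' → Disjoint (𝓝 x) (𝓝 x')) :
    ∃ V : Y.Opens, η ∈ V ∧ IsFinite (f ∣_ V) := by
  classical
  -- pairwise disjoint affine neighbourhoods
  obtain ⟨U, hU, hUd⟩ := exists_pairwiseDisjoint_opens hfin
    (fun x hx y hy h => hsep x y hx hy h)
  have hA : ∀ x : X, ∃ A : X.Opens, IsAffineOpen A ∧ x ∈ A ∧ (A : Set X) ⊆ U x := by
    intro x
    obtain ⟨_, ⟨A, hA, rfl⟩, hxA, hAU⟩ :=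
      X.isBasis_affineOpens.exists_subset_of_mem_open (hU x).1 (hU x).2
    exact ⟨A, hA, hxA, hAU⟩
  choose A hAaff hxA hAU using hA
  have hAd : (f ⁻¹' {η}).Pairwise (Function.onFun Disjoint A) := by
    intro x hx y hy hxy
    have := hUd hx hy hxy
    show Disjoint (A x) (A y)
    rw [← TopologicalSpace.Opens.coe_disjoint]
    exact Set.disjoint_of_subset (hAU x) (hAU y) this
  set B : X.Opens := ⨆ x ∈ f ⁻¹' {η}, A x with hB
  have hBaff : IsAffineOpen B := IsAffineOpen.biSup_of_disjoint hfin (fun x _ => hAaff x) hAd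
  have hFB : ∀ x : X, f x = η → x ∈ B := by
    intro x hx
    rw [hB]
    simp only [TopologicalSpace.Opens.mem_iSup]
    exact ⟨x, hx, hxA x⟩
  -- the affine piece
  haveI : IsAffine (B : Scheme.{u}) := hBaff
  let g : (B : Scheme.{u}) ⟶ Y := B.ι ≫ f
  haveI : IsAffineHom g := isAffineHom_of_isAffine g
  have hqf : ∀ b : ↥B, g b = η → g.QuasiFiniteAt b := by
    intro b hb
    have hfb : f (B.ι b) = η := (Scheme.Hom.comp_apply B.ι f b).symm.trans hb
    have := quasiFiniteAt_of_finite_fibre f (B.ι b) (by rw [hfb]; exact hfin)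
    exact Scheme.Hom.quasiFiniteAt_comp_iff_of_isOpenImmersion.2 this
  obtain ⟨V₁, hηV₁, hfinV₁⟩ := GenFiniteSep.main g η hη hqf
  -- shrink so that the preimage lies in `B`
  have hCcl : IsClosed ((B : Set X)ᶜ) := B.isOpen.isClosed_compl
  have hηC : η ∉ closure (f '' ((B : Set X)ᶜ)) := by
    intro h
    obtain ⟨c, hc, hcη⟩ := exists_specializes_of_mem_closure_image f _ hCcl η h
    exact hc (hFB c (hη _ hcη))
  let V₂ : Y.Opens := ⟨(closure (f '' ((B : Set X)ᶜ)))ᶜ, isClosed_closure.isOpen_compl⟩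
  let V : Y.Opens := V₁ ⊓ V₂
  have hηV : η ∈ V := ⟨hηV₁, hηC⟩
  have hVB : f ⁻¹ᵁ V ≤ B := by
    intro x hx
    by_contra hxB
    exact hx.2 (subset_closure ⟨x, hxB, rfl⟩)
  refine ⟨V, hηV, ?_⟩
  have h1 : IsFinite (g ∣_ V) := GenFiniteSep.isFinite_morphismRestrict_of_le g inf_le_left hfinV₁
  have h2 : g ∣_ V = B.ι ∣_ (f ⁻¹ᵁ V) ≫ f ∣_ V := morphismRestrict_comp B.ι f V
  have hiso : IsIso (B.ι ∣_ (f ⁻¹ᵁ V)) := by
    rw [isIso_iff_isOpenImmersion_and_surjective]
    refine ⟨inferInstance, ⟨?_⟩⟩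
    rintro ⟨x, hx⟩
    have hxB : x ∈ B := hVB hx
    let b : (B : Scheme.{u}) := ⟨x, hxB⟩
    have hb : B.ι b = x := rfl
    refine ⟨⟨b, by show B.ι b ∈ f ⁻¹ᵁ V; rw [hb]; exact hx⟩, ?_⟩
    apply Subtype.ext
    exact (morphismRestrict_base_coe B.ι (f ⁻¹ᵁ V) _).trans hb
  haveI : MorphismProperty.RespectsIso @IsFinite.{u} :=
    MorphismProperty.IsStableUnderBaseChange.respectsIso
  have h3 : IsFinite (B.ι ∣_ (f ⁻¹ᵁ V) ≫ f ∣_ V) := h2 ▸ h1
  exact (@MorphismProperty.cancel_left_of_respectsIso _ _ @IsFinite _ _ _ _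
    (B.ι ∣_ (f ⁻¹ᵁ V)) (f ∣_ V) hiso).1 h3

end Groth.Agent.Lib.lead.GenFiniteCore
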