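import Groth.Agent.Lib.lead.NaInd

set_option autoImplicit false
set_option linter.style.haveILetI false
universe u
open CategoryTheory AlgebraicGeometry

namespace Groth.Agent.Lib.lead.NaMain

open Opposite Limits

/-- the constant diagram at the empty scheme over the one-point preorder -/
noncomputable def emptyD : (PUnit.{u + 1})ᵒᵖ ⥤ Scheme.{u} := (Functor.const _).obj (∅ : Scheme.{u})

/-- its cone -/
noncomputable def emptyC : Cone emptyD.{u} where
  pt := (∅ : Scheme.{u})
  π := { app := fun _ => 𝟙 _ }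

/-- its limit cone property -/
noncomputable def emptyHC : IsLimit emptyC.{u} where
  lift s := s.π.app (op PUnit.unit)
  fac s j := by
    change s.π.app (op PUnit.unit) ≫ 𝟙 _ = s.π.app j
    rw [Category.comp_id]
  uniq s m hm := by
    have := hm (op PUnit.unit)
    change m ≫ 𝟙 _ = _ at this
    rw [Category.comp_id] at this
    exact this

theorem ftz_empty : FTZ (∅ : Scheme.{u}) :=
  ⟨inferInstance, inferInstance⟩

/-- **Absolute Noetherian approximation.** -/
theorem exists_approx (S : Scheme.{u}) [CompactSpace S] [QuasiSeparatedSpace S] :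
    ∃ (I : Type u) (_ : Preorder I) (_ : IsDirected I (fun a b => a ≤ b)) (_ : Nonempty I)
      (D : Iᵒᵖ ⥤ Scheme.{u}) (c : Limits.Cone D) (_ : Limits.IsLimit c),
      (∀ (i j : Iᵒᵖ) (f : i ⟶ j), IsAffineHom (D.map f)) ∧
      (∀ i, FTZ (D.obj i)) ∧ Nonempty (c.pt ≅ S) := by
  let jU : emptyC.{u}.pt ⟶ S := Scheme.emptyTo S
  haveI : IsOpenImmersion jU := inferInstanceAs (IsOpenImmersion (Scheme.emptyTo S))
  obtain ⟨R⟩ := exists_relApprox (S := S) emptyD.{u}
    (fun {i j} f => by change IsAffineHom (𝟙 _); infer_instance)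
    (fun i => ftz_empty) emptyC emptyHC jU
  exact ⟨R.J, R.pre, R.dir, R.ne, R.DS, R.cS, R.hcS, fun i j f => R.aff f, R.ft, ⟨R.eS⟩⟩

end Groth.Agent.Lib.lead.NaMain
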