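import Mathlib
import Groth.Agent.Lib.lead.NaAbs
import Groth.Agent.Lib.Helper13.LimModelMain
import Groth.Agent.Lib.Helper13.LimDescendDiag
import Groth.Agent.S7395
import Groth.Agent.S0025
import Groth.Prelude.Def_FGA

set_option linter.style.haveILetI false
set_option autoImplicit false
universe u
open CategoryTheory CategoryTheory.Limits AlgebraicGeometry Opposite TopologicalSpace

namespace Groth.Agent.Lib.lead.ChowR

open Groth.Agent.Lib.lead.NaMain Groth.Agent.Lib.Helper13 Groth.Agent.Lib.Helper22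

/-- Chow data for a morphism -/
def HasChow {X S : Scheme.{u}} (f : X ⟶ S) : Prop :=
  ∃ (n : ℕ) (X' : Scheme.{u}) (π : X' ⟶ X) (j : X' ⟶ CohB1.ProjSpaceOver n S),
    IsImmersion j ∧ j ≫ CohB1.ProjSpaceOver.toBase n S = π ≫ f ∧ IsProper π ∧ Surjective π

theorem hasChow_of_closedImmersion {X X₁ S : Scheme.{u}} (i : X ⟶ X₁) [IsClosedImmersion i]
    (f₁ : X₁ ⟶ S) (h : HasChow f₁) : HasChow (i ≫ f₁) := by
  obtain ⟨n, X₁', π₁, j₁, hj, hcomm, hprop, hsurj⟩ := h
  refine ⟨n, pullback π₁ i, pullback.snd π₁ i, pullback.fst π₁ i ≫ j₁, ?_, ?_, ?_, ?_⟩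
  · infer_instance
  · rw [Category.assoc, hcomm, ← Category.assoc, pullback.condition, Category.assoc]
  · infer_instance
  · infer_instance

theorem projMap_isPullback (n : ℕ) {S S₀ : Scheme.{u}} (g : S ⟶ S₀) :
    IsPullback (FGA.projMap n g) (CohB1.ProjSpaceOver.toBase n S)
      (CohB1.ProjSpaceOver.toBase n S₀) g := by
  have hout : IsPullback (FGA.projMap n g ≫ pullback.fst (CohB1.ProjSpace.toSpec n (ULift.{u} ℤ))
      (specULiftZIsTerminal.from S₀)) (CohB1.ProjSpaceOver.toBase n S)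
      (CohB1.ProjSpace.toSpec n (ULift.{u} ℤ)) (g ≫ specULiftZIsTerminal.from S₀) := by
    have h1 : FGA.projMap n g ≫ pullback.fst (CohB1.ProjSpace.toSpec n (ULift.{u} ℤ))
        (specULiftZIsTerminal.from S₀) = pullback.fst (CohB1.ProjSpace.toSpec n (ULift.{u} ℤ))
        (specULiftZIsTerminal.from S) := by
      exact (pullback.lift_fst _ _ _).trans (Category.comp_id _)
    have h2 : g ≫ specULiftZIsTerminal.from S₀ = specULiftZIsTerminal.from S :=
      specULiftZIsTerminal.hom_ext _ _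
    rw [h1, h2]
    exact IsPullback.of_hasPullback _ _
  refine IsPullback.of_right hout ?_ (IsPullback.of_hasPullback _ _)
  exact pullback.lift_snd _ _ _

theorem hasChow_of_isPullback {X X₀ S S₀ : Scheme.{u}} {g' : X ⟶ X₀} {f : X ⟶ S} {f₀ : X₀ ⟶ S₀}
    {g : S ⟶ S₀} (sq : IsPullback g' f f₀ g) (h : HasChow f₀) : HasChow f := by
  obtain ⟨n, X₀', π₀, j₀, hj, hcomm, hprop, hsurj⟩ := h
  have hP := projMap_isPullback n g
  -- X' := X₀' ×_{X₀} X
  let X' := pullback π₀ g'
  have hcond : (pullback.fst π₀ g' ≫ j₀) ≫ CohB1.ProjSpaceOver.toBase n S₀ =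
      (pullback.snd π₀ g' ≫ f) ≫ g := by
    rw [Category.assoc, hcomm, ← Category.assoc, pullback.condition, Category.assoc, sq.w,
      Category.assoc]
  let j : X' ⟶ CohB1.ProjSpaceOver n S := hP.lift (pullback.fst π₀ g' ≫ j₀)
    (pullback.snd π₀ g' ≫ f) hcond
  have hj1 : j ≫ FGA.projMap n g = pullback.fst π₀ g' ≫ j₀ := hP.lift_fst _ _ _
  have hj2 : j ≫ CohB1.ProjSpaceOver.toBase n S = pullback.snd π₀ g' ≫ f := hP.lift_snd _ _ _
  -- the square (j, fst; projMap, j₀) is a pullback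
  have hsq : IsPullback j (pullback.fst π₀ g') (FGA.projMap n g) j₀ := by
    have hout : IsPullback (j ≫ CohB1.ProjSpaceOver.toBase n S) (pullback.fst π₀ g') g
        (j₀ ≫ CohB1.ProjSpaceOver.toBase n S₀) := by
      rw [hj2, hcomm]
      exact (IsPullback.of_hasPullback π₀ g').flip.paste_horiz sq.flip
    exact IsPullback.of_right hout hj1 hP.flip
  refine ⟨n, X', pullback.snd π₀ g', j, ?_, hj2, ?_, ?_⟩
  · exact MorphismProperty.of_isPullback (P := @IsImmersion) hsq.flip hj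
  · infer_instance
  · infer_instance

/-- **Chow's lemma over a quasi-compact quasi-separated base.** -/
theorem hasChow_qcqs {X S : Scheme.{u}} (f : X ⟶ S) [CompactSpace S] [QuasiSeparatedSpace S]
    [IsSeparated f] [LocallyOfFiniteType f] [QuasiCompact f] : HasChow f := by
  obtain ⟨X₁, f₁, i, hsep, hlfp, hqc, hi, hcomp⟩ := Groth.Agent.S7395.result f
  rw [← hcomp]
  refine hasChow_of_closedImmersion i f₁ ?_
  -- now `f₁ : X₁ ⟶ S` is separated, of finite presentation
  obtain ⟨I, _, _, _, D, c, hc, haff, hft, ⟨eS⟩⟩ := exists_approx S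
  haveI : ∀ (i j : Iᵒᵖ) (f : i ⟶ j), IsAffineHom (D.map f) := haff
  haveI : ∀ i, IsNoetherian (D.obj i) := fun i => isNoetherian_of_ftz (hft i)
  haveI : ∀ i, CompactSpace (D.obj i) := fun i => (hft i).1
  haveI : ∀ i, QuasiSeparatedSpace (D.obj i) := fun i => inferInstance
  let h : X₁ ⟶ c.pt := f₁ ≫ eS.inv
  haveI : LocallyOfFinitePresentation h :=
    inferInstanceAs (LocallyOfFinitePresentation (f₁ ≫ eS.inv))
  haveI : QuasiCompact h := inferInstanceAs (QuasiCompact (f₁ ≫ eS.inv))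
  haveI : IsSeparated h := inferInstanceAs (IsSeparated (f₁ ≫ eS.inv))
  haveI : QuasiSeparated h := inferInstance
  have hsq0 : IsPullback (𝟙 X₁) f₁ h eS.inv :=
    IsPullback.of_horiz_isIso ⟨by simp [h]⟩
  refine hasChow_of_isPullback hsq0 ?_
  obtain ⟨i₀, ⟨M⟩⟩ := LimModel.hasModel_of_finitePresentation hc h
  haveI : LocallyOfFinitePresentation M.h₀ := M.lfp
  haveI : QuasiCompact M.h₀ := M.qc
  haveI : QuasiSeparated M.h₀ := M.qs
  haveI : CompactSpace M.Z₀ := M.compactSpace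
  haveI : QuasiSeparatedSpace M.Z₀ := M.quasiSeparatedSpace
  have hsep' : IsSeparated (pullback.fst (c.π.app i₀) M.h₀) :=
    (LimDescend.prop_iff_of_isPullback @IsSeparated M.pb.flip
      (IsPullback.of_hasPullback (c.π.app i₀) M.h₀)).mp inferInstance
  obtain ⟨j, ψ, hj⟩ := LimDescend.core_isSeparated D c hc i₀ M.h₀ hsep'
  let M' := M.ofHom ψ
  haveI : IsSeparated M'.h₀ := by
    change IsSeparated (pullback.snd M.h₀ (D.map ψ))
    rw [← pullbackSymmetry_hom_comp_fst]
    infer_instance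
  haveI : LocallyOfFinitePresentation M'.h₀ := M'.lfp
  haveI : QuasiCompact M'.h₀ := M'.qc
  refine hasChow_of_isPullback M'.pb ?_
  obtain ⟨n, X', π, j', h1, h2, h3, h4, -⟩ := Groth.Agent.S0025.result M'.h₀
  exact ⟨n, X', π, j', h1, h2, h3, h4⟩

end Groth.Agent.Lib.lead.ChowR
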