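import Mathlib
import Groth.Agent.Lib.lead.ChowR
import Groth.Agent.Lib.Helper13.LimDescendClosedImm
import Groth.Agent.Lib.Helper13.LimDescendDiag
import Groth.Agent.Lib.Helper13.LimDescendCore
import Groth.Agent.Lib.Helper13.LimDescendAffine
import Groth.Agent.Lib.Helper28.ProjSpaceBasic

set_option linter.style.haveILetI false
set_option autoImplicit false
universe u
open CategoryTheory CategoryTheory.Limits AlgebraicGeometry Opposite TopologicalSpace

namespace Groth.Agent.Lib.lead.LimProper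

open Groth.Agent.Lib.Helper13 Groth.Agent.Lib.Helper13.LimDescend Groth.Agent.Lib.Helper22
  Groth.Agent.Lib.lead.ChowR

/-- pasting lemma used twice below -/
theorem exists_comparison {Z Z' X₀ X' Q P' W Xi : Scheme.{u}} (a : X₀ ⟶ Z) (π : X' ⟶ X₀)
    (σt : Q ⟶ Z) (b : X' ⟶ Q) (hb : b ≫ σt = π ≫ a) (u : Z' ⟶ Z)
    (q : P' ⟶ Q) (r' : P' ⟶ Z') (h2 : IsPullback q r' σt u)
    (s : W ⟶ X') (B : W ⟶ P') (h1 : IsPullback s B b q)
    (sndX : Xi ⟶ X₀) (fstX : Xi ⟶ Z') (h3 : IsPullback sndX fstX a u) :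
    ∃ m : W ⟶ Xi, m ≫ fstX = B ≫ r' ∧ IsPullback s m π sndX := by
  have hbig : IsPullback s (B ≫ r') (b ≫ σt) u := h1.paste_vert h2
  rw [hb] at hbig
  let m : W ⟶ Xi := h3.lift (s ≫ π) (B ≫ r') (by rw [Category.assoc]; exact hbig.w)
  have hm1 : m ≫ sndX = s ≫ π := h3.lift_fst _ _ _
  have hm2 : m ≫ fstX = B ≫ r' := h3.lift_snd _ _ _
  refine ⟨m, hm2, ?_⟩
  rw [← hm2] at hbig
  exact IsPullback.of_bot hbig hm1.symm h3

theorem isPullback_comp_iso {A Q P Z Z' : Scheme.{u}} {q : A ⟶ Q} {σ : Q ⟶ P} [IsIso σ]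
    {r : A ⟶ Z'} {t : P ⟶ Z} {u : Z' ⟶ Z} (h : IsPullback (q ≫ σ) r t u) :
    IsPullback q r (σ ≫ t) u :=
  IsPullback.of_iso h (Iso.refl _) (asIso σ).symm (Iso.refl _) (Iso.refl _) (by simp) (by simp)
    (by simp) (by simp)

section cores

variable {J : Type u} [SmallCategory J] [IsCofiltered J] (E : J ⥤ Scheme.{u}) (e : Cone E)
  (he : IsLimit e)

include he in
/-- Core descent statement for proper morphisms, separated case. -/
theorem core_isProper_of_isSeparated [∀ (i j : J) (f : i ⟶ j), IsAffineHom (E.map f)] (j₀ : J)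
    [CompactSpace (E.obj j₀)] [QuasiSeparatedSpace (E.obj j₀)]
    {X₀ : Scheme.{u}} [CompactSpace X₀] [QuasiSeparatedSpace X₀] (a : X₀ ⟶ E.obj j₀)
    [LocallyOfFiniteType a] [IsSeparated a] (h : IsProper (pullback.fst (e.π.app j₀) a)) :
    ∃ (j : J) (ψ : j ⟶ j₀), IsProper (pullback.fst (E.map ψ) a) := by
  haveI : QuasiCompact a := inferInstance
  obtain ⟨n, X', π, ι, hι, hcomm, hπ, hsurj⟩ := hasChow_qcqs a
  let P := CohB1.ProjSpaceOver n (E.obj j₀)
  let t : P ⟶ E.obj j₀ := CohB1.ProjSpaceOver.toBase n (E.obj j₀)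
  haveI : IsProper t := Groth.Agent.Lib.Helper28.ProjSpaceBasic.isProper_toBase n _
  haveI : CompactSpace P := QuasiCompact.compactSpace_of_compactSpace t
  haveI : QuasiSeparatedSpace P := quasiSeparatedSpace_of_quasiSeparated t
  let E' := bcDiag E j₀ t
  let e' := bcCone E e j₀ t
  have he' := bcIsLimit E he j₀ t
  let σ : E'.obj (top j₀) ⟶ P := pullback.snd (E.map (top j₀).hom) t
  haveI : IsIso σ := isIso_snd_top E j₀ t
  let b : X' ⟶ E'.obj (top j₀) := ι ≫ inv σ
  have hb : b ≫ (σ ≫ t) = π ≫ a := by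
    simp only [b, Category.assoc, IsIso.inv_hom_id_assoc]
    exact hcomm
  haveI : IsImmersion b := inferInstanceAs (IsImmersion (ι ≫ inv σ))
  haveI : CompactSpace X' := QuasiCompact.compactSpace_of_compactSpace π
  haveI : QuasiSeparatedSpace X' := quasiSeparatedSpace_of_quasiSeparated π
  haveI : ∀ (k k' : Over j₀) (φ : k ⟶ k'), IsAffineHom (E'.map φ) := fun _ _ φ => inferInstance
  haveI : CompactSpace (E'.obj (top j₀)) := inferInstance
  haveI : QuasiSeparatedSpace (E'.obj (top j₀)) := inferInstance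
  -- the limit stage
  have hlim : IsClosedImmersion (pullback.fst (e'.π.app (top j₀)) b) := by
    let q := e'.π.app (top j₀)
    have hq : q ≫ σ = pullback.snd (e.π.app j₀) t := bcCone_π_snd E e j₀ t (top j₀)
    let r : e'.pt ⟶ e.pt := pullback.fst (e.π.app j₀) t
    haveI : IsProper r := inferInstanceAs (IsProper (pullback.fst (e.π.app j₀) t))
    have h2 : IsPullback q r (σ ≫ t) (e.π.app j₀) := by
      refine isPullback_comp_iso ?_
      rw [hq]
      exact (IsPullback.of_hasPullback (e.π.app j₀) t).flip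
    obtain ⟨m, hm, hpb⟩ := exists_comparison a π (σ ≫ t) b hb (e.π.app j₀) q r h2
      (pullback.snd q b) (pullback.fst q b) (IsPullback.of_hasPullback q b).flip
      (pullback.snd (e.π.app j₀) a) (pullback.fst (e.π.app j₀) a)
      (IsPullback.of_hasPullback (e.π.app j₀) a).flip
    haveI : IsProper m := MorphismProperty.of_isPullback (P := @IsProper) hpb hπ
    haveI : IsProper (pullback.fst q b ≫ r) := by
      rw [← hm]; infer_instance
    haveI : IsProper (pullback.fst q b) := IsProper.of_comp (pullback.fst q b) r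
    exact IsClosedImmersion.of_isPreimmersion _ (pullback.fst q b).isClosedMap.isClosed_range
  obtain ⟨k, ψ, hk⟩ := core_isClosedImmersion E' e' he' (top j₀) b hlim
  refine ⟨k.left, k.hom, ?_⟩
  -- the stage `k`
  let q := E'.map ψ
  have hq : q ≫ σ = pullback.snd (E.map k.hom) t := bcDiag_map_snd E j₀ t ψ
  let r : E'.obj k ⟶ E.obj k.left := pullback.fst (E.map k.hom) t
  haveI : IsProper r := inferInstanceAs (IsProper (pullback.fst (E.map k.hom) t))
  have h2 : IsPullback q r (σ ≫ t) (E.map k.hom) := by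
    refine isPullback_comp_iso ?_
    rw [hq]
    exact (IsPullback.of_hasPullback (E.map k.hom) t).flip
  obtain ⟨m, hm, hpb⟩ := exists_comparison a π (σ ≫ t) b hb (E.map k.hom) q r h2
    (pullback.snd q b) (pullback.fst q b) (IsPullback.of_hasPullback q b).flip
    (pullback.snd (E.map k.hom) a) (pullback.fst (E.map k.hom) a)
    (IsPullback.of_hasPullback (E.map k.hom) a).flip
  haveI : Surjective m := MorphismProperty.of_isPullback (P := @Surjective) hpb hsurj
  haveI : IsClosedImmersion (pullback.fst q b) := hk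
  haveI : UniversallyClosed (m ≫ pullback.fst (E.map k.hom) a) := by
    rw [hm]; infer_instance
  haveI : UniversallyClosed (pullback.fst (E.map k.hom) a) :=
    UniversallyClosed.of_comp_surjective m _
  exact { }

include he in
/-- Core descent statement for proper morphisms. -/
theorem core_isProper [∀ (i j : J) (f : i ⟶ j), IsAffineHom (E.map f)] (j₀ : J)
    [CompactSpace (E.obj j₀)] [QuasiSeparatedSpace (E.obj j₀)]
    {X₀ : Scheme.{u}} [CompactSpace X₀] [QuasiSeparatedSpace X₀] (a : X₀ ⟶ E.obj j₀)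
    [LocallyOfFiniteType a] (h : IsProper (pullback.fst (e.π.app j₀) a)) :
    ∃ (j : J) (ψ : j ⟶ j₀), IsProper (pullback.fst (E.map ψ) a) := by
  obtain ⟨j₁, ψ₁, h₁⟩ := core_isSeparated E e he j₀ a inferInstance
  let a₁ : pullback (E.map ψ₁) a ⟶ E.obj j₁ := pullback.fst (E.map ψ₁) a
  haveI : IsSeparated a₁ := h₁
  haveI : LocallyOfFiniteType a₁ :=
    MorphismProperty.pullback_fst (P := @LocallyOfFiniteType) _ _ inferInstance
  haveI : CompactSpace (E.obj j₁) := QuasiCompact.compactSpace_of_compactSpace (E.map ψ₁)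
  haveI : QuasiSeparatedSpace (E.obj j₁) := quasiSeparatedSpace_of_quasiSeparated (E.map ψ₁)
  haveI : IsAffineHom (pullback.snd (E.map ψ₁) a) :=
    MorphismProperty.pullback_snd (P := @IsAffineHom) _ _ inferInstance
  haveI : CompactSpace ↑(pullback (E.map ψ₁) a) :=
    QuasiCompact.compactSpace_of_compactSpace (pullback.snd (E.map ψ₁) a)
  haveI : QuasiSeparatedSpace ↑(pullback (E.map ψ₁) a) :=
    quasiSeparatedSpace_of_quasiSeparated (pullback.snd (E.map ψ₁) a)
  have h' : IsProper (pullback.fst (e.π.app j₁) a₁) :=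
    (fst_fst_iff' @IsProper (e.π.app j₁) (E.map ψ₁) a (e.π.app j₀) (e.w ψ₁)).mpr h
  obtain ⟨j, ψ, hj⟩ := core_isProper_of_isSeparated E e he j₁ a₁ h'
  exact ⟨j, ψ ≫ ψ₁, (fst_fst_iff' @IsProper (E.map ψ) (E.map ψ₁) a
    (E.map (ψ ≫ ψ₁)) (E.map_comp _ _).symm).mp hj⟩

end cores

/-- **Proper morphisms descend along cofiltered limits** (EGA IV 8.10.5 shape). -/
theorem descend_isProper {I : Type u} [SmallCategory I] [IsCofiltered I]
    (D : I ⥤ Scheme.{u}) (c : Limits.Cone D) (hc : Limits.IsLimit c)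
    [∀ (i j : I) (f : i ⟶ j), IsAffineHom (D.map f)] (i₀ : I) [CompactSpace (D.obj i₀)]
    [QuasiSeparatedSpace (D.obj i₀)] {X₀ Y₀ : Scheme.{u}} (f₀ : X₀ ⟶ Y₀) (g₀ : Y₀ ⟶ D.obj i₀)
    [CompactSpace X₀] [QuasiSeparatedSpace X₀] [CompactSpace Y₀] [QuasiSeparatedSpace Y₀]
    {X Y : Scheme.{u}} (f : X ⟶ Y) (g : Y ⟶ c.pt) (qY : Y ⟶ Y₀) (qX : X ⟶ X₀)
    (hY : IsPullback qY g g₀ (c.π.app i₀)) (hX : IsPullback qX f f₀ qY) [LocallyOfFiniteType f₀]
    [IsProper f] :
    ∃ (i : I) (φ : i ⟶ i₀) (Xi Yi : Scheme.{u}) (fi : Xi ⟶ Yi) (gi : Yi ⟶ D.obj i) (pY : Yi ⟶ Y₀)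
      (pX : Xi ⟶ X₀), IsPullback pY gi g₀ (D.map φ) ∧ IsPullback pX fi f₀ pY ∧ IsProper fi := by
  have hf : IsProper f := inferInstance
  refine descend_of_core D c @IsProper i₀ f₀ g₀ ?_ f g qY qX hY hX hf
  intro a ha hP
  haveI : ∀ (j k : Over i₀) (φ : j ⟶ k), IsAffineHom ((bcDiag D i₀ g₀).map φ) :=
    fun _ _ φ => inferInstance
  haveI : LocallyOfFiniteType (a ≫ pullback.snd (D.map (top i₀).hom) g₀) := by
    rw [ha]; infer_instance
  haveI : LocallyOfFiniteType a :=
    locallyOfFiniteType_of_comp a (pullback.snd (D.map (top i₀).hom) g₀)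
  exact core_isProper (bcDiag D i₀ g₀) (bcCone D c i₀ g₀) (bcIsLimit D hc i₀ g₀) (top i₀) a hP

end Groth.Agent.Lib.lead.LimProper
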