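import Mathlib

open scoped Cardinal
open Polynomial

namespace Groth.Agent.Lib.lead.TrdegDrop

universe u

/-- If `π : D → D'` is a surjective non-injective `R`-algebra map of domains with `R → D'`
injective and `trdeg_R D'` finite then `trdeg_R D' < trdeg_R D`. -/
theorem trdeg_lt_of_surjective {R D D' : Type u} [CommRing R] [CommRing D] [IsDomain D]
    [CommRing D'] [IsDomain D'] [Algebra R D] [Algebra R D']
    (π : D →ₐ[R] D') (hπ : Function.Surjective π) (hker : ¬ Function.Injective π)
    (hinj : Function.Injective (algebraMap R D')) (hfin : Algebra.trdeg R D' < ℵ₀) :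
    Algebra.trdeg R D' < Algebra.trdeg R D := by
  classical
  haveI : FaithfulSMul R D' := (faithfulSMul_iff_algebraMap_injective _ _).2 hinj
  haveI : Nontrivial R := (algebraMap R D').domain_nontrivial
  obtain ⟨s, hs⟩ := exists_isTranscendenceBasis R D'
  -- lift the basis
  let x : s → D := fun i => Function.surjInv hπ (i : D')
  have hx' : (π ∘ x) = ((↑) : s → D') := by
    funext i; exact Function.surjInv_eq hπ _
  have hxind : AlgebraicIndependent R x := by
    apply AlgebraicIndependent.of_comp π
    rw [hx']; exact hs.1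
  -- a nonzero element of the kernel
  obtain ⟨y, hy0, hy⟩ : ∃ y : D, y ≠ 0 ∧ π y = 0 := by
    by_contra hcon
    push_neg at hcon
    apply hker
    rw [injective_iff_map_eq_zero]
    intro a ha
    by_contra ha0
    exact hcon a ha0 ha
  -- `y` is transcendental over `adjoin R (range x)`
  have htr : Transcendental (Algebra.adjoin R (Set.range x)) y := by
    intro halg
    have hyreg : y ∈ nonZeroDivisors D := mem_nonZeroDivisors_of_ne_zero hy0
    obtain ⟨q, hq0, hq⟩ := halg.exists_nonzero_coeff_and_aeval_eq_zero hyreg
    -- the constant coefficient maps to zero under π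
    have h1 : π ((q.coeff 0 : Algebra.adjoin R (Set.range x)) : D) = 0 := by
      have hdiv := Polynomial.X_dvd_sub_C (p := q)
      obtain ⟨r, hr⟩ := hdiv
      have := congrArg (Polynomial.aeval y) hr
      rw [map_sub, hq, zero_sub, map_mul, Polynomial.aeval_X, Polynomial.aeval_C] at this
      have h2 : ((q.coeff 0 : Algebra.adjoin R (Set.range x)) : D) = - (y * Polynomial.aeval y r) := by
        rw [← this]; simp
      rw [h2, map_neg, map_mul, hy, zero_mul, neg_zero]
    -- but π is injective on adjoin R (range x)
    have h2 : Function.Injective (π.comp (Algebra.adjoin R (Set.range x)).val) := by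
      have h3 : Function.Injective (MvPolynomial.aeval (R := R) (π ∘ x)) := by
        rw [hx']; exact hs.1
      intro a b hab
      have hmem : ∀ c : Algebra.adjoin R (Set.range x),
          ∃ pc : MvPolynomial s R, MvPolynomial.aeval x pc = (c : D) := by
        intro c
        have hc : (c : D) ∈ (MvPolynomial.aeval (R := R) x).range := by
          rw [← Algebra.adjoin_range_eq_range_aeval]; exact c.2
        exact hc
      obtain ⟨pa, hpa⟩ := hmem a
      obtain ⟨pb, hpb⟩ := hmem b
      have hab' : π (a : D) = π (b : D) := hab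
      have hcomp : ∀ pc : MvPolynomial s R,
          π (MvPolynomial.aeval x pc) = MvPolynomial.aeval (π ∘ x) pc := by
        intro pc
        rw [← AlgHom.comp_apply, MvPolynomial.comp_aeval]
        rfl
      rw [← hpa, ← hpb, hcomp, hcomp] at hab'
      have := h3 hab'
      apply Subtype.ext
      rw [← hpa, ← hpb, this]
    apply hq0
    apply h2
    rw [map_zero]
    exact h1
  have hopt := (hxind.option_iff_transcendental y).2 htr
  have hle := hopt.cardinalMk_le_trdeg
  rw [Cardinal.mk_option, hs.cardinalMk_eq_trdeg] at hle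
  have h1 : Algebra.trdeg R D' < Algebra.trdeg R D' + 1 := by
    obtain ⟨n, hn⟩ := Cardinal.lt_aleph0.1 hfin
    rw [hn]
    exact_mod_cast Nat.lt_succ_self n
  exact lt_of_lt_of_le h1 hle


/-- Two primes `P < P'` of `B` over the same prime `p` of `R`: the transcendence degree of
`B ⧸ P'` over `R ⧸ p` is strictly smaller than that of `B ⧸ P` (when finite). -/
theorem trdeg_quotient_lt_of_lt {R B : Type u} [CommRing R] [CommRing B] [Algebra R B]
    (p : Ideal R) (P P' : Ideal B) [P.IsPrime] [P'.IsPrime] [P.LiesOver p] [P'.LiesOver p]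
    (hlt : P < P') (hfin : Algebra.trdeg (R ⧸ p) (B ⧸ P') < ℵ₀) :
    Algebra.trdeg (R ⧸ p) (B ⧸ P') < Algebra.trdeg (R ⧸ p) (B ⧸ P) := by
  let π : (B ⧸ P) →ₐ[R ⧸ p] (B ⧸ P') :=
    { Ideal.Quotient.factor hlt.le with
      commutes' := by
        rintro ⟨r⟩
        rfl }
  have hπ : Function.Surjective π := Ideal.Quotient.factor_surjective hlt.le
  have hker : ¬ Function.Injective π := by
    intro hinj
    obtain ⟨b, hbP', hbP⟩ := Set.exists_of_ssubset hlt
    have h1 : π (Ideal.Quotient.mk P b) = 0 := by
      show Ideal.Quotient.factor hlt.le (Ideal.Quotient.mk P b) = 0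
      rw [Ideal.Quotient.factor_mk]
      exact Ideal.Quotient.eq_zero_iff_mem.2 hbP'
    have h2 : Ideal.Quotient.mk P b = 0 := hinj (by rw [h1, map_zero])
    exact hbP (Ideal.Quotient.eq_zero_iff_mem.1 h2)
  exact trdeg_lt_of_surjective π hπ hker (FaithfulSMul.algebraMap_injective _ _) hfin

end Groth.Agent.Lib.lead.TrdegDrop
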