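import Mathlib
import Groth.Agent.Lib.Helper7.AffinePoints

open scoped Cardinal

namespace Groth.Agent.Lib.lead.ResTrdegBridge

universe u

/-- Pure algebra: a commutative square `A → B`, `K → L` with `K`, `L` "fraction fields of the images". -/
theorem trdeg_eq_of_square {A B K L : Type u} [CommRing A] [CommRing B] [Field K] [Field L]
    [Algebra A B] (p : Ideal A) (P : Ideal B) [P.LiesOver p]
    (a : A →+* K) (b : B →+* L) (ι : K →+* L)
    (ha : RingHom.ker a = p) (hb : RingHom.ker b = P)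
    (hsq : ι.comp a = b.comp (algebraMap A B))
    (hK : ∀ k : K, ∃ s t : A, a t ≠ 0 ∧ k = a s / a t)
    (hL : ∀ l : L, ∃ s t : B, b t ≠ 0 ∧ l = b s / b t) :
    @Algebra.trdeg K L _ _ ι.toAlgebra = Algebra.trdeg (A ⧸ p) (B ⧸ P) := by
  classical
  subst ha hb
  haveI : (RingHom.ker a).IsPrime := RingHom.ker_isPrime a
  haveI : (RingHom.ker b).IsPrime := RingHom.ker_isPrime b
  letI : Algebra K L := ι.toAlgebra
  -- maps from quotients
  let a' : (A ⧸ RingHom.ker a) →+* K := RingHom.kerLift a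
  let b' : (B ⧸ RingHom.ker b) →+* L := RingHom.kerLift b
  have ha' : Function.Injective a' := RingHom.kerLift_injective a
  have hb' : Function.Injective b' := RingHom.kerLift_injective b
  letI : Algebra (A ⧸ RingHom.ker a) K := a'.toAlgebra
  letI : Algebra (B ⧸ RingHom.ker b) L := b'.toAlgebra
  letI : Algebra (A ⧸ RingHom.ker a) L := (ι.comp a').toAlgebra
  haveI : IsScalarTower (A ⧸ RingHom.ker a) K L := IsScalarTower.of_algebraMap_eq (fun _ => rfl)
  haveI : IsScalarTower (A ⧸ RingHom.ker a) (B ⧸ RingHom.ker b) L := by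
    refine IsScalarTower.of_algebraMap_eq ?_
    rintro ⟨r⟩
    show ι (a r) = b' (algebraMap (A ⧸ RingHom.ker a) (B ⧸ RingHom.ker b) (Ideal.Quotient.mk _ r))
    rw [Ideal.Quotient.algebraMap_mk_of_liesOver]
    show ι (a r) = b (algebraMap A B r)
    exact congrArg (fun g : A →+* L => g r) hsq
  haveI : FaithfulSMul (A ⧸ RingHom.ker a) K := (faithfulSMul_iff_algebraMap_injective _ _).2 ha'
  haveI : FaithfulSMul (B ⧸ RingHom.ker b) L := (faithfulSMul_iff_algebraMap_injective _ _).2 hb'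
  haveI : FaithfulSMul K L := (faithfulSMul_iff_algebraMap_injective _ _).2 ι.injective
  haveI : FaithfulSMul (A ⧸ RingHom.ker a) (B ⧸ RingHom.ker b) := by
    refine (faithfulSMul_iff_algebraMap_injective _ _).2 ?_
    have h : Function.Injective (algebraMap (A ⧸ RingHom.ker a) L) := ι.injective.comp ha'
    rw [IsScalarTower.algebraMap_eq (A ⧸ RingHom.ker a) (B ⧸ RingHom.ker b) L] at h
    exact Function.Injective.of_comp h
  -- algebraicity
  haveI : Algebra.IsAlgebraic (A ⧸ RingHom.ker a) K := by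
    refine ⟨fun k => ?_⟩
    obtain ⟨s, t, ht, rfl⟩ := hK k
    have hs : IsAlgebraic (A ⧸ RingHom.ker a) (a s) :=
      isAlgebraic_algebraMap (Ideal.Quotient.mk _ s)
    have ht' : IsAlgebraic (A ⧸ RingHom.ker a) (a t) :=
      isAlgebraic_algebraMap (Ideal.Quotient.mk _ t)
    rw [div_eq_mul_inv]
    exact hs.mul ht'.inv
  haveI : Algebra.IsAlgebraic (B ⧸ RingHom.ker b) L := by
    refine ⟨fun l => ?_⟩
    obtain ⟨s, t, ht, rfl⟩ := hL l
    have hs : IsAlgebraic (B ⧸ RingHom.ker b) (b s) :=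
      isAlgebraic_algebraMap (Ideal.Quotient.mk _ s)
    have ht' : IsAlgebraic (B ⧸ RingHom.ker b) (b t) :=
      isAlgebraic_algebraMap (Ideal.Quotient.mk _ t)
    rw [div_eq_mul_inv]
    exact hs.mul ht'.inv
  have h1 := trdeg_add_eq (A ⧸ RingHom.ker a) K (A := L)
  have h2 := trdeg_add_eq (A ⧸ RingHom.ker a) (B ⧸ RingHom.ker b) (A := L)
  rw [trdeg_eq_zero (R := A ⧸ RingHom.ker a) (A := K), zero_add] at h1
  rw [trdeg_eq_zero (R := B ⧸ RingHom.ker b) (A := L), add_zero] at h2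
  rw [h1, h2]


open AlgebraicGeometry CategoryTheory Groth.Agent.Lib.Helper7

theorem ker_evaluation {X : Scheme.{u}} {U : X.Opens} (hU : IsAffineOpen U) (x : X) (hx : x ∈ U) :
    RingHom.ker (X.evaluation U x hx).hom = (hU.primeIdealOf ⟨x, hx⟩).asIdeal := by
  ext s
  rw [RingHom.mem_ker, AffPts.mem_primeIdealOf_iff hU ⟨x, hx⟩ s]
  exact X.evaluation_eq_zero_iff_notMem_basicOpen x hx s

theorem evaluation_frac_surj {X : Scheme.{u}} {U : X.Opens} (hU : IsAffineOpen U) (x : X)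
    (hx : x ∈ U) (l : X.residueField x) :
    ∃ s t : Γ(X, U), (X.evaluation U x hx).hom t ≠ 0 ∧
      l = (X.evaluation U x hx).hom s / (X.evaluation U x hx).hom t := by
  obtain ⟨g, rfl⟩ := X.residue_surjective x l
  letI := X.presheaf.algebra_section_stalk ⟨x, hx⟩
  haveI := hU.isLocalization_stalk ⟨x, hx⟩
  obtain ⟨s, t, rfl⟩ := IsLocalization.exists_mk'_eq (hU.primeIdealOf ⟨x, hx⟩).asIdeal.primeCompl g
  have ht : (X.evaluation U x hx).hom t ≠ 0 := by
    intro h
    have : (t : Γ(X, U)) ∈ RingHom.ker (X.evaluation U x hx).hom := h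
    rw [ker_evaluation hU] at this
    exact t.2 this
  refine ⟨s, t, ht, ?_⟩
  rw [eq_div_iff ht]
  have h := IsLocalization.mk'_spec (X.presheaf.stalk x) s t
  have h2 := congrArg (X.residue x).hom h
  rw [map_mul] at h2
  exact h2


theorem evaluation_square {X S : Scheme.{u}} (f : X ⟶ S) (x : X)
    {V : S.Opens} {U : X.Opens} (e : U ≤ f ⁻¹ᵁ V) (hx : x ∈ U) (hfx : f x ∈ V) :
    S.evaluation V (f x) hfx ≫ f.residueFieldMap x = f.appLE V U e ≫ X.evaluation U x hx := by
  rw [Scheme.evaluation_naturality, Scheme.Hom.appLE, Category.assoc]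
  congr 1
  simp only [Scheme.evaluation]
  rw [← Category.assoc, TopCat.Presheaf.germ_res]

theorem liesOver_primeIdealOf {X S : Scheme.{u}} (f : X ⟶ S) (x : X)
    {V : S.Opens} (hV : IsAffineOpen V) {U : X.Opens} (hU : IsAffineOpen U) (e : U ≤ f ⁻¹ᵁ V)
    (hx : x ∈ U) (hfx : f x ∈ V) [Algebra Γ(S, V) Γ(X, U)]
    (halg : algebraMap Γ(S, V) Γ(X, U) = (f.appLE V U e).hom) :
    (hU.primeIdealOf ⟨x, hx⟩).asIdeal.LiesOver (hV.primeIdealOf ⟨f x, hfx⟩).asIdeal := by
  constructor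
  have h := IsAffineOpen.comap_primeIdealOf_appLE (f := f) (x := x) V hV U hU e hx
  rw [← h, Ideal.under, halg]
  rfl

theorem trdeg_residueField_eq {X S : Scheme.{u}} (f : X ⟶ S) (x : X)
    {V : S.Opens} (hV : IsAffineOpen V) {U : X.Opens} (hU : IsAffineOpen U) (e : U ≤ f ⁻¹ᵁ V)
    (hx : x ∈ U) (hfx : f x ∈ V) [Algebra Γ(S, V) Γ(X, U)]
    (halg : algebraMap Γ(S, V) Γ(X, U) = (f.appLE V U e).hom)
    (p : Ideal Γ(S, V)) (P : Ideal Γ(X, U))
    (hp : p = (hV.primeIdealOf ⟨f x, hfx⟩).asIdeal)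
    (hP : P = (hU.primeIdealOf ⟨x, hx⟩).asIdeal) [P.LiesOver p] :
    @Algebra.trdeg (S.residueField (f x)) (X.residueField x) _ _
        (f.residueFieldMap x).hom.toAlgebra =
      Algebra.trdeg (Γ(S, V) ⧸ p) (Γ(X, U) ⧸ P) := by
  refine trdeg_eq_of_square p P (S.evaluation V (f x) hfx).hom (X.evaluation U x hx).hom
    (f.residueFieldMap x).hom ?_ ?_ ?_ ?_ ?_
  · rw [hp]; exact ker_evaluation hV _ _
  · rw [hP]; exact ker_evaluation hU _ _
  · rw [halg, ← CommRingCat.hom_comp, ← CommRingCat.hom_comp, evaluation_square]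
  · exact evaluation_frac_surj hV _ _
  · exact evaluation_frac_surj hU _ _

end Groth.Agent.Lib.lead.ResTrdegBridge
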