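import Mathlib
import Groth.Agent.Lib.lead.ResTrdegBridge
import Groth.Agent.Lib.lead.NonDomainDim

set_option autoImplicit false
universe u
open scoped Cardinal
open AlgebraicGeometry CategoryTheory Groth.Agent.Lib.Helper7

namespace Groth.Agent.Lib.lead.SchemeDimIneq

/-- The general dimension inequality at a point, for a morphism locally of finite type to a locally
Noetherian scheme. -/
theorem main {X S : Scheme.{u}} [IsLocallyNoetherian S]
    (f : X ⟶ S) [LocallyOfFiniteType f] (x : X) (n E : ℕ)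
    (hn : letI := (f.residueFieldMap x).hom.toAlgebra
      Algebra.trdeg (S.residueField (f.base x)) (X.residueField x) = n)
    (hE : ∀ ξ : X, closure {ξ} ∈ irreducibleComponents ↥X → ξ ⤳ x →
      letI := (f.residueFieldMap ξ).hom.toAlgebra
      Algebra.trdeg (S.residueField (f.base ξ)) (X.residueField ξ) ≤ E) :
    ringKrullDim (X.presheaf.stalk x) + n ≤ ringKrullDim (S.presheaf.stalk (f.base x)) + E := by
  obtain ⟨_, ⟨V, hV : IsAffineOpen V, rfl⟩, hfxV, -⟩ :=
    (S.isBasis_affineOpens).exists_subset_of_mem_open (Set.mem_univ (f x)) isOpen_univ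
  obtain ⟨_, ⟨U, hU : IsAffineOpen U, rfl⟩, hxU, hUV⟩ :=
    (X.isBasis_affineOpens).exists_subset_of_mem_open (show x ∈ (f ⁻¹ᵁ V : Set X) from hfxV)
      (f ⁻¹ᵁ V).isOpen
  have e : U ≤ f ⁻¹ᵁ V := hUV
  have hfxV' : f x ∈ V := e hxU
  haveI : IsNoetherianRing Γ(S, V) := IsLocallyNoetherian.component_noetherian ⟨V, hV⟩
  letI : Algebra Γ(S, V) Γ(X, U) := (f.appLE V U e).hom.toAlgebra
  have halg : algebraMap Γ(S, V) Γ(X, U) = (f.appLE V U e).hom := rfl
  haveI : Algebra.FiniteType Γ(S, V) Γ(X, U) := f.finiteType_appLE hV hU e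
  set p : Ideal Γ(S, V) := (hV.primeIdealOf ⟨f x, hfxV'⟩).asIdeal with hp
  set P : Ideal Γ(X, U) := (hU.primeIdealOf ⟨x, hxU⟩).asIdeal with hP
  haveI : P.LiesOver p := ResTrdegBridge.liesOver_primeIdealOf f x hV hU e hxU hfxV' halg
  haveI : p.IsPrime := (hV.primeIdealOf ⟨f x, hfxV'⟩).isPrime
  haveI : P.IsPrime := (hU.primeIdealOf ⟨x, hxU⟩).isPrime
  have hX : ringKrullDim (X.presheaf.stalk x) = P.height := by
    letI := TopCat.Presheaf.algebra_section_stalk X.presheaf (⟨x, hxU⟩ : U)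
    have := hU.isLocalization_stalk ⟨x, hxU⟩
    exact IsLocalization.AtPrime.ringKrullDim_eq_height P (X.presheaf.stalk x)
  have hY : ringKrullDim (S.presheaf.stalk (f x)) = p.height := by
    letI := TopCat.Presheaf.algebra_section_stalk S.presheaf (⟨f x, hfxV'⟩ : V)
    have := hV.isLocalization_stalk ⟨f x, hfxV'⟩
    exact IsLocalization.AtPrime.ringKrullDim_eq_height p (S.presheaf.stalk (f x))
  have hn' : Algebra.trdeg (Γ(S, V) ⧸ p) (Γ(X, U) ⧸ P) = n := by
    rw [← ResTrdegBridge.trdeg_residueField_eq f x hV hU e hxU hfxV' halg p P hp hP]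
    exact hn
  have hE' : ∀ Q ∈ minimalPrimes Γ(X, U), Q ≤ P →
      Algebra.trdeg (Γ(S, V) ⧸ Q.under Γ(S, V)) (Γ(X, U) ⧸ Q) ≤ E := by
    intro Q hQ hQP
    haveI : Q.IsPrime := hQ.1.1
    obtain ⟨ξ, hξ⟩ := AffPts.primeIdealOf_surjective hU ⟨Q, inferInstance⟩
    have hξQ : Q = (hU.primeIdealOf ⟨ξ.1, ξ.2⟩).asIdeal := by
      show Q = (hU.primeIdealOf ξ).asIdeal
      rw [hξ]
    have h1 : closure {ξ.1} ∈ irreducibleComponents ↥X := by
      rw [AffPts.closure_mem_irreducibleComponents_iff, AffPts.forall_specializes_eq_iff hU ξ, hξ]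
      exact hQ
    have h2 : ξ.1 ⤳ x := by
      have : hU.primeIdealOf ξ ≤ hU.primeIdealOf ⟨x, hxU⟩ := by
        rw [hξ]; exact hQP
      exact (AffPts.primeIdealOf_le_iff hU ξ ⟨x, hxU⟩).1 this
    have h3 := hE ξ.1 h1 h2
    have hlo := ResTrdegBridge.liesOver_primeIdealOf f ξ.1 hV hU e ξ.2 (e ξ.2) halg
    have hq : Q.under Γ(S, V) = (hV.primeIdealOf ⟨f ξ.1, e ξ.2⟩).asIdeal := by
      rw [hξQ]
      exact hlo.over.symm
    rw [← ResTrdegBridge.trdeg_residueField_eq f ξ.1 hV hU e ξ.2 (e ξ.2) halg (Q.under Γ(S, V)) Q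
      hq hξQ]
    exact h3
  have key := NonDomainDim.height_add_le p P n E hn' hE'
  rw [hX, hY]
  exact_mod_cast key

end Groth.Agent.Lib.lead.SchemeDimIneq

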