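import Mathlib
import Groth.Agent.Lib.Helper7.AffinePoints

set_option autoImplicit false
universe u
open CategoryTheory CategoryTheory.Limits AlgebraicGeometry TopologicalSpace Topology

namespace Groth.Agent.Lib.lead.StalkDimIneq

open Groth.Agent.Lib.Helper7.AffPts

variable {X Y : Scheme.{u}}

/-- The prime of an affine open `V` of the target at `f x` is the comap of the prime of an affine
open `U ≤ f⁻¹ V` at `x`. -/
theorem primeIdealOf_map (f : X ⟶ Y) {U : X.Opens} {V : Y.Opens} (hU : IsAffineOpen U)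
    (hV : IsAffineOpen V) (e : U ≤ f ⁻¹ᵁ V) (x : U) :
    (hV.primeIdealOf ⟨f x.1, e x.2⟩).asIdeal =
      (hU.primeIdealOf x).asIdeal.comap (f.appLE V U e).hom := by
  ext a
  rw [Ideal.mem_comap, mem_primeIdealOf_iff hV, mem_primeIdealOf_iff hU]
  have : X.basicOpen ((f.appLE V U e).hom a) = U ⊓ f ⁻¹ᵁ Y.basicOpen a := by
    rw [Scheme.Hom.appLE, CommRingCat.hom_comp, RingHom.comp_apply, Scheme.basicOpen_res,
      Scheme.preimage_basicOpen]
  rw [this]
  constructor
  · intro h h'
    exact h h'.2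
  · intro h h'
    exact h ⟨x.2, h'⟩

/-- Points of the fibre through `x` lying over the primes between `pB` and `q`. -/
theorem exists_fibre_point (f : X ⟶ Y) {U : X.Opens} {V : Y.Opens} (hU : IsAffineOpen U)
    (hV : IsAffineOpen V) (e : U ≤ f ⁻¹ᵁ V) (x : X) (hx : x ∈ U)
    (r : Ideal Γ(X, U)) [r.IsPrime]
    (h1 : ((hV.primeIdealOf ⟨f x, e hx⟩).asIdeal.map (f.appLE V U e).hom) ≤ r)
    (h2 : r ≤ (hU.primeIdealOf ⟨x, hx⟩).asIdeal) :
    ∃ (w : f.fiber (f x)) (hw : f.fiberι _ w ∈ U),
      (hU.primeIdealOf ⟨f.fiberι _ w, hw⟩).asIdeal = r := by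
  obtain ⟨xr, hxr⟩ := primeIdealOf_surjective hU ⟨r, inferInstance⟩
  have hfx : f xr.1 = f x := by
    have h3 := primeIdealOf_map f hU hV e xr
    have h4 := primeIdealOf_map f hU hV e ⟨x, hx⟩
    have : hV.primeIdealOf ⟨f xr.1, e xr.2⟩ = hV.primeIdealOf ⟨f x, e hx⟩ := by
      apply PrimeSpectrum.ext
      rw [h3, hxr]
      apply le_antisymm
      · rw [h4]
        exact Ideal.comap_mono h2
      · rw [← Ideal.map_le_iff_le_comap]
        exact h1
    exact congrArg Subtype.val (primeIdealOf_injective hV this)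
  refine ⟨(f.fiberHomeo (f x)).symm ⟨xr.1, hfx⟩, ?_, ?_⟩
  · rw [Scheme.Hom.fiberι_fiberHomeo_symm]
    exact xr.2
  · have : (⟨f.fiberι _ ((f.fiberHomeo (f x)).symm ⟨xr.1, hfx⟩), by
        rw [Scheme.Hom.fiberι_fiberHomeo_symm]; exact xr.2⟩ : U) = xr := by
      apply Subtype.ext
      exact Scheme.Hom.fiberι_fiberHomeo_symm _ _ _
    rw [this, hxr]

/-- Specialization in the fibre is specialization in the total space. -/
theorem fibre_le_iff (f : X ⟶ Y) (y : Y) (w w' : f.fiber y) :
    w ≤ w' ↔ f.fiberι y w' ⤳ f.fiberι y w := by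
  rw [Scheme.le_iff_specializes]
  exact ((f.fiberι y).isEmbedding.isInducing.specializes_iff).symm

theorem height_quotient_le_coheight (f : X ⟶ Y) {U : X.Opens} {V : Y.Opens} (hU : IsAffineOpen U)
    (hV : IsAffineOpen V) (e : U ≤ f ⁻¹ᵁ V) (x : X) (hx : x ∈ U) :
    ((hU.primeIdealOf ⟨x, hx⟩).asIdeal.map (Ideal.Quotient.mk
      ((hV.primeIdealOf ⟨f x, e hx⟩).asIdeal.map (f.appLE V U e).hom))).height ≤
      Order.coheight (f.asFiber x) := by
  set q := (hU.primeIdealOf ⟨x, hx⟩).asIdeal with hq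
  set I := (hV.primeIdealOf ⟨f x, e hx⟩).asIdeal.map (f.appLE V U e).hom with hI
  have hIq : I ≤ q := by
    rw [hI, Ideal.map_le_iff_le_comap, primeIdealOf_map f hU hV e ⟨x, hx⟩]
  have hker : RingHom.ker (Ideal.Quotient.mk I) ≤ q := by rwa [Ideal.mk_ker]
  have hqbar : (q.map (Ideal.Quotient.mk I)).IsPrime :=
    Ideal.map_isPrime_of_surjective Ideal.Quotient.mk_surjective hker
  have hcomap : (q.map (Ideal.Quotient.mk I)).comap (Ideal.Quotient.mk I) = q := by
    rw [Ideal.comap_map_of_surjective _ Ideal.Quotient.mk_surjective, ← RingHom.ker_eq_comap_bot,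
      Ideal.mk_ker, sup_eq_left.2 hIq]
  rw [show (q.map (Ideal.Quotient.mk I)).height = Order.height (⟨_, hqbar⟩ : PrimeSpectrum _) from
    PrimeSpectrum.height_eq_orderHeight ⟨_, hqbar⟩]
  apply Order.height_le
  intro s hs
  -- the points of the fibre attached to the members of the chain
  have hle : ∀ i, (s i).asIdeal ≤ q.map (Ideal.Quotient.mk I) := fun i => by
    have : s i ≤ s.last := s.monotone (Fin.le_last i)
    rw [hs] at this
    exact this
  have hex : ∀ i, ∃ (w : f.fiber (f x)) (hw : f.fiberι _ w ∈ U),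
      (hU.primeIdealOf ⟨f.fiberι _ w, hw⟩).asIdeal =
        (s i).asIdeal.comap (Ideal.Quotient.mk I) := fun i => by
    refine exists_fibre_point f hU hV e x hx _ ?_ ?_
    · intro a ha
      rw [Ideal.mem_comap, Ideal.Quotient.eq_zero_iff_mem.2 ha]
      exact zero_mem _
    · exact le_trans (Ideal.comap_mono (hle i)) (le_of_eq hcomap)
  choose w hw hwq using hex
  have hanti : ∀ i j, i < j → w j < w i := by
    intro i j hij
    have hlt : s i < s j := s.strictMono hij
    have hlt' : hU.primeIdealOf ⟨f.fiberι _ (w i), hw i⟩ < hU.primeIdealOf ⟨f.fiberι _ (w j), hw j⟩ := by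
      rw [lt_iff_le_not_ge] at hlt ⊢
      refine ⟨?_, fun h => hlt.2 ?_⟩
      · show (hU.primeIdealOf _).asIdeal ≤ (hU.primeIdealOf _).asIdeal
        rw [hwq, hwq]
        exact Ideal.comap_mono hlt.1
      · have h' : (hU.primeIdealOf ⟨f.fiberι _ (w j), hw j⟩).asIdeal ≤
            (hU.primeIdealOf ⟨f.fiberι _ (w i), hw i⟩).asIdeal := h
        rw [hwq, hwq] at h'
        exact (Ideal.comap_le_comap_iff_of_surjective _ Ideal.Quotient.mk_surjective _ _).1 h'
    rw [lt_iff_le_not_ge] at hlt' ⊢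
    rw [primeIdealOf_le_iff, primeIdealOf_le_iff] at hlt'
    rw [fibre_le_iff, fibre_le_iff]
    exact hlt'
  let t : LTSeries (f.fiber (f x)) :=
    { length := s.length
      toFun := fun i => w (Fin.rev i)
      step := fun i => hanti _ _ (by simp [Fin.rev_lt_rev]) }
  have hge : ∀ i, f.asFiber x ≤ w i := by
    intro i
    rw [fibre_le_iff, Scheme.Hom.fiberι_asFiber]
    have : hU.primeIdealOf ⟨f.fiberι _ (w i), hw i⟩ ≤ hU.primeIdealOf ⟨x, hx⟩ := by
      show (hU.primeIdealOf _).asIdeal ≤ (hU.primeIdealOf _).asIdeal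
      rw [hwq]
      exact le_trans (Ideal.comap_mono (hle i)) (le_of_eq hcomap)
    rw [primeIdealOf_le_iff] at this
    exact this
  have hhead : f.asFiber x ≤ t.head := hge _
  exact Order.length_le_coheight (p := t) hhead

/-- `dim O_{X,x} ≤ dim O_{Y,f x} + dim O_{X_{f x},x}` for `f` locally of finite type over a locally
Noetherian base. -/
theorem main [IsLocallyNoetherian Y] (f : X ⟶ Y) [LocallyOfFiniteType f] (x : X) :
    ringKrullDim (X.presheaf.stalk x) ≤
      ringKrullDim (Y.presheaf.stalk (f x)) +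
        ringKrullDim ((f.fiber (f x)).presheaf.stalk (f.asFiber x)) := by
  have : IsLocallyNoetherian X := LocallyOfFiniteType.isLocallyNoetherian f
  obtain ⟨V, hV, hfxV, -⟩ := Opens.isBasis_iff_nbhd.mp Y.isBasis_affineOpens
    (show f x ∈ (⊤ : Y.Opens) from trivial)
  obtain ⟨U, hU, hxU, e⟩ := Opens.isBasis_iff_nbhd.mp X.isBasis_affineOpens
    (show x ∈ f ⁻¹ᵁ V from hfxV)
  have hU' : IsAffineOpen U := hU
  have hV' : IsAffineOpen V := hV
  have : IsNoetherianRing Γ(Y, V) := IsLocallyNoetherian.component_noetherian ⟨V, hV⟩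
  have : IsNoetherianRing Γ(X, U) := IsLocallyNoetherian.component_noetherian ⟨U, hU⟩
  let _ : Algebra Γ(Y, V) Γ(X, U) := (f.appLE V U e).hom.toAlgebra
  set q := (hU'.primeIdealOf ⟨x, hxU⟩).asIdeal with hq
  set p := (hV'.primeIdealOf ⟨f x, e hxU⟩).asIdeal with hp
  have hlo : q.LiesOver p := ⟨primeIdealOf_map f hU' hV' e ⟨x, hxU⟩⟩
  have h1 := Ideal.height_le_height_add_of_liesOver p q
  have h2 := height_quotient_le_coheight f hU' hV' e x hxU
  have hX : ringKrullDim (X.presheaf.stalk x) = q.height := by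
    letI := TopCat.Presheaf.algebra_section_stalk X.presheaf (⟨x, hxU⟩ : U)
    have := hU'.isLocalization_stalk ⟨x, hxU⟩
    exact IsLocalization.AtPrime.ringKrullDim_eq_height q (X.presheaf.stalk x)
  have hY : ringKrullDim (Y.presheaf.stalk (f x)) = p.height := by
    letI := TopCat.Presheaf.algebra_section_stalk Y.presheaf (⟨f x, e hxU⟩ : V)
    have := hV'.isLocalization_stalk ⟨f x, e hxU⟩
    exact IsLocalization.AtPrime.ringKrullDim_eq_height p (Y.presheaf.stalk (f x))
  rw [hX, hY, ringKrullDim_stalk_eq_coheight]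
  have h3 : q.height ≤ p.height + Order.coheight (f.asFiber x) :=
    le_trans h1 (add_le_add_right h2 _)
  exact_mod_cast h3

/-- The topological Krull dimension of a scheme is the Krull dimension of its specialization
preorder. -/
theorem topologicalKrullDim_eq_krullDim (Z : Scheme.{u}) :
    topologicalKrullDim Z = Order.krullDim Z := by
  letI : PartialOrder Z := specializationOrder Z
  exact Order.krullDim_eq_of_orderIso (irreducibleSetEquivPoints (α := Z))

theorem coheight_le_topologicalKrullDim (Z : Scheme.{u}) (z : Z) :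
    (Order.coheight z : WithBot ℕ∞) ≤ topologicalKrullDim Z := by
  rw [topologicalKrullDim_eq_krullDim]
  exact Order.coheight_le_krullDim z

/-- `dim X ≤ dim Y + n` if all fibres have dimension at most `n`. -/
theorem main' [IsLocallyNoetherian Y] (f : X ⟶ Y) [LocallyOfFiniteType f] (n : ℕ)
    (h : ∀ y : Y, topologicalKrullDim (f.fiber y) ≤ n) :
    topologicalKrullDim X ≤ topologicalKrullDim Y + n := by
  rw [topologicalKrullDim_eq_krullDim X]
  rw [Order.krullDim_eq_iSup_coheight]
  apply iSup_le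
  intro x
  have h1 := main f x
  rw [ringKrullDim_stalk_eq_coheight, ringKrullDim_stalk_eq_coheight,
    ringKrullDim_stalk_eq_coheight] at h1
  refine le_trans h1 (add_le_add (coheight_le_topologicalKrullDim Y (f x)) ?_)
  exact le_trans (coheight_le_topologicalKrullDim _ _) (h (f x))

end Groth.Agent.Lib.lead.StalkDimIneq
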