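import Mathlib
import Groth.Agent.Lib.lead.SchemeDimIneq
import Groth.Agent.Lib.lead.StalkDimIneq

set_option autoImplicit false
universe u
open scoped Cardinal
open AlgebraicGeometry CategoryTheory Groth.Agent.Lib.Helper7

namespace Groth.Agent.Lib.lead.SchemeDimIneqGlobal

/-- residue field extensions of a morphism locally of finite type have finite transcendence
degree -/
theorem exists_nat_trdeg {X S : Scheme.{u}} (f : X ⟶ S) [LocallyOfFiniteType f] (x : X) :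
    ∃ n : ℕ, @Algebra.trdeg (S.residueField (f x)) (X.residueField x) _ _
        (f.residueFieldMap x).hom.toAlgebra = n := by
  obtain ⟨_, ⟨V, hV : IsAffineOpen V, rfl⟩, hfxV, -⟩ :=
    (S.isBasis_affineOpens).exists_subset_of_mem_open (Set.mem_univ (f x)) isOpen_univ
  obtain ⟨_, ⟨U, hU : IsAffineOpen U, rfl⟩, hxU, hUV⟩ :=
    (X.isBasis_affineOpens).exists_subset_of_mem_open (show x ∈ (f ⁻¹ᵁ V : Set X) from hfxV)
      (f ⁻¹ᵁ V).isOpen
  have e : U ≤ f ⁻¹ᵁ V := hUV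
  have hfxV' : f x ∈ V := e hxU
  letI : Algebra Γ(S, V) Γ(X, U) := (f.appLE V U e).hom.toAlgebra
  have halg : algebraMap Γ(S, V) Γ(X, U) = (f.appLE V U e).hom := rfl
  haveI : Algebra.FiniteType Γ(S, V) Γ(X, U) := f.finiteType_appLE hV hU e
  set p : Ideal Γ(S, V) := (hV.primeIdealOf ⟨f x, hfxV'⟩).asIdeal with hp
  set P : Ideal Γ(X, U) := (hU.primeIdealOf ⟨x, hxU⟩).asIdeal with hP
  haveI : P.LiesOver p := ResTrdegBridge.liesOver_primeIdealOf f x hV hU e hxU hfxV' halg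
  haveI : p.IsPrime := (hV.primeIdealOf ⟨f x, hfxV'⟩).isPrime
  haveI : P.IsPrime := (hU.primeIdealOf ⟨x, hxU⟩).isPrime
  rw [ResTrdegBridge.trdeg_residueField_eq f x hV hU e hxU hfxV' halg p P hp hP]
  haveI : Algebra.FiniteType (Γ(S, V) ⧸ p) (Γ(X, U) ⧸ P) := NonDomainDim.finiteType_quotient p P
  have hfin : Algebra.trdeg (Γ(S, V) ⧸ p) (Γ(X, U) ⧸ P) < ℵ₀ := trdeg_lt_aleph0_of_finiteType
  obtain ⟨n, hn⟩ := Cardinal.lt_aleph0.1 hfin
  exact ⟨n, hn⟩

theorem main {X Y : Scheme.{u}} [IsLocallyNoetherian Y]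
    (f : X ⟶ Y) [LocallyOfFiniteType f] (E : ℕ)
    (hE : ∀ ξ : X, closure {ξ} ∈ irreducibleComponents ↥X →
      letI := (f.residueFieldMap ξ).hom.toAlgebra
      Algebra.trdeg (Y.residueField (f.base ξ)) (X.residueField ξ) ≤ E) :
    topologicalKrullDim ↥X ≤ topologicalKrullDim ↥Y + E := by
  rw [StalkDimIneq.topologicalKrullDim_eq_krullDim X, Order.krullDim_eq_iSup_coheight]
  apply iSup_le
  intro x
  obtain ⟨n, hn⟩ := exists_nat_trdeg f x
  have h1 := SchemeDimIneq.main f x n E hn (fun ξ h _ => hE ξ h)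
  rw [ringKrullDim_stalk_eq_coheight, ringKrullDim_stalk_eq_coheight] at h1
  calc ((Order.coheight x : ℕ∞) : WithBot ℕ∞) ≤ (Order.coheight x : ℕ∞) + (n : WithBot ℕ∞) :=
        by exact_mod_cast (le_self_add : (Order.coheight x : ℕ∞) ≤ Order.coheight x + (n : ℕ∞))
    _ ≤ _ := h1
    _ ≤ _ := add_le_add_left (StalkDimIneq.coheight_le_topologicalKrullDim Y (f x)) _

end Groth.Agent.Lib.lead.SchemeDimIneqGlobal

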