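import Mathlib
import Groth.Agent.Lib.lead.StalkDimIneq

set_option autoImplicit false
universe u
open AlgebraicGeometry CategoryTheory

namespace Groth.Agent.Lib.lead.FibreOrder

open Order

/-- Lemma A: along an `LTSeries`, coheight drops by at least the index. -/
theorem coheight_add_index_le {α : Type*} [Preorder α] (c : LTSeries α) :
    ∀ (i : ℕ) (hi : i < c.length + 1), coheight (c ⟨i, hi⟩) + i ≤ coheight c.head := by
  intro i
  induction i with
  | zero => intro hi; simp [RelSeries.head]
  | succ k ih =>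
    intro hi
    have hk : k < c.length + 1 := by omega
    have hlt : c ⟨k, hk⟩ < c ⟨k + 1, hi⟩ := c.strictMono (by simp [Fin.lt_def])
    have h1 := coheight_add_one_le hlt
    calc coheight (c ⟨k + 1, hi⟩) + ((k + 1 : ℕ) : ℕ∞)
        = (coheight (c ⟨k + 1, hi⟩) + 1) + k := by push_cast; ring
      _ ≤ coheight (c ⟨k, hk⟩) + k := add_le_add_left h1 _
      _ ≤ _ := ih hk

theorem coheight_last_add_length_le {α : Type*} [Preorder α] (c : LTSeries α) :
    coheight c.last + c.length ≤ coheight c.head :=
  coheight_add_index_le c c.length (by omega)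

variable {X Y : Scheme.{u}}

/-- every point of a scheme has a maximal generization -/
theorem exists_isMax_ge (w : X) : ∃ z : X, w ≤ z ∧ IsMax z := by
  obtain ⟨Z, hZ, hsub⟩ := exists_mem_irreducibleComponents_subset_of_isIrreducible
    (closure ({w} : Set X)) isIrreducible_singleton.closure
  obtain ⟨ξ, hξ⟩ := QuasiSober.sober hZ.1 (isClosed_of_mem_irreducibleComponents Z hZ)
  have hwZ : w ∈ Z := hsub (subset_closure rfl)
  have hsp : ξ ⤳ w := hξ.specializes hwZ
  refine ⟨ξ, hsp, ?_⟩
  intro b hb
  -- b ⤳ ξ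
  have hb' : b ⤳ ξ := hb
  have h1 : closure ({ξ} : Set X) ⊆ closure ({b} : Set X) := Specializes.closure_subset hb'
  have h2 : closure ({b} : Set X) ⊆ closure ({ξ} : Set X) := by
    rw [hξ.def]
    exact hZ.2 isIrreducible_singleton.closure (by rw [← hξ.def]; exact h1)
  have h3 : ξ ⤳ b := specializes_iff_mem_closure.2 (h2 (subset_closure rfl))
  exact h3

/-- The order isomorphism between the scheme theoretic fibre and the set-theoretic fibre. -/
noncomputable def fiberOrderIso (f : X ⟶ Y) (y : Y) : f.fiber y ≃o ↥(f ⁻¹' {y}) where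
  toEquiv := (f.fiberHomeo y).toEquiv
  map_rel_iff' := by
    intro a b
    show (f.fiberHomeo y a).1 ≤ (f.fiberHomeo y b).1 ↔ a ≤ b
    rw [Scheme.Hom.fiberHomeo_apply, Scheme.Hom.fiberHomeo_apply, StalkDimIneq.fibre_le_iff,
      Scheme.le_iff_specializes]

/-- coheight of a point in its set-theoretic fibre -/
noncomputable def G (f : X ⟶ Y) (w : X) : ℕ∞ :=
  coheight (⟨w, rfl⟩ : ↥(f ⁻¹' {f w}))

theorem coheight_eq_G (f : X ⟶ Y) (w : X) (y : Y) (hw : f w = y) :
    coheight (⟨w, hw⟩ : ↥(f ⁻¹' {y})) = G f w := by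
  subst hw; rfl

theorem ringKrullDim_fiber_stalk (f : X ⟶ Y) (w : X) :
    ringKrullDim ((f.fiber (f w)).presheaf.stalk (f.asFiber w)) = G f w := by
  rw [ringKrullDim_stalk_eq_coheight, ← coheight_orderIso (fiberOrderIso f (f w)) (f.asFiber w)]
  have : (fiberOrderIso f (f w)) (f.asFiber w) = ⟨w, rfl⟩ := by
    apply Subtype.ext
    show (f.fiberHomeo (f w) (f.asFiber w)).1 = w
    rw [Scheme.Hom.fiberHomeo_apply, Scheme.Hom.fiberι_asFiber]
  rw [this]
  rfl

theorem coheight_fiber (f : X ⟶ Y) (y : Y) (z : f.fiber y) :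
    coheight z = G f (f.fiberι y z) := by
  rw [← coheight_orderIso (fiberOrderIso f y) z]
  exact coheight_eq_G f (f.fiberι y z) y (f.fiberHomeo y z).2


theorem enat_add_le_of_forall_nat {c g t : ℕ∞} (h : ∀ n : ℕ, (n : ℕ∞) ≤ g → c + n ≤ t) :
    c + g ≤ t := by
  induction g with
  | top =>
    have : t = ⊤ := by
      rw [ENat.eq_top_iff_forall_ge]
      intro n
      exact le_trans le_add_self (h n le_top)
    rw [this]; exact le_top
  | coe m => exact h m le_rfl

theorem fiberι_strictMono (f : X ⟶ Y) (y : Y) : StrictMono (f.fiberι y) := by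
  intro a b hab
  rw [lt_iff_le_not_ge] at hab ⊢
  rw [StalkDimIneq.fibre_le_iff, StalkDimIneq.fibre_le_iff] at hab
  exact hab

/-- if the local rings of `X` at the maximal points of the fibre through `x` have the dimension of
`O_{Y, f x}`, then `dim O_{Y,f x} + dim O_{X_{f x}, x} ≤ dim O_{X,x}` -/
theorem ge_of_generic (f : X ⟶ Y) (x : X)
    (hb : ∀ z : X, f z = f x → G f z = 0 → coheight z = coheight (f z)) :
    coheight (f x) + G f x ≤ coheight x := by
  apply enat_add_le_of_forall_nat
  intro n hn
  have hG : coheight (f.asFiber x) = G f x := by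
    rw [coheight_fiber, Scheme.Hom.fiberι_asFiber]
  rw [← hG] at hn
  obtain ⟨p, hhead, hlen⟩ := exists_series_of_le_coheight (f.asFiber x) hn
  obtain ⟨z, hwz, hzmax⟩ := exists_isMax_ge p.last
  have hz0 : coheight z = 0 := coheight_eq_zero.2 hzmax
  set z' := f.fiberι (f x) z with hz'
  have hGz : G f z' = 0 := by rw [← coheight_fiber, hz0]
  have hfz : f z' = f x := (f.fiberHomeo (f x) z).2
  have h1 := hb z' hfz hGz
  rw [hfz] at h1
  let q : LTSeries X := p.map (f.fiberι (f x)) (fiberι_strictMono f (f x))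
  have hqhead : q.head = x := by
    show f.fiberι (f x) p.head = x
    rw [hhead, Scheme.Hom.fiberι_asFiber]
  have hqlast : q.last = f.fiberι (f x) p.last := rfl
  have hqlen : q.length = n := hlen
  have h2 := coheight_last_add_length_le q
  rw [hqhead, hqlast, hqlen] at h2
  have h3 : f.fiberι (f x) p.last ≤ z' := by
    rw [StalkDimIneq.fibre_le_iff] at hwz
    exact hwz
  have h4 : coheight z' ≤ coheight (f.fiberι (f x) p.last) := coheight_anti h3
  rw [← h1]
  exact le_trans (add_le_add_left h4 _) h2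


/-- (b) ⇒ (a) of EGA IV 6.1.? (no catenary hypothesis needed) -/
theorem dim_formula_of_generic [IsLocallyNoetherian Y] (f : X ⟶ Y) [LocallyOfFiniteType f] (x : X)
    (hb : ∀ z : X, f z = f x →
      ringKrullDim ((f.fiber (f z)).presheaf.stalk (f.asFiber z)) = 0 →
        ringKrullDim (X.presheaf.stalk z) = ringKrullDim (Y.presheaf.stalk (f z))) :
    ringKrullDim (X.presheaf.stalk x) =
      ringKrullDim (Y.presheaf.stalk (f x)) +
        ringKrullDim ((f.fiber (f x)).presheaf.stalk (f.asFiber x)) := by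
  apply le_antisymm (StalkDimIneq.main f x)
  have hb' : ∀ z : X, f z = f x → G f z = 0 → coheight z = coheight (f z) := by
    intro z hz hG
    have h := hb z hz (by rw [ringKrullDim_fiber_stalk, hG]; rfl)
    rw [ringKrullDim_stalk_eq_coheight, ringKrullDim_stalk_eq_coheight] at h
    exact_mod_cast h
  have key := ge_of_generic f x hb'
  rw [ringKrullDim_fiber_stalk, ringKrullDim_stalk_eq_coheight, ringKrullDim_stalk_eq_coheight]
  exact_mod_cast key

end Groth.Agent.Lib.lead.FibreOrder

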