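import Mathlib
import Groth.Agent.Lib.lead.FibreOrder
import Groth.Agent.Lib.Helper18.FibreTd
import Groth.Agent.Lib.Helper24.LocalDim.Scheme
import Groth.Agent.Lib.Helper24.FibreDim.Scheme

set_option autoImplicit false
universe u
open CategoryTheory CategoryTheory.Limits AlgebraicGeometry

namespace Groth.Agent.Lib.lead.FibreDimFormula

open Groth.Agent.Lib.Helper24 Groth.Agent.Lib.Helper18

variable {X Y : Scheme.{u}}

/-- The local ring of the fibre at a point has finite dimension. -/
theorem exists_nat_G (f : X ⟶ Y) [LocallyOfFiniteType f] (x : X) :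
    ∃ b : ℕ, FibreOrder.G f x = b := by
  have hlft : LocallyOfFiniteType (f.fiberToSpecResidueField (f x)) := inferInstance
  haveI : IsLocallyNoetherian (f.fiber (f x)) :=
    LocallyOfFiniteType.isLocallyNoetherian (f.fiberToSpecResidueField (f x))
  have h := FibreOrder.ringKrullDim_fiber_stalk f x
  have hne : ringKrullDim ((f.fiber (f x)).presheaf.stalk (f.asFiber x)) ≠ ⊤ := ringKrullDim_ne_top
  rw [h] at hne
  have hne' : FibreOrder.G f x ≠ ⊤ := by
    intro h'
    apply hne
    rw [h']
    rfl
  obtain ⟨b, hb⟩ := ENat.ne_top_iff_exists.1 hne'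
  exact ⟨b, hb.symm⟩

/-- **The local dimension of the fibre**: `dim_x X_{f x} = trdeg κ(x)/κ(f x) + dim O_{X_{f x}, x}`. -/
theorem fibreDimAt_eq (f : X ⟶ Y) [LocallyOfFiniteType f] (x : X) (b : ℕ)
    (hb : FibreOrder.G f x = b) :
    FlatMor.fibreDimAt f x = ((FibreDim.tr f x + b : ℕ) : WithBot ℕ∞) := by
  letI := FibreTd.fibreOver f (f x)
  have hlft : LocallyOfFiniteType ((f.fiber (f x)) ↘ Spec (CommRingCat.of (Y.residueField (f x)))) :=
    inferInstanceAs (LocallyOfFiniteType (f.fiberToSpecResidueField (f x)))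
  have ha : @Algebra.trdeg (Y.residueField (f x)) ((f.fiber (f x)).residueField (f.asFiber x)) _ _
      (Curv2.resAlgebra (Y.residueField (f x)) (f.fiber (f x)) (f.asFiber x)) = FibreDim.tr f x := by
    have h1 := FibreTd.td_asFiber f x
    unfold GenFinite.td at h1
    rw [h1]
    exact FibreDim.tr_spec f x
  have hb' : ringKrullDim ((f.fiber (f x)).presheaf.stalk (f.asFiber x)) = b := by
    rw [FibreOrder.ringKrullDim_fiber_stalk, hb]
    rfl
  exact LocalDim.localDim_scheme (Y.residueField (f x)) (f.fiber (f x)) (f.asFiber x)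
    (FibreDim.tr f x) b ha hb'

end Groth.Agent.Lib.lead.FibreDimFormula
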