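import Mathlib
import Groth.Agent.Lib.lead.StalkDimIneq

set_option autoImplicit false
universe u
open CategoryTheory CategoryTheory.Limits AlgebraicGeometry TopologicalSpace Topology TensorProduct

namespace Groth.Agent.Lib.lead.FibreDimBound

open Groth.Agent.Lib.Helper7.AffPts Groth.Agent.Lib.lead.StalkDimIneq

/-- If `S` is generated by `m` elements over `R`, every fibre ring `κ(p) ⊗ S` has dimension `≤ m`. -/
theorem ringKrullDim_fiber_le {R S : Type u} [CommRing R] [CommRing S] [Algebra R S] (m : ℕ)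
    (g : MvPolynomial (Fin m) R →ₐ[R] S) (hg : Function.Surjective g) (p : Ideal R) [p.IsPrime] :
    ringKrullDim (p.Fiber S) ≤ m := by
  let e := MvPolynomial.algebraTensorAlgEquiv (σ := Fin m) R p.ResidueField
  let h : p.ResidueField ⊗[R] MvPolynomial (Fin m) R →ₐ[p.ResidueField] p.ResidueField ⊗[R] S :=
    Algebra.TensorProduct.map (AlgHom.id _ _) g
  have hh : Function.Surjective h := by
    have : Function.Surjective (LinearMap.lTensor p.ResidueField g.toLinearMap) :=
      LinearMap.lTensor_surjective _ hg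
    have heq : ∀ y, h y = LinearMap.lTensor p.ResidueField g.toLinearMap y := by
      intro y
      induction y using TensorProduct.induction_on with
      | zero => simp
      | tmul a b => simp [h]
      | add a b ha hb => rw [map_add, map_add, ha, hb]
    intro x
    obtain ⟨y, hy⟩ := this x
    exact ⟨y, (heq y).trans hy⟩
  have h1 : ringKrullDim (p.Fiber S) ≤ ringKrullDim (MvPolynomial (Fin m) p.ResidueField) :=
    ringKrullDim_le_of_surjective (h.toRingHom.comp e.symm.toRingEquiv.toRingHom)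
      (hh.comp e.symm.surjective)
  rw [MvPolynomial.ringKrullDim_of_isNoetherianRing, ringKrullDim_eq_zero_of_field] at h1
  simpa using h1

variable {X Y : Scheme.{u}}

theorem map_fiberι (f : X ⟶ Y) (y : Y) (w : f.fiber y) : f (f.fiberι y w) = y := by
  have : f.fiberι y w ∈ Set.range (f.fiberι y) := ⟨w, rfl⟩
  rw [Scheme.Hom.range_fiberι] at this
  exact this

/-- Points of the fibre lying in an affine open `U ≤ f⁻¹ V` whose ring is generated by `m` elements
over that of the affine open `V` have coheight at most `m` in the fibre. -/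
theorem coheight_fibre_le (f : X ⟶ Y) {U : X.Opens} {V : Y.Opens} (hU : IsAffineOpen U)
    (hV : IsAffineOpen V) (e : U ≤ f ⁻¹ᵁ V) (m : ℕ)
    (hfg : ∃ g : MvPolynomial (Fin m) Γ(Y, V) →+* Γ(X, U), Function.Surjective g ∧
      g.comp MvPolynomial.C = (f.appLE V U e).hom)
    (y : Y) (z : f.fiber y) (hz : f.fiberι y z ∈ U) : Order.coheight z ≤ m := by
  obtain ⟨g, hg, hgC⟩ := hfg
  letI : Algebra Γ(Y, V) Γ(X, U) := (f.appLE V U e).hom.toAlgebra
  let g' : MvPolynomial (Fin m) Γ(Y, V) →ₐ[Γ(Y, V)] Γ(X, U) :=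
    { g with commutes' := fun a => (by
        change g (MvPolynomial.C a) = (f.appLE V U e).hom a
        rw [← hgC]; rfl) }
  have hyV : y ∈ V := by
    have := e hz
    rwa [Scheme.Hom.mem_preimage, map_fiberι] at this
  let p : PrimeSpectrum Γ(Y, V) := hV.primeIdealOf ⟨y, hyV⟩
  have hdim := ringKrullDim_fiber_le m g' hg p.asIdeal
  apply Order.coheight_le
  intro t ht
  have hzt : ∀ i, z ≤ t i := fun i => by
    rw [← ht]
    exact t.monotone (Fin.zero_le i)
  have hmem : ∀ i, f.fiberι y (t i) ∈ U := fun i => by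
    have := (fibre_le_iff f y _ _).1 (hzt i)
    exact this.mem_open U.2 hz
  have hcomap : ∀ i, PrimeSpectrum.comap (algebraMap Γ(Y, V) Γ(X, U))
      (hU.primeIdealOf ⟨f.fiberι y (t i), hmem i⟩) = p := fun i => by
    apply PrimeSpectrum.ext
    have h1 := primeIdealOf_map f hU hV e ⟨f.fiberι y (t i), hmem i⟩
    show Ideal.comap (f.appLE V U e).hom _ = _
    rw [← h1]
    congr 3
    exact map_fiberι f y (t i)
  let Q : Fin (t.length + 1) → (PrimeSpectrum.comap (algebraMap Γ(Y, V) Γ(X, U)) ⁻¹' {p}) :=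
    fun i => ⟨hU.primeIdealOf ⟨f.fiberι y (t i), hmem i⟩, hcomap i⟩
  have hQ : ∀ i j, i < j → Q j < Q i := by
    intro i j hij
    have hlt : t i < t j := t.strictMono hij
    rw [lt_iff_le_not_ge, fibre_le_iff, fibre_le_iff] at hlt
    rw [lt_iff_le_not_ge]
    show hU.primeIdealOf _ ≤ hU.primeIdealOf _ ∧ ¬ hU.primeIdealOf _ ≤ hU.primeIdealOf _
    rw [primeIdealOf_le_iff, primeIdealOf_le_iff]
    exact hlt
  let s : LTSeries (PrimeSpectrum (p.asIdeal.Fiber Γ(X, U))) :=
    { length := t.length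
      toFun := fun i => PrimeSpectrum.preimageOrderIsoFiber Γ(Y, V) Γ(X, U) p (Q (Fin.rev i))
      step := fun i => (PrimeSpectrum.preimageOrderIsoFiber Γ(Y, V) Γ(X, U) p).strictMono
        (hQ _ _ (by simp [Fin.rev_lt_rev])) }
  have h2 : (s.length : WithBot ℕ∞) ≤ ringKrullDim (p.asIdeal.Fiber Γ(X, U)) :=
    Order.LTSeries.length_le_krullDim s
  have h3 : ((t.length : ℕ∞) : WithBot ℕ∞) ≤ ((m : ℕ∞) : WithBot ℕ∞) := by
    exact_mod_cast le_trans h2 hdim
  exact_mod_cast h3

/-- The set of points having an affine neighbourhood generated by at most `m` elements over an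
affine open of the base. -/
def W (f : X ⟶ Y) (m : ℕ) : Set X :=
  {x | ∃ (U : X.Opens) (V : Y.Opens) (_ : IsAffineOpen U) (_ : IsAffineOpen V) (e : U ≤ f ⁻¹ᵁ V)
    (k : ℕ), k ≤ m ∧ x ∈ U ∧ ∃ g : MvPolynomial (Fin k) Γ(Y, V) →+* Γ(X, U),
      Function.Surjective g ∧ g.comp MvPolynomial.C = (f.appLE V U e).hom}

theorem isOpen_W (f : X ⟶ Y) (m : ℕ) : IsOpen (W f m) := by
  rw [isOpen_iff_forall_mem_open]
  rintro x ⟨U, V, hU, hV, e, k, hk, hx, hg⟩
  exact ⟨U, fun x' hx' => ⟨U, V, hU, hV, e, k, hk, hx', hg⟩, U.2, hx⟩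

theorem W_mono (f : X ⟶ Y) {m m' : ℕ} (h : m ≤ m') : W f m ⊆ W f m' := by
  rintro x ⟨U, V, hU, hV, e, k, hk, hx, hg⟩
  exact ⟨U, V, hU, hV, e, k, hk.trans h, hx, hg⟩

theorem iUnion_W (f : X ⟶ Y) [LocallyOfFiniteType f] : ⋃ m, W f m = Set.univ := by
  rw [Set.eq_univ_iff_forall]
  intro x
  obtain ⟨V, hV, hfxV, -⟩ := Opens.isBasis_iff_nbhd.mp Y.isBasis_affineOpens
    (show f x ∈ (⊤ : Y.Opens) from trivial)
  obtain ⟨U, hU, hxU, e⟩ := Opens.isBasis_iff_nbhd.mp X.isBasis_affineOpens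
    (show x ∈ f ⁻¹ᵁ V from hfxV)
  have hft : (f.appLE V U e).hom.FiniteType := f.finiteType_appLE hV hU e
  letI : Algebra Γ(Y, V) Γ(X, U) := (f.appLE V U e).hom.toAlgebra
  have hft' : Algebra.FiniteType Γ(Y, V) Γ(X, U) := hft
  obtain ⟨k, g, hg⟩ := Algebra.FiniteType.iff_quotient_mvPolynomial''.1 hft'
  rw [Set.mem_iUnion]
  refine ⟨k, U, V, hU, hV, e, k, le_rfl, hxU, g.toRingHom, hg, ?_⟩
  ext a
  exact g.commutes a

theorem main (f : X ⟶ Y) [CompactSpace Y] [LocallyOfFiniteType f] [QuasiCompact f] :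
    ∃ n : ℕ, ∀ y : Y, topologicalKrullDim ↥(f.fiber y) ≤ n := by
  have : CompactSpace X := QuasiCompact.compactSpace_of_compactSpace f
  obtain ⟨n, hn⟩ := isCompact_univ.elim_directed_cover (W f) (isOpen_W f)
    (iUnion_W f).ge (directed_of_isDirected_le fun _ _ h => W_mono f h)
  refine ⟨n, fun y => ?_⟩
  rw [topologicalKrullDim_eq_krullDim, Order.krullDim_eq_iSup_coheight]
  apply iSup_le
  intro z
  obtain ⟨U, V, hU, hV, e, k, hk, hx, hg⟩ := hn (Set.mem_univ (f.fiberι y z))
  have h1 := coheight_fibre_le f hU hV e k hg y z hx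
  have h2 : Order.coheight z ≤ (n : ℕ∞) := le_trans h1 (by exact_mod_cast hk)
  exact_mod_cast h2

end Groth.Agent.Lib.lead.FibreDimBound

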