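import Mathlib
import Groth.Agent.Lib.Helper3.QuasiFiniteDim
import Groth.Agent.Lib.Helper29.EffCart

/-!
# Codimension zero points and quasi-finiteness (scheme level)
-/

set_option autoImplicit false
universe u
open CategoryTheory CategoryTheory.Limits AlgebraicGeometry

namespace Groth.Agent.Lib.lead.QFCodim

/-- A point whose local ring has dimension zero has no proper generizations. -/
theorem eq_of_specializes_of_dim_zero (X : Scheme.{u}) {x x' : X}
    (hx : ringKrullDim (X.presheaf.stalk x) = 0) (h : x' ⤳ x) : x' = x := by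
  have hmem : x' ∈ Set.range (X.fromSpecStalk x) := by
    rw [Scheme.range_fromSpecStalk]; exact h
  obtain ⟨p, rfl⟩ := hmem
  haveI : Ring.KrullDimLE 0 (X.presheaf.stalk x) := Ring.krullDimLE_iff.mpr hx.le
  have : p = IsLocalRing.closedPoint (X.presheaf.stalk x) :=
    @Subsingleton.elim (PrimeSpectrum (X.presheaf.stalk x))
      (Ring.KrullDimLE.subsingleton_primeSpectrum (X.presheaf.stalk x)) _ _
  rw [this, Scheme.fromSpecStalk_closedPoint]

/-- Every point has a generization whose local ring has dimension zero. -/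
theorem exists_specializes_dim_zero (X : Scheme.{u}) (x : X) :
    ∃ x' : X, x' ⤳ x ∧ ringKrullDim (X.presheaf.stalk x') = 0 := by
  obtain ⟨_, ⟨U, hU, rfl⟩, hxU, -⟩ := X.isBasis_affineOpens.exists_subset_of_mem_open
    (Set.mem_univ x) isOpen_univ
  let q := hU.primeIdealOf ⟨x, hxU⟩
  obtain ⟨q', hq', hle⟩ := Ideal.exists_minimalPrimes_le (bot_le : (⊥ : Ideal Γ(X, U)) ≤ q.asIdeal)
  have hq'p : q'.IsPrime := hq'.1.1
  refine ⟨hU.fromSpec ⟨q', hq'p⟩, ?_, ?_⟩
  · have h1 : (⟨q', hq'p⟩ : PrimeSpectrum Γ(X, U)) ⤳ q := (PrimeSpectrum.le_iff_specializes _ _).1 hle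
    have h2 := h1.map hU.fromSpec.continuous
    rwa [hU.fromSpec_primeIdealOf] at h2
  · rw [Groth.Agent.Lib.Helper29.EffCart.ringKrullDim_stalk_fromSpec ⟨U, hU⟩ ⟨q', hq'p⟩]
    have : q'.height = 0 := Ideal.height_eq_zero_iff.mpr hq'
    simp [this]


/-- A locally Noetherian scheme without nontrivial specializations is discrete. -/
theorem discreteTopology_of_forall_specializes_eq (F : Scheme.{u}) [IsLocallyNoetherian F]
    (h : ∀ z z' : F, z' ⤳ z → z' = z) : DiscreteTopology F := by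
  have hdim : topologicalKrullDim F ≤ 0 := by
    rw [topologicalKrullDim, Order.krullDim_nonpos_iff_forall_isMax]
    intro Z Z' hZZ'
    obtain ⟨ξ, hξ⟩ := QuasiSober.sober Z.isIrreducible Z.isClosed
    obtain ⟨ξ', hξ'⟩ := QuasiSober.sober Z'.isIrreducible Z'.isClosed
    have h1 : ξ ∈ (Z' : Set F) := hZZ' hξ.mem
    have h2 : ξ' ⤳ ξ := by
      rw [specializes_iff_mem_closure, hξ'.def]; exact h1
    have h3 := h ξ ξ' h2
    subst h3
    intro x hx
    have : (Z' : Set F) = Z := hξ'.def.symm.trans hξ.def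
    have hx' : x ∈ (Z' : Set F) := hx
    rw [this] at hx'; exact hx'
  haveI := IsLocallyArtinian.of_topologicalKrullDim_le_zero hdim
  infer_instance

/-- If all points of the fibre through `u` have zero-dimensional local rings (in the total space), a
morphism locally of finite type is quasi-finite at `u`. -/
theorem quasiFiniteAt_of_fibre_dim_zero {U V : Scheme.{u}} (h : U ⟶ V) [LocallyOfFiniteType h]
    (u : U) (hfib : ∀ u' : U, h u' = h u → ringKrullDim (U.presheaf.stalk u') = 0) :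
    h.QuasiFiniteAt u := by
  rw [Scheme.Hom.quasiFiniteAt_iff_isOpen_singleton_asFiber]
  have : LocallyOfFiniteType (h.fiberToSpecResidueField (h u)) :=
    MorphismProperty.pullback_snd (P := @LocallyOfFiniteType) _ _ inferInstance
  haveI : IsLocallyNoetherian (h.fiber (h u)) :=
    LocallyOfFiniteType.isLocallyNoetherian (h.fiberToSpecResidueField (h u))
  haveI := discreteTopology_of_forall_specializes_eq (h.fiber (h u)) (by
    intro z z' hz
    have h1 : h.fiberι (h u) z' ⤳ h.fiberι (h u) z := hz.map (h.fiberι (h u)).continuous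
    have h2 : h (h.fiberι (h u) z) = h u := by
      have : h.fiberι (h u) z ∈ Set.range (h.fiberι (h u)) := ⟨z, rfl⟩
      rw [h.range_fiberι] at this; exact this
    have h3 := eq_of_specializes_of_dim_zero U (hfib _ h2) h1
    exact (h.fiberι (h u)).isEmbedding.injective h3)
  exact isOpen_discrete _

/-- If `h` is quasi-finite at `u'`, and `u` is a specialization of `u'` in the same fibre, then `u = u'`. -/
theorem eq_of_specializes_of_quasiFiniteAt {U V : Scheme.{u}} (h : U ⟶ V) [LocallyOfFiniteType h]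
    {u u' : U} (hq : h.QuasiFiniteAt u') (hs : u' ⤳ u) (hfib : h u = h u') : u = u' := by
  have hcl := hq.isClopen_singleton_asFiber.1
  -- the point `u` as a point of the fibre over `h u'`
  have hu : u ∈ Set.range (h.fiberι (h u')) := by rw [h.range_fiberι]; exact hfib
  obtain ⟨z, hz⟩ := hu
  have hz' : h.asFiber u' ⤳ z := by
    rw [← (h.fiberι (h u')).isEmbedding.specializes_iff, hz, h.fiberι_asFiber]; exact hs
  have : z ∈ ({h.asFiber u'} : Set _) := by
    have := hz'.mem_closed hcl (Set.mem_singleton _)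
    exact this
  rw [Set.mem_singleton_iff] at this
  rw [← hz, this, h.fiberι_asFiber]


theorem quasiFiniteAt_iff_exists_open {U V : Scheme.{u}} (h : U ⟶ V) [LocallyOfFiniteType h] (x : U) :
    h.QuasiFiniteAt x ↔ ∃ O : Set U, IsOpen O ∧ O ∩ h ⁻¹' {h x} = {x} := by
  rw [Scheme.Hom.quasiFiniteAt_iff_isOpen_singleton_asFiber, ← (h.fiberHomeo (h x)).isOpen_image]
  simp only [Set.image_singleton, Scheme.Hom.asFiber, Homeomorph.apply_symm_apply]
  rw [isOpen_induced_iff]
  constructor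
  · rintro ⟨O, hO, hOe⟩
    refine ⟨O, hO, ?_⟩
    ext y
    constructor
    · rintro ⟨hy1, hy2⟩
      have : (⟨y, hy2⟩ : h ⁻¹' {h x}) ∈ Subtype.val ⁻¹' O := hy1
      rw [hOe] at this
      exact congrArg Subtype.val this
    · rintro rfl
      have : (⟨y, rfl⟩ : h ⁻¹' {h y}) ∈ Subtype.val ⁻¹' O := by rw [hOe]; rfl
      exact ⟨this, rfl⟩
  · rintro ⟨O, hO, hOe⟩
    refine ⟨O, hO, ?_⟩
    ext ⟨y, hy⟩
    constructor
    · intro hy1
      have : y ∈ O ∩ h ⁻¹' {h x} := ⟨hy1, hy⟩
      rw [hOe] at this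
      exact Subtype.ext this
    · intro hy1
      have : y = x := congrArg Subtype.val hy1
      subst this
      have : y ∈ O ∩ h ⁻¹' {h y} := by rw [hOe]; rfl
      exact this.1

/-- Quasi-finiteness at a point descends along an étale (or just open) map of the source. -/
theorem quasiFiniteAt_of_comp_of_isOpenMap {W U V : Scheme.{u}} (p : W ⟶ U) (h : U ⟶ V)
    [LocallyOfFiniteType h] [LocallyOfFiniteType (p ≫ h)] (hp : IsOpenMap p) (w : W)
    (hw : (p ≫ h).QuasiFiniteAt w) : h.QuasiFiniteAt (p w) := by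
  rw [quasiFiniteAt_iff_exists_open] at hw ⊢
  obtain ⟨O, hO, hOe⟩ := hw
  refine ⟨p '' O, hp O hO, ?_⟩
  have hwO : w ∈ O := by
    have : w ∈ O ∩ (p ≫ h) ⁻¹' {(p ≫ h) w} := by rw [hOe]; rfl
    exact this.1
  ext y
  constructor
  · rintro ⟨⟨w', hw'O, rfl⟩, hy2⟩
    have : w' ∈ O ∩ (p ≫ h) ⁻¹' {(p ≫ h) w} := by
      refine ⟨hw'O, ?_⟩
      simp only [Set.mem_preimage, Set.mem_singleton_iff, Scheme.Hom.comp_apply]
      exact hy2
    rw [hOe] at this
    rw [Set.mem_singleton_iff] at this ⊢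
    rw [this]
  · rintro rfl
    exact ⟨⟨w, hwO, rfl⟩, rfl⟩

theorem quasiFiniteAt_comp_of_locallyQuasiFinite {W U V : Scheme.{u}} (p : W ⟶ U) (h : U ⟶ V)
    [LocallyQuasiFinite p] (w : W) (hw : h.QuasiFiniteAt (p w)) : (p ≫ h).QuasiFiniteAt w := by
  simp only [Scheme.Hom.QuasiFiniteAt, Scheme.Hom.stalkMap_comp]
  exact (p.quasiFiniteAt w).comp hw

/-- Transfer of quasi-finiteness at a point between two chart diagrams. -/
theorem quasiFiniteAt_transfer {W Z U V U₁ V₁ : Scheme.{u}} (pU : W ⟶ U) (pU₁ : W ⟶ U₁)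
    (qV : Z ⟶ V) (qV₁ : Z ⟶ V₁) (g : W ⟶ Z) (h : U ⟶ V) (h₁ : U₁ ⟶ V₁)
    [Etale pU] [Etale pU₁] [Etale qV] [Etale qV₁] [LocallyOfFiniteType h]
    (e : g ≫ qV = pU ≫ h) (e₁ : g ≫ qV₁ = pU₁ ≫ h₁) (w : W)
    (hq : h₁.QuasiFiniteAt (pU₁ w)) : h.QuasiFiniteAt (pU w) := by
  haveI : LocallyQuasiFinite pU₁ := Groth.Agent.Lib.Helper3.locallyQuasiFinite_of_unramified pU₁
  haveI : LocallyQuasiFinite qV := Groth.Agent.Lib.Helper3.locallyQuasiFinite_of_unramified qV
  haveI : LocallyQuasiFinite qV₁ := Groth.Agent.Lib.Helper3.locallyQuasiFinite_of_unramified qV₁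
  haveI : LocallyOfFiniteType (pU ≫ h) := inferInstance
  have h1 : (pU₁ ≫ h₁).QuasiFiniteAt w := quasiFiniteAt_comp_of_locallyQuasiFinite pU₁ h₁ w hq
  rw [← e₁, Scheme.Hom.quasiFiniteAt_comp_iff] at h1
  have h2 : (g ≫ qV).QuasiFiniteAt w := Scheme.Hom.quasiFiniteAt_comp_iff.mpr h1
  rw [e] at h2
  exact quasiFiniteAt_of_comp_of_isOpenMap pU h pU.isOpenMap w h2


end Groth.Agent.Lib.lead.QFCodim
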