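import Mathlib
import Groth.Agent.Lib.lead.QFCodim

open CategoryTheory CategoryTheory.Limits AlgebraicGeometry
open Groth.Agent.Lib.lead

universe u

namespace Groth.Agent.Lib.lead.QFGeneric

/-- A generic point of an irreducible component has no proper generizations. -/
theorem eq_of_specializes_of_mem_irreducibleComponents {T : Type*} [TopologicalSpace T] [T0Space T]
    {x y : T} (hx : closure {x} ∈ irreducibleComponents T) (h : y ⤳ x) : y = x := by
  have h1 : closure {x} ⊆ closure {y} := by
    rw [← specializes_iff_closure_subset]; exact h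
  have h2 : closure {y} ⊆ closure {x} :=
    hx.2 isIrreducible_singleton.closure h1
  have h3 : x ⤳ y := by
    rw [specializes_iff_closure_subset]; exact h2
  exact (h3.antisymm h).eq.symm

/-- Every point is a specialization of a generic point of an irreducible component. -/
theorem exists_generic_specializes {T : Type*} [TopologicalSpace T] [QuasiSober T] (x : T) :
    ∃ z : T, closure {z} ∈ irreducibleComponents T ∧ z ⤳ x := by
  have hC := irreducibleComponent_mem_irreducibleComponents x
  obtain ⟨z, hz⟩ := QuasiSober.sober (isIrreducible_irreducibleComponent (x := x))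
    (isClosed_irreducibleComponent (x := x))
  refine ⟨z, ?_, ?_⟩
  · rw [hz.def]; exact hC
  · rw [specializes_iff_mem_closure, hz.def]; exact mem_irreducibleComponent

theorem main {X Y : Scheme.{u}} (f : X ⟶ Y)
    [LocallyOfFiniteType f] (η : Y) (hη : closure {η} ∈ irreducibleComponents ↥Y) :
    ((∀ x : X, f.base x = η → closure {x} ∈ irreducibleComponents ↥X) ↔
      (∀ x : X, f.base x = η → f.QuasiFiniteAt x)) ∧
    ((∀ x : X, f.base x = η → closure {x} ∈ irreducibleComponents ↥X) ↔
      (∀ x : X, f.base x = η → closure {x} ∈ irreducibleComponents ↥X → f.QuasiFiniteAt x)) := by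
  have hAB : (∀ x : X, f.base x = η → closure {x} ∈ irreducibleComponents ↥X) →
      (∀ x : X, f.base x = η → f.QuasiFiniteAt x) := by
    intro hA x hx
    rw [Scheme.Hom.quasiFiniteAt_iff_isOpen_singleton_asFiber]
    haveI : IsLocallyNoetherian (f.fiber (f x)) := by
      unfold Scheme.Hom.fiber
      infer_instance
    haveI := QFCodim.discreteTopology_of_forall_specializes_eq (f.fiber (f x)) (by
      intro z z' hz
      have h1 : f.fiberι (f x) z' ⤳ f.fiberι (f x) z := hz.map (f.fiberι (f x)).continuous
      have h2 : f (f.fiberι (f x) z) = f x := by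
        have : f.fiberι (f x) z ∈ Set.range (f.fiberι (f x)) := ⟨z, rfl⟩
        rw [f.range_fiberι] at this; exact this
      have h3 := eq_of_specializes_of_mem_irreducibleComponents (hA _ (h2.trans hx)) h1
      exact (f.fiberι (f x)).isEmbedding.injective h3)
    exact isOpen_discrete _
  have hCA : (∀ x : X, f.base x = η → closure {x} ∈ irreducibleComponents ↥X → f.QuasiFiniteAt x) →
      (∀ x : X, f.base x = η → closure {x} ∈ irreducibleComponents ↥X) := by
    intro hC x hx
    obtain ⟨z, hz, hzx⟩ := exists_generic_specializes x
    have h1 : f z ⤳ f x := hzx.map f.continuous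
    have h2 : f z = η := by
      rw [hx] at h1
      exact eq_of_specializes_of_mem_irreducibleComponents hη h1
    have h3 := hC z h2 hz
    have h4 := QFCodim.eq_of_specializes_of_quasiFiniteAt f h3 hzx (hx.trans h2.symm)
    rw [h4]; exact hz
  refine ⟨⟨hAB, fun hB => hCA fun x hx _ => hB x hx⟩, ⟨fun hA x hx _ => hAB hA x hx, hCA⟩⟩

end Groth.Agent.Lib.lead.QFGeneric

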