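import Mathlib
import Groth.Agent.Lib.lead.ResTrdegBridge
import Groth.Agent.Lib.lead.TrdegDrop

open scoped Cardinal
open AlgebraicGeometry CategoryTheory Groth.Agent.Lib.Helper7

namespace Groth.Agent.Lib.lead.S9381Aux

universe u

theorem finiteType_quotient {A B : Type u} [CommRing A] [CommRing B] [Algebra A B]
    [Algebra.FiniteType A B] (p : Ideal A) (P : Ideal B) [P.LiesOver p] :
    Algebra.FiniteType (A ⧸ p) (B ⧸ P) := by
  haveI : Algebra.FiniteType A (B ⧸ P) :=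
    Algebra.FiniteType.of_surjective (Ideal.Quotient.mkₐ A P) Ideal.Quotient.mk_surjective
  exact Algebra.FiniteType.of_restrictScalars_finiteType A (A ⧸ p) (B ⧸ P)

theorem main {X S : Scheme.{u}} (f : X ⟶ S) [LocallyOfFiniteType f] (x x' : X)
    (hsp : x ⤳ x') (hne : x ≠ x') (hfx : f.base x = f.base x') :
    @Algebra.trdeg (S.residueField (f.base x')) (X.residueField x') _ _ (f.residueFieldMap x').hom.toAlgebra <
      @Algebra.trdeg (S.residueField (f.base x)) (X.residueField x) _ _ (f.residueFieldMap x).hom.toAlgebra := by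
  -- affine opens
  obtain ⟨_, ⟨V, hV : IsAffineOpen V, rfl⟩, hfx'V, -⟩ :=
    (S.isBasis_affineOpens).exists_subset_of_mem_open (Set.mem_univ (f x')) isOpen_univ
  obtain ⟨_, ⟨U, hU : IsAffineOpen U, rfl⟩, hx'U, hUV⟩ :=
    (X.isBasis_affineOpens).exists_subset_of_mem_open (show x' ∈ (f ⁻¹ᵁ V : Set X) from hfx'V)
      (f ⁻¹ᵁ V).isOpen
  have e : U ≤ f ⁻¹ᵁ V := hUV
  have hxU : x ∈ U := hsp.mem_open U.isOpen hx'U
  have hfxV : f x ∈ V := e hxU
  have hfx'V' : f x' ∈ V := e hx'U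
  letI : Algebra Γ(S, V) Γ(X, U) := (f.appLE V U e).hom.toAlgebra
  have halg : algebraMap Γ(S, V) Γ(X, U) = (f.appLE V U e).hom := rfl
  haveI : Algebra.FiniteType Γ(S, V) Γ(X, U) := f.finiteType_appLE hV hU e
  set p : Ideal Γ(S, V) := (hV.primeIdealOf ⟨f x, hfxV⟩).asIdeal with hp
  set P : Ideal Γ(X, U) := (hU.primeIdealOf ⟨x, hxU⟩).asIdeal with hP
  set P' : Ideal Γ(X, U) := (hU.primeIdealOf ⟨x', hx'U⟩).asIdeal with hP'
  have hp' : p = (hV.primeIdealOf ⟨f x', hfx'V'⟩).asIdeal := by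
    rw [hp]
    congr 2
    exact Subtype.ext hfx
  haveI : P.LiesOver p := ResTrdegBridge.liesOver_primeIdealOf f x hV hU e hxU hfxV halg
  haveI : P'.LiesOver p := by
    rw [hp']
    exact ResTrdegBridge.liesOver_primeIdealOf f x' hV hU e hx'U hfx'V' halg
  haveI : p.IsPrime := (hV.primeIdealOf ⟨f x, hfxV⟩).isPrime
  haveI : P.IsPrime := (hU.primeIdealOf ⟨x, hxU⟩).isPrime
  haveI : P'.IsPrime := (hU.primeIdealOf ⟨x', hx'U⟩).isPrime
  rw [ResTrdegBridge.trdeg_residueField_eq f x hV hU e hxU hfxV halg p P hp hP,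
    ResTrdegBridge.trdeg_residueField_eq f x' hV hU e hx'U hfx'V' halg p P' hp' hP']
  have hlt : P < P' := by
    have hle : hU.primeIdealOf ⟨x, hxU⟩ ≤ hU.primeIdealOf ⟨x', hx'U⟩ :=
      (AffPts.primeIdealOf_le_iff hU ⟨x, hxU⟩ ⟨x', hx'U⟩).2 hsp
    refine lt_of_le_of_ne hle ?_
    intro heq
    have h1 : hU.primeIdealOf ⟨x, hxU⟩ = hU.primeIdealOf ⟨x', hx'U⟩ := PrimeSpectrum.ext heq
    have h2 := AffPts.primeIdealOf_injective hU h1
    exact hne (congrArg Subtype.val h2)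
  haveI : Algebra.FiniteType (Γ(S, V) ⧸ p) (Γ(X, U) ⧸ P') := finiteType_quotient p P'
  exact TrdegDrop.trdeg_quotient_lt_of_lt p P P' hlt (trdeg_lt_aleph0_of_finiteType)

end Groth.Agent.Lib.lead.S9381Aux

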