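import Mathlib
import Groth.Agent.Lib.lead.QFCodim
import Groth.Agent.Lib.lead.QFGeneric
import Groth.Agent.Lib.lead.SchemeDimIneqGlobal
import Groth.Agent.Lib.lead.S9381Aux

open CategoryTheory CategoryTheory.Limits AlgebraicGeometry
open Groth.Agent.Lib.lead

universe u

namespace Groth.Agent.Lib.lead.QFCodimOne

theorem trdeg_eq_zero_of_quasiFinite_local {A B : Type u} [CommRing A] [CommRing B] [IsLocalRing A]
    [IsLocalRing B] (φ : A →+* B) [IsLocalHom φ] (hφ : φ.QuasiFinite) :
    @Algebra.trdeg (IsLocalRing.ResidueField A) (IsLocalRing.ResidueField B) _ _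
      (IsLocalRing.ResidueField.map φ).toAlgebra = 0 := by
  letI alg1 : Algebra A B := φ.toAlgebra
  haveI : Algebra.QuasiFinite A B := hφ
  haveI : IsLocalHom (algebraMap A B) := ‹IsLocalHom φ›
  haveI : Algebra.QuasiFinite A (IsLocalRing.ResidueField B) :=
    inferInstanceAs (Algebra.QuasiFinite A (B ⧸ IsLocalRing.maximalIdeal B))
  haveI : IsScalarTower A (IsLocalRing.ResidueField A) (IsLocalRing.ResidueField B) := by
    refine IsScalarTower.of_algebraMap_eq fun a => ?_
    rfl
  haveI : Algebra.QuasiFinite (IsLocalRing.ResidueField A) (IsLocalRing.ResidueField B) :=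
    Algebra.QuasiFinite.of_restrictScalars A _ _
  haveI : Module.Finite (IsLocalRing.ResidueField A) (IsLocalRing.ResidueField B) :=
    Module.Finite.of_quasiFinite
  haveI : Algebra.IsAlgebraic (IsLocalRing.ResidueField A) (IsLocalRing.ResidueField B) :=
    Algebra.IsAlgebraic.of_finite _ _
  have key : (IsLocalRing.ResidueField.map φ).toAlgebra =
      (inferInstance : Algebra (IsLocalRing.ResidueField A) (IsLocalRing.ResidueField B)) := by
    refine Algebra.algebra_ext _ _ (fun r => ?_)
    obtain ⟨a, rfl⟩ := IsLocalRing.residue_surjective r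
    rfl
  rw [key]
  exact _root_.trdeg_eq_zero

/-- Quasi-finiteness at a point forces the residue field extension to be algebraic. -/
theorem trdeg_eq_zero_of_quasiFiniteAt {X Y : Scheme.{u}} (f : X ⟶ Y) (x : X)
    (hq : f.QuasiFiniteAt x) :
    @Algebra.trdeg (Y.residueField (f x)) (X.residueField x) _ _
      (f.residueFieldMap x).hom.toAlgebra = 0 :=
  trdeg_eq_zero_of_quasiFinite_local (f.stalkMap x).hom hq

/-- Locally Noetherian base: quasi-finite at generic points implies quasi-finite over points of
codimension at most one. -/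
theorem main_noeth {X Y : Scheme.{u}} [IsLocallyNoetherian Y] (f : X ⟶ Y) [LocallyOfFiniteType f]
    (y : Y) (hy : ringKrullDim (Y.presheaf.stalk y) ≤ 1)
    (hgen : ∀ ξ : X, closure {ξ} ∈ irreducibleComponents X → f ξ ⤳ y → f.QuasiFiniteAt ξ)
    (x : X) (hx : f x = y) : f.QuasiFiniteAt x := by
  have key : ∀ z : X, f z = y →
      @Algebra.trdeg (Y.residueField (f z)) (X.residueField z) _ _
        (f.residueFieldMap z).hom.toAlgebra = 0 := by
    intro z hz
    obtain ⟨n, hn⟩ := SchemeDimIneqGlobal.exists_nat_trdeg f z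
    have h := SchemeDimIneq.main f z n 0 hn (fun ξ hξ hsp => by
      have hq := hgen ξ hξ (hz ▸ hsp.map f.continuous)
      rw [trdeg_eq_zero_of_quasiFiniteAt f ξ hq]
      simp)
    rw [hn]
    by_contra hne
    have hn1 : 1 ≤ n := by
      rcases Nat.eq_zero_or_pos n with h0 | h0
      · exact absurd (by rw [h0]; simp) hne
      · exact h0
    have hd0 : ringKrullDim (X.presheaf.stalk z) = 0 := by
      have hnn : 0 ≤ ringKrullDim (X.presheaf.stalk z) := ringKrullDim_nonneg_of_nontrivial
      have hle : ringKrullDim (X.presheaf.stalk z) + (n : WithBot ℕ∞) ≤ 1 := by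
        refine le_trans h ?_
        rw [hz]
        simpa using hy
      refine le_antisymm ?_ hnn
      obtain ⟨d', hd'⟩ := WithBot.ne_bot_iff_exists.mp (ne_of_gt (lt_of_lt_of_le (WithBot.bot_lt_coe (0 : ℕ∞)) hnn))
      rw [← hd'] at hle ⊢
      have hle' : d' + (n : ℕ∞) ≤ 1 := by exact_mod_cast hle
      have : d' ≤ 0 := by
        cases d' with
        | top => simp at hle'
        | coe m =>
          have : m + n ≤ 1 := by exact_mod_cast hle'
          have : m = 0 := by omega
          simp [this]
      exact_mod_cast this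
    obtain ⟨ξ, hξ, hξz⟩ := QFGeneric.exists_generic_specializes z
    have hξz' : ξ = z := QFCodim.eq_of_specializes_of_dim_zero X hd0 hξz
    subst hξz'
    have hq := hgen ξ hξ (by rw [hz])
    have h0 := trdeg_eq_zero_of_quasiFiniteAt f ξ hq
    rw [hn] at h0
    exact hne h0
  rw [Scheme.Hom.quasiFiniteAt_iff_isOpen_singleton_asFiber]
  haveI : IsLocallyNoetherian (f.fiber (f x)) := by
    unfold Scheme.Hom.fiber
    infer_instance
  haveI := QFCodim.discreteTopology_of_forall_specializes_eq (f.fiber (f x)) (by
    intro z z' hz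
    have h1 : f.fiberι (f x) z' ⤳ f.fiberι (f x) z := hz.map (f.fiberι (f x)).continuous
    have h2 : ∀ w : f.fiber (f x), f (f.fiberι (f x) w) = f x := by
      intro w
      have : f.fiberι (f x) w ∈ Set.range (f.fiberι (f x)) := ⟨w, rfl⟩
      rw [f.range_fiberι] at this; exact this
    by_contra hne
    have hne' : f.fiberι (f x) z' ≠ f.fiberι (f x) z :=
      fun h => hne ((f.fiberι (f x)).isEmbedding.injective h)
    have h3 := S9381Aux.main f _ _ h1 hne' ((h2 z').trans (h2 z).symm)
    rw [key _ ((h2 z').trans hx)] at h3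
    exact not_lt_bot h3)
  exact isOpen_discrete _

end Groth.Agent.Lib.lead.QFCodimOne
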