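import Mathlib
import Groth.Agent.Lib.lead.QFCodimOne
import Groth.Agent.Lib.lead.FibreOrder
import Groth.Agent.Lib.lead.FibreDimBound
import Groth.Agent.Lib.Helper24.FibreDim.Scheme

set_option autoImplicit false
universe u
open CategoryTheory CategoryTheory.Limits AlgebraicGeometry

namespace Groth.Agent.Lib.lead.QFSurjComp

open Groth.Agent.Lib.Helper24

variable {X Y S : Scheme.{u}}

/-- Residue transcendence degrees grow along composition on the left. -/
theorem tr_le_comp (f : X ⟶ Y) (g : Y ⟶ S) [LocallyOfFiniteType g]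
    [LocallyOfFiniteType (f ≫ g)] (x : X) : FibreDim.tr g (f x) ≤ FibreDim.tr (f ≫ g) x := by
  letI a1 : Algebra (S.residueField (g (f x))) (Y.residueField (f x)) :=
    (g.residueFieldMap (f x)).hom.toAlgebra
  letI a2 : Algebra (S.residueField (g (f x))) (X.residueField x) :=
    ((f ≫ g).residueFieldMap x).hom.toAlgebra
  let ψ : Y.residueField (f x) →ₐ[S.residueField (g (f x))] X.residueField x :=
    { (f.residueFieldMap x).hom with
      commutes' := fun c => by
        show (f.residueFieldMap x).hom ((g.residueFieldMap (f x)).hom c) =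
          ((f ≫ g).residueFieldMap x).hom c
        rw [Scheme.residueFieldMap_comp]
        rfl }
  have h := trdeg_le_of_injective ψ (f.residueFieldMap x).hom.injective
  have h1 := FibreDim.tr_spec g (f x)
  have h2 := FibreDim.tr_spec (f ≫ g) x
  have h3 : ((FibreDim.tr g (f x) : ℕ) : Cardinal) ≤ (FibreDim.tr (f ≫ g) x : ℕ) := by
    rw [← h1, ← h2]
    exact h
  exact_mod_cast h3

theorem main (f : X ⟶ Y) (g : Y ⟶ S) [Surjective f]
    [LocallyQuasiFinite (f ≫ g)] [LocallyOfFiniteType (f ≫ g)] [LocallyOfFiniteType g] :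
    LocallyQuasiFinite g := by
  have htr : ∀ y, FibreDim.tr g y = 0 := by
    intro y
    obtain ⟨x, rfl⟩ := f.surjective y
    have h0 : FibreDim.tr (f ≫ g) x = 0 := by
      have := QFCodimOne.trdeg_eq_zero_of_quasiFiniteAt (f ≫ g) x ((f ≫ g).quasiFiniteAt x)
      rw [FibreDim.tr_spec] at this
      exact_mod_cast this
    have := tr_le_comp f g x
    omega
  rw [locallyQuasiFinite_iff_isDiscrete_preimage_singleton]
  intro s
  have : LocallyOfFiniteType (g.fiberToSpecResidueField s) :=
    inferInstanceAs (LocallyOfFiniteType (Limits.pullback.snd g (S.fromSpecResidueField s)))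
  have : IsLocallyNoetherian (g.fiber s) :=
    LocallyOfFiniteType.isLocallyNoetherian (g.fiberToSpecResidueField s)
  have hdim : topologicalKrullDim (g.fiber s) ≤ 0 := by
    rw [StalkDimIneq.topologicalKrullDim_eq_krullDim, Order.krullDim_nonpos_iff_forall_isMax]
    intro w w' hww'
    by_contra hcon
    have hlt : w < w' := lt_of_le_not_ge hww' hcon
    have h1 := FibreOrder.fiberι_strictMono g s hlt
    have h2 := FibreDim.tr_lt_of_lt g h1
      (by rw [FibreDimBound.map_fiberι, FibreDimBound.map_fiberι])
    rw [htr, htr] at h2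
    exact lt_irrefl _ h2
  have : IsLocallyArtinian (g.fiber s) := .of_topologicalKrullDim_le_zero hdim
  have : DiscreteTopology (g.fiber s) := inferInstance
  have : DiscreteTopology (g ⁻¹' {s}) := (g.fiberHomeo s).symm.isEmbedding.discreteTopology
  exact isDiscrete_iff_discreteTopology.mpr this

end Groth.Agent.Lib.lead.QFSurjComp

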