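import Mathlib
import Groth.Agent.Lib.Helper4.QFinDim
import Groth.Agent.Lib.Helper4.DimSurj
import Groth.Agent.Lib.Helper3.AlgSpLocP
import Groth.Prelude.Def_Flat

set_option autoImplicit false
universe u
open CategoryTheory CategoryTheory.Limits AlgebraicGeometry TopologicalSpace

namespace Groth.Agent.Lib.lead.LocalDimEtale

/-- Topological core: for a continuous, open, generalizing map without specializations inside the
fibres, the local dimension is preserved. -/
theorem localDim_eq {X Y : Type u} [TopologicalSpace X] [TopologicalSpace Y] [QuasiSober X]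
    [QuasiSober Y] [T0Space Y] (f : X → Y) (hf : Continuous f) (ho : IsOpenMap f)
    (hg : GeneralizingMap f) (h : ∀ x x' : X, x ⤳ x' → f x = f x' → x = x') (x : X) :
    FlatMor.localDim X x = FlatMor.localDim Y (f x) := by
  apply le_antisymm
  · -- for each open V ∋ f x use U = f ⁻¹ V
    refine le_iInf fun V => ?_
    let U : {U : Opens X // x ∈ U} := ⟨⟨f ⁻¹' V.1.1, V.1.2.preimage hf⟩, V.2⟩
    refine (iInf_le _ U).trans ?_
    let g : (U.1 : Set X) → (V.1 : Set Y) := fun u => ⟨f u.1, u.2⟩
    have hgc : Continuous g := (hf.comp continuous_subtype_val).subtype_mk _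
    haveI : QuasiSober (U.1 : Set X) := (U.1.2.isOpenEmbedding_subtypeVal).quasiSober
    refine Groth.Agent.Lib.Helper4.IntegralDim.dim_le_of_fibre_antichain g hgc ?_
    intro a b hab heq
    apply Subtype.ext
    exact h a.1 b.1 (Topology.IsInducing.subtypeVal.specializes_iff.mpr hab)
      (congrArg Subtype.val heq)
  · -- for each open U ∋ x use V = f '' U
    refine le_iInf fun U => ?_
    let V : {V : Opens Y // f x ∈ V} := ⟨⟨f '' U.1.1, ho _ U.1.2⟩, ⟨x, U.2, rfl⟩⟩
    refine (iInf_le _ V).trans ?_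
    let g : (U.1 : Set X) → (V.1 : Set Y) := fun u => ⟨f u.1, ⟨u.1, u.2, rfl⟩⟩
    have hgc : Continuous g := (hf.comp continuous_subtype_val).subtype_mk _
    haveI : QuasiSober (V.1 : Set Y) := (V.1.2.isOpenEmbedding_subtypeVal).quasiSober
    refine Groth.Agent.Lib.Helper4.DimSurj.main g hgc ?_ (Or.inr ?_)
    · rintro ⟨_, u, hu, rfl⟩
      exact ⟨⟨u, hu⟩, rfl⟩
    · intro a y' hy'
      have h1 : y'.1 ⤳ f a.1 := Topology.IsInducing.subtypeVal.specializes_iff.mpr hy'
      obtain ⟨x', hx', hfx'⟩ := hg h1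
      have hx'U : x' ∈ (U.1 : Set X) := hx'.mem_open U.1.2 a.2
      refine ⟨⟨x', hx'U⟩, Topology.IsInducing.subtypeVal.specializes_iff.mp hx', Subtype.ext hfx'⟩

theorem main {U V : Scheme.{u}} (f : U ⟶ V) [Etale f] (u : U) :
    FlatMor.localDim U u = FlatMor.localDim V (f.base u) := by
  haveI : LocallyQuasiFinite f := Groth.Agent.Lib.Helper3.locallyQuasiFinite_of_unramified f
  exact localDim_eq f f.continuous f.isOpenMap (Flat.generalizingMap f)
    (fun x x' hs he => Groth.Agent.Lib.Helper4.QFinDim.no_spec_in_fibre f x x' hs he) u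

end Groth.Agent.Lib.lead.LocalDimEtale
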