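import Mathlib
import Groth.Agent.Lib.lead.FibreDimFormula
import Groth.Agent.Lib.lead.LocalDimEtale
import Groth.Agent.Lib.Helper3.AlgSpResTrdeg

set_option autoImplicit false
universe u
open CategoryTheory CategoryTheory.Limits AlgebraicGeometry

namespace Groth.Agent.Lib.lead.RelDimFormulaSp

open Groth.Agent.Lib.Helper24 Groth.Agent.Lib.Helper18 Groth.Agent.Lib.Helper3

section Order

variable {P Q : Type*} [Preorder P] [Preorder Q]

/-- Coheight is preserved by a monotone map which lifts generizations and is injective on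
comparable pairs with equivalent images. -/
theorem coheight_eq_of_lifting (φ : P → Q) (hmono : Monotone φ)
    (hgen : ∀ p : P, ∀ q : Q, φ p ≤ q → ∃ p' : P, p ≤ p' ∧ φ p' = q)
    (hanti : ∀ p p' : P, p ≤ p' → φ p' ≤ φ p → p' ≤ p) (p : P) :
    Order.coheight p = Order.coheight (φ p) := by
  have hstrict : StrictMono φ := by
    intro a b hab
    refine lt_of_le_not_ge (hmono hab.le) (fun h => ?_)
    exact hab.not_ge (hanti a b hab.le h)
  apply le_antisymm (Order.coheight_le_coheight_apply_of_strictMono φ hstrict p)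
  have key : ∀ n : ℕ, ∀ p : P, (n : ℕ∞) ≤ Order.coheight (φ p) → (n : ℕ∞) ≤ Order.coheight p := by
    intro n
    induction n with
    | zero => intro p _; simp
    | succ n ih =>
      intro p hp
      have hnot : ¬ Order.coheight (φ p) ≤ (n : ℕ∞) := by
        intro hle
        have : ((n + 1 : ℕ) : ℕ∞) ≤ n := hp.trans hle
        have : n + 1 ≤ n := by exact_mod_cast this
        omega
      rw [Order.coheight_le_coe_iff] at hnot
      push Not at hnot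
      obtain ⟨q, hq, hqn⟩ := hnot
      obtain ⟨p', hpp', hp'q⟩ := hgen p q hq.le
      have hlt : p < p' := by
        refine lt_of_le_not_ge hpp' (fun h => ?_)
        have := hmono h
        rw [hp'q] at this
        exact hq.not_ge this
      have h1 := ih p' (by rw [hp'q]; exact hqn)
      have h2 := Order.coheight_add_one_le hlt
      calc ((n + 1 : ℕ) : ℕ∞) = (n : ℕ∞) + 1 := by push_cast; rfl
        _ ≤ Order.coheight p' + 1 := by gcongr
        _ ≤ Order.coheight p := h2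
  induction hc : Order.coheight (φ p) with
  | top =>
    rw [ENat.eq_top_iff_forall_ge] at hc
    rw [top_le_iff, ENat.eq_top_iff_forall_ge]
    intro n
    exact key n p (hc n)
  | coe m => exact key m p hc.ge

end Order

variable {W V U₁ V₁ : Scheme.{u}}

/-- The dimension of the local ring of the fibre is unchanged in a commutative square with étale
vertical maps. -/
theorem G_eq_of_etale_square (k : W ⟶ V) (q : V ⟶ V₁) (p : W ⟶ U₁)
    (h : U₁ ⟶ V₁) [Etale p] [Etale q] (comm : k ≫ q = p ≫ h) (w : W) :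
    FibreOrder.G h (p w) = FibreOrder.G k w := by
  haveI : LocallyQuasiFinite p := locallyQuasiFinite_of_unramified p
  haveI : LocallyQuasiFinite q := locallyQuasiFinite_of_unramified q
  have hcomm : ∀ z : W, h (p z) = q (k z) := fun z => by
    rw [← Scheme.Hom.comp_apply, ← Scheme.Hom.comp_apply, comm]
  let φ : ↥(k ⁻¹' {k w}) → ↥(h ⁻¹' {h (p w)}) := fun z =>
    ⟨p z.1, by
      show h (p z.1) = h (p w)
      rw [hcomm, hcomm]
      exact congrArg q z.2⟩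
  have hmono : Monotone φ := by
    intro a b hab
    show p a.1 ≤ p b.1
    rw [Scheme.le_iff_specializes]
    have : b.1 ⤳ a.1 := hab
    exact this.map p.continuous
  have hgen : ∀ z : ↥(k ⁻¹' {k w}), ∀ y : ↥(h ⁻¹' {h (p w)}), φ z ≤ y →
      ∃ z' : ↥(k ⁻¹' {k w}), z ≤ z' ∧ φ z' = y := by
    intro z y hzy
    have hsp : y.1 ⤳ p z.1 := hzy
    obtain ⟨z', hz'z, hz'y⟩ := Flat.generalizingMap p hsp
    have hk1 : k z' ⤳ k z.1 := hz'z.map k.continuous
    have hk2 : q (k z') = q (k z.1) := by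
      rw [← hcomm, ← hcomm, hz'y]
      have h1 : h y.1 = h (p w) := y.2
      have h2 : h (p z.1) = h (p w) := (φ z).2
      rw [h1, h2]
    have hk3 : k z' = k z.1 :=
      Groth.Agent.Lib.Helper4.QFinDim.no_spec_in_fibre q (k z') (k z.1) hk1 hk2
    refine ⟨⟨z', hk3.trans z.2⟩, hz'z, Subtype.ext hz'y⟩
  have hanti : ∀ z z' : ↥(k ⁻¹' {k w}), z ≤ z' → φ z' ≤ φ z → z' ≤ z := by
    intro z z' hzz' hφ
    have h1 : z'.1 ⤳ z.1 := hzz'
    have h2 : p z.1 ⤳ p z'.1 := hφ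
    have h3 : p z'.1 ⤳ p z.1 := h1.map p.continuous
    have h4 : p z'.1 = p z.1 := (h3.antisymm h2).eq
    have h5 : z'.1 = z.1 :=
      Groth.Agent.Lib.Helper4.QFinDim.no_spec_in_fibre p z'.1 z.1 h1 h4
    have : z' = z := Subtype.ext h5
    rw [this]
  have := coheight_eq_of_lifting φ hmono hgen hanti ⟨w, rfl⟩
  exact this.symm

open AlgSp

variable {S : Scheme.{u}}

/-- `G` does not depend on the chart diagram. -/
theorem G_eq_of_charts {X Y : Sp S} (f : X ⟶ Y) {U₁ V₁ U₂ V₂ : Over S}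
    (a₁ : (yon S).obj U₁ ⟶ X) (b₁ : (yon S).obj V₁ ⟶ Y) (h₁ : U₁ ⟶ V₁)
    (a₂ : (yon S).obj U₂ ⟶ X) (b₂ : (yon S).obj V₂ ⟶ Y) (h₂ : U₂ ⟶ V₂)
    (ha₁ : RepWith @Etale a₁) (hb₁ : RepWith @Etale b₁) (ha₂ : RepWith @Etale a₂)
    (hb₂ : RepWith @Etale b₂) (w₁ : a₁ ≫ f = (yon S).map h₁ ≫ b₁)
    (w₂ : a₂ ≫ f = (yon S).map h₂ ≫ b₂) (u₁ : ↥U₁.left) (u₂ : ↥U₂.left)
    (h : Points.ofPt a₁ u₁ = Points.ofPt a₂ u₂) :
    FibreOrder.G h₁.left u₁ = FibreOrder.G h₂.left u₂ := by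
  obtain ⟨W, pU₁, pU₂, sqU⟩ := exists_pullback_charts a₁ ha₁.1 a₂
  obtain ⟨w, rfl, rfl⟩ := exists_of_ofPt_eq_of_isPullback sqU u₁ u₂ h
  obtain ⟨V, pV₁, pV₂, sqV⟩ := exists_pullback_charts b₁ hb₁.1 b₂
  have hpU₁ : Etale pU₁.left := ha₂.2 a₁ ((yon S).map pU₂) pU₁ sqU.flip
  have hpU₂ : Etale pU₂.left := ha₁.2 a₂ ((yon S).map pU₁) pU₂ sqU
  have hpV₁ : Etale pV₁.left := hb₂.2 b₁ ((yon S).map pV₂) pV₁ sqV.flip
  have hpV₂ : Etale pV₂.left := hb₁.2 b₂ ((yon S).map pV₁) pV₂ sqV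
  have comm : (yon S).map (pU₁ ≫ h₁) ≫ b₁ = (yon S).map (pU₂ ≫ h₂) ≫ b₂ := by
    rw [Functor.map_comp, Functor.map_comp, Category.assoc, Category.assoc, ← w₁, ← w₂,
      ← Category.assoc, ← Category.assoc, sqU.w]
  obtain ⟨k, hk⟩ := (yon S).map_surjective (sqV.lift _ _ comm)
  have hk1 : k ≫ pV₁ = pU₁ ≫ h₁ := by
    apply (yon S).map_injective
    rw [Functor.map_comp, hk, sqV.lift_fst]
  have hk2 : k ≫ pV₂ = pU₂ ≫ h₂ := by
    apply (yon S).map_injective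
    rw [Functor.map_comp, hk, sqV.lift_snd]
  have e1 : k.left ≫ pV₁.left = pU₁.left ≫ h₁.left := by
    rw [← Over.comp_left, hk1, Over.comp_left]
  have e2 : k.left ≫ pV₂.left = pU₂.left ≫ h₂.left := by
    rw [← Over.comp_left, hk2, Over.comp_left]
  rw [G_eq_of_etale_square k.left pV₁.left pU₁.left h₁.left e1 w,
    G_eq_of_etale_square k.left pV₂.left pU₂.left h₂.left e2 w]

theorem main {X Y : AlgSp.Space S} (f : X ⟶ Y)
    (hf : AlgSp.LocP @LocallyOfFiniteType f.hom) (x : AlgSp.Points X.obj) (d e : WithBot ℕ∞)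
    (r : Cardinal.{u})
    (hd : AlgSp.HasAtMor (fun _ _ h u => FlatMor.fibreDimAt h u = d) f.hom x)
    (he : AlgSp.HasAtMor (fun _ _ h u =>
      ringKrullDim ↥((h.fiber (h u)).presheaf.stalk (h.asFiber u)) = e) f.hom x)
    (hr : AlgSp.HasAtMor (fun _ _ h u => Dual3.resTrdeg h u = r) f.hom x) :
    d = e + ((Cardinal.toENat r : ℕ∞) : WithBot ℕ∞) := by
  obtain ⟨U₁, V₁, a₁, b₁, h₁, u₁, ha₁, hb₁, w₁, hu₁, hd⟩ := hd
  obtain ⟨U₂, V₂, a₂, b₂, h₂, u₂, ha₂, hb₂, w₂, hu₂, he⟩ := he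
  obtain ⟨U₃, V₃, a₃, b₃, h₃, u₃, ha₃, hb₃, w₃, hu₃, hr⟩ := hr
  haveI : LocallyOfFiniteType h₁.left := hf a₁ b₁ h₁ ha₁ hb₁ w₁
  have hG : FibreOrder.G h₂.left u₂ = FibreOrder.G h₁.left u₁ :=
    G_eq_of_charts f.hom a₂ b₂ h₂ a₁ b₁ h₁ ha₂ hb₂ ha₁ hb₁ w₂ w₁ u₂ u₁ (hu₂.trans hu₁.symm)
  have hT : Dual3.resTrdeg h₃.left u₃ = Dual3.resTrdeg h₁.left u₁ :=
    resTrdeg_eq_of_charts f.hom a₃ b₃ h₃ a₁ b₁ h₁ ha₃ hb₃ ha₁ hb₁ w₃ w₁ u₃ u₁ (hu₃.trans hu₁.symm)
  obtain ⟨b, hb⟩ := FibreDimFormula.exists_nat_G h₁.left u₁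
  have hform := FibreDimFormula.fibreDimAt_eq h₁.left u₁ b hb
  rw [FibreOrder.ringKrullDim_fiber_stalk, hG, hb] at he
  have htr : r = (FibreDim.tr h₁.left u₁ : ℕ) := by
    rw [← hr, hT]
    exact FibreDim.tr_spec h₁.left u₁
  rw [← hd, hform, ← he, htr]
  simp only [map_natCast]
  push_cast
  exact add_comm _ _

end Groth.Agent.Lib.lead.RelDimFormulaSp

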