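import Mathlib
import Groth.Agent.Lib.Helper7.VarietyDim

set_option autoImplicit false
universe u
open CategoryTheory CategoryTheory.Limits AlgebraicGeometry

namespace Groth.Agent.Lib.lead.VarGenDim

open Groth.Agent.Lib.Helper7

attribute [local instance] Curv2.stalkAlgebra Curv2.resAlgebra

theorem dim_of_closure_eq_univ {X : Type*} [TopologicalSpace X] (η : X)
    (h : closure ({η} : Set X) = Set.univ) :
    topologicalKrullDim ↥(closure ({η} : Set X)) = topologicalKrullDim X := by
  rw [h]
  exact IsHomeomorph.topologicalKrullDim_eq _ (Homeomorph.Set.univ X).isHomeomorph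

theorem main (k : Type u) [Field k] (X : Scheme.{u}) [X.Over (Spec (CommRingCat.of k))]
    [LocallyOfFiniteType (X ↘ (Spec (CommRingCat.of k)))] [IrreducibleSpace X]
    (n : ℕ) (hn : Algebra.trdeg k (X.residueField (genericPoint X)) = n) :
    topologicalKrullDim X = n := by
  obtain ⟨m, hm1, hm2⟩ := VarDim.exists_nat_dim_closure_eq k X (genericPoint X)
  have hmn : m = n := by
    have : (m : Cardinal) = n := by rw [← hm1]; exact hn
    exact_mod_cast this
  rw [← dim_of_closure_eq_univ (genericPoint X) (genericPoint_spec X), hm2, hmn]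

end Groth.Agent.Lib.lead.VarGenDim

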