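import Mathlib
import Groth.Agent.Lib.lead.VarGenDim

set_option autoImplicit false
universe u
open CategoryTheory CategoryTheory.Limits AlgebraicGeometry

namespace Groth.Agent.Lib.lead.VarOpenDim

open Groth.Agent.Lib.Helper7

attribute [local instance] Curv2.stalkAlgebra Curv2.resAlgebra

/-- The dimension of an affine open is the Krull dimension of its ring of sections. -/
theorem dim_affineOpen {X : Scheme.{u}} {W : X.Opens} (hW : IsAffineOpen W) :
    topologicalKrullDim ↥W = ringKrullDim Γ(X, W) := by
  rw [← PrimeSpectrum.topologicalKrullDim_eq_ringKrullDim]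
  exact IsHomeomorph.topologicalKrullDim_eq _ (Scheme.homeoOfIso hW.isoSpec).isHomeomorph

theorem dim_le_of_le {X : Scheme.{u}} {W U : X.Opens} (h : W ≤ U) :
    topologicalKrullDim ↥W ≤ topologicalKrullDim ↥U :=
  (Topology.IsEmbedding.inclusion (show (W : Set X) ⊆ U from h)).isInducing.topologicalKrullDim_le

theorem main (k : Type u) [Field k] (X : Scheme.{u}) [X.Over (Spec (CommRingCat.of k))]
    [LocallyOfFiniteType (X ↘ (Spec (CommRingCat.of k)))] [IrreducibleSpace X]
    (U : X.Opens) (hU : (U : Set X).Nonempty) :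
    topologicalKrullDim U = topologicalKrullDim X := by
  have hξU : genericPoint X ∈ U := by
    rw [← SetLike.mem_coe, (genericPoint_spec X).mem_open_set_iff U.isOpen]
    simpa using hU
  obtain ⟨W, hW, hξW, hWU⟩ :=
    exists_isAffineOpen_mem_and_subset (X := X) (x := genericPoint X) (U := U) hξU
  obtain ⟨n, hn1, hn2, -⟩ := ResTrdeg.exists_nat_trdeg_residueField k X hW ⟨genericPoint X, hξW⟩
  have hX : topologicalKrullDim X = n := VarGenDim.main k X n hn1
  apply le_antisymm (topologicalKrullDim_subspace_le X U)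
  rw [hX, ← hn2]
  calc ringKrullDim (Γ(X, W) ⧸ (hW.primeIdealOf ⟨genericPoint X, hξW⟩).asIdeal)
      ≤ ringKrullDim Γ(X, W) := ringKrullDim_quotient_le _
    _ = topologicalKrullDim ↥W := (dim_affineOpen hW).symm
    _ ≤ topologicalKrullDim ↥U := dim_le_of_le hWU

end Groth.Agent.Lib.lead.VarOpenDim

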