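import Mathlib
import Groth.Agent.Lib.lead.VarOpenDim
import Groth.Agent.Lib.Helper21.TopDim
import Groth.Prelude.Def_Flat

set_option autoImplicit false
universe u
open CategoryTheory CategoryTheory.Limits AlgebraicGeometry Topology TopologicalSpace

namespace Groth.Agent.Lib.lead.IrredFibresTop

/-- A subspace of an irreducible space whose closure is proper has strictly smaller dimension. -/
theorem dim_add_one_le_of_isInducing {S T : Type*} [TopologicalSpace S] [TopologicalSpace T]
    [IrreducibleSpace T] (φ : S → T) (hφ : IsInducing φ) (hr : closure (Set.range φ) ≠ Set.univ) :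
    topologicalKrullDim S + 1 ≤ topologicalKrullDim T := by
  unfold topologicalKrullDim
  by_cases hne : Nonempty (IrreducibleCloseds S)
  · rw [← Order.krullDim_WithTop]
    let topT : IrreducibleCloseds T :=
      ⟨Set.univ, (IrreducibleSpace.isIrreducible_univ T), isClosed_univ⟩
    let F : WithTop (IrreducibleCloseds S) → IrreducibleCloseds T := fun c =>
      WithTop.recTopCoe topT (fun c => IrreducibleCloseds.map φ hφ.continuous c) c
    have hlt : ∀ c : IrreducibleCloseds S, IrreducibleCloseds.map φ hφ.continuous c < topT := by
      intro c
      refine lt_of_le_of_ne (fun x _ => Set.mem_univ x) ?_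
      intro h
      apply hr
      have h1 : (IrreducibleCloseds.map φ hφ.continuous c : Set T) = Set.univ :=
        congrArg (fun s : IrreducibleCloseds T => (s : Set T)) h
      rw [IrreducibleCloseds.coe_map] at h1
      apply Set.eq_univ_of_univ_subset
      rw [← h1]
      exact closure_mono (Set.image_subset_range _ _)
    refine Order.krullDim_le_of_strictMono F ?_
    intro a b hab
    induction a using WithTop.recTopCoe with
    | top => exact absurd hab not_top_lt
    | coe a =>
      induction b using WithTop.recTopCoe with
      | top => exact hlt a
      | coe b =>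
        exact IrreducibleCloseds.map_strictMono_of_isInducing hφ (WithTop.coe_lt_coe.1 hab)
  · rw [not_nonempty_iff] at hne
    rw [Order.krullDim_eq_bot]
    simp

/-- transport of irreducibility along a homeomorphism -/
theorem irreducibleSpace_of_homeomorph {S T : Type*} [TopologicalSpace S] [TopologicalSpace T]
    (h : S ≃ₜ T) [IrreducibleSpace S] : IrreducibleSpace T := by
  rw [irreducibleSpace_def]
  have := (IrreducibleSpace.isIrreducible_univ S).image h h.continuous.continuousOn
  rwa [Set.image_univ_of_surjective h.surjective] at this

/-- An embedding is a homeomorphism onto any set equal to its range. -/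
noncomputable def homeoOfRangeEq {S T : Type*} [TopologicalSpace S] [TopologicalSpace T]
    (φ : S → T) (hφ : IsEmbedding φ) (A : Set T) (hA : Set.range φ = A) : S ≃ₜ ↥A :=
  hφ.toHomeomorph.trans (Homeomorph.setCongr hA)

theorem homeoOfRangeEq_apply {S T : Type*} [TopologicalSpace S] [TopologicalSpace T]
    (φ : S → T) (hφ : IsEmbedding φ) (A : Set T) (hA : Set.range φ = A) (s : S) :
    (homeoOfRangeEq φ hφ A hA s : T) = φ s := rfl

/-- On an irreducible scheme locally of finite type over a field, all local dimensions equal the
dimension. -/
theorem localDim_eq_dim (k : Type u) [Field k] (T : Scheme.{u}) [T.Over (Spec (CommRingCat.of k))]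
    [LocallyOfFiniteType (T ↘ (Spec (CommRingCat.of k)))] [IrreducibleSpace T] (t : T) :
    FlatMor.localDim T t = topologicalKrullDim T := by
  unfold FlatMor.localDim
  apply le_antisymm
  · exact (iInf_le _ ⟨⊤, trivial⟩).trans (topologicalKrullDim_subspace_le T _)
  · refine le_iInf ?_
    rintro ⟨U, hU⟩
    exact (VarOpenDim.main k T U ⟨t, hU⟩).ge

end Groth.Agent.Lib.lead.IrredFibresTop
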