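import Mathlib
import Groth.Agent.S1554
import Groth.Agent.Lib.Helper24.FibreDim.Main4943
import Groth.Agent.Lib.Helper3.SchemeDim
import Groth.Agent.Lib.lead.IrredFibresTop
import Groth.Agent.Lib.Helper18.FibreTd

set_option autoImplicit false
set_option linter.style.haveILetI false
universe u
open CategoryTheory CategoryTheory.Limits AlgebraicGeometry Topology

namespace Groth.Agent.Lib.lead.FibreCompDimOne

open Groth.Agent.Lib.Helper24 Groth.Agent.Lib.Helper18 Groth.Agent.Lib.Helper3

variable {X Y : Scheme.{u}}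

/-- Dimension of an irreducible component of a fibre, in terms of the local fibre dimension at (the
image of) its generic point. -/
theorem dim_component_eq_fibreDimAt (f : X ⟶ Y) [LocallyOfFiniteType f] (w : X)
    (Z : Set ↥(f.fiber (f w))) (hZ : Z ∈ irreducibleComponents ↥(f.fiber (f w)))
    (hw : IsGenericPoint (f.asFiber w) Z) :
    topologicalKrullDim Z = FlatMor.fibreDimAt f w := by
  have hmax : ∀ z' : X, f z' = f w → z' ⤳ w → z' = w := by
    intro z' hz' hsp
    obtain ⟨ζ', hζ'⟩ := FibreDim.exists_fibre_point f z' (f w) hz'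
    have hind : IsInducing (f.fiberι (f w)) := (f.fiberι (f w)).isEmbedding.isInducing
    have hsp' : ζ' ⤳ f.asFiber w := by
      rw [← hind.specializes_iff, hζ', f.fiberι_asFiber]
      exact hsp
    have h1 : Z ⊆ closure ({ζ'} : Set ↥(f.fiber (f w))) := by
      rw [← hw.def]
      exact hsp'.closure_subset  
    have h2 : closure ({ζ'} : Set ↥(f.fiber (f w))) ⊆ Z :=
      hZ.2 isIrreducible_singleton.closure h1
    have h3 : ζ' = f.asFiber w := by
      have : Inseparable ζ' (f.asFiber w) := by
        rw [inseparable_iff_closure_eq, hw.def]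
        exact le_antisymm h2 h1
      exact this.eq
    rw [← hζ', h3, f.fiberι_asFiber]
  rw [FibreDim.fibreDimAt_of_fibre_max f w hmax, ← FibreDim.dim_closure_asFiber f w, hw.def]

/-- The local fibre dimension at the generic point of an irreducible scheme is the dimension of
its fibre. -/
theorem fibreDimAt_genericPoint [IrreducibleSpace X] (f : X ⟶ Y) [LocallyOfFiniteType f] :
    FlatMor.fibreDimAt f (genericPoint X) = topologicalKrullDim ↥(f.fiber (f (genericPoint X))) := by
  set ξ := genericPoint X with hξ
  have hind : IsInducing (f.fiberι (f ξ)) := (f.fiberι (f ξ)).isEmbedding.isInducing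
  haveI : IrreducibleSpace ↥(f.fiber (f ξ)) := by
    rw [irreducibleSpace_def]
    have hcl : closure ({f.asFiber ξ} : Set ↥(f.fiber (f ξ))) = Set.univ := by
      apply Set.eq_univ_of_forall
      intro t
      rw [← specializes_iff_mem_closure, ← hind.specializes_iff, f.fiberι_asFiber]
      exact genericPoint_specializes _
    have : IsIrreducible (closure ({f.asFiber ξ} : Set ↥(f.fiber (f ξ)))) :=
      isIrreducible_singleton.closure
    rwa [hcl] at this
  letI := FibreTd.fibreOver f (f ξ)
  haveI : LocallyOfFiniteType ((f.fiber (f ξ)) ↘ Spec (CommRingCat.of (Y.residueField (f ξ)))) :=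
    inferInstanceAs (LocallyOfFiniteType (f.fiberToSpecResidueField (f ξ)))
  unfold FlatMor.fibreDimAt
  exact IrredFibresTop.localDim_eq_dim (Y.residueField (f ξ)) _ _

theorem dim_fiber_congr (f : X ⟶ Y) {y y' : Y} (h : y = y') :
    topologicalKrullDim ↥(f.fiber y) = topologicalKrullDim ↥(f.fiber y') := by
  subst h; rfl

theorem dim_component_aux (f : X ⟶ Y) [LocallyOfFiniteType f] (w : X) :
    ∀ (y : Y) (_ : f w = y) (Z : Set ↥(f.fiber y)) (_ : Z ∈ irreducibleComponents ↥(f.fiber y))
      (ζ : ↥(f.fiber y)) (_ : IsGenericPoint ζ Z) (_ : f.fiberι y ζ = w),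
      topologicalKrullDim Z = FlatMor.fibreDimAt f w := by
  intro y hy
  subst hy
  intro Z hZ ζ hζ hζw
  have hζ' : ζ = f.asFiber w := by
    apply (f.fiberι (f w)).isEmbedding.injective
    rw [f.fiberι_asFiber, hζw]
  subst hζ'
  exact dim_component_eq_fibreDimAt f w Z hZ hζ

theorem S4702 (f : X ⟶ Y) [IsLocallyNoetherian Y]
    [IrreducibleSpace Y] [IrreducibleSpace X] (hY : topologicalKrullDim Y = 1)
    [LocallyOfFiniteType f] (hf : DenseRange f.base) (y : Y)
    (Z : Set ↥(f.fiber y)) (hZ : Z ∈ irreducibleComponents ↥(f.fiber y)) :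
    topologicalKrullDim Z = topologicalKrullDim ↥(f.fiber (genericPoint Y)) := by
  obtain ⟨ζ, hζ⟩ := QuasiSober.sober hZ.1 (isClosed_of_mem_irreducibleComponents Z hZ)
  set w := f.fiberι y ζ with hw
  have hy : f w = y := by
    have : w ∈ Set.range (f.fiberι y) := ⟨ζ, rfl⟩
    rw [f.range_fiberι] at this
    exact this
  rw [dim_component_aux f w y hy Z hZ ζ hζ rfl]
  obtain ⟨d, hd⟩ := Chev.exists_nat_fibreDimAt f (genericPoint X)
  have hdim1 : ringKrullDim (Y.presheaf.stalk (f.base w)) ≤ 1 := by
    have : ringKrullDim (Y.presheaf.stalk (f w)) ≤ topologicalKrullDim Y := by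
      rw [topologicalKrullDim_eq_iSup_stalk]
      exact le_iSup (fun y : Y => ringKrullDim (Y.presheaf.stalk y)) (f w)
    rw [hY] at this
    exact this
  have h1 := Groth.Agent.S1554.result f w hdim1 d (by
    intro Z' hZ' _ η hη
    rw [irreducibleComponents_eq_singleton, Set.mem_singleton_iff] at hZ'
    subst hZ'
    have : η = genericPoint X := hη.eq (genericPoint_spec X)
    rw [this]
    exact hd)
  rw [h1, ← hd, fibreDimAt_genericPoint f]
  exact dim_fiber_congr f (GenFin.map_genericPoint_of_dense f hf)


end Groth.Agent.Lib.lead.FibreCompDimOne
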