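import Mathlib
import Groth.Agent.Lib.Helper18.Chev.Main
import Groth.Agent.Lib.Helper24.FibreDim.Main3448
import Groth.Agent.Lib.Helper21.TopDim

set_option autoImplicit false
universe u
open CategoryTheory CategoryTheory.Limits AlgebraicGeometry Topology

namespace Groth.Agent.Lib.lead.FibreDimTarget

open Groth.Agent.Lib.Helper24 Groth.Agent.Lib.Helper18 Groth.Agent.Lib.Helper21

/-- The Krull dimension of a space is at least `n` iff some local dimension is. -/
theorem le_dim_iff_exists_le_localDim (T : Type*) [TopologicalSpace T] (n : ℕ) :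
    (n : WithBot ℕ∞) ≤ topologicalKrullDim T ↔ ∃ x : T, (n : WithBot ℕ∞) ≤ FlatMor.localDim T x := by
  constructor
  · intro h
    obtain ⟨p, hp⟩ := (Order.le_krullDim_iff (α := TopologicalSpace.IrreducibleCloseds T)).1 h
    obtain ⟨x, hx⟩ := (p 0).isIrreducible.nonempty
    refine ⟨x, ?_⟩
    have := TopDim.length_le_localDim x p hx
    rwa [hp] at this
  · rintro ⟨x, hx⟩
    exact hx.trans (TopDim.localDim_le x)

/-- fibre dimension at least `n` in terms of `fibreDimAt`. -/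
theorem le_dim_fibre_iff {X Y : Scheme.{u}} (f : X ⟶ Y) [LocallyOfFiniteType f] (y : Y) (n : ℕ) :
    (n : WithBot ℕ∞) ≤ topologicalKrullDim ↥(f.fiber y) ↔
      ∃ x : X, f x = y ∧ (n : WithBot ℕ∞) ≤ FlatMor.fibreDimAt f x := by
  rw [le_dim_iff_exists_le_localDim]
  constructor
  · rintro ⟨w, hw⟩
    have hy : f (f.fiberι y w) = y := by
      have : f.fiberι y w ∈ Set.range (f.fiberι y) := ⟨w, rfl⟩
      rw [f.range_fiberι] at this
      exact this
    refine ⟨f.fiberι y w, hy, ?_⟩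
    rw [FibreDim.fibreDimAt_eq_tr_add_G, ← FibreDim.localDim_fibre f y w]
    exact hw
  · rintro ⟨x, rfl, hx⟩
    exact ⟨f.asFiber x, hx⟩

theorem isClosed_setOf_le_fibreDimAt {X Y : Scheme.{u}} (f : X ⟶ Y) [LocallyOfFiniteType f]
    (n : ℕ) : IsClosed {x : X | (n : WithBot ℕ∞) ≤ FlatMor.fibreDimAt f x} := by
  rcases Nat.eq_zero_or_pos n with rfl | hn
  · convert isClosed_univ
    ext x
    obtain ⟨d, hd⟩ := Chev.exists_nat_fibreDimAt f x
    simp only [Set.mem_setOf_eq, Set.mem_univ, iff_true, hd]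
    exact_mod_cast Nat.zero_le d
  · have hopen := Chev.isOpen_fibreDimAt_le f (n - 1)
    convert hopen.isClosed_compl using 1
    ext x
    obtain ⟨d, hd⟩ := Chev.exists_nat_fibreDimAt f x
    simp only [Set.mem_setOf_eq, Set.mem_compl_iff, hd]
    have h1 : ((n : ℕ) : WithBot ℕ∞) ≤ ((d : ℕ) : WithBot ℕ∞) ↔ n ≤ d := by exact_mod_cast Iff.rfl
    have h2 : ((d : ℕ) : WithBot ℕ∞) ≤ (((n - 1 : ℕ) : ℕ) : WithBot ℕ∞) ↔ d ≤ n - 1 := by
      exact_mod_cast Iff.rfl
    rw [h1, h2]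
    omega

theorem S3387 {X Y : Scheme.{u}} (f : X ⟶ Y) [LocallyOfFiniteType f]
    (hf : IsClosedMap f.base) (n : ℕ) :
    IsClosed {y : Y | (n : WithBot ℕ∞) ≤ topologicalKrullDim ↥(f.fiber y)} := by
  have : {y : Y | (n : WithBot ℕ∞) ≤ topologicalKrullDim ↥(f.fiber y)} =
      f.base '' {x : X | (n : WithBot ℕ∞) ≤ FlatMor.fibreDimAt f x} := by
    ext y
    simp only [Set.mem_setOf_eq, Set.mem_image]
    rw [le_dim_fibre_iff]
    constructor
    · rintro ⟨x, hx, h⟩
      exact ⟨x, h, hx⟩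
    · rintro ⟨x, h, hx⟩
      exact ⟨x, hx, h⟩
  rw [this]
  exact hf _ (isClosed_setOf_le_fibreDimAt f n)


end Groth.Agent.Lib.lead.FibreDimTarget
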