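import Mathlib
import Groth.Agent.Lib.lead.GenFiniteCore

set_option autoImplicit false
universe u
open CategoryTheory CategoryTheory.Limits AlgebraicGeometry Topology

namespace Groth.Agent.Lib.lead.GenFiniteGen

open Groth.Agent.Lib.Helper7

theorem maximal_of_mem_irreducibleComponents {T : Type*} [TopologicalSpace T] [T0Space T] {η : T}
    (hη : closure {η} ∈ irreducibleComponents T) (y : T) (hy : y ⤳ η) : y = η := by
  have h1 : closure {η} ⊆ closure {y} := by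
    rw [specializes_iff_closure_subset] at hy
    exact hy
  have h2 : closure {y} ⊆ closure {η} :=
    hη.2 (isIrreducible_singleton.closure) h1
  have : Inseparable y η := by
    rw [inseparable_iff_closure_eq]
    exact le_antisymm h2 h1
  exact this.eq

/-- **Generic finiteness**, general base. -/
theorem core {X Y : Scheme.{u}} (f : X ⟶ Y) [LocallyOfFiniteType f]
    [QuasiCompact f] (η : Y) (hη : ∀ y : Y, y ⤳ η → y = η) (hfin : (f ⁻¹' {η}).Finite)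
    (hsep : ∀ x x' : X, f x = η → f x' = η → x ≠ x' → Disjoint (𝓝 x) (𝓝 x')) :
    ∃ V : Y.Opens, IsAffineOpen V ∧ η ∈ V ∧ IsFinite (f ∣_ V) := by
  obtain ⟨V₀, hV₀, hηV₀⟩ : ∃ V₀ : Y.Opens, IsAffineOpen V₀ ∧ η ∈ V₀ := by
    obtain ⟨_, ⟨V₀, hV₀ : IsAffineOpen V₀, rfl⟩, hηV₀, -⟩ :=
      Y.isBasis_affineOpens.exists_subset_of_mem_open (Set.mem_univ η) isOpen_univ
    exact ⟨V₀, hV₀, hηV₀⟩
  haveI : IsAffine (V₀ : Scheme.{u}) := hV₀
  let η₀ : (V₀ : Scheme.{u}) := ⟨η, hηV₀⟩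
  have hη₀ : ∀ y : (V₀ : Scheme.{u}), y ⤳ η₀ → y = η₀ := by
    intro y hy
    apply Subtype.ext
    exact hη _ (hy.map continuous_subtype_val)
  have hι : ∀ x : (f ⁻¹ᵁ V₀).toScheme, f ((f ⁻¹ᵁ V₀).ι x) = V₀.ι ((f ∣_ V₀) x) := by
    intro x
    rw [← Scheme.Hom.comp_apply, ← Scheme.Hom.comp_apply, morphismRestrict_ι]
  have hfib : ∀ x : (f ⁻¹ᵁ V₀).toScheme, (f ∣_ V₀) x = η₀ → f ((f ⁻¹ᵁ V₀).ι x) = η := by
    intro x hx
    rw [hι, hx]
    rfl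
  have hfin₀ : ((f ∣_ V₀) ⁻¹' {η₀}).Finite := by
    refine Set.Finite.of_injOn (f := fun x => (f ⁻¹ᵁ V₀).ι x) (t := f ⁻¹' {η}) ?_ ?_ hfin
    · intro x hx
      exact hfib x hx
    · intro x _ y _ hxy
      exact (f ⁻¹ᵁ V₀).ι.isOpenEmbedding.injective hxy
  have hsep₀ : ∀ x x' : (f ⁻¹ᵁ V₀).toScheme, (f ∣_ V₀) x = η₀ → (f ∣_ V₀) x' = η₀ → x ≠ x' →
      Disjoint (𝓝 x) (𝓝 x') := by
    intro x x' hx hx' hne
    have hd := hsep _ _ (hfib x hx) (hfib x' hx')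
      (fun h => hne ((f ⁻¹ᵁ V₀).ι.isOpenEmbedding.injective h))
    rw [(f ⁻¹ᵁ V₀).ι.isOpenEmbedding.isInducing.nhds_eq_comap,
      (f ⁻¹ᵁ V₀).ι.isOpenEmbedding.isInducing.nhds_eq_comap]
    exact Filter.disjoint_comap hd
  obtain ⟨V₁, hηV₁, hV₁⟩ := GenFiniteCore.core_affine (f ∣_ V₀) η₀ hη₀ hfin₀ hsep₀
  obtain ⟨V₂, hV₂, hηV₂, hV₂₁⟩ : ∃ V₂ : V₀.toScheme.Opens, IsAffineOpen V₂ ∧ η₀ ∈ V₂ ∧ V₂ ≤ V₁ := by
    obtain ⟨_, ⟨V₂, hV₂ : IsAffineOpen V₂, rfl⟩, hηV₂, hV₂₁⟩ :=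
      (V₀ : Scheme.{u}).isBasis_affineOpens.exists_subset_of_mem_open hηV₁ V₁.isOpen
    exact ⟨V₂, hV₂, hηV₂, hV₂₁⟩
  have hV₂fin : IsFinite ((f ∣_ V₀) ∣_ V₂) :=
    GenFiniteSep.isFinite_morphismRestrict_of_le (f ∣_ V₀) hV₂₁ hV₁
  refine ⟨V₀.ι ''ᵁ V₂, hV₂.image_of_isOpenImmersion V₀.ι, ⟨η₀, hηV₂, rfl⟩, ?_⟩
  haveI : MorphismProperty.RespectsIso @IsFinite.{u} :=
    MorphismProperty.IsStableUnderBaseChange.respectsIso
  exact (MorphismProperty.arrow_mk_iso_iff @IsFinite (morphismRestrictRestrict f V₀ V₂)).1 hV₂fin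


theorem exists_open_isolating {X Y : Scheme.{u}} (f : X ⟶ Y) [LocallyOfFiniteType f] (x : X)
    (hx : f.QuasiFiniteAt x) :
    ∃ W : Set X, IsOpen W ∧ x ∈ W ∧ ∀ z ∈ W, f z = f x → z = x := by
  have h1 : IsOpen {f.asFiber x} := Scheme.Hom.quasiFiniteAt_iff_isOpen_singleton_asFiber.mp hx
  have h2 : IsOpen ((f.fiberHomeo (f x)) '' {f.asFiber x}) := (f.fiberHomeo (f x)).isOpenMap _ h1
  rw [Set.image_singleton] at h2
  have h3 : f.fiberHomeo (f x) (f.asFiber x) = ⟨x, rfl⟩ := (f.fiberHomeo (f x)).apply_symm_apply _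
  rw [h3, isOpen_induced_iff] at h2
  obtain ⟨W, hW, hWx⟩ := h2
  refine ⟨W, hW, ?_, ?_⟩
  · have : (⟨x, rfl⟩ : f ⁻¹' {f x}) ∈ Subtype.val ⁻¹' W := by rw [hWx]; rfl
    exact this
  · intro z hz hfz
    have : (⟨z, hfz⟩ : f ⁻¹' {f x}) ∈ Subtype.val ⁻¹' W := hz
    rw [hWx] at this
    exact congrArg Subtype.val this

/-- Distinct points of a finite fibre over a maximal point have disjoint neighbourhoods, when the
morphism is quasi-separated. -/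
theorem disjoint_nhds_of_quasiSeparated {X Y : Scheme.{u}} (f : X ⟶ Y) [LocallyOfFiniteType f]
    [QuasiSeparated f] (η : Y) (hη : ∀ y : Y, y ⤳ η → y = η) (hfin : (f ⁻¹' {η}).Finite)
    (x x' : X) (hx : f x = η) (hx' : f x' = η) (hne : x ≠ x') : Disjoint (𝓝 x) (𝓝 x') := by
  obtain ⟨W, hW, hxW, hWiso⟩ := exists_open_isolating f x
    (GenFiniteCore.quasiFiniteAt_of_finite_fibre f x (by rw [hx]; exact hfin))
  obtain ⟨W', hW', hxW', hWiso'⟩ := exists_open_isolating f x'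
    (GenFiniteCore.quasiFiniteAt_of_finite_fibre f x' (by rw [hx']; exact hfin))
  -- `x` is a maximal point
  have hmax : ∀ z : X, z ⤳ x → z = x := by
    intro z hz
    have hzW : z ∈ W := hz.mem_open hW hxW
    have hfz : f z ⤳ f x := hz.map f.continuous
    rw [hx] at hfz
    exact hWiso z hzW ((hη _ hfz).trans hx.symm)
  obtain ⟨V₀, hV₀, hηV₀⟩ : ∃ V₀ : Y.Opens, IsAffineOpen V₀ ∧ η ∈ V₀ := by
    obtain ⟨_, ⟨V₀, hV₀ : IsAffineOpen V₀, rfl⟩, hηV₀, -⟩ :=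
      Y.isBasis_affineOpens.exists_subset_of_mem_open (Set.mem_univ η) isOpen_univ
    exact ⟨V₀, hV₀, hηV₀⟩
  have hqs : IsQuasiSeparated (f ⁻¹ᵁ V₀ : Set X) := f.isQuasiSeparated_preimage hV₀.isQuasiSeparated
  obtain ⟨A, hA, hxA, hAW⟩ : ∃ A : X.Opens, IsAffineOpen A ∧ x ∈ A ∧
      (A : Set X) ⊆ W ∩ (f ⁻¹ᵁ V₀ : Set X) := by
    obtain ⟨_, ⟨A, hA : IsAffineOpen A, rfl⟩, hxA, hAW⟩ :=
      X.isBasis_affineOpens.exists_subset_of_mem_open
        (show x ∈ W ∩ (f ⁻¹ᵁ V₀ : Set X) from ⟨hxW, by show f x ∈ V₀; rw [hx]; exact hηV₀⟩)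
        (hW.inter (f ⁻¹ᵁ V₀).isOpen)
    exact ⟨A, hA, hxA, hAW⟩
  obtain ⟨A', hA', hxA', hAW'⟩ : ∃ A : X.Opens, IsAffineOpen A ∧ x' ∈ A ∧
      (A : Set X) ⊆ W' ∩ (f ⁻¹ᵁ V₀ : Set X) := by
    obtain ⟨_, ⟨A, hA : IsAffineOpen A, rfl⟩, hxA, hAW⟩ :=
      X.isBasis_affineOpens.exists_subset_of_mem_open
        (show x' ∈ W' ∩ (f ⁻¹ᵁ V₀ : Set X) from ⟨hxW', by show f x' ∈ V₀; rw [hx']; exact hηV₀⟩)
        (hW'.inter (f ⁻¹ᵁ V₀).isOpen)
    exact ⟨A, hA, hxA, hAW⟩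
  have hcomp : IsCompact ((A : Set X) ∩ (A' : Set X)) :=
    hqs A A' (fun a ha => (hAW ha).2) A.isOpen hA.isCompact (fun a ha => (hAW' ha).2) A'.isOpen
      hA'.isCompact
  -- `x` is not in the closure of `A ∩ A'`
  have hncl : x ∉ closure ((A : Set X) ∩ (A' : Set X)) := by
    intro hcl
    haveI : IsAffine (A : Scheme.{u}) := hA
    haveI : CompactSpace ((A ⊓ A' : X.Opens) : Scheme.{u}) := isCompact_iff_compactSpace.mp hcomp
    let h : ((A ⊓ A' : X.Opens) : Scheme.{u}) ⟶ (A : Scheme.{u}) := X.homOfLE inf_le_left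
    haveI : QuasiCompact h := quasiCompact_of_compactSpace h
    have hrange : (Subtype.val : {a // a ∈ A} → X) '' (Set.range h) =
        (A : Set X) ∩ (A' : Set X) := by
      ext a
      constructor
      · rintro ⟨_, ⟨z, rfl⟩, rfl⟩
        have : (h z).1 = z.1 := X.homOfLE_apply inf_le_left z
        rw [this]
        exact z.2
      · intro ha
        exact ⟨h ⟨a, ha⟩, ⟨_, rfl⟩, X.homOfLE_apply inf_le_left ⟨a, ha⟩⟩
    have hcl' : (⟨x, hxA⟩ : (A : Scheme.{u})) ∈ closure (Set.range h) := by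
      refine (closure_subtype (x := (⟨x, hxA⟩ : {a // a ∈ A})) (s := Set.range h)).2 ?_
      rw [hrange]
      exact hcl
    obtain ⟨z, hz⟩ := Groth.Agent.S9347.exists_specializes_of_mem_closure_range h _ hcl'
    have hz' : (h z).1 ⤳ x := hz.map continuous_subtype_val
    have hzeq : (h z).1 = x := hmax _ hz'
    have hzA' : (h z).1 ∈ (A : Set X) ∩ (A' : Set X) := by
      rw [← hrange]
      exact ⟨h z, ⟨z, rfl⟩, rfl⟩
    rw [hzeq] at hzA'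
    exact hne (hWiso' x (hAW' hzA'.2).1 (hx.trans hx'.symm))
  rw [Filter.disjoint_iff]
  refine ⟨(A : Set X) \ closure ((A : Set X) ∩ (A' : Set X)), ?_, (A' : Set X),
    A'.isOpen.mem_nhds hxA', ?_⟩
  · exact (A.isOpen.sdiff isClosed_closure).mem_nhds ⟨hxA, hncl⟩
  · rw [Set.disjoint_left]
    rintro a ⟨haA, hacl⟩ haA'
    exact hacl (subset_closure ⟨haA, haA'⟩)


theorem finite_fibre_of_isFinite_morphismRestrict {X Y : Scheme.{u}} (f : X ⟶ Y) (V : Y.Opens)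
    (η : Y) (hηV : η ∈ V) (hfin : IsFinite (f ∣_ V)) : (f ⁻¹' {η}).Finite := by
  have h1 : ((f ∣_ V) ⁻¹' {(⟨η, hηV⟩ : V.toScheme)}).Finite :=
    Scheme.Hom.finite_preimage_singleton (f ∣_ V) _
  refine (h1.image (fun z => (f ⁻¹ᵁ V).ι z)).subset ?_
  intro x hx
  have hxV : x ∈ f ⁻¹ᵁ V := by
    show f x ∈ V
    rw [hx]
    exact hηV
  let z : (f ⁻¹ᵁ V).toScheme := ⟨x, hxV⟩
  refine ⟨z, ?_, rfl⟩
  show (f ∣_ V) z = ⟨η, hηV⟩
  apply Subtype.ext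
  have : V.ι ((f ∣_ V) z) = f ((f ⁻¹ᵁ V).ι z) := by
    rw [← Scheme.Hom.comp_apply, ← Scheme.Hom.comp_apply, morphismRestrict_ι]
  exact this.trans hx

theorem S2080 {X Y : Scheme.{u}} (f : X ⟶ Y) [LocallyOfFiniteType f]
    [QuasiCompact f] [QuasiSeparated f] (η : Y)
    (hη : closure {η} ∈ irreducibleComponents (Y : Type u)) :
    (f.base ⁻¹' {η}).Finite ↔ ∃ V : Y.Opens, IsAffineOpen V ∧ η ∈ V ∧ IsFinite (f ∣_ V) := by
  have hmax := maximal_of_mem_irreducibleComponents hη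
  constructor
  · intro hfin
    exact core f η hmax hfin (fun x x' hx hx' hne =>
      disjoint_nhds_of_quasiSeparated f η hmax hfin x x' hx hx' hne)
  · rintro ⟨V, -, hηV, hV⟩
    exact finite_fibre_of_isFinite_morphismRestrict f V η hηV hV


end Groth.Agent.Lib.lead.GenFiniteGen
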