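import Mathlib
import Groth.Agent.Lib.lead.VarGenDim
import Groth.Agent.Lib.Helper18.GenFinite
import Groth.Agent.S9347

set_option autoImplicit false
universe u
open CategoryTheory CategoryTheory.Limits AlgebraicGeometry

namespace Groth.Agent.Lib.lead.VarDomComp

open Groth.Agent.Lib.Helper7 Groth.Agent.Lib.Helper18

/-- A dominant quasi-compact morphism to an irreducible scheme hits the generic point. -/
theorem exists_map_eq_genericPoint {X Z : Scheme.{u}} (f : X ⟶ Z) [QuasiCompact f] [IsDominant f]
    [IrreducibleSpace Z] : ∃ x : X, f x = genericPoint Z := by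
  obtain ⟨x, hx⟩ := Groth.Agent.S9347.exists_specializes_of_mem_closure_range f (genericPoint Z)
    (by rw [f.denseRange.closure_eq]; trivial)
  refine ⟨x, ?_⟩
  have h2 : genericPoint Z ⤳ f x := (genericPoint_spec Z).specializes trivial
  exact (hx.antisymm h2).eq

theorem main (k : Type u) [Field k] (X Y Z : Scheme.{u}) [X.Over (Spec (CommRingCat.of k))]
    [Y.Over (Spec (CommRingCat.of k))] [Z.Over (Spec (CommRingCat.of k))]
    [QuasiCompact (X ↘ Spec (CommRingCat.of k))]
    [LocallyOfFiniteType (Y ↘ Spec (CommRingCat.of k))]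
    [LocallyOfFiniteType (Z ↘ Spec (CommRingCat.of k))]
    [IrreducibleSpace Y] [IrreducibleSpace Z] (hdim : topologicalKrullDim Y = topologicalKrullDim Z)
    (ρ : X ⟶ Y) (η : Y ⟶ Z) [η.IsOver (Spec (CommRingCat.of k))]
    [IsDominant η] :
    IsDominant (ρ ≫ η) ↔ IsDominant ρ := by
  constructor
  · intro h
    haveI : CompactSpace X :=
      QuasiCompact.compactSpace_of_compactSpace (X ↘ Spec (CommRingCat.of k))
    haveI : IsLocallyNoetherian Z :=
      LocallyOfFiniteType.isLocallyNoetherian (Z ↘ Spec (CommRingCat.of k))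
    haveI : QuasiCompact (ρ ≫ η) := inferInstance
    obtain ⟨x, hx⟩ := exists_map_eq_genericPoint (ρ ≫ η)
    set y : Y := ρ x with hy
    have hηy : η y = genericPoint Z := by rw [← hx]; rfl
    obtain ⟨nZ, hZ1, hZ2⟩ := VarDim.exists_nat_dim_closure_eq k Z (genericPoint Z)
    obtain ⟨nY, hY1, hY2⟩ := VarDim.exists_nat_dim_closure_eq k Y (genericPoint Y)
    obtain ⟨ny, hy1, hy2⟩ := VarDim.exists_nat_dim_closure_eq k Y y
    have hle := GenFinite.td_le k η (comp_over η (Spec (CommRingCat.of k))) y
    unfold GenFinite.td at hle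
    rw [hηy, hZ1, hy1] at hle
    have hZy : nZ ≤ ny := by exact_mod_cast hle
    have hdimY : topologicalKrullDim Y = nY := by
      rw [← VarGenDim.dim_of_closure_eq_univ (genericPoint Y) (genericPoint_spec Y), hY2]
    have hdimZ : topologicalKrullDim Z = nZ := by
      rw [← VarGenDim.dim_of_closure_eq_univ (genericPoint Z) (genericPoint_spec Z), hZ2]
    have hYZ : nY = nZ := by
      rw [hdimY, hdimZ] at hdim
      exact_mod_cast hdim
    have hsp : y ⤳ genericPoint Y := by
      by_contra hcon
      have := GenFinite.dim_closure_add_one_le (genericPoint_spec Y) hcon nY hdimY ny hy2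
      omega
    have hyg : y = genericPoint Y :=
      (hsp.antisymm ((genericPoint_spec Y).specializes trivial)).eq
    refine ⟨?_⟩
    rw [DenseRange, dense_iff_closure_eq, Set.eq_univ_iff_forall]
    intro z
    have h1 : closure ({genericPoint Y} : Set Y) ⊆ closure (Set.range ρ) :=
      closure_mono (by rintro _ rfl; exact ⟨x, hyg⟩)
    apply h1
    rw [genericPoint_spec Y]
    trivial
  · intro h
    infer_instance

end Groth.Agent.Lib.lead.VarDomComp

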