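import Mathlib
import Groth.Agent.Lib.lead.VarDomComp
import Groth.Agent.Lib.lead.VarGenDim
import Groth.Agent.Lib.Helper24.FibreDim.Scheme
import Groth.Agent.Lib.Helper18.GenFinite

set_option autoImplicit false
universe u
open CategoryTheory CategoryTheory.Limits AlgebraicGeometry

namespace Groth.Agent.Lib.lead.VarTdAdd

open Groth.Agent.Lib.Helper7 Groth.Agent.Lib.Helper18 Groth.Agent.Lib.Helper24

variable (k : Type u) [Field k] {X Y : Scheme.{u}} [X.Over (Spec (CommRingCat.of k))]
  [Y.Over (Spec (CommRingCat.of k))]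
  (f : X ⟶ Y) (hf : f ≫ (Y ↘ Spec (CommRingCat.of k)) = X ↘ Spec (CommRingCat.of k))

include hf in
/-- Additivity of transcendence degrees of residue fields along a `k`-morphism. -/
theorem td_add [LocallyOfFiniteType f] (x : X) :
    GenFinite.td k Y (f x) + (FibreDim.tr f x : Cardinal.{u}) = GenFinite.td k X x := by
  letI a1 := Curv2.resAlgebra k X x
  letI a2 := Curv2.resAlgebra k Y (f x)
  letI a3 := (f.residueFieldMap x).hom.toAlgebra
  haveI : IsScalarTower k (Y.residueField (f x)) (X.residueField x) := by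
    apply IsScalarTower.of_algebraMap_eq
    intro c
    exact (GenFinite.residueFieldMap_resMap k f hf x c).symm
  have h := trdeg_add_eq k (Y.residueField (f x)) (A := X.residueField x)
  rw [FibreDim.tr_spec f x] at h
  exact h

end Groth.Agent.Lib.lead.VarTdAdd

namespace Groth.Agent.Lib.lead.VarDomSub

open Groth.Agent.Lib.Helper7 Groth.Agent.Lib.Helper18 Groth.Agent.Lib.Helper24

attribute [local instance] Curv2.stalkAlgebra Curv2.resAlgebra

theorem main (k : Type u) [Field k]
    (X Y : Scheme.{u}) [X.Over (Spec (CommRingCat.of k))] [Y.Over (Spec (CommRingCat.of k))]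
    [LocallyOfFiniteType (X ↘ (Spec (CommRingCat.of k)))]
    [QuasiCompact (X ↘ (Spec (CommRingCat.of k)))]
    [LocallyOfFiniteType (Y ↘ (Spec (CommRingCat.of k)))] [IrreducibleSpace Y]
    (f : X ⟶ Y) (hf : f ≫ (Y ↘ (Spec (CommRingCat.of k))) = (X ↘ (Spec (CommRingCat.of k))))
    [IsDominant f] :
    ∃ Z : Set X, IsClosed Z ∧ IsIrreducible Z ∧ topologicalKrullDim ↥Z = topologicalKrullDim Y ∧
      Dense (f '' Z) := by
  haveI : LocallyOfFiniteType (f ≫ (Y ↘ (Spec (CommRingCat.of k)))) := by rw [hf]; infer_instance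
  haveI : LocallyOfFiniteType f := locallyOfFiniteType_of_comp f (Y ↘ (Spec (CommRingCat.of k)))
  haveI : IsNoetherian X := by
    haveI : IsLocallyNoetherian X :=
      LocallyOfFiniteType.isLocallyNoetherian (X ↘ (Spec (CommRingCat.of k)))
    haveI : CompactSpace X :=
      (quasiCompact_iff_compactSpace (X ↘ (Spec (CommRingCat.of k)))).1 inferInstance
    exact {}
  obtain ⟨x₁, hx₁⟩ := VarDomComp.exists_map_eq_genericPoint f
  obtain ⟨z, hz1, hz2, hz3⟩ := FibreDim.exists_le_tr_zero f x₁
  have hfz : f z = genericPoint Y := hz2.trans hx₁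
  refine ⟨closure {z}, isClosed_closure, isIrreducible_singleton.closure, ?_, ?_⟩
  · obtain ⟨n, hn1, hn2⟩ := VarDim.exists_nat_dim_closure_eq k X z
    have hadd := VarTdAdd.td_add k f hf z
    rw [hz3, hfz] at hadd
    unfold GenFinite.td at hadd
    rw [hn1] at hadd
    simp only [Nat.cast_zero, add_zero] at hadd
    rw [hn2, VarGenDim.main k Y n hadd]
  · have : closure ({genericPoint Y} : Set Y) ⊆ closure (f '' closure {z}) := by
      apply closure_mono
      rw [Set.singleton_subset_iff, ← hfz]
      exact ⟨z, subset_closure rfl, rfl⟩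
    rw [genericPoint_spec Y] at this
    exact dense_iff_closure_eq.2 (Set.eq_univ_of_univ_subset this)

end Groth.Agent.Lib.lead.VarDomSub

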