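import Mathlib
import Groth.Agent.Lib.lead.VarOpenDim
import Groth.Agent.Lib.Helper18.GenFinite
import Groth.Agent.Lib.Helper24.LocalDim.Core

set_option autoImplicit false
universe u
open CategoryTheory CategoryTheory.Limits AlgebraicGeometry

namespace Groth.Agent.Lib.lead.NowhereDenseDim

open Groth.Agent.Lib.Helper7 Groth.Agent.Lib.Helper18 Groth.Agent.Lib.Helper7.SpecChain

/-- Lemma B: a maximal point of a locally Noetherian scheme does not lie in a closed set with
empty interior. -/
theorem not_mem_of_interior_eq_empty {Y : Scheme.{u}} [IsLocallyNoetherian Y] (ξ : Y)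
    (hξ : ∀ y : Y, y ⤳ ξ → y = ξ) (T : Set Y) (hT : IsClosed T) (hint : interior T = ∅) :
    ξ ∉ T := by
  intro hξT
  obtain ⟨W, hW, hξW, -⟩ :=
    exists_isAffineOpen_mem_and_subset (X := Y) (x := ξ) (U := ⊤) (by simp)
  haveI : IsNoetherianRing Γ(Y, W) := IsLocallyNoetherian.component_noetherian ⟨W, hW⟩
  set P := hW.primeIdealOf ⟨ξ, hξW⟩ with hP
  have hPmin : P.asIdeal ∈ minimalPrimes Γ(Y, W) :=
    (AffPts.forall_specializes_eq_iff hW ⟨ξ, hξW⟩).1 hξ
  haveI := P.isPrime
  obtain ⟨g, hgP, hg⟩ := Groth.Agent.Lib.Helper24.LocalDim.exists_avoiding Γ(Y, W) P.asIdeal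
  have hξg : ξ ∈ Y.basicOpen g := by
    by_contra hcon
    exact hgP ((AffPts.mem_primeIdealOf_iff hW ⟨ξ, hξW⟩ g).2 hcon)
  have hsub : (Y.basicOpen g : Set Y) ⊆ T := by
    intro y hy
    have hyW : y ∈ W := Y.basicOpen_le g hy
    have hgy : g ∉ (hW.primeIdealOf ⟨y, hyW⟩).asIdeal := fun h =>
      (AffPts.mem_primeIdealOf_iff hW ⟨y, hyW⟩ g).1 h hy
    obtain ⟨Q, hQmin, hQle⟩ := Ideal.exists_minimalPrimes_le
      (I := ⊥) (J := (hW.primeIdealOf ⟨y, hyW⟩).asIdeal) bot_le
    have hgQ : g ∉ Q := fun h => hgy (hQle h)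
    have hQP : Q ≤ P.asIdeal := by
      by_contra hcon
      exact hgQ (hg Q hQmin hcon)
    have hPQ : P.asIdeal ≤ Q := hPmin.2 ⟨hQmin.1.1, bot_le⟩ hQP
    have hle : P ≤ hW.primeIdealOf ⟨y, hyW⟩ := hPQ.trans hQle
    have hsp : ξ ⤳ y := (AffPts.primeIdealOf_le_iff hW ⟨ξ, hξW⟩ ⟨y, hyW⟩).1 hle
    exact hT.closure_subset_iff.2 (Set.singleton_subset_iff.2 hξT)
      (specializes_iff_mem_closure.1 hsp)
  have : ξ ∈ interior T := mem_interior.2 ⟨Y.basicOpen g, hsub, (Y.basicOpen g).isOpen, hξg⟩
  rw [hint] at this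
  exact this

attribute [local instance] Curv2.stalkAlgebra Curv2.resAlgebra

/-- Lemma A: an open set containing `ξ` has dimension at least `trdeg κ(ξ)`. -/
theorem le_dim_open (k : Type u) [Field k] (Y : Scheme.{u}) [Y.Over (Spec (CommRingCat.of k))]
    [LocallyOfFiniteType (Y ↘ (Spec (CommRingCat.of k)))] (U : Y.Opens) (ξ : Y) (hξU : ξ ∈ U)
    (m : ℕ) (hm : topologicalKrullDim ↥(closure ({ξ} : Set Y)) = m) :
    (m : WithBot ℕ∞) ≤ topologicalKrullDim ↥U := by
  obtain ⟨W, hW, hξW, hWU⟩ :=
    exists_isAffineOpen_mem_and_subset (X := Y) (x := ξ) (U := U) hξU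
  rw [← hm, VarDim.dim_closure_eq k Y ξ hW hξW]
  calc ringKrullDim (Γ(Y, W) ⧸ (hW.primeIdealOf ⟨ξ, hξW⟩).asIdeal)
      ≤ ringKrullDim Γ(Y, W) := ringKrullDim_quotient_le _
    _ = topologicalKrullDim ↥W := (VarOpenDim.dim_affineOpen hW).symm
    _ ≤ topologicalKrullDim ↥U := VarOpenDim.dim_le_of_le hWU

/-- Every point lies in the closure of a maximal point. -/
theorem exists_maximal_specializes (Y : Scheme.{u}) (y : Y) :
    ∃ ξ : Y, ξ ⤳ y ∧ closure ({ξ} : Set Y) ∈ irreducibleComponents (Y : Type u) := by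
  obtain ⟨C, hC, hsub⟩ := exists_mem_irreducibleComponents_subset_of_isIrreducible
    (closure ({y} : Set Y)) isIrreducible_singleton.closure
  obtain ⟨ξ, hξ⟩ := QuasiSober.sober hC.1 (isClosed_of_mem_irreducibleComponents C hC)
  refine ⟨ξ, hξ.specializes (hsub (subset_closure rfl)), ?_⟩
  rw [hξ.def]
  exact hC

theorem main {k : Type u} [Field k] {Y : Scheme.{u}} [Nonempty ↥Y]
    (g : Y ⟶ Spec (CommRingCat.of k)) [LocallyOfFiniteType g]
    (heq : ∀ T ∈ irreducibleComponents ↥Y, topologicalKrullDim ↥T = topologicalKrullDim ↥Y)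
    (Z : Set ↥Y) (hZ : IsLocallyClosed Z) :
    IsNowhereDense Z ↔ topologicalKrullDim ↥Z < topologicalKrullDim ↥Y := by
  letI : Y.Over (Spec (CommRingCat.of k)) := ⟨g⟩
  haveI : LocallyOfFiniteType (Y ↘ Spec (CommRingCat.of k)) := ‹LocallyOfFiniteType g›
  haveI : IsLocallyNoetherian Y := LocallyOfFiniteType.isLocallyNoetherian g
  -- the dimension of `Y` is a natural number
  obtain ⟨n, hn⟩ : ∃ n : ℕ, topologicalKrullDim ↥Y = n := by
    obtain ⟨ξ, -, hξC⟩ := exists_maximal_specializes Y (Classical.arbitrary Y)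
    obtain ⟨n, -, hn2⟩ := VarDim.exists_nat_dim_closure_eq k Y ξ
    exact ⟨n, by rw [← heq _ hξC, hn2]⟩
  constructor
  · intro hnd
    have hint : interior (closure Z) = ∅ := hnd
    have hZT : topologicalKrullDim ↥Z ≤ topologicalKrullDim ↥(closure Z) :=
      (Topology.IsEmbedding.inclusion (subset_closure (s := Z))).isInducing.topologicalKrullDim_le
    -- chains in the closure extend by a maximal point
    have key : ∀ (m : ℕ) (x : Fin (m + 1) → Y), (∀ i, x i ∈ closure Z) → IsPtChain x →
        m + 1 ≤ n := by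
      intro m x hx hc
      obtain ⟨ξ, hξsp, hξC⟩ := exists_maximal_specializes Y (x (Fin.last m))
      have hξmax : ∀ y : Y, y ⤳ ξ → y = ξ :=
        (AffPts.closure_mem_irreducibleComponents_iff ξ).1 hξC
      have hξT : ξ ∉ closure Z :=
        not_mem_of_interior_eq_empty ξ hξmax (closure Z) isClosed_closure hint
      have h2 : ¬ x (Fin.last m) ⤳ ξ := by
        intro h
        apply hξT
        exact isClosed_closure.closure_subset_iff.2 (Set.singleton_subset_iff.2 (hx _))
          (specializes_iff_mem_closure.1 h)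
      have hc' := GenFinite.isPtChain_snoc x hc ξ hξsp h2
      have := le_dim_of_chain (Set.univ : Set Y) isClosed_univ _ (fun _ => trivial) hc'
      have huniv : topologicalKrullDim ↥(Set.univ : Set Y) = n := by
        rw [← hn]
        exact IsHomeomorph.topologicalKrullDim_eq _ (Homeomorph.Set.univ Y).isHomeomorph
      rw [huniv] at this
      exact_mod_cast this
    rw [hn]
    by_cases hne : (closure Z).Nonempty
    · obtain ⟨z, hz⟩ := hne
      have h1 : 0 + 1 ≤ n := key 0 (fun _ => z) (fun _ => hz) (fun i => i.elim0)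
      have hle : topologicalKrullDim ↥(closure Z) ≤ ((n - 1 : ℕ) : WithBot ℕ∞) := by
        apply dim_le_of_chains _ isClosed_closure
        intro m x hx hc
        have := key m x hx hc
        have h3 : m ≤ n - 1 := by omega
        exact_mod_cast h3
      refine lt_of_le_of_lt (hZT.trans hle) ?_
      have : n - 1 < n := by omega
      exact_mod_cast this
    · have hempty : IsEmpty ↥Z := by
        rw [Set.not_nonempty_iff_eq_empty] at hne
        constructor
        rintro ⟨z, hz⟩
        have : z ∈ closure Z := subset_closure hz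
        rw [hne] at this
        exact this
      have : topologicalKrullDim ↥Z = ⊥ := by
        unfold topologicalKrullDim
        haveI : IsEmpty (TopologicalSpace.IrreducibleCloseds ↥Z) :=
          ⟨fun s => by
            obtain ⟨x, -⟩ := s.isIrreducible.nonempty
            exact hempty.false x⟩
        exact Order.krullDim_eq_bot
      rw [this]
      exact WithBot.bot_lt_coe _
  · intro hlt
    by_contra hnd
    have hne : (interior (closure Z)).Nonempty := by
      rw [Set.nonempty_iff_ne_empty]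
      exact hnd
    obtain ⟨v, hv⟩ := hne
    have hvcl : v ∈ closure Z := interior_subset hv
    obtain ⟨z, hzV, hzZ⟩ := mem_closure_iff.1 hvcl (interior (closure Z)) isOpen_interior hv
    have hcob : IsOpen (coborder Z) := hZ.isOpen_coborder
    let U' : Y.Opens := ⟨interior (closure Z) ∩ coborder Z, isOpen_interior.inter hcob⟩
    have hU'Z : (U' : Set Y) ⊆ Z := by
      intro y hy
      rw [← coborder_inter_closure (s := Z)]
      exact ⟨hy.2, interior_subset hy.1⟩
    have hzU' : z ∈ U' := ⟨hzV, subset_coborder hzZ⟩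
    obtain ⟨ξ, hξsp, hξC⟩ := exists_maximal_specializes Y z
    have hξU' : ξ ∈ U' := hξsp.mem_open U'.isOpen hzU'
    have hdimC : topologicalKrullDim ↥(closure ({ξ} : Set Y)) = n := by
      rw [heq _ hξC, hn]
    have h1 := le_dim_open k Y U' ξ hξU' n hdimC
    have h2 : topologicalKrullDim ↥U' ≤ topologicalKrullDim ↥Z :=
      (Topology.IsEmbedding.inclusion hU'Z).isInducing.topologicalKrullDim_le
    rw [hn] at hlt
    exact absurd (h1.trans h2) (not_le.2 hlt)

end Groth.Agent.Lib.lead.NowhereDenseDim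

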