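import Mathlib
import Groth.Agent.Lib.lead.NowhereDenseDim

set_option autoImplicit false
universe u
open CategoryTheory CategoryTheory.Limits AlgebraicGeometry

namespace Groth.Agent.Lib.lead.ZeroLocusDim

open Groth.Agent.Lib.Helper7 Groth.Agent.Lib.Helper18 Groth.Agent.Lib.Helper7.SpecChain

theorem dim_empty {T : Type*} [TopologicalSpace T] [IsEmpty T] : topologicalKrullDim T = ⊥ := by
  unfold topologicalKrullDim
  haveI : IsEmpty (TopologicalSpace.IrreducibleCloseds T) :=
    ⟨fun s => by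
      obtain ⟨x, -⟩ := s.isIrreducible.nonempty
      exact isEmptyElim x⟩
  exact Order.krullDim_eq_bot

/-- A closed subset with empty interior of a locally Noetherian scheme has dimension at most
`dim - 1`. -/
theorem dim_add_one_le {Y : Scheme.{u}} [IsLocallyNoetherian Y] (T : Set Y) (hT : IsClosed T)
    (hint : interior T = ∅) :
    topologicalKrullDim ↥T + 1 ≤ topologicalKrullDim Y := by
  have key : ∀ (m : ℕ) (x : Fin (m + 1) → Y), (∀ i, x i ∈ T) → IsPtChain x →
      ((m + 1 : ℕ) : WithBot ℕ∞) ≤ topologicalKrullDim Y := by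
    intro m x hx hc
    obtain ⟨ξ, hξsp, hξC⟩ := NowhereDenseDim.exists_maximal_specializes Y (x (Fin.last m))
    have hξmax : ∀ y : Y, y ⤳ ξ → y = ξ :=
      (AffPts.closure_mem_irreducibleComponents_iff ξ).1 hξC
    have hξT : ξ ∉ T := NowhereDenseDim.not_mem_of_interior_eq_empty ξ hξmax T hT hint
    have h2 : ¬ x (Fin.last m) ⤳ ξ := by
      intro h
      apply hξT
      exact hT.closure_subset_iff.2 (Set.singleton_subset_iff.2 (hx _))
        (specializes_iff_mem_closure.1 h)
    have hc' := GenFinite.isPtChain_snoc x hc ξ hξsp h2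
    have := le_dim_of_chain (Set.univ : Set Y) isClosed_univ _ (fun _ => trivial) hc'
    have huniv : topologicalKrullDim ↥(Set.univ : Set Y) = topologicalKrullDim Y :=
      IsHomeomorph.topologicalKrullDim_eq _ (Homeomorph.Set.univ Y).isHomeomorph
    rw [huniv] at this
    exact this
  by_cases hne : T.Nonempty
  · obtain ⟨z, hz⟩ := hne
    have h1 : ((0 + 1 : ℕ) : WithBot ℕ∞) ≤ topologicalKrullDim Y :=
      key 0 (fun _ => z) (fun _ => hz) (fun i => i.elim0)
    by_cases htop : topologicalKrullDim Y = ⊤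
    · rw [htop]; exact le_top
    · have hbot : topologicalKrullDim Y ≠ ⊥ := by
        intro h; rw [h] at h1; simp at h1
      obtain ⟨d, hd⟩ := WithBot.ne_bot_iff_exists.1 hbot
      have hdtop : d ≠ ⊤ := by
        intro h; apply htop; rw [← hd, h]; rfl
      obtain ⟨N, hN⟩ := ENat.ne_top_iff_exists.1 hdtop
      have hDN : topologicalKrullDim Y = (N : WithBot ℕ∞) := by
        rw [← hd, ← hN]; rfl
      rw [hDN] at h1 key ⊢
      have hN1 : 1 ≤ N := by exact_mod_cast h1
      have hle : topologicalKrullDim ↥T ≤ ((N - 1 : ℕ) : WithBot ℕ∞) := by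
        apply dim_le_of_chains _ hT
        intro m x hx hc
        have := key m x hx hc
        have h3 : m + 1 ≤ N := by exact_mod_cast this
        have h4 : m ≤ N - 1 := by omega
        exact_mod_cast h4
      calc topologicalKrullDim ↥T + 1 ≤ ((N - 1 : ℕ) : WithBot ℕ∞) + 1 := by gcongr
        _ = (N : WithBot ℕ∞) := by
          have : N - 1 + 1 = N := by omega
          exact_mod_cast this
  · haveI : IsEmpty ↥T := by
      rw [Set.not_nonempty_iff_eq_empty] at hne
      rw [hne]; infer_instance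
    rw [dim_empty, WithBot.bot_add]
    exact bot_le

attribute [local instance] Curv2.stalkAlgebra Curv2.resAlgebra

theorem le_dim_add_one (k : Type u) [Field k] (X : Scheme.{u}) [X.Over (Spec (CommRingCat.of k))]
    [LocallyOfFiniteType (X ↘ (Spec (CommRingCat.of k)))] (f : Γ(X, ⊤))
    (hY : interior (X.zeroLocus (U := ⊤) {f}) = ∅) (ξ z : X)
    (hξC : closure ({ξ} : Set X) ∈ irreducibleComponents (X : Type u))
    (hz : ξ ⤳ z) (hzY : z ∈ X.zeroLocus (U := ⊤) {f}) :
    topologicalKrullDim ↥(closure ({ξ} : Set X)) ≤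
      topologicalKrullDim ↥(X.zeroLocus (U := ⊤) {f}) + 1 := by
  haveI : IsLocallyNoetherian X :=
    LocallyOfFiniteType.isLocallyNoetherian (X ↘ (Spec (CommRingCat.of k)))
  have hYcl : IsClosed (X.zeroLocus (U := ⊤) {f}) := X.zeroLocus_isClosed _
  have hξmax : ∀ y : X, y ⤳ ξ → y = ξ :=
    (AffPts.closure_mem_irreducibleComponents_iff ξ).1 hξC
  have hξY : ξ ∉ X.zeroLocus (U := ⊤) {f} :=
    NowhereDenseDim.not_mem_of_interior_eq_empty ξ hξmax _ hYcl hY
  obtain ⟨W, hW, hzW, -⟩ :=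
    exists_isAffineOpen_mem_and_subset (X := X) (x := z) (U := ⊤) (by simp)
  have hξW : ξ ∈ W := hz.mem_open W.isOpen hzW
  letI algA : Algebra k Γ(X, W) := (ResTrdeg.kToΓ k X W).toAlgebra
  haveI ftA : Algebra.FiniteType k Γ(X, W) := ResTrdeg.finiteType_kToΓ k X hW
  haveI : IsNoetherianRing Γ(X, W) := Algebra.FiniteType.isNoetherianRing k _
  set g : Γ(X, W) := (X.presheaf.map (homOfLE (le_top : W ≤ ⊤)).op).hom f with hg
  have hbo : X.basicOpen g = W ⊓ X.basicOpen f := X.basicOpen_res f _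
  have hmemY : ∀ y : X, y ∈ X.zeroLocus (U := ⊤) {f} ↔ y ∉ X.basicOpen f := by
    intro y
    rw [Scheme.zeroLocus_singleton]
    rfl
  set Pξ := hW.primeIdealOf ⟨ξ, hξW⟩ with hPξ
  set Pz := hW.primeIdealOf ⟨z, hzW⟩ with hPz
  have hgz : g ∈ Pz.asIdeal := by
    rw [AffPts.mem_primeIdealOf_iff hW ⟨z, hzW⟩ g, hbo]
    intro h
    exact (hmemY z).1 hzY h.2
  have hgξ : g ∉ Pξ.asIdeal := by
    rw [AffPts.mem_primeIdealOf_iff hW ⟨ξ, hξW⟩ g, hbo, not_not]
    refine ⟨hξW, ?_⟩
    by_contra h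
    exact hξY ((hmemY ξ).2 h)
  have hle : Pξ ≤ Pz := (AffPts.primeIdealOf_le_iff hW ⟨ξ, hξW⟩ ⟨z, hzW⟩).2 hz
  have hIle : Pξ.asIdeal ⊔ Ideal.span {g} ≤ Pz.asIdeal :=
    sup_le hle ((Ideal.span_singleton_le_iff_mem _).2 hgz)
  haveI := Pz.isPrime
  haveI := Pξ.isPrime
  obtain ⟨p, hpmin, hple⟩ := Ideal.exists_minimalPrimes_le hIle
  haveI hpprime : p.IsPrime := hpmin.1.1
  let pp : PrimeSpectrum Γ(X, W) := ⟨p, hpprime⟩
  have hξp : Pξ.asIdeal ≤ p := le_sup_left.trans hpmin.1.2
  have hgp : g ∈ p := hpmin.1.2 (le_sup_right (a := Pξ.asIdeal) (Ideal.mem_span_singleton_self g))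
  have hcov : Pξ ⋖ pp := by
    refine ⟨lt_of_le_of_ne hξp ?_, ?_⟩
    · intro h
      apply hgξ
      rw [h]
      exact hgp
    · intro r hr1 hr2
      haveI := r.isPrime
      let mk := Ideal.Quotient.mk Pξ.asIdeal
      have hker : RingHom.ker mk = Pξ.asIdeal := Ideal.mk_ker
      have hht : (p.map mk).height ≤ 1 := Ideal.map_height_le_one_of_mem_minimalPrimes hpmin
      have hcomap : ∀ q : Ideal Γ(X, W), Pξ.asIdeal ≤ q → (q.map mk).comap mk = q := by
        intro q hq
        rw [Ideal.comap_map_of_surjective _ Ideal.Quotient.mk_surjective,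
          ← RingHom.ker_eq_comap_bot, hker]
        exact sup_eq_left.2 hq
      haveI hr' : (r.asIdeal.map mk).IsPrime :=
        Ideal.map_isPrime_of_surjective Ideal.Quotient.mk_surjective (by rw [hker]; exact hr1.le)
      haveI hp' : (p.map mk).IsPrime :=
        Ideal.map_isPrime_of_surjective Ideal.Quotient.mk_surjective (by rw [hker]; exact hξp)
      have hlt1 : (⊥ : Ideal (Γ(X, W) ⧸ Pξ.asIdeal)) < r.asIdeal.map mk := by
        rw [bot_lt_iff_ne_bot]
        intro h0
        have := hcomap r.asIdeal hr1.le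
        rw [h0, ← RingHom.ker_eq_comap_bot, hker] at this
        exact hr1.ne (PrimeSpectrum.ext this)
      have hlt2 : r.asIdeal.map mk < p.map mk := by
        refine lt_of_le_of_ne (Ideal.map_mono hr2.le) ?_
        intro h
        have h1 := hcomap r.asIdeal hr1.le
        have h2 := hcomap p hξp
        rw [h, h2] at h1
        exact hr2.ne (PrimeSpectrum.ext h1.symm)
      haveI : (⊥ : Ideal (Γ(X, W) ⧸ Pξ.asIdeal)).IsPrime := Ideal.isPrime_bot
      have e1 := Ideal.height_add_one_le_of_lt_of_isPrime hlt1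
      have e2 := Ideal.height_add_one_le_of_lt_of_isPrime hlt2
      have e3 : (1 : ℕ∞) ≤ (r.asIdeal.map mk).height := le_trans le_add_self e1
      have e4 : (1 : ℕ∞) + 1 ≤ 1 := (add_le_add_left e3 1).trans (e2.trans hht)
      exact absurd e4 (by decide)
  have hstep := CatAff.dim_quotient_covBy_step (k := k) Γ(X, W) Pξ pp hcov
  obtain ⟨η, hη⟩ := AffPts.primeIdealOf_surjective hW pp
  have hηY : η.1 ∈ X.zeroLocus (U := ⊤) {f} := by
    rw [hmemY]
    intro h
    have : g ∈ (hW.primeIdealOf η).asIdeal := by rw [hη]; exact hgp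
    rw [AffPts.mem_primeIdealOf_iff hW η g, hbo] at this
    exact this ⟨η.2, h⟩
  have hsub : closure ({η.1} : Set X) ⊆ X.zeroLocus (U := ⊤) {f} :=
    hYcl.closure_subset_iff.2 (Set.singleton_subset_iff.2 hηY)
  have hdimη : topologicalKrullDim ↥(closure ({η.1} : Set X)) ≤
      topologicalKrullDim ↥(X.zeroLocus (U := ⊤) {f}) :=
    (Topology.IsEmbedding.inclusion hsub).isInducing.topologicalKrullDim_le
  have h1 := VarDim.dim_closure_eq k X ξ hW hξW
  have h2 := VarDim.dim_closure_eq k X η.1 hW η.2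
  have h3 : hW.primeIdealOf ⟨η.1, η.2⟩ = pp := hη
  rw [h3] at h2
  rw [h1, ← hstep, ← h2]
  gcongr

theorem main (k : Type u) [Field k] (X : Scheme.{u}) (p : X ⟶ Spec (CommRingCat.of k))
    [LocallyOfFiniteType p] (f : Γ(X, ⊤)) (hY : interior (X.zeroLocus (U := ⊤) {f}) = ∅) :
    topologicalKrullDim (X.zeroLocus (U := ⊤) {f}) + 1 ≤ topologicalKrullDim X ∧
      ((∃ Z ∈ irreducibleComponents (X : Type u), topologicalKrullDim Z = topologicalKrullDim X) →
        (∀ Z ∈ irreducibleComponents (X : Type u), topologicalKrullDim Z = topologicalKrullDim X →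
          (Z ∩ X.zeroLocus (U := ⊤) {f}).Nonempty) →
        topologicalKrullDim (X.zeroLocus (U := ⊤) {f}) + 1 = topologicalKrullDim X) := by
  letI : X.Over (Spec (CommRingCat.of k)) := ⟨p⟩
  haveI : LocallyOfFiniteType (X ↘ Spec (CommRingCat.of k)) := ‹LocallyOfFiniteType p›
  haveI : IsLocallyNoetherian X := LocallyOfFiniteType.isLocallyNoetherian p
  have h1 := dim_add_one_le (X.zeroLocus (U := ⊤) {f}) (X.zeroLocus_isClosed _) hY
  refine ⟨h1, fun ⟨Z, hZ, hZd⟩ hmeet => le_antisymm h1 ?_⟩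
  obtain ⟨z, hzZ, hzY⟩ := hmeet Z hZ hZd
  obtain ⟨ξ, hξ⟩ := QuasiSober.sober hZ.1 (isClosed_of_mem_irreducibleComponents Z hZ)
  have hcl : closure ({ξ} : Set X) = Z := hξ.def
  have := le_dim_add_one k X f hY ξ z (by rw [hcl]; exact hZ) (hξ.specializes hzZ) hzY
  rw [hcl, hZd] at this
  exact this

end Groth.Agent.Lib.lead.ZeroLocusDim

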