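import Mathlib
import Groth.Agent.Lib.lead.FibreDimTarget
import Groth.Agent.Lib.lead.VarDomSub
import Groth.Agent.Lib.lead.GenFiniteGen
import Groth.Agent.Lib.lead.ZeroLocusDim
import Groth.Agent.Lib.Helper24.FibreDim.Main4943
import Groth.Agent.Lib.Helper7.TopDimComponents

set_option autoImplicit false
set_option linter.style.haveILetI false
universe u
open CategoryTheory CategoryTheory.Limits AlgebraicGeometry Topology TopologicalSpace

namespace Groth.Agent.Lib.lead.VarFibreDimSum

open Groth.Agent.Lib.Helper7 Groth.Agent.Lib.Helper18 Groth.Agent.Lib.Helper24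

attribute [local instance] Curv2.stalkAlgebra Curv2.resAlgebra

section

variable (k : Type u) [Field k] {X Y : Scheme.{u}} [X.Over (Spec (CommRingCat.of k))]
  [Y.Over (Spec (CommRingCat.of k))]
  [LocallyOfFiniteType (X ↘ Spec (CommRingCat.of k))]
  [LocallyOfFiniteType (Y ↘ Spec (CommRingCat.of k))]
  (f : X ⟶ Y) (hf : f ≫ (Y ↘ Spec (CommRingCat.of k)) = X ↘ Spec (CommRingCat.of k))

include hf in
/-- `dim closure {x} = dim closure {f x} + tr f x` as elements of `WithBot ℕ∞`. -/
theorem dim_closure_eq_add [LocallyOfFiniteType f] (x : X) :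
    topologicalKrullDim ↥(closure ({x} : Set X)) =
      topologicalKrullDim ↥(closure ({f x} : Set Y)) + ((FibreDim.tr f x : ℕ) : WithBot ℕ∞) := by
  obtain ⟨m, hm1, hm2⟩ := VarDim.exists_nat_dim_closure_eq k X x
  obtain ⟨n, hn1, hn2⟩ := VarDim.exists_nat_dim_closure_eq k Y (f x)
  have hadd := VarTdAdd.td_add k f hf x
  unfold GenFinite.td at hadd
  rw [hm1, hn1] at hadd
  have : n + FibreDim.tr f x = m := by exact_mod_cast hadd
  rw [hm2, hn2, ← this]
  push_cast
  rfl

end

theorem dim_preimage_eq_dim_fiber {X Y : Scheme.{u}} (f : X ⟶ Y) (y : Y) :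
    topologicalKrullDim ↥(f.base ⁻¹' {y}) = topologicalKrullDim ↥(f.fiber y) :=
  (IsHomeomorph.topologicalKrullDim_eq _ (f.fiberHomeo y).isHomeomorph).symm

theorem dim_closure_le {T : Type*} [TopologicalSpace T] (A : Set T) :
    topologicalKrullDim ↥A ≤ topologicalKrullDim T := topologicalKrullDim_subspace_le T A

/-- In a Noetherian space, the dimension is attained on a component. -/
theorem exists_component_dim_ge {T : Type*} [TopologicalSpace T] [NoetherianSpace T] [Nonempty T] :
    ∃ W ∈ irreducibleComponents T, topologicalKrullDim T ≤ topologicalKrullDim ↥W := by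
  classical
  have hfin : (irreducibleComponents T).Finite := NoetherianSpace.finite_irreducibleComponents
  have hne : hfin.toFinset.Nonempty := by
    obtain ⟨t⟩ := ‹Nonempty T›
    exact ⟨irreducibleComponent t, hfin.mem_toFinset.2
      (irreducibleComponent_mem_irreducibleComponents t)⟩
  obtain ⟨W, hW, hmax⟩ := Finset.exists_max_image hfin.toFinset
    (fun W : Set T => topologicalKrullDim ↥W) hne
  refine ⟨W, hfin.mem_toFinset.1 hW, ?_⟩
  exact TopDimComp.topologicalKrullDim_le_of_forall_component _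
    (fun W' hW' => hmax W' (hfin.mem_toFinset.2 hW'))

theorem S10885 (k : Type u) [Field k] {X Y : Scheme.{u}}
    (q : Y ⟶ Spec (CommRingCat.of k)) [LocallyOfFiniteType q] [QuasiCompact q]
    (f : X ⟶ Y) [LocallyOfFiniteType f] (r : ℕ)
    (hfib : ∀ η : Y, (∀ y : Y, y ⤳ η → y = η) →
      (r : WithBot ℕ∞) ≤ topologicalKrullDim (f.base ⁻¹' {η})) :
    (r : WithBot ℕ∞) + topologicalKrullDim Y ≤ topologicalKrullDim X := by
  letI : Y.Over (Spec (CommRingCat.of k)) := ⟨q⟩
  letI : X.Over (Spec (CommRingCat.of k)) := ⟨f ≫ q⟩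
  haveI : LocallyOfFiniteType (Y ↘ Spec (CommRingCat.of k)) := ‹LocallyOfFiniteType q›
  haveI : LocallyOfFiniteType (X ↘ Spec (CommRingCat.of k)) :=
    inferInstanceAs (LocallyOfFiniteType (f ≫ q))
  have hf : f ≫ (Y ↘ Spec (CommRingCat.of k)) = X ↘ Spec (CommRingCat.of k) := rfl
  haveI : IsLocallyNoetherian Y := LocallyOfFiniteType.isLocallyNoetherian q
  haveI : CompactSpace Y := (quasiCompact_iff_compactSpace q).1 inferInstance
  haveI : IsNoetherian Y := {}
  by_cases hYe : IsEmpty Y
  · rw [ZeroLocusDim.dim_empty (T := Y), WithBot.add_bot]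
    exact bot_le
  rw [not_isEmpty_iff] at hYe
  obtain ⟨W, hW, hWdim⟩ := exists_component_dim_ge (T := Y)
  obtain ⟨η, hη⟩ := QuasiSober.sober hW.1 (isClosed_of_mem_irreducibleComponents W hW)
  have hηmax : ∀ y : Y, y ⤳ η → y = η :=
    GenFiniteGen.maximal_of_mem_irreducibleComponents (by rw [hη.def]; exact hW)
  have h1 := hfib η hηmax
  rw [dim_preimage_eq_dim_fiber, FibreDimTarget.le_dim_fibre_iff] at h1
  obtain ⟨x, hx, hxr⟩ := h1
  obtain ⟨z, hz, -, -, hztr⟩ := FibreDim.exists_max_tr f x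
  have hfz : f z = η := hz.trans hx
  have h2 := dim_closure_eq_add k f hf z
  rw [hfz, hη.def, hztr] at h2
  calc (r : WithBot ℕ∞) + topologicalKrullDim Y
      ≤ FlatMor.fibreDimAt f x + topologicalKrullDim ↥W := add_le_add hxr hWdim
    _ = topologicalKrullDim ↥(closure ({z} : Set X)) := by rw [h2, add_comm]
    _ ≤ topologicalKrullDim X := dim_closure_le _

theorem S10884 (k : Type u) [Field k] {X Y : Scheme.{u}}
    (q : Y ⟶ Spec (CommRingCat.of k)) [LocallyOfFiniteType q] [QuasiCompact q]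
    (f : X ⟶ Y) [LocallyOfFiniteType f] [QuasiCompact f] (hdom : DenseRange f.base) (r : ℕ)
    (hfib : ∀ y : Y, (f.base ⁻¹' {y}).Nonempty → topologicalKrullDim (f.base ⁻¹' {y}) = r) :
    topologicalKrullDim X = (r : WithBot ℕ∞) + topologicalKrullDim Y := by
  apply le_antisymm
  · letI : Y.Over (Spec (CommRingCat.of k)) := ⟨q⟩
    letI : X.Over (Spec (CommRingCat.of k)) := ⟨f ≫ q⟩
    haveI : LocallyOfFiniteType (Y ↘ Spec (CommRingCat.of k)) := ‹LocallyOfFiniteType q›
    haveI : LocallyOfFiniteType (X ↘ Spec (CommRingCat.of k)) :=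
      inferInstanceAs (LocallyOfFiniteType (f ≫ q))
    have hf : f ≫ (Y ↘ Spec (CommRingCat.of k)) = X ↘ Spec (CommRingCat.of k) := rfl
    refine TopDimComp.topologicalKrullDim_le_of_forall_component _ ?_
    intro Z hZ
    obtain ⟨ξ, hξ⟩ := QuasiSober.sober hZ.1 (isClosed_of_mem_irreducibleComponents Z hZ)
    rw [← hξ.def, dim_closure_eq_add k f hf ξ, add_comm]
    refine add_le_add ?_ (dim_closure_le _)
    have h1 := FibreDim.tr_le_fibreDimAt f (specializes_rfl (x := ξ)) rfl
    have h2 : FlatMor.fibreDimAt f ξ ≤ topologicalKrullDim ↥(f.fiber (f ξ)) :=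
      Groth.Agent.Lib.Helper21.TopDim.localDim_le _
    have h3 := hfib (f ξ) ⟨ξ, rfl⟩
    rw [dim_preimage_eq_dim_fiber] at h3
    exact (h1.trans h2).trans h3.le
  · refine S10885 k q f r ?_
    intro η hη
    have hmem : η ∈ closure (Set.range f) := by rw [hdom.closure_eq]; trivial
    obtain ⟨x, hx⟩ := Groth.Agent.S9347.exists_specializes_of_mem_closure_range f η hmem
    have hfx : f x = η := hη _ hx
    exact (hfib η ⟨x, hfx⟩).ge


end Groth.Agent.Lib.lead.VarFibreDimSum
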