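import Mathlib
import Groth.Agent.Lib.lead.FibreDimTarget
import Groth.Agent.Lib.lead.GenFiniteCore
import Groth.Agent.Lib.lead.FibreCompDimOne
import Groth.Agent.Lib.lead.VarFibreDimSum
import Groth.Agent.Lib.helper11.GenFreeImage

set_option autoImplicit false
set_option linter.style.haveILetI false
universe u
open CategoryTheory CategoryTheory.Limits AlgebraicGeometry Topology

namespace Groth.Agent.Lib.lead.GenFibreDim

open Groth.Agent.Lib.Helper24 Groth.Agent.Lib.Helper18 Groth.Agent.Lib.lead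

variable {X Y : Scheme.{u}}

/-- Lemma A: for a quasi-compact morphism to an irreducible scheme, a closed set whose image misses
the generic point has image closure missing the generic point. -/
theorem genericPoint_not_mem_closure_image (f : X ⟶ Y) [QuasiCompact f] [IrreducibleSpace Y]
    (C : Set X) (hC : IsClosed C) (h : genericPoint Y ∉ f '' C) :
    genericPoint Y ∉ closure (f '' C) := by
  intro hcl
  obtain ⟨c, hcC, hc⟩ := GenFiniteCore.exists_specializes_of_mem_closure_image f C hC _ hcl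
  have h2 : genericPoint Y ⤳ f c := (genericPoint_spec Y).specializes trivial
  exact h ⟨c, hcC, (hc.antisymm h2).eq⟩

set_option backward.isDefEq.respectTransparency.types false in
/-- Lemma B: the image of a closed set hitting the generic point contains an open neighbourhood of
the generic point (for morphisms locally of finite type). -/
theorem exists_open_subset_image (f : X ⟶ Y) [LocallyOfFiniteType f] [IrreducibleSpace Y]
    (C : Set X) (hC : IsClosed C) (ξ : X) (hξ : ξ ∈ C) (hη : f ξ = genericPoint Y) :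
    ∃ V : Y.Opens, genericPoint Y ∈ V ∧ (V : Set Y) ⊆ f '' C := by
  let I := Scheme.IdealSheafData.vanishingIdeal (X := X) ⟨C, hC⟩
  have hrange : Set.range I.subschemeι = C := by
    rw [I.range_subschemeι]
    exact Scheme.IdealSheafData.coe_support_vanishingIdeal _
  set h := I.subschemeι ≫ f with hh
  obtain ⟨ξ', hξ'⟩ : ξ ∈ Set.range I.subschemeι := by rw [hrange]; exact hξ
  have hhξ : h ξ' = genericPoint Y := by
    rw [hh, Scheme.Hom.comp_apply, hξ', hη]
  obtain ⟨W, hW, hηW, -⟩ := exists_isAffineOpen_mem_and_subset (U := (⊤ : Y.Opens))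
    (x := genericPoint Y) (by simp)
  have hξW : ξ' ∈ h ⁻¹ᵁ W := by
    show h ξ' ∈ W
    rw [hhξ]; exact hηW
  obtain ⟨U', hU', hξU', hU'W⟩ := exists_isAffineOpen_mem_and_subset hξW
  let φ := h.appLE W U' hU'W
  have hft : φ.hom.FiniteType := LocallyOfFiniteType.finiteType_appLE h hW hU' hU'W
  letI : Algebra Γ(Y, W) Γ(I.subscheme, U') := φ.hom.toAlgebra
  haveI : Algebra.FiniteType Γ(Y, W) Γ(I.subscheme, U') := hft
  let p₀ : PrimeSpectrum Γ(Y, W) := hW.primeIdealOf ⟨genericPoint Y, hηW⟩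
  have hp₀ : hW.fromSpec p₀ = genericPoint Y := hW.fromSpec_primeIdealOf ⟨genericPoint Y, hηW⟩
  have hmin : ∀ q : PrimeSpectrum Γ(Y, W), p₀.asIdeal ≤ q.asIdeal := by
    intro q
    have h1 : hW.fromSpec p₀ ⤳ hW.fromSpec q := by
      rw [hp₀]; exact (genericPoint_spec Y).specializes trivial
    have h2 : p₀ ⤳ q := by
      rwa [hW.fromSpec.isOpenEmbedding.isInducing.specializes_iff] at h1
    exact (PrimeSpectrum.le_iff_specializes p₀ q).2 h2
  have hfib : p₀ ∈ Set.range (PrimeSpectrum.comap (algebraMap Γ(Y, W) Γ(I.subscheme, U'))) := by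
    refine ⟨hU'.primeIdealOf ⟨ξ', hξU'⟩, ?_⟩
    have := IsAffineOpen.comap_primeIdealOf_appLE (f := h) (x := ξ') W hW U' hU' hU'W hξU'
    refine Eq.trans (show _ = _ from this) ?_
    show hW.primeIdealOf _ = hW.primeIdealOf _
    congr 1
    exact Subtype.ext hhξ
  obtain ⟨g, hg, H⟩ := Groth.Agent.Lib.helper11.GenFreeImage.exists_basicOpen_subset_range p₀ hmin hfib
  refine ⟨Y.basicOpen g, ?_, ?_⟩
  · rw [← hW.fromSpec_image_basicOpen]
    exact ⟨p₀, hg, hp₀⟩
  · intro y hy
    rw [← hW.fromSpec_image_basicOpen] at hy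
    obtain ⟨q, hq, rfl⟩ := hy
    obtain ⟨Q, hQ⟩ := H q hq
    refine ⟨I.subschemeι (hU'.fromSpec Q), ?_, ?_⟩
    · rw [← hrange]; exact ⟨_, rfl⟩
    · have e1 : Spec.map φ ≫ hW.fromSpec = hU'.fromSpec ≫ h :=
        IsAffineOpen.SpecMap_appLE_fromSpec h hW hU' hU'W
      have e2 : (hU'.fromSpec ≫ h) Q = (Spec.map φ ≫ hW.fromSpec) Q := by rw [e1]
      rw [Scheme.Hom.comp_apply, Scheme.Hom.comp_apply] at e2
      rw [e2]
      show hW.fromSpec (Spec.map φ Q) = hW.fromSpec q
      exact congrArg (fun z => hW.fromSpec z) hQ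

/-- arithmetic in `WithBot ℕ∞` -/
theorem eq_of_le_of_not_succ_le (d : WithBot ℕ∞) (n : ℕ) (h1 : (n : WithBot ℕ∞) ≤ d)
    (h2 : ¬ ((n + 1 : ℕ) : WithBot ℕ∞) ≤ d) : d = n := by
  induction d using WithBot.recBotCoe with
  | bot => simp at h1
  | coe e =>
    induction e using ENat.recTopCoe with
    | top => exact absurd le_top h2
    | coe m =>
      have h1' : n ≤ m := by exact_mod_cast h1
      have h2' : ¬ (n + 1 ≤ m) := by
        intro h; apply h2; exact_mod_cast h
      have : m = n := by omega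
      subst this; rfl

/-- Over a neighbourhood of the generic point, the local fibre dimension is at most that of the
generic fibre. -/
theorem exists_open_fibreDimAt_lt (f : X ⟶ Y) [IrreducibleSpace Y] [LocallyOfFiniteType f]
    [QuasiCompact f] (n : ℕ)
    (h : ¬ ((n + 1 : ℕ) : WithBot ℕ∞) ≤ topologicalKrullDim ↑(f.fiber (genericPoint ↑Y))) :
    ∃ V : Y.Opens, genericPoint Y ∈ V ∧ ∀ x : X, f x ∈ V →
      ¬ ((n + 1 : ℕ) : WithBot ℕ∞) ≤ FlatMor.fibreDimAt f x := by
  set C : Set X := {x : X | ((n + 1 : ℕ) : WithBot ℕ∞) ≤ FlatMor.fibreDimAt f x} with hCdef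
  have hC : IsClosed C := FibreDimTarget.isClosed_setOf_le_fibreDimAt f (n + 1)
  have hnot : genericPoint Y ∉ f '' C := by
    rintro ⟨x, hx, hfx⟩
    exact h ((FibreDimTarget.le_dim_fibre_iff f _ (n + 1)).2 ⟨x, hfx, hx⟩)
  have hcl := genericPoint_not_mem_closure_image f C hC hnot
  refine ⟨⟨(closure (f '' C))ᶜ, isClosed_closure.isOpen_compl⟩, hcl, ?_⟩
  intro x hx hx2
  exact hx (subset_closure ⟨x, hx2, rfl⟩)

theorem S1332 (f : X ⟶ Y) [IrreducibleSpace ↑Y] [LocallyOfFiniteType f] [QuasiCompact f] (n : ℕ)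
    (h : topologicalKrullDim ↑(f.fiber (genericPoint ↑Y)) = n) :
    ∃ V : Y.Opens, (V : Set ↑Y).Nonempty ∧ ∀ y ∈ V, topologicalKrullDim ↑(f.fiber y) = n := by
  have hnot : ¬ ((n + 1 : ℕ) : WithBot ℕ∞) ≤ topologicalKrullDim ↑(f.fiber (genericPoint ↑Y)) := by
    rw [h]
    intro h'
    have : n + 1 ≤ n := by exact_mod_cast h'
    omega
  obtain ⟨V1, hV1, H1⟩ := exists_open_fibreDimAt_lt f n hnot
  obtain ⟨ξ, hξ, hξn⟩ := (FibreDimTarget.le_dim_fibre_iff f (genericPoint Y) n).1 (by rw [h])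
  obtain ⟨V2, hV2, H2⟩ := exists_open_subset_image f
    {x : X | (n : WithBot ℕ∞) ≤ FlatMor.fibreDimAt f x}
    (FibreDimTarget.isClosed_setOf_le_fibreDimAt f n) ξ hξn hξ
  refine ⟨V1 ⊓ V2, ⟨genericPoint Y, hV1, hV2⟩, ?_⟩
  rintro y ⟨hy1, hy2⟩
  apply eq_of_le_of_not_succ_le
  · obtain ⟨x, hx, hfx⟩ := H2 hy2
    exact (FibreDimTarget.le_dim_fibre_iff f y n).2 ⟨x, hfx, hx⟩
  · intro hle
    obtain ⟨x, hfx, hx⟩ := (FibreDimTarget.le_dim_fibre_iff f y (n + 1)).1 hle
    exact H1 x (by rw [hfx]; exact hy1) hx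

/-- dimension of an irreducible component of a set-theoretic fibre -/
theorem dim_component_preimage (f : X ⟶ Y) [LocallyOfFiniteType f] (s : Y)
    (T : Set ↥(⇑f ⁻¹' {s})) (hT : T ∈ irreducibleComponents ↥(⇑f ⁻¹' {s})) :
    ∃ w : X, f w = s ∧ topologicalKrullDim ↥T = FlatMor.fibreDimAt f w := by
  let e := f.fiberHomeo s
  have hT' : e ⁻¹' T ∈ irreducibleComponents ↥(f.fiber s) := by
    apply preimage_mem_irreducibleComponents hT e.isOpenEmbedding
    rw [e.range_coe, Set.inter_univ]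
    exact hT.1.nonempty
  have hdim : topologicalKrullDim ↥T = topologicalKrullDim ↥(e ⁻¹' T) := by
    have h1 := (e.symm.image T).isHomeomorph.topologicalKrullDim_eq
    rw [h1]
    rw [show e.symm '' T = e ⁻¹' T from by rw [e.image_symm]]
  obtain ⟨ζ, hζ⟩ := QuasiSober.sober hT'.1 (isClosed_of_mem_irreducibleComponents _ hT')
  set w := f.fiberι s ζ with hw
  have hy : f w = s := by
    have : w ∈ Set.range (f.fiberι s) := ⟨ζ, rfl⟩
    rw [f.range_fiberι] at this
    exact this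
  refine ⟨w, hy, ?_⟩
  rw [hdim]
  exact FibreCompDimOne.dim_component_aux f w s hy _ hT' ζ hζ rfl

theorem S4781 {X S : Scheme.{u}} (f : X ⟶ S)
    [IrreducibleSpace S] [IrreducibleSpace X] [IsDominant f]
    [LocallyOfFiniteType f] [QuasiCompact f] :
    ∃ U : S.Opens, genericPoint S ∈ U ∧ ∀ s ∈ U, ∀ T ∈ irreducibleComponents ↥(⇑f ⁻¹' {s}),
      topologicalKrullDim ↥T = topologicalKrullDim ↥(⇑f ⁻¹' {genericPoint S}) := by
  have hξη : f (genericPoint X) = genericPoint S :=
    GenFin.map_genericPoint_of_dense f f.denseRange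
  obtain ⟨d, hd⟩ := Chev.exists_nat_fibreDimAt f (genericPoint X)
  have hdimη : topologicalKrullDim ↥(f.fiber (genericPoint S)) = d := by
    rw [← hd, FibreCompDimOne.fibreDimAt_genericPoint f]
    exact FibreCompDimOne.dim_fiber_congr f hξη.symm
  have hge : ∀ x : X, (d : WithBot ℕ∞) ≤ FlatMor.fibreDimAt f x := by
    intro x
    have hcl := FibreDimTarget.isClosed_setOf_le_fibreDimAt f d
    have hmem : genericPoint X ∈ {x : X | (d : WithBot ℕ∞) ≤ FlatMor.fibreDimAt f x} := by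
      show (d : WithBot ℕ∞) ≤ FlatMor.fibreDimAt f (genericPoint X)
      rw [hd]
    have hsp : genericPoint X ⤳ x := (genericPoint_spec X).specializes trivial
    exact hsp.mem_closed hcl hmem
  have hnot : ¬ ((d + 1 : ℕ) : WithBot ℕ∞) ≤ topologicalKrullDim ↑(f.fiber (genericPoint ↑S)) := by
    rw [hdimη]
    intro h'
    have : d + 1 ≤ d := by exact_mod_cast h'
    omega
  obtain ⟨V, hV, H⟩ := exists_open_fibreDimAt_lt f d hnot
  refine ⟨V, hV, ?_⟩
  intro s hs T hT
  obtain ⟨w, hw, hdimT⟩ := dim_component_preimage f s T hT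
  rw [hdimT, VarFibreDimSum.dim_preimage_eq_dim_fiber, hdimη]
  exact eq_of_le_of_not_succ_le _ d (hge w) (H w (by rw [hw]; exact hs))


end Groth.Agent.Lib.lead.GenFibreDim
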