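import Mathlib
import Groth.Agent.Lib.lead.GenFibreDim
import Groth.Agent.Lib.lead.FibreDimFormula
import Groth.Agent.Lib.helper11.GenFibreCoverScheme

set_option autoImplicit false
set_option linter.style.haveILetI false
universe u
open CategoryTheory CategoryTheory.Limits AlgebraicGeometry Topology TopologicalSpace

namespace Groth.Agent.Lib.lead.GenNowhereDense

open Groth.Agent.Lib.Helper24 Groth.Agent.Lib.Helper18 Groth.Agent.Lib.lead

variable {X Y : Scheme.{u}}

/-- (M) In a locally Noetherian scheme, the closure of a maximal point has nonempty interior. -/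
theorem exists_open_subset_closure_of_isMax (W : Scheme.{u}) [IsLocallyNoetherian W] (ζ : W)
    (hζ : IsMax ζ) : ∃ O : Set W, IsOpen O ∧ O.Nonempty ∧ O ⊆ closure {ζ} := by
  obtain ⟨U, hU, hζU, -⟩ := exists_isAffineOpen_mem_and_subset (X := W) (x := ζ) (U := ⊤) (by simp)
  haveI : IsNoetherianRing Γ(W, U) := IsLocallyNoetherian.component_noetherian ⟨U, hU⟩
  haveI : NoetherianSpace U := noetherianSpace_of_isAffineOpen U hU
  let ζ' : U := ⟨ζ, hζU⟩
  have hcomp : closure ({ζ'} : Set U) ∈ irreducibleComponents U := by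
    refine ⟨isIrreducible_singleton.closure, ?_⟩
    intro S hS hle
    -- S irreducible containing closure ζ'; its closure has a generic point
    have hSc : IsIrreducible (closure S) := hS.closure
    obtain ⟨s, hs⟩ := QuasiSober.sober hSc isClosed_closure
    have h1 : s ⤳ ζ' := hs.specializes (subset_closure (hle (subset_closure rfl)))
    have h2 : s.1 ⤳ ζ := by
      have := (Topology.IsInducing.subtypeVal (t := (U : Set W))).specializes_iff
        (x := s) (y := ζ')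
      exact this.2 h1
    have h3 : ζ ⤳ s.1 := hζ (show ζ ≤ s.1 from h2)
    have h4 : ζ' ⤳ s := by
      have := (Topology.IsInducing.subtypeVal (t := (U : Set W))).specializes_iff
        (x := ζ') (y := s)
      exact this.1 h3
    have h5 : closure ({s} : Set U) ⊆ closure {ζ'} := h4.closure_subset
    rw [hs.def] at h5
    exact subset_closure.trans h5
  obtain ⟨o, ho, hne, hsub⟩ :=
    NoetherianSpace.exists_isOpen_nonempty_subset_irreducibleComponent _ hcomp
  refine ⟨Subtype.val '' o, U.isOpen.isOpenMap_subtype_val o ho, hne.image _, ?_⟩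
  rintro _ ⟨x, hx, rfl⟩
  have h1 : ζ' ⤳ x := specializes_iff_mem_closure.2 (hsub hx)
  have h2 : ζ ⤳ x.1 :=
    ((Topology.IsInducing.subtypeVal (t := (U : Set W))).specializes_iff (x := ζ') (y := x)).2 h1
  exact specializes_iff_mem_closure.1 h2

section closedImm

variable {Zs : Scheme.{u}} (ι : Zs ⟶ X) [IsClosedImmersion ι] (f : X ⟶ Y)

theorem le_iff_of_closedImmersion (a b : Zs) : ι a ≤ ι b ↔ a ≤ b := by
  rw [Scheme.le_iff_specializes, Scheme.le_iff_specializes]
  exact ι.isEmbedding.isInducing.specializes_iff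

theorem lt_iff_of_closedImmersion (a b : Zs) : ι a < ι b ↔ a < b := by
  rw [lt_iff_le_not_ge, lt_iff_le_not_ge, le_iff_of_closedImmersion, le_iff_of_closedImmersion]

theorem exists_of_le_closedImmersion (z : Zs) (x : X) (hx : x ≤ ι z) : ∃ d : Zs, ι d = x := by
  have h1 : ι z ⤳ x := (Scheme.le_iff_specializes).1 hx
  have h2 : x ∈ closure (Set.range ι) := by
    have : x ∈ closure ({ι z} : Set X) := specializes_iff_mem_closure.1 h1
    exact closure_mono (by rintro _ rfl; exact ⟨z, rfl⟩) this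
  rw [ι.isClosedEmbedding.isClosed_range.closure_eq] at h2
  exact h2

theorem tr_comp_closedImmersion [LocallyOfFiniteType f] [LocallyOfFiniteType (ι ≫ f)] (z : Zs) :
    FibreDim.tr (ι ≫ f) z = FibreDim.tr f (ι z) := by
  apply le_antisymm
  · obtain ⟨c, hc, hfc, hle⟩ := FibreDim.exists_chain_fibre (ι ≫ f) z
    have hc' : StrictMono (fun i => ι (c i)) := fun i j hij =>
      (lt_iff_of_closedImmersion ι _ _).2 (hc hij)
    have hf' : ∀ i, f ((fun i => ι (c i)) i) = f ((fun i => ι (c i)) 0) := by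
      intro i
      show f (ι (c i)) = f (ι (c 0))
      have h1 := hfc i
      have h2 := hfc 0
      rw [Scheme.Hom.comp_apply] at h1 h2
      rw [h1, h2]
    have h1 := FibreDim.tr_add_le_of_strictMono f (fun i => ι (c i)) hc' hf' (Fin.last _)
    have h2 : FibreDim.tr f (ι (c (Fin.last _))) ≤ FibreDim.tr f (ι z) := by
      apply FibreDim.tr_le_of_le f ((le_iff_of_closedImmersion ι _ _).2 (hle _))
      have h3 := hfc (Fin.last _)
      rw [Scheme.Hom.comp_apply, Scheme.Hom.comp_apply] at h3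
      exact h3
    simp only [Fin.val_last] at h1
    omega
  · obtain ⟨c, hc, hfc, hle⟩ := FibreDim.exists_chain_fibre f (ι z)
    choose d hd using fun i => exists_of_le_closedImmersion ι z (c i) (hle i)
    have hd' : StrictMono d := fun i j hij => by
      rw [← lt_iff_of_closedImmersion ι, hd, hd]; exact hc hij
    have hf' : ∀ i, (ι ≫ f) (d i) = (ι ≫ f) (d 0) := by
      intro i
      rw [Scheme.Hom.comp_apply, Scheme.Hom.comp_apply, hd, hd, hfc, hfc]
    have h1 := FibreDim.tr_add_le_of_strictMono (ι ≫ f) d hd' hf' (Fin.last _)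
    have h2 : FibreDim.tr (ι ≫ f) (d (Fin.last _)) ≤ FibreDim.tr (ι ≫ f) z := by
      apply FibreDim.tr_le_of_le (ι ≫ f)
      · rw [← le_iff_of_closedImmersion ι, hd]; exact hle _
      · rw [Scheme.Hom.comp_apply, Scheme.Hom.comp_apply, hd, hfc]
    simp only [Fin.val_last] at h1
    omega

theorem isLocallyNoetherian_fiber [LocallyOfFiniteType f] (y : Y) :
    IsLocallyNoetherian (f.fiber y) :=
  LocallyOfFiniteType.isLocallyNoetherian (f.fiberToSpecResidueField y)

/-- (b1) -/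
theorem succ_le_fibreDimAt_of_isNowhereDense [LocallyOfFiniteType f]
    [LocallyOfFiniteType (ι ≫ f)] (z : Zs)
    (hnd : IsNowhereDense ((f.fiberι (f (ι z))) ⁻¹' Set.range ι)) (n : ℕ)
    (hn : (n : WithBot ℕ∞) ≤ FlatMor.fibreDimAt (ι ≫ f) z) :
    ((n + 1 : ℕ) : WithBot ℕ∞) ≤ FlatMor.fibreDimAt f (ι z) := by
  obtain ⟨m, hm⟩ := FibreDimFormula.exists_nat_G (ι ≫ f) z
  obtain ⟨b, hb⟩ := FibreDimFormula.exists_nat_G f (ι z)
  rw [FibreDimFormula.fibreDimAt_eq (ι ≫ f) z m hm] at hn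
  rw [FibreDimFormula.fibreDimAt_eq f (ι z) b hb, ← tr_comp_closedImmersion ι f z]
  suffices hmb : m + 1 ≤ b by
    have h1 : n ≤ FibreDim.tr (ι ≫ f) z + m := by exact_mod_cast hn
    have h2 : n + 1 ≤ FibreDim.tr (ι ≫ f) z + b := by omega
    exact_mod_cast h2
  set y := f (ι z) with hy
  -- the chain in the fibre of g
  have hm' : (m : ℕ∞) ≤ Order.coheight (⟨z, rfl⟩ : ↥((ι ≫ f) ⁻¹' {(ι ≫ f) z})) := by
    have : FibreOrder.G (ι ≫ f) z = Order.coheight (⟨z, rfl⟩ : ↥((ι ≫ f) ⁻¹' {(ι ≫ f) z})) := rfl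
    rw [← this, hm]
  obtain ⟨p, hphead, hplen⟩ := Order.exists_series_of_le_coheight _ hm'
  let φ : ↥((ι ≫ f) ⁻¹' {(ι ≫ f) z}) → ↥(f ⁻¹' {y}) := fun a => ⟨ι a.1, by
    have h0 : (ι ≫ f) a.1 = (ι ≫ f) z := a.2
    have h1 : f (ι a.1) = f (ι z) := by
      have e1 : (ι ≫ f) a.1 = f (ι a.1) := Scheme.Hom.comp_apply _ _ _
      have e2 : (ι ≫ f) z = f (ι z) := Scheme.Hom.comp_apply _ _ _
      rw [← e1, ← e2]; exact h0
    exact h1⟩
  have hφ : StrictMono φ := by
    intro a b hab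
    show ι a.1 < ι b.1
    exact (lt_iff_of_closedImmersion ι _ _).2 hab
  let q : LTSeries ↥(f ⁻¹' {y}) := p.map φ hφ
  have hqhead : q.head = ⟨ι z, rfl⟩ := by
    show φ p.head = _
    rw [hphead]
  have hqlen : q.length = m := hplen
  have hnotmax : ¬ IsMax q.last := by
    intro hmax
    haveI := isLocallyNoetherian_fiber f y
    set ζ := (FibreOrder.fiberOrderIso f y).symm q.last with hζ
    have hζmax : IsMax ζ := by
      rw [← OrderIso.isMax_apply (FibreOrder.fiberOrderIso f y)]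
      rw [hζ, OrderIso.apply_symm_apply]
      exact hmax
    obtain ⟨O, hO, hOne, hOsub⟩ := exists_open_subset_closure_of_isMax (f.fiber y) ζ hζmax
    have hcl : IsClosed ((f.fiberι y) ⁻¹' Set.range ι) :=
      ι.isClosedEmbedding.isClosed_range.preimage (f.fiberι y).continuous
    have hζmem : ζ ∈ (f.fiberι y) ⁻¹' Set.range ι := by
      have h1 : ((FibreOrder.fiberOrderIso f y) ζ).1 = f.fiberι y ζ := by
        show (f.fiberHomeo y ζ).1 = _
        rw [Scheme.Hom.fiberHomeo_apply]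
      have h2 : (FibreOrder.fiberOrderIso f y) ζ = q.last := by
        rw [hζ, OrderIso.apply_symm_apply]
      show f.fiberι y ζ ∈ Set.range ι
      rw [← h1, h2]
      exact ⟨p.last.1, rfl⟩
    have hsub : O ⊆ interior (closure ((f.fiberι y) ⁻¹' Set.range ι)) := by
      rw [hcl.closure_eq]
      apply interior_maximal _ hO
      exact hOsub.trans (closure_minimal (by rintro _ rfl; exact hζmem) hcl)
    have hnd' : interior (closure ((f.fiberι y) ⁻¹' Set.range ι)) = ∅ := hnd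
    rw [hnd'] at hsub
    obtain ⟨o, ho⟩ := hOne
    exact hsub ho
  obtain ⟨b', hb'⟩ := not_isMax_iff.1 hnotmax
  let q' : LTSeries ↥(f ⁻¹' {y}) := q.snoc b' hb'
  have h1 : (q'.length : ℕ∞) ≤ Order.coheight q'.head := Order.length_le_coheight_head
  have h2 : q'.head = ⟨ι z, rfl⟩ := by
    show (q.snoc b' hb').head = _
    rw [RelSeries.head_snoc, hqhead]
  have h3 : q'.length = m + 1 := by
    show (q.snoc b' hb').length = _
    rw [RelSeries.snoc_length, hqlen]
  have h4 : Order.coheight (⟨ι z, rfl⟩ : ↥(f ⁻¹' {y})) = b := hb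
  rw [h2, h3, h4] at h1
  exact_mod_cast h1

/-- (b2) -/
theorem exists_fibreDimAt_le_of_not_isNowhereDense [LocallyOfFiniteType f]
    [LocallyOfFiniteType (ι ≫ f)] (y : Y)
    (hnd : ¬ IsNowhereDense ((f.fiberι y) ⁻¹' Set.range ι)) :
    ∃ z : Zs, (ι ≫ f) z = y ∧ FlatMor.fibreDimAt f (ι z) ≤ FlatMor.fibreDimAt (ι ≫ f) z := by
  have hcl : IsClosed ((f.fiberι y) ⁻¹' Set.range ι) :=
    ι.isClosedEmbedding.isClosed_range.preimage (f.fiberι y).continuous
  have hne : (interior ((f.fiberι y) ⁻¹' Set.range ι)).Nonempty := by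
    rw [Set.nonempty_iff_ne_empty]
    intro h
    apply hnd
    show interior (closure _) = ∅
    rw [hcl.closure_eq, h]
  obtain ⟨w₀, hw₀⟩ := hne
  obtain ⟨ζ, hle, hmax⟩ := FibreOrder.exists_isMax_ge w₀
  have hsp : ζ ⤳ w₀ := (Scheme.le_iff_specializes).1 hle
  have hζ : ζ ∈ interior ((f.fiberι y) ⁻¹' Set.range ι) := hsp.mem_open isOpen_interior hw₀
  obtain ⟨z, hz⟩ : f.fiberι y ζ ∈ Set.range ι :=
    (interior_subset hζ : ζ ∈ (f.fiberι y) ⁻¹' Set.range ι)
  have hfy : f (ι z) = y := by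
    rw [hz]
    have : f.fiberι y ζ ∈ Set.range (f.fiberι y) := ⟨ζ, rfl⟩
    rw [f.range_fiberι] at this
    exact this
  refine ⟨z, by rw [Scheme.Hom.comp_apply]; exact hfy, ?_⟩
  have hG : FibreOrder.G f (ι z) = ((0 : ℕ) : ℕ∞) := by
    rw [hz, ← FibreOrder.coheight_fiber f y ζ]
    exact_mod_cast Order.coheight_eq_zero.2 hmax
  obtain ⟨m, hm⟩ := FibreDimFormula.exists_nat_G (ι ≫ f) z
  rw [FibreDimFormula.fibreDimAt_eq (ι ≫ f) z m hm, FibreDimFormula.fibreDimAt_eq f (ι z) 0 hG,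
    ← tr_comp_closedImmersion ι f z]
  have : FibreDim.tr (ι ≫ f) z + 0 ≤ FibreDim.tr (ι ≫ f) z + m := by omega
  exact_mod_cast this

end closedImm

/-- (H) -/
theorem exists_open_inter_subset (f : X ⟶ Y) [IrreducibleSpace Y] [LocallyOfFiniteType f]
    [QuasiCompact f] (C D : Set X) (hC : IsClosed C) (hD : IsClosed D)
    (h : C ∩ f ⁻¹' {genericPoint Y} ⊆ D) :
    ∃ V : Y.Opens, genericPoint Y ∈ V ∧ C ∩ f ⁻¹' (V : Set Y) ⊆ D := by
  let J := Scheme.IdealSheafData.vanishingIdeal (X := X) ⟨C, hC⟩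
  have hrange : Set.range J.subschemeι = C := by
    rw [J.range_subschemeι]
    exact Scheme.IdealSheafData.coe_support_vanishingIdeal _
  set k := J.subschemeι ≫ f with hk
  have hT : IsClosed (J.subschemeι ⁻¹' D) := hD.preimage J.subschemeι.continuous
  have hfib : k.base ⁻¹' {genericPoint Y} ⊆ J.subschemeι ⁻¹' D := by
    intro c hc
    have hc' : k c = genericPoint Y := hc
    rw [hk, Scheme.Hom.comp_apply] at hc'
    apply h
    exact ⟨by rw [← hrange]; exact ⟨c, rfl⟩, hc'⟩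
  obtain ⟨V, hV, hsub⟩ :=
    Groth.Agent.Lib.helper11.GenFibreCoverScheme.exists_open_preimage_subset k _ hT hfib
  refine ⟨V, ?_, ?_⟩
  · have := ((genericPoint_spec Y).mem_open_set_iff V.isOpen).2 (by simpa using hV)
    exact this
  · rintro x ⟨hxC, hxV⟩
    rw [← hrange] at hxC
    obtain ⟨c, rfl⟩ := hxC
    have : c ∈ k.base ⁻¹' (V : Set Y) := by
      show k c ∈ V
      rw [hk, Scheme.Hom.comp_apply]
      exact hxV
    exact hsub this

theorem S1298 (f : X ⟶ Y) [IrreducibleSpace ↑Y] [LocallyOfFiniteType f] [QuasiCompact f]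
    (Z : Set ↑X) (hZ : IsClosed Z) (h : IsNowhereDense ((f.fiberι (genericPoint ↑Y)) ⁻¹' Z)) :
    ∃ V : Y.Opens, (V : Set ↑Y).Nonempty ∧ ∀ y ∈ V, IsNowhereDense ((f.fiberι y) ⁻¹' Z) := by
  classical
  let I := Scheme.IdealSheafData.vanishingIdeal (X := X) ⟨Z, hZ⟩
  have hrange : Set.range I.subschemeι = Z := by
    rw [I.range_subschemeι]
    exact Scheme.IdealSheafData.coe_support_vanishingIdeal _
  set ι := I.subschemeι with hι
  set g := ι ≫ f with hg
  set η := genericPoint Y with hη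
  -- affine neighbourhood and bound
  obtain ⟨W, hW, hηW, -⟩ := exists_isAffineOpen_mem_and_subset (X := Y) (x := η) (U := ⊤) (by simp)
  have hcomp : IsCompact (g.base ⁻¹' (W : Set Y)) :=
    QuasiCompact.isCompact_preimage (f := g) _ W.isOpen hW.isCompact
  let Cn : ℕ → Set I.subscheme := fun n => {z | (n : WithBot ℕ∞) ≤ FlatMor.fibreDimAt g z}
  have hCn : ∀ n, IsClosed (Cn n) := fun n => FibreDimTarget.isClosed_setOf_le_fibreDimAt g n
  have hempty : g.base ⁻¹' (W : Set Y) ∩ ⋂ n, Cn n = ∅ := by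
    rw [Set.eq_empty_iff_forall_notMem]
    rintro z ⟨-, hz⟩
    obtain ⟨d, hd⟩ := Chev.exists_nat_fibreDimAt g z
    have := Set.mem_iInter.1 hz (d + 1)
    have h1 : ((d + 1 : ℕ) : WithBot ℕ∞) ≤ (d : WithBot ℕ∞) := by
      rw [← hd]; exact this
    have h2 : d + 1 ≤ d := by exact_mod_cast h1
    omega
  obtain ⟨u, hu⟩ := hcomp.elim_finite_subfamily_closed Cn hCn hempty
  set N := u.sup id with hN
  have hbound : ∀ z : I.subscheme, g z ∈ W → ¬ ((N : ℕ) : WithBot ℕ∞) ≤ FlatMor.fibreDimAt g z := by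
    intro z hzW hz
    have : z ∈ g.base ⁻¹' (W : Set Y) ∩ ⋂ i ∈ u, Cn i := by
      refine ⟨hzW, Set.mem_iInter₂.2 fun i hi => ?_⟩
      have hiN : i ≤ N := Finset.le_sup (f := id) hi
      show (i : WithBot ℕ∞) ≤ _
      refine le_trans ?_ hz
      exact_mod_cast hiN
    rw [hu] at this
    exact this
  -- the opens V_n
  let Dn : ℕ → Set X := fun n => {x | ((n + 1 : ℕ) : WithBot ℕ∞) ≤ FlatMor.fibreDimAt f x}
  have hDn : ∀ n, IsClosed (Dn n) := fun n => FibreDimTarget.isClosed_setOf_le_fibreDimAt f (n + 1)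
  have hVn : ∀ n : ℕ, ∃ V : Y.Opens, η ∈ V ∧ (ι '' Cn n) ∩ f ⁻¹' (V : Set Y) ⊆ Dn n := by
    intro n
    apply exists_open_inter_subset f _ _ (ι.isClosedEmbedding.isClosedMap _ (hCn n)) (hDn n)
    rintro _ ⟨⟨z, hz, rfl⟩, hfz⟩
    have hfz' : f (ι z) = η := hfz
    apply succ_le_fibreDimAt_of_isNowhereDense ι f z _ n hz
    rw [hfz', hrange]
    exact h
  have hVall : ∀ M : ℕ, ∃ V : Y.Opens, η ∈ V ∧
      ∀ n < M, (ι '' Cn n) ∩ f ⁻¹' (V : Set Y) ⊆ Dn n := by
    intro M
    induction M with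
    | zero => exact ⟨⊤, trivial, fun n hn => absurd hn (Nat.not_lt_zero n)⟩
    | succ M ih =>
      obtain ⟨V1, hV1, H1⟩ := ih
      obtain ⟨V2, hV2, H2⟩ := hVn M
      refine ⟨V1 ⊓ V2, ⟨hV1, hV2⟩, fun n hn => ?_⟩
      rcases Nat.lt_succ_iff_lt_or_eq.1 hn with hlt | rfl
      · rintro x ⟨hx1, hx2⟩
        exact H1 n hlt ⟨hx1, hx2.1⟩
      · rintro x ⟨hx1, hx2⟩
        exact H2 ⟨hx1, hx2.2⟩
  obtain ⟨V0, hV0, H0⟩ := hVall N
  refine ⟨W ⊓ V0, ⟨η, hηW, hV0⟩, ?_⟩
  rintro y ⟨hyW, hyV⟩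
  by_contra hnd
  rw [← hrange] at hnd
  obtain ⟨z, hz, hle⟩ := exists_fibreDimAt_le_of_not_isNowhereDense ι f y hnd
  obtain ⟨d, hd⟩ := Chev.exists_nat_fibreDimAt g z
  have hdN : d < N := by
    by_contra hcon
    rw [not_lt] at hcon
    apply hbound z (by rw [hz]; exact hyW)
    rw [hd]
    exact_mod_cast hcon
  have hfy : f (ι z) = y := by
    rw [← hz]; exact (Scheme.Hom.comp_apply _ _ _).symm
  have hmem : ι z ∈ Dn d := by
    apply H0 d hdN
    refine ⟨⟨z, ?_, rfl⟩, ?_⟩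
    · show (d : WithBot ℕ∞) ≤ FlatMor.fibreDimAt g z
      rw [hd]
    · show f (ι z) ∈ V0
      rw [hfy]; exact hyV
  have h1 : ((d + 1 : ℕ) : WithBot ℕ∞) ≤ (d : WithBot ℕ∞) := by
    calc ((d + 1 : ℕ) : WithBot ℕ∞) ≤ FlatMor.fibreDimAt f (ι z) := hmem
      _ ≤ FlatMor.fibreDimAt g z := hle
      _ = d := hd
  have h2 : d + 1 ≤ d := by exact_mod_cast h1
  omega

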