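import Mathlib
import Groth.Agent.Lib.Helper7.NoetherNormInt
import Groth.Agent.Lib.Helper3.AlgSpLocalDim
import Groth.Agent.Lib.Helper3.IntegralDim

set_option autoImplicit false
set_option linter.style.haveILetI false
universe u
open CategoryTheory CategoryTheory.Limits AlgebraicGeometry Topology TopologicalSpace TensorProduct

namespace Groth.Agent.Lib.lead.FibreDimBC

open Groth.Agent.Lib.Helper7 Groth.Agent.Lib.Helper3

/-- Krull dimension of a finite type algebra over a field is invariant under extension of the base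
field. -/
theorem ringKrullDim_tensor_field (K A L : Type u) [Field K] [CommRing A] [Algebra K A]
    [Algebra.FiniteType K A] [Field L] [Algebra K L] :
    ringKrullDim (L ⊗[K] A) = ringKrullDim A := by
  by_cases hA : Subsingleton A
  · haveI := hA
    haveI : Subsingleton (L ⊗[K] A) := by
      refine ⟨fun x y => ?_⟩
      have h0 : ∀ z : L ⊗[K] A, z = 0 := by
        intro z
        induction z using TensorProduct.induction_on with
        | zero => rfl
        | tmul l a => rw [Subsingleton.elim a 0, TensorProduct.tmul_zero]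
        | add x y hx hy => rw [hx, hy, add_zero]
      rw [h0 x, h0 y]
    rw [ringKrullDim_eq_bot_of_subsingleton, ringKrullDim_eq_bot_of_subsingleton]
  · rw [not_subsingleton_iff_nontrivial] at hA
    haveI := hA
    obtain ⟨s, g, hinj, hfin⟩ := exists_finite_inj_algHom_of_fg K A
    have hint : g.toRingHom.IsIntegral := hfin.to_isIntegral
    let ψ : L ⊗[K] MvPolynomial (Fin s) K →ₐ[L] L ⊗[K] A :=
      Algebra.TensorProduct.map (AlgHom.id L L) g
    have hψinj : Function.Injective ψ := by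
      have h1 : Function.Injective (g.toLinearMap.lTensor L) :=
        Module.Flat.lTensor_preserves_injective_linearMap g.toLinearMap hinj
      have h2 : ∀ z, ψ z = g.toLinearMap.lTensor L z := by
        intro z
        induction z using TensorProduct.induction_on with
        | zero => simp
        | tmul l a => simp [ψ]
        | add x y hx hy => rw [map_add, map_add, hx, hy]
      intro x y hxy
      apply h1
      rw [← h2, ← h2, hxy]
    have hψint : ψ.toRingHom.IsIntegral := by
      intro z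
      induction z using TensorProduct.induction_on with
      | zero => exact ψ.toRingHom.isIntegralElem_zero
      | tmul l a =>
        have h1 : l ⊗ₜ[K] a = ψ (l ⊗ₜ[K] (1 : MvPolynomial (Fin s) K)) * ((1 : L) ⊗ₜ[K] a) := by
          simp [ψ]
        rw [h1]
        apply RingHom.IsIntegralElem.mul
        · exact ψ.toRingHom.isIntegralElem_map
        · obtain ⟨p, hp, hpe⟩ := hint a
          refine ⟨p.map (Algebra.TensorProduct.includeRight :
            MvPolynomial (Fin s) K →ₐ[K] L ⊗[K] MvPolynomial (Fin s) K).toRingHom, hp.map _, ?_⟩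
          rw [Polynomial.eval₂_map]
          have hcomp : ψ.toRingHom.comp (Algebra.TensorProduct.includeRight :
              MvPolynomial (Fin s) K →ₐ[K] L ⊗[K] MvPolynomial (Fin s) K).toRingHom =
              (Algebra.TensorProduct.includeRight : A →ₐ[K] L ⊗[K] A).toRingHom.comp g.toRingHom := by
            refine RingHom.ext fun x => ?_
            simp [ψ]
          rw [hcomp]
          have : ((1 : L) ⊗ₜ[K] a) = (Algebra.TensorProduct.includeRight : A →ₐ[K] L ⊗[K] A).toRingHom a := by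
            simp
          rw [this, ← Polynomial.hom_eval₂, hpe, map_zero]
      | add x y hx hy => exact RingHom.IsIntegralElem.add _ hx hy
    rw [NNInt.ringKrullDim_eq_of_injective_isIntegral ψ.toRingHom hψinj hψint,
      NNInt.ringKrullDim_eq_of_injective_isIntegral g.toRingHom hinj hint,
      ringKrullDim_eq_of_ringEquiv (MvPolynomial.algebraTensorAlgEquiv K L).toRingEquiv,
      MvPolynomial.ringKrullDim_of_isNoetherianRing, MvPolynomial.ringKrullDim_of_isNoetherianRing,
      ringKrullDim_eq_zero_of_field, ringKrullDim_eq_zero_of_field]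

theorem ringKrullDim_tensor_of_isField (R A B : Type u) [CommRing R] [CommRing A] [CommRing B]
    [Algebra R A] [Algebra R B] (hR : IsField R) (hB : IsField B) [Algebra.FiniteType R A] :
    ringKrullDim (A ⊗[R] B) = ringKrullDim A := by
  letI := hR.toField
  letI := hB.toField
  rw [ringKrullDim_eq_of_ringEquiv (Algebra.TensorProduct.comm R A B).toRingEquiv]
  exact ringKrullDim_tensor_field R A B

theorem dim_affineOpen {X : Scheme.{u}} (U : X.Opens) (hU : IsAffineOpen U) :
    topologicalKrullDim (U : Set X) = ringKrullDim Γ(X, U) := by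
  haveI : IsAffine U.toScheme := hU
  have h' : topologicalKrullDim (U : Set X) = topologicalKrullDim U.toScheme := rfl
  rw [h', topologicalKrullDim_eq_ringKrullDim_of_isAffine]
  exact ringKrullDim_eq_of_ringEquiv (U.topIso).commRingCatIsoToRingEquiv

set_option backward.isDefEq.respectTransparency.types false in
theorem dim_preimage_affineOpen {W W' : Scheme.{u}} {K L : CommRingCat.{u}} (hK : IsField K)
    (hL : IsField L) (p : W ⟶ Spec K) [LocallyOfFiniteType p] (φ : K ⟶ L) (π : W' ⟶ W)
    (p' : W' ⟶ Spec L) (hc : IsPullback π p' p (Spec.map φ)) (U : W.Opens) (hU : IsAffineOpen U) :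
    IsAffineOpen (π ⁻¹ᵁ U) ∧
      topologicalKrullDim ((π ⁻¹ᵁ U : W'.Opens) : Set W') = topologicalKrullDim (U : Set W) := by
  have hUSX : U ≤ p ⁻¹ᵁ ⊤ := fun _ _ => trivial
  have hUST : (⊤ : (Spec L).Opens) ≤ (Spec.map φ) ⁻¹ᵁ ⊤ := fun _ _ => trivial
  have hUS : IsAffineOpen (⊤ : (Spec K).Opens) := isAffineOpen_top _
  have hUT : IsAffineOpen (⊤ : (Spec L).Opens) := isAffineOpen_top _
  have hUYeq : π ⁻¹ᵁ U ⊓ p' ⁻¹ᵁ ⊤ = π ⁻¹ᵁ U := by
    ext x; simp
  have hUY : IsAffineOpen (π ⁻¹ᵁ U ⊓ p' ⁻¹ᵁ ⊤) := by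
    have : IsAffine ((⊤ : (Spec K).Opens) : Scheme) := hUS
    have : IsAffine (U : Scheme) := hU
    have : IsAffine ((⊤ : (Spec L).Opens) : Scheme) := hUT
    exact .of_isIso (Scheme.Hom.isPullback_resLE hc hUST hUSX rfl).isoPullback.hom
  have hpo : IsPushout (p.appLE ⊤ U hUSX) ((Spec.map φ).appLE ⊤ ⊤ hUST)
      (π.appLE U (π ⁻¹ᵁ U ⊓ p' ⁻¹ᵁ ⊤) inf_le_left) (p'.appLE ⊤ (π ⁻¹ᵁ U ⊓ p' ⁻¹ᵁ ⊤) inf_le_right) := by
    have := isIso_pushoutSection_of_isAffineOpen hc hUST hUSX rfl hUS hUT hU
    exact (isIso_pushoutSection_iff hc hUST hUSX rfl).mp this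
  letI algA : Algebra Γ(Spec K, ⊤) Γ(W, U) := (p.appLE ⊤ U hUSX).hom.toAlgebra
  letI algB : Algebra Γ(Spec K, ⊤) Γ(Spec L, ⊤) := ((Spec.map φ).appLE ⊤ ⊤ hUST).hom.toAlgebra
  haveI : Algebra.FiniteType Γ(Spec K, ⊤) Γ(W, U) :=
    LocallyOfFiniteType.finiteType_appLE p hUS hU hUSX
  have hR : IsField Γ(Spec K, ⊤) :=
    MulEquiv.isField hK (Scheme.ΓSpecIso K).commRingCatIsoToRingEquiv.toMulEquiv
  have hB : IsField Γ(Spec L, ⊤) :=
    MulEquiv.isField hL (Scheme.ΓSpecIso L).commRingCatIsoToRingEquiv.toMulEquiv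
  have e := hpo.isoIsPushout _ _
    (CommRingCat.isPushout_tensorProduct Γ(Spec K, ⊤) Γ(W, U) Γ(Spec L, ⊤))
  have hdim : ringKrullDim Γ(W', π ⁻¹ᵁ U ⊓ p' ⁻¹ᵁ ⊤) = ringKrullDim Γ(W, U) := by
    rw [ringKrullDim_eq_of_ringEquiv e.commRingCatIsoToRingEquiv]
    exact ringKrullDim_tensor_of_isField _ _ _ hR hB
  rw [hUYeq] at hUY hdim
  exact ⟨hUY, by rw [dim_affineOpen _ hUY, dim_affineOpen _ hU, hdim]⟩

theorem dim_pullback_field {W W' : Scheme.{u}} {K L : CommRingCat.{u}} (hK : IsField K)
    (hL : IsField L) (p : W ⟶ Spec K) [LocallyOfFiniteType p] (φ : K ⟶ L) (π : W' ⟶ W)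
    (p' : W' ⟶ Spec L) (hc : IsPullback π p' p (Spec.map φ)) :
    topologicalKrullDim W' = topologicalKrullDim W := by
  apply le_antisymm
  · rw [topologicalKrullDim_eq_iSup_stalk W']
    refine iSup_le fun x' => ?_
    obtain ⟨U, hU, hxU⟩ : ∃ U : W.Opens, IsAffineOpen U ∧ π x' ∈ U := by
      obtain ⟨U, hU, hxU, -⟩ := (Opens.isBasis_iff_nbhd.mp W.isBasis_affineOpens)
        (show π x' ∈ (⊤ : W.Opens) from trivial)
      exact ⟨U, hU, hxU⟩
    obtain ⟨-, hd⟩ := dim_preimage_affineOpen hK hL p φ π p' hc U hU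
    have hx' : x' ∈ π ⁻¹ᵁ U := hxU
    calc ringKrullDim (W'.presheaf.stalk x')
        ≤ ⨆ z : (π ⁻¹ᵁ U : W'.Opens), ringKrullDim (W'.presheaf.stalk z.1) :=
          le_iSup (fun z : (π ⁻¹ᵁ U : W'.Opens) => ringKrullDim (W'.presheaf.stalk z.1)) ⟨x', hx'⟩
      _ = topologicalKrullDim ((π ⁻¹ᵁ U : W'.Opens) : Set W') :=
          (topologicalKrullDim_opens_eq_iSup_stalk W' _).symm
      _ = topologicalKrullDim (U : Set W) := hd
      _ ≤ topologicalKrullDim W := topologicalKrullDim_subspace_le _ _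
  · rw [topologicalKrullDim_eq_iSup_stalk W]
    refine iSup_le fun x => ?_
    obtain ⟨U, hU, hxU⟩ : ∃ U : W.Opens, IsAffineOpen U ∧ x ∈ U := by
      obtain ⟨U, hU, hxU, -⟩ := (Opens.isBasis_iff_nbhd.mp W.isBasis_affineOpens)
        (show x ∈ (⊤ : W.Opens) from trivial)
      exact ⟨U, hU, hxU⟩
    obtain ⟨-, hd⟩ := dim_preimage_affineOpen hK hL p φ π p' hc U hU
    calc ringKrullDim (W.presheaf.stalk x)
        ≤ ⨆ z : U, ringKrullDim (W.presheaf.stalk z.1) :=
          le_iSup (fun z : U => ringKrullDim (W.presheaf.stalk z.1)) ⟨x, hxU⟩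
      _ = topologicalKrullDim (U : Set W) := (topologicalKrullDim_opens_eq_iSup_stalk W _).symm
      _ = topologicalKrullDim ((π ⁻¹ᵁ U : W'.Opens) : Set W') := hd.symm
      _ ≤ topologicalKrullDim W' := topologicalKrullDim_subspace_le _ _

set_option backward.isDefEq.respectTransparency.types false in
theorem S9777 {X Y X' Y' : Scheme.{u}} (f : X ⟶ Y) [LocallyOfFiniteType f]
    (g : Y' ⟶ Y) (f' : X' ⟶ Y') (g' : X' ⟶ X) (hc : IsPullback g' f' f g) (y' : Y') :
    topologicalKrullDim ↑(f'.fiber y') = topologicalKrullDim ↑(f.fiber (g y')) := by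
  have h := isPullback_fiberToSpecResidueField_of_isPullback hc y'
  haveI : LocallyOfFiniteType (f.fiberToSpecResidueField (g y')) :=
    MorphismProperty.pullback_snd _ _ inferInstance
  exact dim_pullback_field (Field.toIsField _) (Field.toIsField _)
    (f.fiberToSpecResidueField (g y')) (g.residueFieldMap y') _ _ h

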