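import Mathlib
import Groth.Agent.Lib.lead.VarFibreDimSum
import Groth.Agent.Lib.lead.FibreDimFormula
import Groth.Agent.Lib.lead.FibreCompDimOne
import Groth.Agent.Lib.lead.GenFiniteGen
import Groth.Agent.Lib.Helper24.FibreDim.FibreChain

set_option autoImplicit false
set_option linter.style.haveILetI false
universe u
open CategoryTheory CategoryTheory.Limits AlgebraicGeometry Topology TopologicalSpace

namespace Groth.Agent.Lib.lead.FlatEquidim

open Groth.Agent.Lib.lead Groth.Agent.Lib.Helper7 Groth.Agent.Lib.Helper24 Groth.Agent.Lib.Helper18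

section Order

variable {P Q : Type*} [Preorder P] [Preorder Q]

/-- coheight does not drop along a monotone map lifting generizations -/
theorem coheight_le_of_generalizing (φ : P → Q) (hmono : Monotone φ)
    (hgen : ∀ p : P, ∀ q : Q, φ p ≤ q → ∃ p' : P, p ≤ p' ∧ φ p' = q) (p : P) :
    Order.coheight (φ p) ≤ Order.coheight p := by
  have key : ∀ n : ℕ, ∀ p : P, (n : ℕ∞) ≤ Order.coheight (φ p) → (n : ℕ∞) ≤ Order.coheight p := by
    intro n
    induction n with
    | zero => intro p _; simp
    | succ n ih =>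
      intro p hp
      have hnot : ¬ Order.coheight (φ p) ≤ (n : ℕ∞) := by
        intro hle
        have : ((n + 1 : ℕ) : ℕ∞) ≤ n := hp.trans hle
        have : n + 1 ≤ n := by exact_mod_cast this
        omega
      rw [Order.coheight_le_coe_iff] at hnot
      push Not at hnot
      obtain ⟨q, hq, hqn⟩ := hnot
      obtain ⟨p', hpp', hp'q⟩ := hgen p q hq.le
      have hlt : p < p' := by
        refine lt_of_le_not_ge hpp' (fun h => ?_)
        have := hmono h
        rw [hp'q] at this
        exact hq.not_ge this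
      have h1 := ih p' (by rw [hp'q]; exact hqn)
      have h2 := Order.coheight_add_one_le hlt
      calc ((n + 1 : ℕ) : ℕ∞) = (n : ℕ∞) + 1 := by push_cast; rfl
        _ ≤ Order.coheight p' + 1 := by gcongr
        _ ≤ Order.coheight p := h2
  induction hc : Order.coheight (φ p) with
  | top =>
    rw [ENat.eq_top_iff_forall_ge] at hc
    rw [top_le_iff, ENat.eq_top_iff_forall_ge]
    intro n
    exact key n p (hc n)
  | coe m => exact key m p hc.ge

end Order

variable {X Y : Scheme.{u}}

theorem coheight_le_of_flat (f : X ⟶ Y) [Flat f] (x : X) :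
    Order.coheight (f x) ≤ Order.coheight x := by
  apply coheight_le_of_generalizing (fun x : X => f x)
  · intro a b hab
    rw [Scheme.le_iff_specializes] at hab ⊢
    exact hab.map f.continuous
  · intro p q hq
    rw [Scheme.le_iff_specializes] at hq
    obtain ⟨p', hp', hfp'⟩ := Flat.generalizingMap f hq
    exact ⟨p', (Scheme.le_iff_specializes).2 hp', hfp'⟩

section overField

variable (k : Type u) [Field k] (X) [X.Over (Spec (CommRingCat.of k))]
  [LocallyOfFiniteType (X ↘ Spec (CommRingCat.of k))]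

/-- (F') -/
theorem dim_eq_td_add_coheight [IrreducibleSpace X] (x : X) (nx : ℕ)
    (hx : @Algebra.trdeg k (X.residueField x) _ _ (Curv2.resAlgebra k X x) = nx) :
    topologicalKrullDim X = (((nx : ℕ∞) + Order.coheight x : ℕ∞) : WithBot ℕ∞) := by
  set ξ := genericPoint X with hξ
  obtain ⟨nξ, hnξ1, hnξ2⟩ := VarDim.exists_nat_dim_closure_eq k X ξ
  have hcl : closure ({ξ} : Set X) = Set.univ := (genericPoint_spec X).def
  have hdimX : topologicalKrullDim X = nξ := by
    rw [← hnξ2, hcl]
    exact ((Homeomorph.Set.univ X).isHomeomorph.topologicalKrullDim_eq).symm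
  apply le_antisymm
  · obtain ⟨c, hchead, -, hclen⟩ := FibreDim.exists_series_between k X ξ x
      ((genericPoint_spec X).specializes trivial) nξ nx hnξ1 hx
    have h1 : (c.length : ℕ∞) ≤ Order.coheight x :=
      Order.length_le_coheight (by rw [hchead])
    rw [hdimX]
    have h2 : (nξ : ℕ∞) ≤ (nx : ℕ∞) + Order.coheight x := by
      calc (nξ : ℕ∞) = ((c.length + nx : ℕ) : ℕ∞) := by rw [hclen]
        _ = (nx : ℕ∞) + (c.length : ℕ∞) := by push_cast; ring
        _ ≤ _ := by gcongr
    exact_mod_cast h2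
  · rw [← FibreDim.localDim_eq_td_add_coheight k X x nx hx]
    unfold FlatMor.localDim
    refine le_trans (iInf_le _ ⟨⊤, trivial⟩) ?_
    exact topologicalKrullDim_subspace_le _ _

end overField

section flat

variable (k : Type u) [Field k] {X Y : Scheme.{u}} [X.Over (Spec (CommRingCat.of k))]
  [Y.Over (Spec (CommRingCat.of k))]
  [LocallyOfFiniteType (X ↘ Spec (CommRingCat.of k))]
  [LocallyOfFiniteType (Y ↘ Spec (CommRingCat.of k))]
  (f : X ⟶ Y) (hf : f ≫ (Y ↘ Spec (CommRingCat.of k)) = X ↘ Spec (CommRingCat.of k))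

include hf in
theorem coheight_eq_of_flat_of_G_eq_zero [Flat f] [LocallyOfFiniteType f] (w : X)
    (hG : FibreOrder.G f w = 0) : Order.coheight w = Order.coheight (f w) := by
  haveI : IsLocallyNoetherian Y :=
    LocallyOfFiniteType.isLocallyNoetherian (Y ↘ Spec (CommRingCat.of k))
  apply le_antisymm _ (coheight_le_of_flat f w)
  have h2 := StalkDimIneq.main f w
  rw [ringKrullDim_stalk_eq_coheight, ringKrullDim_stalk_eq_coheight,
    FibreOrder.ringKrullDim_fiber_stalk f w, hG] at h2
  have h3 : ((Order.coheight w : ℕ∞) : WithBot ℕ∞) ≤ ((Order.coheight (f w) : ℕ∞) : WithBot ℕ∞) := by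
    simpa using h2
  exact_mod_cast h3

include hf in
theorem dim_eq_add_tr [IrreducibleSpace X] [IrreducibleSpace Y] [Flat f] [LocallyOfFiniteType f]
    (w : X) (hG : FibreOrder.G f w = 0) :
    topologicalKrullDim X = topologicalKrullDim Y + ((FibreDim.tr f w : ℕ) : WithBot ℕ∞) := by
  obtain ⟨nw, hnw, -⟩ := VarDim.exists_nat_dim_closure_eq k X w
  obtain ⟨ny, hny, -⟩ := VarDim.exists_nat_dim_closure_eq k Y (f w)
  have hadd := VarTdAdd.td_add k f hf w
  unfold GenFinite.td at hadd
  rw [hnw, hny] at hadd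
  have hsum : ny + FibreDim.tr f w = nw := by exact_mod_cast hadd
  rw [dim_eq_td_add_coheight (k := k) (X := X) w nw hnw,
    dim_eq_td_add_coheight (k := k) (X := Y) (f w) ny hny,
    coheight_eq_of_flat_of_G_eq_zero k f hf w hG, ← hsum]
  have : (((ny + FibreDim.tr f w : ℕ) : ℕ∞) + Order.coheight (f w) : ℕ∞) =
      ((ny : ℕ∞) + Order.coheight (f w)) + ((FibreDim.tr f w : ℕ) : ℕ∞) := by
    push_cast; ring
  rw [this]
  push_cast
  rfl

end flat

/-- for a flat morphism of irreducible `k`-schemes of finite type, any component of any fibre has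
dimension `dim X - dim Y` -/
theorem dim_component_add (k : Type u) [Field k]
    {X Y : Scheme.{u}} (qX : X ⟶ Spec (CommRingCat.of k)) (qY : Y ⟶ Spec (CommRingCat.of k))
    [LocallyOfFiniteType qX] [LocallyOfFiniteType qY]
    [IrreducibleSpace X] [IrreducibleSpace Y] (f : X ⟶ Y) (hf : f ≫ qY = qX) [Flat f]
    (y : Y) (Z : Set (f.fiber y)) (hZ : Z ∈ irreducibleComponents (f.fiber y)) :
    topologicalKrullDim Z + topologicalKrullDim Y = topologicalKrullDim X := by
  subst hf
  haveI : LocallyOfFiniteType f := locallyOfFiniteType_of_comp f qY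
  letI : Y.Over (Spec (CommRingCat.of k)) := ⟨qY⟩
  letI : X.Over (Spec (CommRingCat.of k)) := ⟨f ≫ qY⟩
  haveI : LocallyOfFiniteType (Y ↘ Spec (CommRingCat.of k)) := ‹LocallyOfFiniteType qY›
  haveI : LocallyOfFiniteType (X ↘ Spec (CommRingCat.of k)) :=
    inferInstanceAs (LocallyOfFiniteType (f ≫ qY))
  have hf' : f ≫ (Y ↘ Spec (CommRingCat.of k)) = X ↘ Spec (CommRingCat.of k) := rfl
  obtain ⟨ζ, hζ⟩ := QuasiSober.sober hZ.1 (isClosed_of_mem_irreducibleComponents Z hZ)
  set w := f.fiberι y ζ with hw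
  have hy : f w = y := by
    have : w ∈ Set.range (f.fiberι y) := ⟨ζ, rfl⟩
    rw [f.range_fiberι] at this
    exact this
  have hdimZ := FibreCompDimOne.dim_component_aux f w y hy Z hZ ζ hζ rfl
  have hζmax : ∀ z : f.fiber y, z ⤳ ζ → z = ζ :=
    GenFiniteGen.maximal_of_mem_irreducibleComponents (by rw [hζ.def]; exact hZ)
  have hmax : IsMax ζ := by
    intro b hb
    have hb' : b ⤳ ζ := (Scheme.le_iff_specializes).1 hb
    rw [hζmax b hb']
  have hG : FibreOrder.G f w = 0 := by
    rw [hw, ← FibreOrder.coheight_fiber f y ζ]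
    exact Order.coheight_eq_zero.2 hmax
  have hG' : FibreOrder.G f w = ((0 : ℕ) : ℕ∞) := by rw [hG]; rfl
  rw [hdimZ, FibreDimFormula.fibreDimAt_eq f w 0 hG', dim_eq_add_tr k f hf' w hG, add_zero, add_comm]

theorem S14404 (k : Type u) [Field k]
    {X Y : Scheme.{u}} (qX : X ⟶ Spec (CommRingCat.of k)) (qY : Y ⟶ Spec (CommRingCat.of k))
    [LocallyOfFiniteType qX] [QuasiCompact qX] [LocallyOfFiniteType qY] [QuasiCompact qY]
    [IrreducibleSpace X] [IrreducibleSpace Y] (f : X ⟶ Y) (hf : f ≫ qY = qX) [Flat f] :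
    topologicalKrullDim Y ≤ topologicalKrullDim X ∧
      ∀ (y : Y), ∀ Z ∈ irreducibleComponents (f.fiber y : Type u),
        topologicalKrullDim Z + topologicalKrullDim Y = topologicalKrullDim X := by
  refine ⟨?_, fun y Z hZ => dim_component_add k qX qY f hf y Z hZ⟩
  set ξ := genericPoint X
  let Z := irreducibleComponent (f.asFiber ξ)
  have hZ : Z ∈ irreducibleComponents (f.fiber (f ξ)) := irreducibleComponent_mem_irreducibleComponents _
  have h := dim_component_add k qX qY f hf (f ξ) Z hZ
  rw [← h]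
  haveI : Nonempty Z := ⟨⟨f.asFiber ξ, mem_irreducibleComponent⟩⟩
  have h0 : (0 : WithBot ℕ∞) ≤ topologicalKrullDim Z := by
    obtain ⟨t⟩ := ‹Nonempty Z›
    haveI : Nonempty (TopologicalSpace.IrreducibleCloseds Z) :=
      ⟨⟨closure {t}, isIrreducible_singleton.closure, isClosed_closure⟩⟩
    exact Order.krullDim_nonneg
  exact le_add_of_nonneg_left h0

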