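import Mathlib
import Groth.Agent.Lib.lead.FlatEquidim
import Groth.Agent.Lib.Helper7.TopDimComponents
import Groth.Agent.Lib.Helper24.FibreDim.Main3448

set_option autoImplicit false
set_option linter.style.haveILetI false
universe u
open CategoryTheory CategoryTheory.Limits AlgebraicGeometry Topology TopologicalSpace

namespace Groth.Agent.Lib.lead.FlatEquidimGen

open Groth.Agent.Lib.lead Groth.Agent.Lib.Helper7 Groth.Agent.Lib.Helper24 Groth.Agent.Lib.Helper18

theorem closure_singleton_mem_irreducibleComponents {T : Type*} [TopologicalSpace T] [QuasiSober T]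
    (ζ : T) (hmax : ∀ z : T, z ⤳ ζ → z = ζ) : closure ({ζ} : Set T) ∈ irreducibleComponents T := by
  refine ⟨isIrreducible_singleton.closure, ?_⟩
  intro S hS hle
  have hSc : IsIrreducible (closure S) := hS.closure
  obtain ⟨s, hs⟩ := QuasiSober.sober hSc isClosed_closure
  have h1 : s ⤳ ζ := hs.specializes (subset_closure (hle (subset_closure rfl)))
  have h2 : s = ζ := hmax s h1
  rw [← h2, hs.def]
  exact subset_closure

variable {X Y : Scheme.{u}}

section overField

variable (k : Type u) [Field k] (X) [X.Over (Spec (CommRingCat.of k))]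
  [LocallyOfFiniteType (X ↘ Spec (CommRingCat.of k))]

include k in
/-- (E') -/
theorem localDim_of_isMax (ξ : X) (hmax : IsMax ξ) :
    FlatMor.localDim X ξ = topologicalKrullDim ↥(closure ({ξ} : Set X)) := by
  obtain ⟨nξ, hnξ1, hnξ2⟩ := VarDim.exists_nat_dim_closure_eq k X ξ
  rw [FibreDim.localDim_eq_td_add_coheight k X ξ nξ hnξ1, hnξ2, Order.coheight_eq_zero.2 hmax]
  simp

include k in
/-- (E) -/
theorem localDim_eq_of_equidim (D : ℕ)
    (h : ∀ C ∈ irreducibleComponents X, topologicalKrullDim ↥C = D) (t : X) :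
    FlatMor.localDim X t = D := by
  apply le_antisymm
  · unfold FlatMor.localDim
    refine le_trans (iInf_le _ ⟨⊤, trivial⟩) ?_
    refine le_trans (topologicalKrullDim_subspace_le _ _) ?_
    exact TopDimComp.topologicalKrullDim_le_of_forall_component _ (fun C hC => (h C hC).le)
  · obtain ⟨ξ, hle, hmax⟩ := FibreOrder.exists_isMax_ge t
    have hξt : ξ ⤳ t := (Scheme.le_iff_specializes).1 hle
    have hcomp : closure ({ξ} : Set X) ∈ irreducibleComponents X := by
      apply closure_singleton_mem_irreducibleComponents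
      intro z hz
      have h1 : ξ ≤ z := (Scheme.le_iff_specializes).2 hz
      have h2 : z ≤ ξ := hmax h1
      exact ((Scheme.le_iff_specializes).1 h2).antisymm hz |>.eq.symm
    obtain ⟨nξ, hnξ1, hnξ2⟩ := VarDim.exists_nat_dim_closure_eq k X ξ
    obtain ⟨nt, hnt1, -⟩ := VarDim.exists_nat_dim_closure_eq k X t
    have hD : nξ = D := by
      have := h _ hcomp
      rw [hnξ2] at this
      exact_mod_cast this
    obtain ⟨c, hchead, -, hclen⟩ := FibreDim.exists_series_between k X ξ t hξt nξ nt hnξ1 hnt1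
    have h1 : (c.length : ℕ∞) ≤ Order.coheight t := Order.length_le_coheight (by rw [hchead])
    rw [FibreDim.localDim_eq_td_add_coheight k X t nt hnt1]
    have h2 : (D : ℕ∞) ≤ (nt : ℕ∞) + Order.coheight t := by
      calc (D : ℕ∞) = ((c.length + nt : ℕ) : ℕ∞) := by rw [hclen, hD]
        _ = (nt : ℕ∞) + (c.length : ℕ∞) := by push_cast; ring
        _ ≤ _ := by gcongr
    exact_mod_cast h2

end overField

section flat

variable (k : Type u) [Field k] {X Y : Scheme.{u}} [X.Over (Spec (CommRingCat.of k))]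
  [Y.Over (Spec (CommRingCat.of k))]
  [LocallyOfFiniteType (X ↘ Spec (CommRingCat.of k))]
  [LocallyOfFiniteType (Y ↘ Spec (CommRingCat.of k))]
  (f : X ⟶ Y) (hf : f ≫ (Y ↘ Spec (CommRingCat.of k)) = X ↘ Spec (CommRingCat.of k))

include hf in
/-- (K') -/
theorem localDim_eq_add_tr [Flat f] [LocallyOfFiniteType f] (w : X) (hG : FibreOrder.G f w = 0) :
    FlatMor.localDim X w = FlatMor.localDim Y (f w) + ((FibreDim.tr f w : ℕ) : WithBot ℕ∞) := by
  obtain ⟨nw, hnw, -⟩ := VarDim.exists_nat_dim_closure_eq k X w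
  obtain ⟨ny, hny, -⟩ := VarDim.exists_nat_dim_closure_eq k Y (f w)
  have hadd := VarTdAdd.td_add k f hf w
  unfold GenFinite.td at hadd
  rw [hnw, hny] at hadd
  have hsum : ny + FibreDim.tr f w = nw := by exact_mod_cast hadd
  rw [FibreDim.localDim_eq_td_add_coheight k X w nw hnw,
    FibreDim.localDim_eq_td_add_coheight k Y (f w) ny hny,
    FlatEquidim.coheight_eq_of_flat_of_G_eq_zero k f hf w hG, ← hsum]
  have : (((ny + FibreDim.tr f w : ℕ) : ℕ∞) + Order.coheight (f w) : ℕ∞) =
      ((ny : ℕ∞) + Order.coheight (f w)) + ((FibreDim.tr f w : ℕ) : ℕ∞) := by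
    push_cast; ring
  rw [this]
  push_cast
  rfl

end flat

theorem nat_eq_of_add_eq {d a b : ℕ} (h : ((d : ℕ) : WithBot ℕ∞) + (a : WithBot ℕ∞) =
    ((d : ℕ) : WithBot ℕ∞) + (b : WithBot ℕ∞)) : a = b := by
  have : d + a = d + b := by exact_mod_cast h
  omega

theorem S14403 (k : Type u) [Field k]
    {X Y : Scheme.{u}} (qX : X ⟶ Spec (CommRingCat.of k)) (qY : Y ⟶ Spec (CommRingCat.of k))
    [LocallyOfFiniteType qX] [LocallyOfFiniteType qY]
    (f : X ⟶ Y) (hf : f ≫ qY = qX) [Flat f] (d n : ℕ)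
    (hY : ∀ Z ∈ irreducibleComponents (Y : Type u), topologicalKrullDim Z = (d : WithBot ℕ∞)) :
    (∀ Z ∈ irreducibleComponents (X : Type u), topologicalKrullDim Z = ((d + n : ℕ) : WithBot ℕ∞)) ↔
      ∀ (y : Y), ∀ Z ∈ irreducibleComponents (f.fiber y : Type u),
        topologicalKrullDim Z = (n : WithBot ℕ∞) := by
  subst hf
  haveI : LocallyOfFiniteType f := locallyOfFiniteType_of_comp f qY
  letI : Y.Over (Spec (CommRingCat.of k)) := ⟨qY⟩
  letI : X.Over (Spec (CommRingCat.of k)) := ⟨f ≫ qY⟩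
  haveI : LocallyOfFiniteType (Y ↘ Spec (CommRingCat.of k)) := ‹LocallyOfFiniteType qY›
  haveI : LocallyOfFiniteType (X ↘ Spec (CommRingCat.of k)) :=
    inferInstanceAs (LocallyOfFiniteType (f ≫ qY))
  have hf' : f ≫ (Y ↘ Spec (CommRingCat.of k)) = X ↘ Spec (CommRingCat.of k) := rfl
  have core : ∀ w : X, FibreOrder.G f w = 0 →
      FlatMor.localDim X w = (d : WithBot ℕ∞) + ((FibreDim.tr f w : ℕ) : WithBot ℕ∞) := by
    intro w hG
    rw [localDim_eq_add_tr k f hf' w hG, localDim_eq_of_equidim (k := k) (X := Y) d hY (f w)]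
  have hfibdim : ∀ w : X, FibreOrder.G f w = 0 →
      FlatMor.fibreDimAt f w = ((FibreDim.tr f w : ℕ) : WithBot ℕ∞) := by
    intro w hG
    have hG' : FibreOrder.G f w = ((0 : ℕ) : ℕ∞) := by rw [hG]; rfl
    rw [FibreDimFormula.fibreDimAt_eq f w 0 hG', add_zero]
  constructor
  · intro hX y Z hZ
    obtain ⟨ζ, hζ⟩ := QuasiSober.sober hZ.1 (isClosed_of_mem_irreducibleComponents Z hZ)
    set w := f.fiberι y ζ with hw
    have hy : f w = y := by
      have : w ∈ Set.range (f.fiberι y) := ⟨ζ, rfl⟩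
      rw [f.range_fiberι] at this
      exact this
    have hdimZ := FibreCompDimOne.dim_component_aux f w y hy Z hZ ζ hζ rfl
    have hζmax : ∀ z : f.fiber y, z ⤳ ζ → z = ζ :=
      GenFiniteGen.maximal_of_mem_irreducibleComponents (by rw [hζ.def]; exact hZ)
    have hmax : IsMax ζ := by
      intro b hb
      have hb' : b ⤳ ζ := (Scheme.le_iff_specializes).1 hb
      rw [hζmax b hb']
    have hG : FibreOrder.G f w = 0 := by
      rw [hw, ← FibreOrder.coheight_fiber f y ζ]
      exact Order.coheight_eq_zero.2 hmax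
    have h1 := core w hG
    rw [localDim_eq_of_equidim (k := k) (X := X) (d + n) hX w] at h1
    have h2 : ((d : ℕ) : WithBot ℕ∞) + (n : WithBot ℕ∞) =
        ((d : ℕ) : WithBot ℕ∞) + ((FibreDim.tr f w : ℕ) : WithBot ℕ∞) := by
      rw [← h1]; push_cast; rfl
    rw [hdimZ, hfibdim w hG, ← nat_eq_of_add_eq h2]
  · intro hfib C hC
    obtain ⟨ξ, hξ⟩ := QuasiSober.sober hC.1 (isClosed_of_mem_irreducibleComponents C hC)
    have hξmax : ∀ z : X, z ⤳ ξ → z = ξ :=
      GenFiniteGen.maximal_of_mem_irreducibleComponents (by rw [hξ.def]; exact hC)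
    have hmax : IsMax ξ := by
      intro b hb
      have hb' : b ⤳ ξ := (Scheme.le_iff_specializes).1 hb
      rw [hξmax b hb']
    have hG : FibreOrder.G f ξ = 0 :=
      (FibreDim.G_eq_zero_iff f ξ).2 (fun z' _ hz' => hξmax z' hz')
    have h1 := core ξ hG
    rw [localDim_of_isMax (k := k) (X := X) ξ hmax, hξ.def] at h1
    -- the component of the fibre through ξ
    have hZf : closure ({f.asFiber ξ} : Set (f.fiber (f ξ))) ∈
        irreducibleComponents (f.fiber (f ξ)) := by
      apply closure_singleton_mem_irreducibleComponents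
      intro z hz
      have h3 : f.fiberι (f ξ) z ⤳ f.fiberι (f ξ) (f.asFiber ξ) := hz.map (f.fiberι (f ξ)).continuous
      rw [f.fiberι_asFiber] at h3
      have h4 := hξmax _ h3
      apply (f.fiberι (f ξ)).isEmbedding.injective
      rw [h4, f.fiberι_asFiber]
    have h5 := FibreCompDimOne.dim_component_eq_fibreDimAt f ξ _ hZf isGenericPoint_closure
    rw [hfib (f ξ) _ hZf, hfibdim ξ hG] at h5
    have h6 : n = FibreDim.tr f ξ := by exact_mod_cast h5
    rw [h1, ← h6]
    push_cast
    rfl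

theorem S11322 (k : Type u) [Field k]
    {X Y : Scheme.{u}} (qX : X ⟶ Spec (CommRingCat.of k)) (qY : Y ⟶ Spec (CommRingCat.of k))
    [LocallyOfFiniteType qX] [QuasiCompact qX] [LocallyOfFiniteType qY] [QuasiCompact qY]
    [IrreducibleSpace ↥Y] (f : X ⟶ Y) (hf : f ≫ qY = qX) [Flat f] (n : ℕ) :
    (∀ Z : Set ↥X, Z ∈ irreducibleComponents ↥X →
        topologicalKrullDim ↥Z = topologicalKrullDim ↥Y + (n : WithBot ℕ∞)) ↔
      ∀ (y : Y) (Z : Set ↥(f.fiber y)), Z ∈ irreducibleComponents ↥(f.fiber y) →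
        topologicalKrullDim ↥Z = (n : WithBot ℕ∞) := by
  letI : Y.Over (Spec (CommRingCat.of k)) := ⟨qY⟩
  haveI : LocallyOfFiniteType (Y ↘ Spec (CommRingCat.of k)) := ‹LocallyOfFiniteType qY›
  obtain ⟨d, -, hd⟩ := VarDim.exists_nat_dim_closure_eq k Y (genericPoint Y)
  have hcl : closure ({genericPoint Y} : Set Y) = Set.univ := (genericPoint_spec Y).def
  have hdimY : topologicalKrullDim Y = d := by
    rw [← hd, hcl]
    exact ((Homeomorph.Set.univ Y).isHomeomorph.topologicalKrullDim_eq).symm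
  have hY : ∀ Z ∈ irreducibleComponents (Y : Type u), topologicalKrullDim Z = (d : WithBot ℕ∞) := by
    intro Z hZ
    rw [irreducibleComponents_eq_singleton, Set.mem_singleton_iff] at hZ
    rw [hZ, ← hdimY]
    exact (Homeomorph.Set.univ Y).isHomeomorph.topologicalKrullDim_eq
  have key := S14403 k qX qY f hf d n hY
  rw [hdimY]
  have hcast : ((d : ℕ) : WithBot ℕ∞) + (n : WithBot ℕ∞) = ((d + n : ℕ) : WithBot ℕ∞) := by
    push_cast; rfl
  rw [hcast]
  exact key

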