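import Mathlib
import Groth.Agent.Lib.lead.FibreDimBC
import Groth.Agent.Lib.lead.FlatEquidimGen
import Groth.Agent.Lib.lead.FibreCompDimOne
import Groth.Agent.Lib.Helper18.FibreTd

set_option autoImplicit false
set_option linter.style.haveILetI false
universe u
open CategoryTheory CategoryTheory.Limits AlgebraicGeometry Topology TopologicalSpace TensorProduct

namespace Groth.Agent.Lib.lead.FibreDimBCLocal

open Groth.Agent.Lib.Helper7 Groth.Agent.Lib.Helper3 Groth.Agent.Lib.lead Groth.Agent.Lib.Helper18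

theorem flat_SpecMap_of_isField {K L : CommRingCat.{u}} (hK : IsField K) (φ : K ⟶ L) :
    Flat (Spec.map φ) := by
  rw [Flat.SpecMap_iff]
  letI := hK.toField
  letI := φ.hom.toAlgebra
  show Module.Flat K L
  infer_instance

theorem universallyOpen_SpecMap_of_isField {K L : CommRingCat.{u}} (hK : IsField K) (φ : K ⟶ L) :
    UniversallyOpen (Spec.map φ) := by
  letI := hK.toField
  haveI : IsIntegral (Spec K) := inferInstance
  haveI : Subsingleton (Spec K) := inferInstanceAs (Subsingleton (PrimeSpectrum K))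
  infer_instance

theorem localDim_pullback_field {W W' : Scheme.{u}} {K L : CommRingCat.{u}} (hK : IsField K)
    (hL : IsField L) (p : W ⟶ Spec K) [LocallyOfFiniteType p] (φ : K ⟶ L) (π : W' ⟶ W)
    (p' : W' ⟶ Spec L) (hc : IsPullback π p' p (Spec.map φ)) (x' : W') :
    FlatMor.localDim W' x' = FlatMor.localDim W (π x') := by
  haveI : Flat (Spec.map φ) := flat_SpecMap_of_isField hK φ
  haveI : UniversallyOpen (Spec.map φ) := universallyOpen_SpecMap_of_isField hK φ
  haveI : Flat π := MorphismProperty.of_isPullback hc.flip inferInstance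
  haveI : UniversallyOpen π := MorphismProperty.of_isPullback hc.flip inferInstance
  unfold FlatMor.localDim
  apply le_antisymm
  · refine le_iInf fun ⟨U, hxU⟩ => ?_
    obtain ⟨U₀, hU₀, hxU₀, hle⟩ := (Opens.isBasis_iff_nbhd.mp W.isBasis_affineOpens) hxU
    obtain ⟨-, hd⟩ := FibreDimBC.dim_preimage_affineOpen hK hL p φ π p' hc U₀ hU₀
    refine le_trans (iInf_le _ ⟨π ⁻¹ᵁ U₀, hxU₀⟩) ?_
    show topologicalKrullDim ((π ⁻¹ᵁ U₀ : W'.Opens) : Set W') ≤ topologicalKrullDim (U : Set W)
    rw [hd]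
    exact (Topology.IsEmbedding.inclusion (show (U₀ : Set W) ⊆ (U : Set W) from hle)).isInducing.topologicalKrullDim_le
  · refine le_iInf fun ⟨V', hxV'⟩ => ?_
    have hopen : IsOpen (π '' (V' : Set W')) := π.isOpenMap _ V'.2
    let V : W.Opens := ⟨π '' (V' : Set W'), hopen⟩
    have hxV : π x' ∈ V := ⟨x', hxV', rfl⟩
    refine le_trans (iInf_le _ ⟨V, hxV⟩) ?_
    show topologicalKrullDim (V : Set W) ≤ topologicalKrullDim (V' : Set W')
    rw [topologicalKrullDim_opens_eq_iSup_stalk W V, topologicalKrullDim_opens_eq_iSup_stalk W' V']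
    refine iSup_le fun ⟨z, hz⟩ => ?_
    obtain ⟨z', hz', rfl⟩ := hz
    refine le_trans ?_ (le_iSup (fun t : V' => ringKrullDim (W'.presheaf.stalk t.1)) ⟨z', hz'⟩)
    show ringKrullDim (W.presheaf.stalk (π z')) ≤ ringKrullDim (W'.presheaf.stalk z')
    rw [ringKrullDim_stalk_eq_coheight, ringKrullDim_stalk_eq_coheight]
    exact_mod_cast FlatEquidim.coheight_le_of_flat π z'

theorem localDim_fiber_aux {X Y : Scheme.{u}} (f : X ⟶ Y) (w : X) :
    ∀ (y : Y) (_ : f w = y) (ζ : ↥(f.fiber y)) (_ : f.fiberι y ζ = w),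
      FlatMor.localDim (f.fiber y) ζ = FlatMor.fibreDimAt f w := by
  intro y hy
  subst hy
  intro ζ hζw
  have hζ' : ζ = f.asFiber w := by
    apply (f.fiberι (f w)).isEmbedding.injective
    rw [hζw, f.fiberι_asFiber]
  rw [hζ']
  rfl

theorem localDim_fiber_eq_fibreDimAt {X Y : Scheme.{u}} (f : X ⟶ Y) (y : Y) (ζ : ↥(f.fiber y)) :
    FlatMor.localDim (f.fiber y) ζ = FlatMor.fibreDimAt f (f.fiberι y ζ) := by
  have hy : f (f.fiberι y ζ) = y := by
    have : f.fiberι y ζ ∈ Set.range (f.fiberι y) := ⟨ζ, rfl⟩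
    rw [f.range_fiberι] at this
    exact this
  exact localDim_fiber_aux f _ y hy ζ rfl

set_option backward.isDefEq.respectTransparency.types false in
theorem exists_fiber_pullback {X S X' S' : Scheme.{u}} (f : X ⟶ S)
    (g : S' ⟶ S) (g' : X' ⟶ X) (f' : X' ⟶ S') (hsq : IsPullback g' f' f g) (y' : S') :
    ∃ π : f'.fiber y' ⟶ f.fiber (g y'),
      IsPullback π (f'.fiberToSpecResidueField y') (f.fiberToSpecResidueField (g y'))
        (Spec.map (g.residueFieldMap y')) ∧ π ≫ f.fiberι (g y') = f'.fiberι y' ≫ g' := by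
  refine ⟨_, isPullback_fiberToSpecResidueField_of_isPullback hsq y', ?_⟩
  simp only [Scheme.Hom.fiberι]
  exact pullback.lift_fst _ _ _

set_option backward.isDefEq.respectTransparency.types false in
/-- fibre dimension at a point commutes with base change -/
theorem fibreDimAt_baseChange {X S X' S' : Scheme.{u}} (f : X ⟶ S) [LocallyOfFiniteType f]
    (g : S' ⟶ S) (g' : X' ⟶ X) (f' : X' ⟶ S') (hsq : IsPullback g' f' f g) (x' : X') :
    FlatMor.fibreDimAt f' x' = FlatMor.fibreDimAt f (g' x') := by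
  obtain ⟨π, h, h4⟩ := exists_fiber_pullback f g g' f' hsq (f' x')
  haveI : LocallyOfFiniteType (f.fiberToSpecResidueField (g (f' x'))) :=
    MorphismProperty.pullback_snd _ _ inferInstance
  have h1 := localDim_pullback_field (Field.toIsField _) (Field.toIsField _)
    (f.fiberToSpecResidueField (g (f' x'))) (g.residueFieldMap (f' x')) _ _ h (f'.asFiber x')
  have h2 := localDim_fiber_eq_fibreDimAt f (g (f' x')) (π (f'.asFiber x'))
  have h3 : f.fiberι (g (f' x')) (π (f'.asFiber x')) = g' x' := by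
    have h5 := congrArg (fun q => q (f'.asFiber x')) h4
    simp only [Scheme.Hom.comp_apply] at h5
    rw [h5, f'.fiberι_asFiber]
  rw [h3] at h2
  show FlatMor.localDim (f'.fiber (f' x')) (f'.asFiber x') = _
  rw [h1, h2]

theorem fibreDimAt_eq_of_hasRelDim {X S : Scheme.{u}} (f : X ⟶ S) [LocallyOfFiniteType f] (d : ℕ)
    (h : Cyc.HasRelDim f d) (x : X) : FlatMor.fibreDimAt f x = d := by
  letI := FibreTd.fibreOver f (f x)
  haveI : LocallyOfFiniteType ((f.fiber (f x)) ↘ Spec (CommRingCat.of (S.residueField (f x)))) :=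
    inferInstanceAs (LocallyOfFiniteType (f.fiberToSpecResidueField (f x)))
  unfold FlatMor.fibreDimAt
  exact FlatEquidimGen.localDim_eq_of_equidim (k := S.residueField (f x)) (X := f.fiber (f x)) d
    (h (f x)) _

theorem S9358 {X S X' S' : Scheme.{u}} (f : X ⟶ S) [LocallyOfFiniteType f] (g : S' ⟶ S)
    (g' : X' ⟶ X) (f' : X' ⟶ S') (hsq : IsPullback g' f' f g) (d : ℕ) :
    (∀ x' : ↑X', FlatMor.fibreDimAt f' x' = FlatMor.fibreDimAt f (g'.base x')) ∧
      ((∀ x : ↑X, FlatMor.fibreDimAt f x ≤ d) → ∀ x' : ↑X', FlatMor.fibreDimAt f' x' ≤ d) ∧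
        (Cyc.HasRelDim f d → Cyc.HasRelDim f' d) := by
  have h1 := fibreDimAt_baseChange f g g' f' hsq
  haveI : LocallyOfFiniteType f' := MorphismProperty.of_isPullback hsq inferInstance
  refine ⟨h1, fun h x' => ?_, fun h y' T hT => ?_⟩
  · rw [h1 x']; exact h _
  · obtain ⟨ζ, hζ⟩ := QuasiSober.sober hT.1 (isClosed_of_mem_irreducibleComponents T hT)
    have hy : f' (f'.fiberι y' ζ) = y' := by
      have : f'.fiberι y' ζ ∈ Set.range (f'.fiberι y') := ⟨ζ, rfl⟩
      rw [f'.range_fiberι] at this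
      exact this
    rw [FibreCompDimOne.dim_component_aux f' _ y' hy T hT ζ hζ rfl, h1,
      fibreDimAt_eq_of_hasRelDim f d h]

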