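import Mathlib
import Groth.Agent.Lib.lead.FibreDimBCLocal
import Groth.Agent.Lib.Helper18.Chev.Main
import Groth.Agent.Lib.Helper18.Chev.SchemeBound
import Groth.Prelude.Def_Flat
import Groth.Prelude.Def_Cyc

set_option autoImplicit false
set_option linter.style.haveILetI false
universe u
open CategoryTheory CategoryTheory.Limits AlgebraicGeometry Topology TopologicalSpace TensorProduct

namespace Groth.Agent.Lib.lead.FibreDimRetro

open Groth.Agent.Lib.lead Groth.Agent.Lib.Helper18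

theorem isCompact_affine {A B : CommRingCat.{u}} (φ : A ⟶ B) (hφ : φ.hom.FinitePresentation)
    (n : ℕ) :
    IsCompact {w : ↥(Spec B) | FlatMor.fibreDimAt (Spec.map φ) w ≤ (n : WithBot ℕ∞)} := by
  algebraize [φ.hom]
  let P := Algebra.Presentation.ofFinitePresentation A B
  let A₀ : Type u := P.Core
  let B₀ : Type u := P.ModelOfHasCoeffs A₀
  let e : A ⊗[A₀] B₀ ≃ₐ[A] B := P.tensorModelOfHasCoeffsEquiv A₀
  let inr' : CommRingCat.of B₀ ⟶ B :=
    CommRingCat.ofHom ((e : A ⊗[A₀] B₀ →+* B).comp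
      (Algebra.TensorProduct.includeRight : B₀ →ₐ[A₀] A ⊗[A₀] B₀).toRingHom)
  have hpo : IsPushout (CommRingCat.ofHom (algebraMap A₀ A)) (CommRingCat.ofHom (algebraMap A₀ B₀))
      φ inr' := by
    refine (CommRingCat.isPushout_tensorProduct A₀ A B₀).of_iso (Iso.refl _) (Iso.refl _)
      (Iso.refl _) e.toRingEquiv.toCommRingCatIso ?_ ?_ ?_ ?_
    · simp
    · simp
    · ext x
      exact e.commutes x
    · simp only [Iso.refl_hom, Category.id_comp]
      rfl
  have hpb := (isPullback_SpecMap_of_isPushout _ _ _ _ hpo).flip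
  have hft : (algebraMap A₀ B₀).FiniteType := by
    rw [RingHom.finiteType_algebraMap]
    infer_instance
  haveI : LocallyOfFiniteType (Spec.map (CommRingCat.ofHom (algebraMap A₀ B₀))) := by
    rw [HasRingHomProperty.Spec_iff (P := @LocallyOfFiniteType)]
    exact hft
  have key : ∀ w : ↥(Spec B), FlatMor.fibreDimAt (Spec.map φ) w =
      FlatMor.fibreDimAt (Spec.map (CommRingCat.ofHom (algebraMap A₀ B₀))) (Spec.map inr' w) :=
    fun w => FibreDimBCLocal.fibreDimAt_baseChange _ _ _ _ hpb w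
  haveI : IsNoetherianRing A₀ := Algebra.FiniteType.isNoetherianRing ℤ A₀
  haveI : IsNoetherianRing B₀ := Algebra.FiniteType.isNoetherianRing A₀ B₀
  have hc : IsCompact {z : ↥(Spec (CommRingCat.of B₀)) |
      FlatMor.fibreDimAt (Spec.map (CommRingCat.ofHom (algebraMap A₀ B₀))) z ≤ (n : WithBot ℕ∞)} :=
    NoetherianSpace.isCompact _
  have ho := Chev.isOpen_fibreDimAt_le (Spec.map (CommRingCat.ofHom (algebraMap A₀ B₀))) n
  have := QuasiCompact.isCompact_preimage (f := Spec.map inr') _ ho hc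
  convert this using 1
  ext w
  simp only [Set.mem_ofPred_eq, Set.mem_preimage, key]

theorem isCompact_inter_affine {X S : Scheme.{u}} (f : X ⟶ S) [LocallyOfFinitePresentation f] (n : ℕ)
    {V : S.Opens} (hV : IsAffineOpen V) {W : X.Opens} (hW : IsAffineOpen W) (e : W ≤ f ⁻¹ᵁ V) :
    IsCompact ({x : ↑X | FlatMor.fibreDimAt f x ≤ n} ∩ (W : Set X)) := by
  have hφ : (f.appLE V W e).hom.FinitePresentation :=
    HasRingHomProperty.appLE (P := @LocallyOfFinitePresentation) f inferInstance ⟨V, hV⟩ ⟨W, hW⟩ e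
  haveI : LocallyOfFiniteType (Spec.map (f.appLE V W e)) := by
    rw [HasRingHomProperty.Spec_iff (P := @LocallyOfFiniteType)]
    exact RingHom.FiniteType.of_finitePresentation hφ
  have comm := IsAffineOpen.SpecMap_appLE_fromSpec f hV hW e
  have key : ∀ w, FlatMor.fibreDimAt f (hW.fromSpec w) =
      FlatMor.fibreDimAt (Spec.map (f.appLE V W e)) w :=
    fun w => Chev.fibreDimAt_eq_of_openImmersion_square _ hV.fromSpec hW.fromSpec f comm w
  have hc := (isCompact_affine (f.appLE V W e) hφ n).image hW.fromSpec.continuous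
  convert hc using 1
  ext x
  constructor
  · rintro ⟨hx, hxW⟩
    have : x ∈ Set.range hW.fromSpec := by rw [hW.range_fromSpec]; exact hxW
    obtain ⟨w, rfl⟩ := this
    refine ⟨w, ?_, rfl⟩
    change FlatMor.fibreDimAt (Spec.map (f.appLE V W e)) w ≤ _
    rw [← key]; exact hx
  · rintro ⟨w, hw, rfl⟩
    refine ⟨?_, ?_⟩
    · change FlatMor.fibreDimAt f (hW.fromSpec w) ≤ _
      rw [key]; exact hw
    · have : hW.fromSpec w ∈ Set.range hW.fromSpec := ⟨w, rfl⟩
      rw [hW.range_fromSpec] at this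
      exact this

theorem S9355 {X S : Scheme.{u}} (f : X ⟶ S) [LocallyOfFinitePresentation f] (n : ℕ) :
    IsRetrocompact {x : ↑X | FlatMor.fibreDimAt f x ≤ n} := by
  intro K hK hKo
  have hloc : ∀ x ∈ K, ∃ W : X.Opens, x ∈ W ∧ (W : Set X) ⊆ K ∧
      IsCompact ({x : ↑X | FlatMor.fibreDimAt f x ≤ n} ∩ (W : Set X)) := by
    intro x hx
    obtain ⟨V, hV, hxV, -⟩ := exists_isAffineOpen_mem_and_subset (x := f x)
      (U := ⊤) trivial
    have hx' : x ∈ f ⁻¹ᵁ V ⊓ ⟨K, hKo⟩ := ⟨hxV, hx⟩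
    obtain ⟨W, hW, hxW, hWs⟩ := exists_isAffineOpen_mem_and_subset hx'
    exact ⟨W, hxW, fun y hy => (hWs hy).2, isCompact_inter_affine f n hV hW
      (fun y hy => (hWs hy).1)⟩
  choose! W hxW hWK hWc using hloc
  obtain ⟨t, htK, ht⟩ := hK.elim_nhds_subcover (fun x => (W x : Set X))
    (fun x hx => (W x).isOpen.mem_nhds (hxW x hx))
  have : {x : ↑X | FlatMor.fibreDimAt f x ≤ n} ∩ K =
      ⋃ x ∈ t, ({x : ↑X | FlatMor.fibreDimAt f x ≤ n} ∩ (W x : Set X)) := by
    ext y
    simp only [Set.mem_inter_iff, Set.mem_iUnion, exists_prop]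
    constructor
    · rintro ⟨hy, hyK⟩
      obtain ⟨x, hxt, hyx⟩ := Set.mem_iUnion₂.1 (ht hyK)
      exact ⟨x, hxt, hy, hyx⟩
    · rintro ⟨x, hxt, hy, hyx⟩
      exact ⟨hy, hWK x (htK x hxt) hyx⟩
  rw [this]
  exact t.isCompact_biUnion (fun x hx => hWc x (htK x hx))

end Groth.Agent.Lib.lead.FibreDimRetro
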