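import Mathlib
import Groth.Agent.Lib.lead.QFCodim
import Groth.Agent.Lib.Helper3.AlgSpEtaleDim
import Groth.Agent.Lib.Helper3.AlgSpLocP3
import Groth.Agent.Lib.Helper3.AlgSpHasAtMor

set_option autoImplicit false
universe u
open CategoryTheory CategoryTheory.Limits AlgebraicGeometry

namespace Groth.Agent.Lib.lead.QFCodimSp

open AlgSp Groth.Agent.Lib.Helper3 Groth.Agent.Lib.lead.QFCodim

variable {S : Scheme.{u}}

/-- The predicate "quasi-finite at `u`" used in the statements. -/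
abbrev QFQ : ∀ (U V : Scheme.{u}), (U ⟶ V) → ↥U → Prop :=
  fun U _ h u => ∃ W : U.Opens, u ∈ W ∧ LocallyQuasiFinite (W.ι ≫ h) ∧ LocallyOfFiniteType (W.ι ≫ h)

theorem quasiFiniteAt_of_QFQ {U V : Scheme.{u}} (h : U ⟶ V) (u : U) (hq : QFQ U V h u) :
    h.QuasiFiniteAt u := by
  obtain ⟨W, hu, hqf, -⟩ := hq
  have := (W.ι ≫ h).quasiFiniteAt ⟨u, hu⟩
  rwa [Scheme.Hom.quasiFiniteAt_comp_iff_of_isOpenImmersion] at this

theorem QFQ_of_quasiFiniteAt {U V : Scheme.{u}} (h : U ⟶ V) [LocallyOfFiniteType h] (u : U)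
    (hq : h.QuasiFiniteAt u) : QFQ U V h u :=
  ⟨h.quasiFiniteLocus, hq, inferInstance, inferInstance⟩

/-- Transfer of quasi-finiteness at a point between two chart diagrams of a morphism of sheaves. -/
theorem quasiFiniteAt_of_charts {X Y : Sp S} (f : X ⟶ Y)
    {U V U₁ V₁ : Over S} (a : (yon S).obj U ⟶ X) (b : (yon S).obj V ⟶ Y) (h : U ⟶ V)
    (a₁ : (yon S).obj U₁ ⟶ X) (b₁ : (yon S).obj V₁ ⟶ Y) (h₁ : U₁ ⟶ V₁)
    (ha : RepWith @Etale a) (hb : RepWith @Etale b) (ha₁ : RepWith @Etale a₁)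
    (hb₁ : RepWith @Etale b₁)
    (e : a ≫ f = (yon S).map h ≫ b) (e₁ : a₁ ≫ f = (yon S).map h₁ ≫ b₁)
    [LocallyOfFiniteType h.left] (u : U.left) (u₁ : U₁.left)
    (hu : Points.ofPt a u = Points.ofPt a₁ u₁)
    (hq : h₁.left.QuasiFiniteAt u₁) : h.left.QuasiFiniteAt u := by
  obtain ⟨W, pU, pU₁, sq⟩ := exists_pullback_charts a ha.1 a₁
  obtain ⟨w, rfl, rfl⟩ := exists_of_ofPt_eq_of_isPullback sq u u₁ hu
  have h1 : Etale pU.left := ha₁.2 a ((yon S).map pU₁) pU sq.flip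
  have h2 : Etale pU₁.left := ha.2 a₁ ((yon S).map pU) pU₁ sq
  obtain ⟨Z, qV, qV₁, sqZ⟩ := exists_pullback_charts b hb.1 b₁
  have h3 : Etale qV.left := hb₁.2 b ((yon S).map qV₁) qV sqZ.flip
  have h4 : Etale qV₁.left := hb.2 b₁ ((yon S).map qV) qV₁ sqZ
  have comm : (yon S).map (pU ≫ h) ≫ b = (yon S).map (pU₁ ≫ h₁) ≫ b₁ := by
    rw [Functor.map_comp, Functor.map_comp, Category.assoc, Category.assoc, ← e, ← e₁,
      ← Category.assoc, ← Category.assoc, sq.w]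
  obtain ⟨g, hg⟩ := (yon S).map_surjective (sqZ.lift _ _ comm)
  have e' : g ≫ qV = pU ≫ h := by
    apply (yon S).map_injective
    rw [Functor.map_comp, hg, sqZ.lift_fst]
  have e'₁ : g ≫ qV₁ = pU₁ ≫ h₁ := by
    apply (yon S).map_injective
    rw [Functor.map_comp, hg, sqZ.lift_snd]
  exact quasiFiniteAt_transfer pU.left pU₁.left qV.left qV₁.left g.left h.left h₁.left
    (congrArg (fun k => k.left) e') (congrArg (fun k => k.left) e'₁) w hq


theorem dim_zero_of_quasiFiniteAt {U V : Scheme.{u}} (h : U ⟶ V) [LocallyOfFiniteType h] (u : U)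
    (hq : h.QuasiFiniteAt u) (hv : ringKrullDim (V.presheaf.stalk (h u)) = 0) :
    ringKrullDim (U.presheaf.stalk u) = 0 := by
  have h1 := ringKrullDim_stalk_le_of_locallyQuasiFinite (h.quasiFiniteLocus.ι ≫ h) ⟨u, hq⟩
  have h2 := ringKrullDim_stalk_eq_of_etale h.quasiFiniteLocus.ι ⟨u, hq⟩
  have h3 : (h.quasiFiniteLocus.ι ≫ h) ⟨u, hq⟩ = h u := rfl
  have h4 : h.quasiFiniteLocus.ι ⟨u, hq⟩ = u := rfl
  rw [h3, hv] at h1
  rw [h4] at h2
  rw [← h2]
  exact le_antisymm h1 ringKrullDim_nonneg_of_nontrivial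

abbrev D0 : ∀ U : Scheme.{u}, ↥U → Prop := fun U u => ringKrullDim ↥(U.presheaf.stalk u) = 0

theorem main {X Y : AlgSp.Space S} (f : X ⟶ Y)
    (hf : AlgSp.LocP @LocallyOfFiniteType f.hom) (y : AlgSp.Points Y.obj)
    (hy : AlgSp.HasAt D0 Y.obj y) :
    ((∀ x : AlgSp.Points X.obj, AlgSp.Points.map f.hom x = y → AlgSp.HasAt D0 X.obj x) ↔
        (∀ x : AlgSp.Points X.obj, AlgSp.Points.map f.hom x = y → AlgSp.HasAtMor QFQ f.hom x)) ∧
      ((∀ x : AlgSp.Points X.obj, AlgSp.Points.map f.hom x = y → AlgSp.HasAt D0 X.obj x →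
          AlgSp.HasAtMor QFQ f.hom x) →
        ∀ x : AlgSp.Points X.obj, AlgSp.Points.map f.hom x = y → AlgSp.HasAt D0 X.obj x) := by
  obtain ⟨V, b, hbe, hbs⟩ := Y.property.atlas
  obtain ⟨U, c, h, -, -, hae, has, -, hk⟩ := exists_chart_over X.property Y.property f.hom b hbe
  have has' := has hbs
  generalize c ≫ pullback.fst f.hom b = a at hae has' hk
  haveI hlft : LocallyOfFiniteType h.left := hf a b h hae hbe hk
  have K0 : ∀ u : U.left, Points.map f.hom (Points.ofPt a u) = Points.ofPt b (h.left u) := by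
    intro u
    rw [Points.map_ofPt, hk, Points.ofPt_yon_map_comp]
  have K1 : ∀ v : V.left, Points.ofPt b v = y → ringKrullDim (V.left.presheaf.stalk v) = 0 := by
    intro v hv
    obtain ⟨V', b', v', hb'e, hv', hd⟩ := hy
    rw [ringKrullDim_stalk_eq_of_ofPt_eq b b' hbe hb'e v v' (hv.trans hv'.symm)]
    exact hd
  have K2 : ∀ u : U.left, HasAt D0 X.obj (Points.ofPt a u) ↔
      ringKrullDim (U.left.presheaf.stalk u) = 0 := by
    intro u
    constructor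
    · rintro ⟨U', a', u', ha'e, hu', hd⟩
      rw [ringKrullDim_stalk_eq_of_ofPt_eq a a' hae ha'e u u' hu'.symm]
      exact hd
    · intro hd
      exact ⟨U, a, u, hae, rfl, hd⟩
  have K3 : ∀ u : U.left, HasAtMor QFQ f.hom (Points.ofPt a u) ↔ h.left.QuasiFiniteAt u := by
    intro u
    constructor
    · rintro ⟨U₁, V₁, a₁, b₁, h₁, u₁, ha₁, hb₁, e₁, hu₁, hQ⟩
      exact quasiFiniteAt_of_charts f.hom a b h a₁ b₁ h₁ hae hbe ha₁ hb₁ hk e₁ u u₁ hu₁.symm
        (quasiFiniteAt_of_QFQ _ _ hQ)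
    · intro hq
      exact ⟨U, V, a, b, h, u, hae, hbe, hk, rfl, QFQ_of_quasiFiniteAt h.left u hq⟩
  refine ⟨⟨fun H1 x hx => ?_, fun H2 x hx => ?_⟩, fun H3 x hx => ?_⟩
  · obtain ⟨u, rfl⟩ := exists_ofPt_eq a has' x
    rw [K3]
    refine quasiFiniteAt_of_fibre_dim_zero h.left u (fun u' hu' => ?_)
    rw [← K2]
    refine H1 _ ?_
    rw [K0, hu', ← K0, hx]
  · obtain ⟨u, rfl⟩ := exists_ofPt_eq a has' x
    rw [K2]
    have hq := (K3 u).1 (H2 _ hx)
    exact dim_zero_of_quasiFiniteAt h.left u hq (K1 _ (by rw [← K0, hx]))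
  · obtain ⟨u, rfl⟩ := exists_ofPt_eq a has' x
    rw [K2]
    obtain ⟨u', hs, hd⟩ := exists_specializes_dim_zero U.left u
    have hv0 : ringKrullDim (V.left.presheaf.stalk (h.left u)) = 0 := K1 _ (by rw [← K0, hx])
    have hfib : h.left u' = h.left u :=
      eq_of_specializes_of_dim_zero V.left hv0 (hs.map h.left.continuous)
    have hx' : Points.map f.hom (Points.ofPt a u') = y := by rw [K0, hfib, ← K0, hx]
    have hq := (K3 u').1 (H3 _ hx' ((K2 u').2 hd))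
    have := eq_of_specializes_of_quasiFiniteAt h.left hq hs hfib.symm
    rw [this]; exact hd

end Groth.Agent.Lib.lead.QFCodimSp
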