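import Mathlib
import Groth.Agent.Lib.lead.QFCodimSp
import Groth.Prelude.Def_Flat

set_option autoImplicit false
universe u
open CategoryTheory CategoryTheory.Limits AlgebraicGeometry

namespace Groth.Agent.Lib.lead.QFRelDim

open AlgSp Groth.Agent.Lib.Helper3 Groth.Agent.Lib.lead.QFCodim Groth.Agent.Lib.lead.QFCodimSp

variable {S : Scheme.{u}}

theorem topologicalKrullDim_nonneg_of_nonempty (T : Type*) [TopologicalSpace T] [Nonempty T] :
    0 ≤ topologicalKrullDim T := by
  obtain ⟨t⟩ := ‹Nonempty T›
  haveI : Nonempty (TopologicalSpace.IrreducibleCloseds T) :=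
    ⟨⟨closure {t}, isIrreducible_singleton.closure, isClosed_closure⟩⟩
  exact Order.krullDim_nonneg

theorem localDim_eq_zero_of_isOpen_singleton (T : Type*) [TopologicalSpace T] (t : T)
    (h : IsOpen ({t} : Set T)) : FlatMor.localDim T t = 0 := by
  apply le_antisymm
  · refine (iInf_le _ (⟨⟨{t}, h⟩, rfl⟩ : {U : TopologicalSpace.Opens T // t ∈ U})).trans ?_
    haveI : Subsingleton (({t} : Set T)) := (Set.subsingleton_singleton (a := t)).coe_sort
    change Order.krullDim _ ≤ 0
    haveI : Subsingleton (TopologicalSpace.IrreducibleCloseds ({t} : Set T)) := by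
      constructor
      intro A B
      apply TopologicalSpace.IrreducibleCloseds.ext
      have hA := A.isIrreducible.nonempty
      have hB := B.isIrreducible.nonempty
      ext x
      obtain ⟨a, ha⟩ := hA
      obtain ⟨b, hb⟩ := hB
      rw [Subsingleton.elim x a]
      constructor
      · intro _; rw [Subsingleton.elim a b]; exact hb
      · intro _; exact ha
    exact Order.krullDim_nonpos_of_subsingleton
  · refine le_iInf fun U => ?_
    haveI : Nonempty (U.1 : Set T) := ⟨⟨t, U.2⟩⟩
    exact topologicalKrullDim_nonneg_of_nonempty _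


theorem one_le_of_pos (d : WithBot ℕ∞) (h : 0 < d) : 1 ≤ d := by
  induction d using WithBot.recBotCoe with
  | bot => exact absurd h (by simp)
  | coe n =>
    have h' : (0 : ℕ∞) < n := by exact_mod_cast h
    have : (1 : ℕ∞) ≤ n := Order.one_le_iff_pos.mpr h'
    exact_mod_cast this

theorem isOpen_singleton_of_localDim_eq_zero (F : Scheme.{u}) [IsLocallyNoetherian F] (z : F)
    (h : FlatMor.localDim F z = 0) : IsOpen ({z} : Set F) := by
  have hex : ∃ O : {U : TopologicalSpace.Opens F // z ∈ U}, topologicalKrullDim (O.1 : Set F) ≤ 0 := by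
    by_contra hcon
    push Not at hcon
    have h1 : (1 : WithBot ℕ∞) ≤ FlatMor.localDim F z :=
      le_iInf fun O => one_le_of_pos _ (hcon O)
    rw [h] at h1
    exact absurd h1 (by decide)
  obtain ⟨⟨O, hzO⟩, hdim⟩ := hex
  let O' : F.Opens := O
  have hdim' : topologicalKrullDim (↥(O' : Scheme.{u})) ≤ 0 := hdim
  haveI : IsLocallyArtinian (O' : Scheme.{u}) := IsLocallyArtinian.of_topologicalKrullDim_le_zero hdim'
  haveI : DiscreteTopology (↥(O' : Scheme.{u})) := inferInstance
  have := (isOpen_discrete ({⟨z, hzO⟩} : Set O')).trans O'.2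
  have he : ({z} : Set F) = Subtype.val '' ({⟨z, hzO⟩} : Set O') := by
    ext w
    constructor
    · rintro rfl
      exact ⟨⟨w, hzO⟩, rfl, rfl⟩
    · rintro ⟨w', hw', rfl⟩
      have hw'' : w' = ⟨z, hzO⟩ := hw'
      rw [hw'']; rfl
  rw [he]; exact this

/-- For a morphism locally of finite type, quasi-finiteness at a point means that the fibre has
dimension zero at the point. -/
theorem quasiFiniteAt_iff_fibreDimAt_eq_zero {U V : Scheme.{u}} (h : U ⟶ V)
    [LocallyOfFiniteType h] (u : U) : h.QuasiFiniteAt u ↔ FlatMor.fibreDimAt h u = 0 := by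
  rw [Scheme.Hom.quasiFiniteAt_iff_isOpen_singleton_asFiber]
  have : LocallyOfFiniteType (h.fiberToSpecResidueField (h u)) :=
    MorphismProperty.pullback_snd (P := @LocallyOfFiniteType) _ _ inferInstance
  haveI : IsLocallyNoetherian (h.fiber (h u)) :=
    LocallyOfFiniteType.isLocallyNoetherian (h.fiberToSpecResidueField (h u))
  constructor
  · intro ho
    exact localDim_eq_zero_of_isOpen_singleton _ _ ho
  · intro hd
    exact isOpen_singleton_of_localDim_eq_zero _ _ hd


theorem main {X Y : AlgSp.Space S} (f : X ⟶ Y)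
    (hf : AlgSp.LocP @LocallyOfFiniteType f.hom) :
    AlgSp.LocP (@LocallyQuasiFinite ⊓ @LocallyOfFiniteType) f.hom ↔
      ∀ x : AlgSp.Points X.obj, AlgSp.HasAtMor (fun _ _ h u => FlatMor.fibreDimAt h u = 0) f.hom x := by
  constructor
  · intro hf' x
    obtain ⟨U, V, a, b, h, u, hae, hbe, e, hu, -⟩ :=
      hasAtMor_of_locP isEtLocal_locallyQuasiFinite X.property Y.property f.hom hf' x
    have hP := hf' a b h hae hbe e
    haveI := hP.1
    haveI := hP.2
    exact ⟨U, V, a, b, h, u, hae, hbe, e, hu,
      (quasiFiniteAt_iff_fibreDimAt_eq_zero h.left u).1 (h.left.quasiFiniteAt u)⟩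
  · intro H
    refine locP_of_forall_hasAtMor isEtLocal_locallyQuasiFinite X.property Y.property f.hom
      (fun x => ?_)
    obtain ⟨U, V, a, b, h, u, hae, hbe, e, hu, hd⟩ := H x
    haveI : LocallyOfFiniteType h.left := hf a b h hae hbe e
    have hq := (quasiFiniteAt_iff_fibreDimAt_eq_zero h.left u).2 hd
    exact ⟨U, V, a, b, h, u, hae, hbe, e, hu, h.left.quasiFiniteLocus, hq,
      inferInstance, inferInstance⟩

end Groth.Agent.Lib.lead.QFRelDim
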