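import Mathlib
import Groth.Agent.Lib.lead.FibreDimRetro
import Groth.Agent.Lib.lead.QFRelDim
import Groth.Agent.Lib.Helper3.EtSrcLocal5

set_option autoImplicit false
set_option linter.style.haveILetI false
universe u
open CategoryTheory CategoryTheory.Limits AlgebraicGeometry Topology TopologicalSpace

namespace Groth.Agent.Lib.lead.QFConstr

open Groth.Agent.Lib.lead Groth.Agent.Lib.Helper18 Groth.Agent.Lib.Helper3

/-- the induced morphism on fibres over `s` -/
noncomputable abbrev fs {X Y S : Scheme.{u}} (f : X ⟶ Y) (g : Y ⟶ S) (s : S) :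
    pullback (f ≫ g) (S.fromSpecResidueField s) ⟶ pullback g (S.fromSpecResidueField s) :=
  pullback.lift (pullback.fst (f ≫ g) (S.fromSpecResidueField s) ≫ f)
    (pullback.snd (f ≫ g) (S.fromSpecResidueField s))
    ((Category.assoc _ _ _).trans pullback.condition)

theorem isPullback_fs {X Y S : Scheme.{u}} (f : X ⟶ Y) (g : Y ⟶ S) (s : S) :
    IsPullback (pullback.fst (f ≫ g) (S.fromSpecResidueField s)) (fs f g s) f
      (pullback.fst g (S.fromSpecResidueField s)) := by
  have big := (IsPullback.of_hasPullback (f ≫ g) (S.fromSpecResidueField s)).flip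
  have right := (IsPullback.of_hasPullback g (S.fromSpecResidueField s)).flip
  have e : fs f g s ≫ pullback.snd g (S.fromSpecResidueField s) =
      pullback.snd (f ≫ g) (S.fromSpecResidueField s) := pullback.lift_snd _ _ _
  rw [← e] at big
  exact (IsPullback.of_right big (pullback.lift_fst _ _ _) right).flip

theorem isLocallyConstructible_compl {X : Type*} [TopologicalSpace X] {s : Set X}
    (hs : IsLocallyConstructible s) : IsLocallyConstructible sᶜ := by
  intro x
  obtain ⟨U, hU, hUo, hc⟩ := hs x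
  refine ⟨U, hU, hUo, ?_⟩
  rw [Set.preimage_compl]; exact hc.compl

theorem fibreDimAt_nonneg {X Y : Scheme.{u}} (f : X ⟶ Y) (x : X) :
    0 ≤ FlatMor.fibreDimAt f x := by
  unfold FlatMor.fibreDimAt FlatMor.localDim
  haveI : Nonempty {U : TopologicalSpace.Opens ↥(f.fiber (f.base x)) // f.asFiber x ∈ U} :=
    ⟨⟨⊤, trivial⟩⟩
  refine le_ciInf fun U => ?_
  haveI : Nonempty ↥(U.1 : Set ↥(f.fiber (f.base x))) := ⟨⟨f.asFiber x, U.2⟩⟩
  haveI : Nonempty (TopologicalSpace.IrreducibleCloseds ↥(U.1 : Set ↥(f.fiber (f.base x)))) :=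
    ⟨⟨closure {⟨f.asFiber x, U.2⟩}, isIrreducible_singleton.closure, isClosed_closure⟩⟩
  exact Order.krullDim_nonneg

theorem locallyQuasiFinite_iff_forall_fibreDimAt {X Y : Scheme.{u}} (f : X ⟶ Y)
    [LocallyOfFiniteType f] :
    LocallyQuasiFinite f ↔ ∀ x : X, FlatMor.fibreDimAt f x ≤ 0 := by
  rw [← Scheme.Hom.quasiFiniteLocus_eq_top_iff]
  constructor
  · intro h x
    have : x ∈ f.quasiFiniteLocus := by rw [h]; trivial
    exact ((QFRelDim.quasiFiniteAt_iff_fibreDimAt_eq_zero f x).1 this).le
  · intro h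
    refine top_le_iff.mp fun x _ => ?_
    exact (QFRelDim.quasiFiniteAt_iff_fibreDimAt_eq_zero f x).2
      (le_antisymm (h x) (fibreDimAt_nonneg f x))

theorem S3445 {X Y S : Scheme.{u}} (f : X ⟶ Y) (g : Y ⟶ S)
    [LocallyOfFinitePresentation g] [QuasiCompact g] [QuasiSeparated g]
    [LocallyOfFinitePresentation (f ≫ g)] [QuasiCompact (f ≫ g)] [QuasiSeparated (f ≫ g)] :
    Topology.IsLocallyConstructible {s : S |
      LocallyQuasiFinite (pullback.lift (pullback.fst (f ≫ g) (S.fromSpecResidueField s) ≫ f) (pullback.snd (f ≫ g) (S.fromSpecResidueField s))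
          ((Category.assoc _ _ _).trans pullback.condition) :
        pullback (f ≫ g) (S.fromSpecResidueField s) ⟶ pullback g (S.fromSpecResidueField s))} := by
  haveI : LocallyOfFinitePresentation f :=
    locallyOfFinitePresentation_of_comp f g inferInstance inferInstance
  have hEo : IsOpen {x : X | FlatMor.fibreDimAt f x ≤ ((0 : ℕ) : WithBot ℕ∞)} :=
    Chev.isOpen_fibreDimAt_le f 0
  have hEr : IsRetrocompact {x : X | FlatMor.fibreDimAt f x ≤ ((0 : ℕ) : WithBot ℕ∞)} :=
    FibreDimRetro.S9355 f 0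
  have hEc := isLocallyConstructible_compl (hEr.isLocallyConstructible hEo)
  have him := isLocallyConstructible_compl ((f ≫ g).isLocallyConstructible_image hEc)
  convert him using 1
  ext s
  haveI : LocallyOfFiniteType (fs f g s) :=
    MorphismProperty.of_isPullback (P := @LocallyOfFiniteType) (isPullback_fs f g s) inferInstance
  change LocallyQuasiFinite (fs f g s) ↔
    s ∉ (f ≫ g) '' {x : X | FlatMor.fibreDimAt f x ≤ ((0 : ℕ) : WithBot ℕ∞)}ᶜ
  rw [locallyQuasiFinite_iff_forall_fibreDimAt]
  have key : ∀ x', FlatMor.fibreDimAt (fs f g s) x' =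
      FlatMor.fibreDimAt f (pullback.fst (f ≫ g) (S.fromSpecResidueField s) x') :=
    fun x' => FibreDimBCLocal.fibreDimAt_baseChange f _ _ _ (isPullback_fs f g s) x'
  constructor
  · rintro h ⟨x, hx, hxs⟩
    apply hx
    have : x ∈ Set.range ((f ≫ g).fiberι s) := by
      rw [(f ≫ g).range_fiberι]; exact hxs
    obtain ⟨x', rfl⟩ := this
    have h2 : FlatMor.fibreDimAt f (pullback.fst (f ≫ g) (S.fromSpecResidueField s) x') ≤ 0 :=
      (key x').symm.le.trans (h x')
    exact_mod_cast h2
  · intro h x'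
    by_contra hc
    apply h
    have hx : (f ≫ g) (pullback.fst (f ≫ g) (S.fromSpecResidueField s) x') = s := by
      have : pullback.fst (f ≫ g) (S.fromSpecResidueField s) x' ∈
          Set.range ((f ≫ g).fiberι s) := ⟨x', rfl⟩
      rw [(f ≫ g).range_fiberι] at this
      exact this
    refine ⟨_, ?_, hx⟩
    rw [key] at hc
    intro hc'
    apply hc
    exact_mod_cast hc'

end Groth.Agent.Lib.lead.QFConstr
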