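import Mathlib
import Groth.Agent.Lib.Helper18.Chev.Bridge
import Groth.Agent.Lib.Helper18.Chev.SchemeBound
import Groth.Agent.Lib.Helper24.FibreDim.Main3448
import Groth.Agent.Lib.lead.FibreDimFormula
import Groth.Agent.Lib.lead.FibreDimBCLocal
import Groth.Agent.Lib.Helper9.VCov4
import Groth.Prelude.Def_Flat

set_option autoImplicit false
set_option linter.style.haveILetI false
universe u
open CategoryTheory CategoryTheory.Limits AlgebraicGeometry Topology TopologicalSpace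

namespace Groth.Agent.Lib.lead.FlatGenDim

section Algebra

variable {W B : Type u} [CommRing W] [IsDomain W] [ValuationRing W] [CommRing B] [Algebra W B]

theorem exists_min_dvd {ι : Type*} (c : ι → W) (s : Finset ι) (hs : s.Nonempty) :
    ∃ m₀ ∈ s, ∀ m ∈ s, c m₀ ∣ c m := by
  classical
  induction hs using Finset.Nonempty.cons_induction with
  | singleton a => exact ⟨a, by simp, by simp⟩
  | cons a s ha hs ih =>
    obtain ⟨m₁, hm₁, h₁⟩ := ih
    rcases ValuationRing.dvd_total (c m₁) (c a) with h | h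
    · refine ⟨m₁, Finset.mem_cons.2 (Or.inr hm₁), fun m hm => ?_⟩
      rcases Finset.mem_cons.1 hm with rfl | hm
      · exact h
      · exact h₁ m hm
    · refine ⟨a, Finset.mem_cons_self _ _, fun m hm => ?_⟩
      rcases Finset.mem_cons.1 hm with rfl | hm
      · exact dvd_rfl
      · exact h.trans (h₁ m hm)

/-- a nonzero polynomial over a valuation ring is a nonzero constant times a polynomial with a
coefficient equal to `1`. -/
theorem exists_primitive {σ : Type*} (P : MvPolynomial σ W) (hP : P ≠ 0) :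
    ∃ (c : W) (P₀ : MvPolynomial σ W) (m₀ : σ →₀ ℕ), c ≠ 0 ∧ P = MvPolynomial.C c * P₀ ∧
      P₀.coeff m₀ = 1 := by
  classical
  -- choose a coefficient dividing all the others
  have hne : P.support.Nonempty := by
    rw [Finset.nonempty_iff_ne_empty, Ne, MvPolynomial.support_eq_empty]; exact hP
  obtain ⟨m₀, hm₀, hmin⟩ := exists_min_dvd (fun m => P.coeff m) P.support hne
  have hc : P.coeff m₀ ≠ 0 := MvPolynomial.mem_support_iff.1 hm₀
  have hdiv : ∀ m, P.coeff m₀ ∣ P.coeff m := by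
    intro m
    by_cases hm : m ∈ P.support
    · exact hmin m hm
    · rw [MvPolynomial.notMem_support_iff.1 hm]; exact dvd_zero _
  choose q hq using hdiv
  refine ⟨P.coeff m₀, ∑ m ∈ P.support, MvPolynomial.monomial m (q m), m₀, hc, ?_, ?_⟩
  · rw [Finset.mul_sum]
    conv_lhs => rw [P.as_sum]
    refine Finset.sum_congr rfl fun m _ => ?_
    rw [MvPolynomial.C_mul_monomial, ← hq m]
  · rw [MvPolynomial.coeff_sum]
    simp only [MvPolynomial.coeff_monomial]
    rw [Finset.sum_ite_eq' P.support m₀, if_pos hm₀]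
    have := hq m₀
    exact (mul_left_cancel₀ hc (by rw [mul_one]; exact this)).symm

/-- **Lifting algebraic independence to the generic fibre.** `B` a torsion-free algebra over the
valuation ring `W`, `𝔭` a prime of `B`, `p` a proper ideal of `W`, `t` a family of elements of `B`
such that a polynomial relation modulo `𝔭` has all its coefficients in `p`.  Then there is a
prime `𝔮 ≤ 𝔭` modulo which `t` satisfies no nontrivial polynomial relation over `W` at all. -/
theorem exists_prime_le_algIndep {ι : Type*} (htf : ∀ c : W, c ≠ 0 → ∀ b : B, c • b = 0 → b = 0)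
    (𝔭 : Ideal B) [𝔭.IsPrime] (p : Ideal W) (hp : p ≠ ⊤) (t : ι → B)
    (ht : ∀ P : MvPolynomial ι W, MvPolynomial.aeval t P ∈ 𝔭 → ∀ m, P.coeff m ∈ p) :
    ∃ 𝔮 : Ideal B, 𝔮.IsPrime ∧ 𝔮 ≤ 𝔭 ∧
      ∀ P : MvPolynomial ι W, MvPolynomial.aeval t P ∈ 𝔮 → P = 0 := by
  classical
  let N : Submonoid B :=
    { carrier := {b | ∃ u : B, u ∉ 𝔭 ∧ ∃ P : MvPolynomial ι W, P ≠ 0 ∧
        b = u * MvPolynomial.aeval t P}
      one_mem' := ⟨1, fun h => (Ideal.IsPrime.ne_top ‹_›) ((Ideal.eq_top_iff_one _).2 h), 1,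
        one_ne_zero, by simp⟩
      mul_mem' := by
        rintro _ _ ⟨u, hu, P, hP, rfl⟩ ⟨u', hu', P', hP', rfl⟩
        refine ⟨u * u', fun h => ?_, P * P', mul_ne_zero hP hP', ?_⟩
        · rcases Ideal.IsPrime.mem_or_mem ‹_› h with h | h
          · exact hu h
          · exact hu' h
        · rw [map_mul]; ring }
  have hN : ∀ b, b ∈ N ↔ ∃ u : B, u ∉ 𝔭 ∧ ∃ P : MvPolynomial ι W, P ≠ 0 ∧
      b = u * MvPolynomial.aeval t P := fun _ => Iff.rfl
  have h0 : (0 : B) ∉ N := by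
    rintro ⟨u, hu, P, hP, h⟩
    obtain ⟨c, P₀, m₀, hc, rfl, hm₀⟩ := exists_primitive P hP
    rw [map_mul, MvPolynomial.aeval_C, mul_left_comm, ← Algebra.smul_def] at h
    have h1 : u * MvPolynomial.aeval t P₀ = 0 := htf c hc _ h.symm
    have h2 : MvPolynomial.aeval t P₀ ∈ 𝔭 := by
      have : u * MvPolynomial.aeval t P₀ ∈ 𝔭 := by rw [h1]; exact 𝔭.zero_mem
      exact (Ideal.IsPrime.mem_or_mem ‹_› this).resolve_left hu
    have h3 := ht P₀ h2 m₀
    rw [hm₀] at h3
    exact hp ((Ideal.eq_top_iff_one _).2 h3)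
  have hdisj : Disjoint ((⊥ : Ideal B) : Set B) (N : Set B) := by
    rw [Set.disjoint_left]
    intro b hb hbN
    have : b = 0 := hb
    rw [this] at hbN
    exact h0 hbN
  obtain ⟨𝔮, h𝔮, -, hd⟩ := Ideal.exists_le_prime_disjoint (⊥ : Ideal B) N hdisj
  rw [Set.disjoint_left] at hd
  refine ⟨𝔮, h𝔮, fun b hb => ?_, fun P hP => ?_⟩
  · by_contra hb'
    exact hd hb ((hN b).2 ⟨b, hb', 1, one_ne_zero, by simp⟩)
  · by_contra hP'
    exact hd hP ((hN _).2 ⟨1, fun h => (Ideal.IsPrime.ne_top ‹_›) ((Ideal.eq_top_iff_one _).2 h),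
      P, hP', by simp⟩)

omit [IsDomain W] [ValuationRing W] in
theorem aeval_mk_map (p : Ideal W) (𝔭 : Ideal B) [𝔭.LiesOver p] {ι : Type*} (t : ι → B)
    (P : MvPolynomial ι W) :
    MvPolynomial.aeval (fun i => Ideal.Quotient.mk 𝔭 (t i))
      (MvPolynomial.map (Ideal.Quotient.mk p) P) = Ideal.Quotient.mk 𝔭 (MvPolynomial.aeval t P) := by
  induction P using MvPolynomial.induction_on with
  | C a =>
    rw [MvPolynomial.map_C, MvPolynomial.aeval_C, MvPolynomial.aeval_C,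
      Ideal.Quotient.algebraMap_mk_of_liesOver]
  | add P Q hP hQ => rw [map_add, map_add, map_add, map_add, hP, hQ]
  | mul_X P i hP =>
    rw [map_mul, map_mul, map_mul, map_mul, hP, MvPolynomial.map_X, MvPolynomial.aeval_X,
      MvPolynomial.aeval_X]

open Cardinal in
/-- **Lifting transcendence degree to the generic fibre** (ring form). -/
theorem exists_prime_le_trdeg [Module.Flat W B] (p : Ideal W) [p.IsPrime] (𝔭 : Ideal B) [𝔭.IsPrime]
    [𝔭.LiesOver p] (d : ℕ) (hd : Algebra.trdeg (W ⧸ p) (B ⧸ 𝔭) = d) :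
    ∃ (𝔮 : Ideal B) (_ : 𝔮.IsPrime) (_ : 𝔮.LiesOver (⊥ : Ideal W)), 𝔮 ≤ 𝔭 ∧
      (d : Cardinal) ≤ Algebra.trdeg (W ⧸ (⊥ : Ideal W)) (B ⧸ 𝔮) := by
  classical
  obtain ⟨s, hs⟩ := exists_isTranscendenceBasis (W ⧸ p) (B ⧸ 𝔭)
  have hcard : #s = d := by rw [hs.cardinalMk_eq_trdeg, hd]
  choose t ht using fun i : s => Ideal.Quotient.mk_surjective (I := 𝔭) i.1
  have hfun : (fun i => Ideal.Quotient.mk 𝔭 (t i)) = ((↑) : s → B ⧸ 𝔭) := funext ht
  have hrel : ∀ P : MvPolynomial s W, MvPolynomial.aeval t P ∈ 𝔭 → ∀ m, P.coeff m ∈ p := by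
    intro P hP m
    have h1 := aeval_mk_map p 𝔭 t P
    rw [Ideal.Quotient.eq_zero_iff_mem.2 hP, hfun] at h1
    have h2 := (algebraicIndependent_iff.1 hs.1) _ h1
    have h3 := congrArg (MvPolynomial.coeff m) h2
    rw [MvPolynomial.coeff_map, MvPolynomial.coeff_zero] at h3
    exact Ideal.Quotient.eq_zero_iff_mem.1 h3
  have htf : ∀ c : W, c ≠ 0 → ∀ b : B, c • b = 0 → b = 0 := by
    intro c hc b hb
    have := Module.Flat.isSMulRegular_of_nonZeroDivisors (M := B)
      (mem_nonZeroDivisors_of_ne_zero hc)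
    exact this (by show c • b = c • 0; rw [hb, smul_zero])
  obtain ⟨𝔮, h𝔮, hle, hind⟩ := exists_prime_le_algIndep htf 𝔭 p (Ideal.IsPrime.ne_top ‹_›) t hrel
  have hover : 𝔮.LiesOver (⊥ : Ideal W) := by
    constructor
    ext c
    rw [Ideal.mem_bot, Ideal.under_def, Ideal.mem_comap]
    constructor
    · rintro rfl; rw [map_zero]; exact 𝔮.zero_mem
    · intro hc
      have h1 := hind (MvPolynomial.C c) (by rw [MvPolynomial.aeval_C]; exact hc)
      exact MvPolynomial.C_eq_zero.1 h1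
  refine ⟨𝔮, h𝔮, hover, hle, ?_⟩
  have hai : AlgebraicIndependent (W ⧸ (⊥ : Ideal W)) (fun i => Ideal.Quotient.mk 𝔮 (t i)) := by
    rw [algebraicIndependent_iff]
    intro Pbar hPbar
    obtain ⟨P, rfl⟩ := MvPolynomial.map_surjective (Ideal.Quotient.mk (⊥ : Ideal W))
      Ideal.Quotient.mk_surjective Pbar
    rw [aeval_mk_map, Ideal.Quotient.eq_zero_iff_mem] at hPbar
    rw [hind P hPbar, map_zero]
  have hnt : Nontrivial (W ⧸ (⊥ : Ideal W)) := Ideal.Quotient.nontrivial_iff.2 bot_ne_top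
  have := hai.cardinalMk_le_trdeg
  rwa [hcard] at this

end Algebra

section Sch

open Groth.Agent.Lib.Helper24 Groth.Agent.Lib.Helper18 Groth.Agent.Lib.lead

variable {X Y : Scheme.{u}}

/-- a generization inside the fibre where the residue transcendence degree is the whole local
dimension of the fibre. -/
theorem exists_fibre_gen_tr (f : X ⟶ Y) [LocallyOfFiniteType f] (x : X) :
    ∃ ξ : X, ξ ⤳ x ∧ f ξ = f x ∧
      FlatMor.fibreDimAt f x ≤ ((FibreDim.tr f ξ : ℕ) : WithBot ℕ∞) := by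
  obtain ⟨b, hb⟩ := FibreDimFormula.exists_nat_G f x
  obtain ⟨p, hp0, hpl⟩ := Order.exists_series_of_coheight_eq_coe
    (⟨x, rfl⟩ : ↥(f ⁻¹' {f x})) (n := b) hb
  let c : Fin (b + 1) → X := fun i => (p (Fin.cast (by rw [hpl]) i)).1
  have hc : StrictMono c := by
    intro i j hij
    have : p (Fin.cast (by rw [hpl]) i) < p (Fin.cast (by rw [hpl]) j) :=
      p.strictMono (by simpa using hij)
    exact this
  have hc0 : c 0 = x := by
    have : p (Fin.cast (by rw [hpl]) (0 : Fin (b + 1))) = p.head := by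
      congr 1
    show (p (Fin.cast (by rw [hpl]) (0 : Fin (b + 1)))).1 = x
    rw [this, hp0]
  have hcf : ∀ i, f (c i) = f x := fun i => (p (Fin.cast (by rw [hpl]) i)).2
  have h1 := FibreDim.tr_add_le_of_strictMono f c hc
    (fun i => (hcf i).trans (by rw [hc0])) (Fin.last b)
  rw [hc0, Fin.val_last] at h1
  refine ⟨c (Fin.last b), ?_, hcf _, ?_⟩
  · have : c 0 ≤ c (Fin.last b) := hc.monotone (Fin.zero_le _)
    rw [hc0] at this
    exact this
  · rw [FibreDimFormula.fibreDimAt_eq f x b hb]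
    exact_mod_cast h1

/-- `tr_eq_trdeg` with both primes as variables. -/
theorem tr_eq_trdeg' {U V : Scheme.{u}} [IsAffine U] [IsAffine V] (g : U ⟶ V)
    [LocallyOfFiniteType g] (x : U)
    [Algebra Γ(V, ⊤) Γ(U, ⊤)] (halg : algebraMap Γ(V, ⊤) Γ(U, ⊤) = g.appTop.hom)
    (p : Ideal Γ(V, ⊤)) (hp : p = (V.isoSpec.hom (g x)).asIdeal)
    (P : Ideal Γ(U, ⊤)) (hP : P = (U.isoSpec.hom x).asIdeal) [P.LiesOver p] :
    Algebra.trdeg (Γ(V, ⊤) ⧸ p) (Γ(U, ⊤) ⧸ P) = FibreDim.tr g x := by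
  subst hP
  exact Chev.tr_eq_trdeg g x halg p hp

/-- **Affine case**: over a valuation ring, every point of a flat scheme locally of finite type
has a generization over the generic point where the fibre dimension does not drop. -/
theorem exists_gen_affine {U V : Scheme.{u}} [IsAffine U] [IsAffine V] (g : U ⟶ V) [Flat g]
    [LocallyOfFiniteType g] [IsDomain Γ(V, ⊤)] [ValuationRing Γ(V, ⊤)] (x : U) :
    ∃ x'' : U, x'' ⤳ x ∧ (∀ z : V, g x'' ⤳ z) ∧
      FlatMor.fibreDimAt g x ≤ FlatMor.fibreDimAt g x'' := by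
  obtain ⟨ξ, hξx, hfξ, hle⟩ := exists_fibre_gen_tr g x
  letI : Algebra Γ(V, ⊤) Γ(U, ⊤) := g.appTop.hom.toAlgebra
  have halg : algebraMap Γ(V, ⊤) Γ(U, ⊤) = g.appTop.hom := rfl
  haveI : Module.Flat Γ(V, ⊤) Γ(U, ⊤) := g.flat_appTop
  have hcomap : ∀ z : U, Ideal.comap (algebraMap Γ(V, ⊤) Γ(U, ⊤)) (U.isoSpec.hom z).asIdeal =
      (V.isoSpec.hom (g z)).asIdeal := by
    intro z
    rw [halg]
    exact congrArg PrimeSpectrum.asIdeal (Chev.comap_isoSpec g z)
  haveI : (U.isoSpec.hom ξ).asIdeal.LiesOver (V.isoSpec.hom (g ξ)).asIdeal :=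
    ⟨(hcomap ξ).symm⟩
  have h1 := tr_eq_trdeg' g ξ halg (V.isoSpec.hom (g ξ)).asIdeal rfl
    (U.isoSpec.hom ξ).asIdeal rfl
  haveI : (V.isoSpec.hom (g ξ)).asIdeal.IsPrime := (V.isoSpec.hom (g ξ)).isPrime
  haveI : (U.isoSpec.hom ξ).asIdeal.IsPrime := (U.isoSpec.hom ξ).isPrime
  obtain ⟨𝔮, h𝔮, hover, hle', hd⟩ := exists_prime_le_trdeg (V.isoSpec.hom (g ξ)).asIdeal
    (U.isoSpec.hom ξ).asIdeal (FibreDim.tr g ξ) h1
  obtain ⟨x'', hx''⟩ : ∃ x'' : U, U.isoSpec.hom x'' = ⟨𝔮, h𝔮⟩ :=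
    (Scheme.homeoOfIso U.isoSpec).surjective _
  have h𝔮eq : 𝔮 = (U.isoSpec.hom x'').asIdeal := by rw [hx'']
  have hbot : (⊥ : Ideal Γ(V, ⊤)) = (V.isoSpec.hom (g x'')).asIdeal := by
    rw [← hcomap x'', ← h𝔮eq]
    exact hover.over
  have h2 := tr_eq_trdeg' g x'' halg ⊥ hbot 𝔮 h𝔮eq
  rw [h2] at hd
  have hd' : FibreDim.tr g ξ ≤ FibreDim.tr g x'' := by exact_mod_cast hd
  refine ⟨x'', ?_, ?_, ?_⟩
  · refine Specializes.trans ?_ hξx
    rw [← (Scheme.homeoOfIso U.isoSpec).isInducing.specializes_iff]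
    refine (PrimeSpectrum.le_iff_specializes (U.isoSpec.hom x'' : PrimeSpectrum Γ(U, ⊤))
      (U.isoSpec.hom ξ)).1 ?_
    show (U.isoSpec.hom x'').asIdeal ≤ (U.isoSpec.hom ξ).asIdeal
    rw [← h𝔮eq]
    exact hle'
  · intro z
    rw [← (Scheme.homeoOfIso V.isoSpec).isInducing.specializes_iff]
    refine (PrimeSpectrum.le_iff_specializes (V.isoSpec.hom (g x'') : PrimeSpectrum Γ(V, ⊤))
      (V.isoSpec.hom z)).1 ?_
    show (V.isoSpec.hom (g x'')).asIdeal ≤ (V.isoSpec.hom z).asIdeal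
    rw [← hbot]
    exact bot_le
  · refine hle.trans ?_
    rw [FibreDim.fibreDimAt_eq_tr_add_G g x'']
    have : ((FibreDim.tr g ξ : ℕ) : ℕ∞) ≤ (FibreDim.tr g x'' : ℕ∞) + FibreOrder.G g x'' :=
      le_trans (by exact_mod_cast hd') le_self_add
    exact_mod_cast this

open Groth.Agent.Lib.Helper9 in
/-- **Over a valuation ring**: every point of a flat scheme locally of finite type has a
generization over the generic point where the fibre dimension does not drop. -/
theorem exists_gen_over_valuationRing {X' : Scheme.{u}} (W : CommRingCat.{u}) [IsDomain W]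
    [ValuationRing W] (g : X' ⟶ Spec W) [Flat g] [LocallyOfFiniteType g] (x' : X') :
    ∃ x'' : X', x'' ⤳ x' ∧ g x'' = VCov.genPt W ∧
      FlatMor.fibreDimAt g x' ≤ FlatMor.fibreDimAt g x'' := by
  obtain ⟨-, -, U, hU, -, hxU⟩ := FibreDim.exists_chart g x'
  haveI : IsAffine (U : Scheme) := hU
  let e : Γ(Spec W, ⊤) ≃+* W := (Scheme.ΓSpecIso W).commRingCatIsoToRingEquiv
  haveI : IsDomain Γ(Spec W, ⊤) := e.toMulEquiv.isDomain W
  haveI : ValuationRing Γ(Spec W, ⊤) := by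
    rw [ValuationRing.iff_dvd_total]
    refine ⟨fun a b => ?_⟩
    have := ValuationRing.dvd_total (e a) (e b)
    rwa [map_dvd_iff, map_dvd_iff] at this
  let k : (U : Scheme) ⟶ Spec W := U.ι ≫ g
  obtain ⟨y'', hy1, hy2, hy3⟩ := exists_gen_affine k ⟨x', hxU⟩
  have hsq := fun w => Chev.fibreDimAt_eq_of_openImmersion_square k (𝟙 _) U.ι g
    (by rw [Category.comp_id]) w
  refine ⟨U.ι y'', ?_, ?_, ?_⟩
  · exact hy1.map U.ι.continuous
  · have h1 : k y'' = g (U.ι y'') := rfl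
    rw [← h1]
    exact (Specializes.antisymm (hy2 _) (VCov.genPt_specializes W _)).eq
  · have h1 := hsq y''
    have h2 := hsq ⟨x', hxU⟩
    have h3 : U.ι ⟨x', hxU⟩ = x' := rfl
    rw [h3] at h2
    rw [h1, h2]
    exact hy3

open Groth.Agent.Lib.Helper9 in
/-- **Generizations lift along flat morphisms without dropping the fibre dimension.** -/
theorem exists_gen_fibreDimAt_le {X S : Scheme.{u}} (f : X ⟶ S) [Flat f] [LocallyOfFiniteType f]
    (x : X) (s' : S) (hs : s' ⤳ f x) :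
    ∃ x'' : X, x'' ⤳ x ∧ f x'' = s' ∧ FlatMor.fibreDimAt f x ≤ FlatMor.fibreDimAt f x'' := by
  obtain ⟨W, hD, hV, k, hk1, hk2⟩ := VCov.exists_valuationRing_of_specializes hs
  obtain ⟨x', hx'1, hx'2⟩ := Scheme.Pullback.exists_preimage_pullback (f := f) (g := k) x
    (VCov.clPt W) (by rw [hk2])
  obtain ⟨x'', h1, h2, h3⟩ := exists_gen_over_valuationRing W (pullback.snd f k) x'
  have hbc := fun z => FibreDimBCLocal.fibreDimAt_baseChange f k (pullback.fst f k)
    (pullback.snd f k) (IsPullback.of_hasPullback f k) z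
  refine ⟨pullback.fst f k x'', ?_, ?_, ?_⟩
  · rw [← hx'1]
    exact h1.map (pullback.fst f k).continuous
  · rw [← Scheme.Hom.comp_apply, pullback.condition, Scheme.Hom.comp_apply, h2, hk1]
  · rw [← hbc x'', ← hx'1, ← hbc x']
    exact h3

end Sch

end Groth.Agent.Lib.lead.FlatGenDim
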