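import Mathlib
import Groth.Agent.Lib.lead.FlatGenDim
import Groth.Agent.Lib.lead.FibreDimRetro
import Groth.Agent.Lib.lead.FibreDimTarget
import Groth.Agent.Lib.lead.QFConstr
import Groth.Agent.Lib.Helper18.Chev.Main
import Groth.Prelude.Def_Flat

set_option autoImplicit false
set_option linter.style.haveILetI false
universe u
open CategoryTheory CategoryTheory.Limits AlgebraicGeometry Topology

namespace Groth.Agent.Lib.lead.FlatFibreDimOpen

open Groth.Agent.Lib.Helper18 Groth.Agent.Lib.lead

/-- A locally constructible subset of a scheme which is stable under generization is open. -/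
theorem isOpen_of_isLocallyConstructible_of_stableUnderGeneralization {S : Scheme.{u}} {T : Set S}
    (h1 : IsLocallyConstructible T) (h2 : StableUnderGeneralization T) : IsOpen T := by
  rw [isOpen_iff_forall_mem_open]
  intro s hs
  obtain ⟨V, hV, hsV, -⟩ := exists_isAffineOpen_mem_and_subset (x := s) (U := ⊤) trivial
  have hc : IsConstructible (hV.fromSpec ⁻¹' T) :=
    (h1.preimage_of_isOpenEmbedding hV.fromSpec.isOpenEmbedding).isConstructible
  have hg : StableUnderGeneralization (hV.fromSpec ⁻¹' T) := by
    intro a b hab ha
    exact h2 (hab.map hV.fromSpec.continuous) ha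
  have ho : IsOpen (hV.fromSpec ⁻¹' T) :=
    PrimeSpectrum.isOpen_of_stableUnderGeneralization_of_isConstructible hg hc
  refine ⟨hV.fromSpec '' (hV.fromSpec ⁻¹' T), ?_, hV.fromSpec.isOpenEmbedding.isOpenMap _ ho, ?_⟩
  · rintro _ ⟨z, hz, rfl⟩
    exact hz
  · refine ⟨hV.primeIdealOf ⟨s, hsV⟩, ?_, hV.fromSpec_primeIdealOf ⟨s, hsV⟩⟩
    show hV.fromSpec (hV.primeIdealOf ⟨s, hsV⟩) ∈ T
    rw [hV.fromSpec_primeIdealOf ⟨s, hsV⟩]
    exact hs

/-- the locus on the target where some fibre point has fibre dimension `≥ n` is open
(flat, finitely presented). -/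
theorem isOpen_image_le_fibreDimAt {X S : Scheme.{u}} (f : X ⟶ S) [Flat f]
    [LocallyOfFinitePresentation f] [QuasiCompact f] (n : ℕ) :
    IsOpen (f '' {x : X | (n : WithBot ℕ∞) ≤ FlatMor.fibreDimAt f x}) := by
  apply isOpen_of_isLocallyConstructible_of_stableUnderGeneralization
  · apply f.isLocallyConstructible_image
    rcases Nat.eq_zero_or_pos n with rfl | hn
    · convert IsLocallyConstructible.univ
      ext x
      simp only [Set.mem_ofPred_eq, Set.mem_univ, iff_true]
      exact QFConstr.fibreDimAt_nonneg f x
    · have h1 := Chev.isOpen_fibreDimAt_le f (n - 1)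
      have h2 := FibreDimRetro.S9355 f (n - 1)
      have h3 := QFConstr.isLocallyConstructible_compl (h2.isLocallyConstructible h1)
      convert h3 using 1
      ext x
      obtain ⟨d, hd⟩ := Chev.exists_nat_fibreDimAt f x
      simp only [Set.mem_ofPred_eq, Set.mem_compl_iff, hd]
      constructor
      · intro h h'
        have h4 : n ≤ d := by exact_mod_cast h
        have h5 : d ≤ n - 1 := by exact_mod_cast h'
        omega
      · intro h
        by_contra h'
        apply h
        have h4 : ¬ n ≤ d := fun h4 => h' (by exact_mod_cast h4)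
        have h5 : d ≤ n - 1 := by omega
        exact_mod_cast h5
  · rintro _ s' hs ⟨x, hx, rfl⟩
    obtain ⟨x'', h1, h2, h3⟩ := FlatGenDim.exists_gen_fibreDimAt_le f x s' hs
    exact ⟨x'', le_trans hx h3, h2⟩

theorem S0404 {X S : Scheme.{u}} (f : X ⟶ S) [Flat f] [LocallyOfFinitePresentation f]
    [QuasiCompact f] [QuasiSeparated f] (c : WithBot ℕ∞) :
    IsOpen {s : S | c < topologicalKrullDim (f.fiber s)} := by
  induction c with
  | bot =>
    convert f.isOpenMap.isOpen_range using 1
    ext s
    simp only [Set.mem_ofPred_eq, Set.mem_range]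
    rw [bot_lt_iff_ne_bot, ne_eq, topologicalKrullDim, Order.krullDim_eq_bot_iff, not_isEmpty_iff]
    constructor
    · rintro ⟨Z⟩
      obtain ⟨w, -⟩ := Z.isIrreducible.nonempty
      refine ⟨f.fiberι s w, ?_⟩
      have : f.fiberι s w ∈ Set.range (f.fiberι s) := ⟨w, rfl⟩
      rw [f.range_fiberι] at this
      exact this
    · rintro ⟨x, hx⟩
      obtain ⟨z', -⟩ := Groth.Agent.Lib.Helper24.FibreDim.exists_fibre_point f x s hx
      exact ⟨⟨closure {z'}, isIrreducible_singleton.closure, isClosed_closure⟩⟩
  | coe c =>
    induction c with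
    | top =>
      convert isOpen_empty
      ext s
      simp only [Set.mem_ofPred_eq, Set.mem_empty_iff_false, iff_false, not_lt]
      exact le_top
    | coe n =>
      convert isOpen_image_le_fibreDimAt f (n + 1) using 1
      ext s
      simp only [Set.mem_ofPred_eq, Set.mem_image]
      have key : ∀ d : WithBot ℕ∞, ((n : ℕ∞) : WithBot ℕ∞) < d ↔ ((n + 1 : ℕ) : WithBot ℕ∞) ≤ d := by
        intro d
        induction d with
        | bot => simp
        | coe d =>
          induction d with
          | top =>
            constructor
            · intro _; exact le_top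
            · intro _; exact_mod_cast ENat.natCast_lt_top n
          | coe m =>
            constructor
            · intro h
              have : n < m := by exact_mod_cast h
              exact_mod_cast this
            · intro h
              have : n + 1 ≤ m := by exact_mod_cast h
              have : n < m := this
              exact_mod_cast this
      rw [key, FibreDimTarget.le_dim_fibre_iff]
      constructor
      · rintro ⟨x, hx, h⟩
        exact ⟨x, h, hx⟩
      · rintro ⟨x, h, hx⟩
        exact ⟨x, hx, h⟩


end Groth.Agent.Lib.lead.FlatFibreDimOpen
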