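import Mathlib
import Groth.Agent.Lib.lead.GenFiniteSep

set_option autoImplicit false
universe u
open CategoryTheory CategoryTheory.Limits AlgebraicGeometry Topology

namespace Groth.Agent.Lib.lead.FibreMaxAvoid

open Groth.Agent.Lib.Helper7

/-- Given a non-maximal point `x` of its fibre, there is an affine neighbourhood and a function
vanishing at `x` but at no maximal point of the fibre (prime avoidance; the base is locally
Noetherian so that the fibre has finitely many maximal points in an affine open). -/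
theorem main {X Y : Scheme.{u}} [IsLocallyNoetherian Y] (f : X ⟶ Y) [LocallyOfFiniteType f] (x : X)
    (hx : ∃ x' : X, f.base x' = f.base x ∧ x' ≠ x ∧ x ∈ closure ({x'} : Set X)) :
    ∃ U : X.Opens, IsAffineOpen U ∧ x ∈ U ∧ ∃ g : Γ(X, U), x ∉ X.basicOpen g ∧
      ∀ z : X, f.base z = f.base x →
        (∀ z' : X, f.base z' = f.base x → z ∈ closure ({z'} : Set X) → z' = z) →
        z ∈ U → z ∈ X.basicOpen g := by
  classical
  obtain ⟨V, hV, hfxV⟩ : ∃ V : Y.Opens, IsAffineOpen V ∧ f x ∈ V := by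
    obtain ⟨_, ⟨V, hV : IsAffineOpen V, rfl⟩, hfxV, -⟩ :=
      Y.isBasis_affineOpens.exists_subset_of_mem_open (Set.mem_univ (f x)) isOpen_univ
    exact ⟨V, hV, hfxV⟩
  obtain ⟨U, hU, hxU, hUV⟩ : ∃ U : X.Opens, IsAffineOpen U ∧ x ∈ U ∧ U ≤ f ⁻¹ᵁ V := by
    obtain ⟨_, ⟨U, hU : IsAffineOpen U, rfl⟩, hxU, hUV⟩ :=
      X.isBasis_affineOpens.exists_subset_of_mem_open (show x ∈ (f ⁻¹ᵁ V : Set X) from hfxV)
        (f ⁻¹ᵁ V).isOpen
    exact ⟨U, hU, hxU, hUV⟩
  let φ := (f.appLE V U hUV).hom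
  haveI : IsNoetherianRing Γ(Y, V) := IsLocallyNoetherian.component_noetherian ⟨V, hV⟩
  have hft : φ.FiniteType := f.finiteType_appLE hV hU hUV
  haveI : IsNoetherianRing Γ(X, U) := by
    algebraize [φ]
    exact Algebra.FiniteType.isNoetherianRing Γ(Y, V) Γ(X, U)
  let p : Ideal Γ(Y, V) := (hV.primeIdealOf ⟨f x, hfxV⟩).asIdeal
  let px : Ideal Γ(X, U) := (hU.primeIdealOf ⟨x, hxU⟩).asIdeal
  have hcomap : ∀ z : U, (hV.primeIdealOf ⟨f z.1, hUV z.2⟩).asIdeal =
      (hU.primeIdealOf z).asIdeal.comap φ := fun z => GenFiniteSep.primeIdealOf_map f hV hU hUV z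
  let T : Set (Ideal Γ(X, U)) := {q | q ∈ (p.map φ).minimalPrimes ∧ ¬ px ≤ q}
  have hTfin : T.Finite := (Ideal.finite_minimalPrimes_of_isNoetherianRing _ (p.map φ)).subset
    (fun q hq => hq.1)
  -- prime avoidance
  have havoid : ¬ ((px : Set Γ(X, U)) ⊆
      ⋃ q ∈ (↑hTfin.toFinset : Set (Ideal Γ(X, U))), (q : Set Γ(X, U))) := by
    intro hsub
    have hprime : ∀ q ∈ hTfin.toFinset, q ≠ (⊤ : Ideal Γ(X, U)) → q ≠ (⊤ : Ideal Γ(X, U)) →
        q.IsPrime := by
      intro q hq _ _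
      rw [Set.Finite.mem_toFinset] at hq
      exact hq.1.1.1
    obtain ⟨q, hq, hle⟩ := (Ideal.subset_union_prime (s := hTfin.toFinset) (f := fun q => q)
      ⊤ ⊤ hprime).1 hsub
    rw [Set.Finite.mem_toFinset] at hq
    exact hq.2 hle
  rw [Set.not_subset] at havoid
  obtain ⟨g, hgpx, hgT⟩ := havoid
  refine ⟨U, hU, hxU, g, ?_, ?_⟩
  · have := (AffPts.mem_primeIdealOf_iff hU ⟨x, hxU⟩ g).1 hgpx
    exact this
  · intro z hfz hmax hzU
    by_contra hzg
    have hgz : g ∈ (hU.primeIdealOf ⟨z, hzU⟩).asIdeal :=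
      (AffPts.mem_primeIdealOf_iff hU ⟨z, hzU⟩ g).2 hzg
    apply hgT
    simp only [Set.mem_iUnion, Finset.mem_coe, Set.Finite.mem_toFinset]
    refine ⟨(hU.primeIdealOf ⟨z, hzU⟩).asIdeal, ⟨?_, ?_⟩, hgz⟩
    · -- minimal over `p.map φ`
      have hzp : (hU.primeIdealOf ⟨z, hzU⟩).asIdeal.comap φ = p := by
        rw [← hcomap ⟨z, hzU⟩]
        show (hV.primeIdealOf ⟨f z, _⟩).asIdeal = (hV.primeIdealOf ⟨f x, hfxV⟩).asIdeal
        congr 2
        exact Subtype.ext hfz
      refine ⟨⟨(hU.primeIdealOf ⟨z, hzU⟩).isPrime, Ideal.map_le_iff_le_comap.2 hzp.ge⟩, ?_⟩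
      rintro q' ⟨hq'prime, hq'le⟩ hq'z
      obtain ⟨z', hz'⟩ := AffPts.primeIdealOf_surjective hU ⟨q', hq'prime⟩
      have hq'eq : (hU.primeIdealOf z').asIdeal = q' := congrArg PrimeSpectrum.asIdeal hz'
      have hcz' : (hU.primeIdealOf z').asIdeal.comap φ = p := by
        apply le_antisymm
        · rw [← hzp, hq'eq]
          exact Ideal.comap_mono hq'z
        · rw [hq'eq]
          exact Ideal.map_le_iff_le_comap.1 hq'le
      have hfz' : f z'.1 = f x := by
        have h1 : hV.primeIdealOf ⟨f z'.1, hUV z'.2⟩ = hV.primeIdealOf ⟨f x, hfxV⟩ := by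
          apply PrimeSpectrum.ext
          rw [hcomap z', hcz']
        exact congrArg Subtype.val (AffPts.primeIdealOf_injective hV h1)
      have hsp : (z'.1 : X) ⤳ z := by
        have : hU.primeIdealOf z' ≤ hU.primeIdealOf ⟨z, hzU⟩ := by
          show (hU.primeIdealOf z').asIdeal ≤ _
          rw [hq'eq]
          exact hq'z
        exact (AffPts.primeIdealOf_le_iff hU z' ⟨z, hzU⟩).1 this
      have hz'z : z'.1 = z := hmax z'.1 hfz' hsp.mem_closure
      have : z' = ⟨z, hzU⟩ := Subtype.ext hz'z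
      rw [← hq'eq, this]
    · -- `px ≤ q_z` is impossible
      intro hle
      have hsp : x ⤳ z := (AffPts.primeIdealOf_le_iff hU ⟨x, hxU⟩ ⟨z, hzU⟩).1 hle
      have hxz : x = z := hmax x rfl hsp.mem_closure
      obtain ⟨x', hfx', hne, hcl⟩ := hx
      apply hne
      have := hmax x' (hfx') (by rw [← hxz]; exact hcl)
      rw [this, hxz]


end Groth.Agent.Lib.lead.FibreMaxAvoid
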