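import Mathlib

set_option autoImplicit false
universe u
open CategoryTheory CategoryTheory.Limits AlgebraicGeometry MorphismProperty

namespace Groth.Agent.Lib.lead.LqfDescent

theorem discreteTopology_of_isPullback {F' F K' K : Scheme.{u}} (φ : F' ⟶ F) (t' : F' ⟶ K')
    (t : F ⟶ K) (e : K' ⟶ K) (sq : IsPullback φ t' t e) [UniversallyOpen e] [Surjective e]
    [DiscreteTopology F'] : DiscreteTopology F := by
  haveI : UniversallyOpen φ := MorphismProperty.of_isPullback sq.flip inferInstance
  haveI : Surjective φ := MorphismProperty.of_isPullback sq.flip inferInstance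
  rw [discreteTopology_iff_forall_isOpen]
  intro s
  have := φ.isOpenMap (φ ⁻¹' s) (isOpen_discrete _)
  rwa [Set.image_preimage_eq _ φ.surjective] at this

/-- Discreteness of the fibres descends along a surjective base change. -/
theorem discreteTopology_fiber_of_isPullback {A X Y Z : Scheme.{u}} {fst : A ⟶ X} {snd : A ⟶ Y}
    {f : X ⟶ Z} {g : Y ⟶ Z} (sq : IsPullback fst snd f g) (x : X)
    [DiscreteTopology (fst.fiber x)] : DiscreteTopology (g.fiber (f x)) := by
  have sqF := isPullback_fiberToSpecResidueField_of_isPullback sq.flip x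
  haveI : Surjective (Spec.map (f.residueFieldMap x)) :=
    ⟨fun z => ⟨IsLocalRing.closedPoint _, Subsingleton.elim _ _⟩⟩
  haveI : DiscreteTopology ↥(pullback fst (X.fromSpecResidueField x)) :=
    ‹DiscreteTopology (fst.fiber x)›
  exact discreteTopology_of_isPullback _ _ _ _ sqF


theorem locallyQuasiFinite_of_isPullback_of_surjective {A X Y Z : Scheme.{u}} {fst : A ⟶ X}
    {snd : A ⟶ Y} {f : X ⟶ Z} {g : Y ⟶ Z} (sq : IsPullback fst snd f g) [Surjective f]
    [LocallyQuasiFinite fst] [LocallyOfFiniteType g] : LocallyQuasiFinite g := by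
  rw [← Scheme.Hom.quasiFiniteLocus_eq_top_iff]
  refine top_le_iff.mp fun y _ => ?_
  change g.QuasiFiniteAt y
  rw [Scheme.Hom.quasiFiniteAt_iff_isOpen_singleton_asFiber]
  obtain ⟨x, hx⟩ := f.surjective (g y)
  haveI : DiscreteTopology (fst.fiber x) := inferInstance
  have h1 := discreteTopology_fiber_of_isPullback sq x
  haveI : DiscreteTopology (g.fiber (g y)) := hx ▸ h1
  exact isOpen_discrete _

instance : DescendsAlong ((@LocallyQuasiFinite : MorphismProperty Scheme.{u}) ⊓ @LocallyOfFiniteType)
    (@Surjective ⊓ @Flat ⊓ @QuasiCompact) where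
  of_isPullback {A X Y Z fst snd f g} sq hf hfst := by
    have hlft : LocallyOfFiniteType g :=
      of_isPullback_of_descendsAlong (P := @LocallyOfFiniteType)
        (Q := @Surjective ⊓ @Flat ⊓ @QuasiCompact) sq hf hfst.2
    haveI : Surjective f := hf.1.1
    haveI : LocallyQuasiFinite fst := hfst.1
    exact ⟨locallyQuasiFinite_of_isPullback_of_surjective sq, hlft⟩

end Groth.Agent.Lib.lead.LqfDescent
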