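import Mathlib
import Groth.Agent.Lib.Helper24.LocalDim.Scheme

set_option autoImplicit false
universe u
open CategoryTheory CategoryTheory.Limits AlgebraicGeometry

namespace Groth.Agent.Lib.lead.ClosedLocalDim

open Groth.Agent.Lib.Helper7 Groth.Agent.Lib.Helper24

attribute [local instance] Curv2.stalkAlgebra Curv2.resAlgebra

/-- The prime of a closed point in an affine open is maximal. -/
theorem isMaximal_primeIdealOf {X : Scheme.{u}} {U : X.Opens} (hU : IsAffineOpen U) (x : U)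
    (hx : IsClosed ({(x : X)} : Set X)) : (hU.primeIdealOf x).asIdeal.IsMaximal := by
  rw [← PrimeSpectrum.isMax_iff]
  intro Q hQ
  obtain ⟨z, rfl⟩ := AffPts.primeIdealOf_surjective hU Q
  have h1 : (x : X) ⤳ (z : X) := (AffPts.primeIdealOf_le_iff hU x z).1 hQ
  have h2 : (z : X) ∈ closure ({(x : X)} : Set X) := specializes_iff_mem_closure.1 h1
  rw [hx.closure_eq] at h2
  have : z = x := Subtype.ext h2
  rw [this]

theorem main (k : Type u) [Field k] (X : Scheme.{u}) [X.Over (Spec (CommRingCat.of k))]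
    [LocallyOfFiniteType (X ↘ (Spec (CommRingCat.of k)))] (x : X) (hx : IsClosed ({x} : Set X)) :
    FlatMor.localDim X x = ringKrullDim (X.presheaf.stalk x) := by
  obtain ⟨U, hU, hxU, -⟩ :=
    exists_isAffineOpen_mem_and_subset (X := X) (x := x) (U := ⊤) (by simp)
  letI algA : Algebra k Γ(X, U) := (ResTrdeg.kToΓ k X U).toAlgebra
  haveI ftA : Algebra.FiniteType k Γ(X, U) := ResTrdeg.finiteType_kToΓ k X hU
  haveI : IsNoetherianRing Γ(X, U) := Algebra.FiniteType.isNoetherianRing k Γ(X, U)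
  obtain ⟨n, hn1, hn2, -⟩ := ResTrdeg.exists_nat_trdeg_residueField k X hU ⟨x, hxU⟩
  haveI hmax : (hU.primeIdealOf ⟨x, hxU⟩).asIdeal.IsMaximal :=
    isMaximal_primeIdealOf hU ⟨x, hxU⟩ hx
  have hn0 : n = 0 := by
    letI := Ideal.Quotient.field (hU.primeIdealOf ⟨x, hxU⟩).asIdeal
    rw [ringKrullDim_eq_zero_of_field] at hn2
    exact_mod_cast hn2.symm
  subst hn0
  have hst := CodimPre.stalk_dim_eq_height hU x hxU
  have hfin : (hU.primeIdealOf ⟨x, hxU⟩).asIdeal.height ≠ ⊤ :=
    Ideal.height_ne_top hmax.ne_top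
  obtain ⟨b, hb⟩ := ENat.ne_top_iff_exists.1 hfin
  have hb' : ringKrullDim (X.presheaf.stalk x) = (b : ℕ) := by
    rw [hst, ← hb]; rfl
  rw [LocalDim.localDim_scheme k X x 0 b (by exact_mod_cast hn1) hb', hb']
  simp

end Groth.Agent.Lib.lead.ClosedLocalDim

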