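import Mathlib
import Groth.Agent.Lib.lead.FibreDimBCLocal
import Groth.Agent.Lib.lead.ClosedLocalDim
import Groth.Agent.Lib.lead.StalkDimIneq
import Groth.Agent.Lib.lead.FibreOrder

set_option autoImplicit false
set_option linter.style.haveILetI false
universe u
open CategoryTheory CategoryTheory.Limits AlgebraicGeometry Topology TopologicalSpace

namespace Groth.Agent.Lib.lead.FlatRelDim

open Groth.Agent.Lib.Helper7 Groth.Agent.Lib.Helper3 Groth.Agent.Lib.lead Groth.Agent.Lib.Helper18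

variable {X Y : Scheme.{u}}

/-- flat local dimension formula in order-theoretic form -/
theorem coheight_eq_add_G_of_flat [IsLocallyNoetherian Y] (f : X ⟶ Y) [Flat f]
    [LocallyOfFiniteType f] (x : X) :
    Order.coheight x = Order.coheight (f x) + FibreOrder.G f x := by
  have hle : ∀ z : X, Order.coheight z ≤ Order.coheight (f z) + FibreOrder.G f z := by
    intro z
    have h2 := StalkDimIneq.main f z
    rw [ringKrullDim_stalk_eq_coheight, ringKrullDim_stalk_eq_coheight,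
      FibreOrder.ringKrullDim_fiber_stalk f z] at h2
    exact_mod_cast h2
  apply le_antisymm (hle x)
  apply FibreOrder.ge_of_generic f x
  intro z _ hG
  apply le_antisymm _ (FlatEquidim.coheight_le_of_flat f z)
  have := hle z
  rwa [hG, add_zero] at this

theorem dim_opens_eq (T : Scheme.{u}) (O : T.Opens) (hne : (O : Set T).Nonempty) :
    topologicalKrullDim (O : Set T) =
      ((⨆ a : {a : T // a ∈ O}, Order.coheight a.1 : ℕ∞) : WithBot ℕ∞) := by
  haveI : Nonempty {a : T // a ∈ O} := ⟨⟨hne.some, hne.some_mem⟩⟩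
  rw [WithBot.coe_iSup (OrderTop.bddAbove _)]
  have h := topologicalKrullDim_opens_eq_iSup_stalk T O
  simp_rw [ringKrullDim_stalk_eq_coheight] at h
  exact h

theorem G_le_of_hasRelDim (f : X ⟶ Y) [LocallyOfFiniteType f] (d : ℕ) (hd : Cyc.HasRelDim f d)
    (a : X) : FibreOrder.G f a ≤ d := by
  have h1 : ringKrullDim ((f.fiber (f a)).presheaf.stalk (f.asFiber a)) ≤
      topologicalKrullDim (f.fiber (f a)) := by
    rw [topologicalKrullDim_eq_iSup_stalk]
    exact le_iSup (fun z => ringKrullDim ((f.fiber (f a)).presheaf.stalk z)) _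
  have h2 : topologicalKrullDim (f.fiber (f a)) ≤ d :=
    TopDimComp.topologicalKrullDim_le_of_forall_component _ (fun C hC => (hd (f a) C hC).le)
  rw [FibreOrder.ringKrullDim_fiber_stalk] at h1
  exact_mod_cast h1.trans h2

theorem exists_G_eq (f : X ⟶ Y) [LocallyOfFiniteType f] (d : ℕ) (hd : Cyc.HasRelDim f d)
    (U : X.Opens) (a₀ : X) (ha₀ : a₀ ∈ U) :
    ∃ a ∈ U, f a = f a₀ ∧ FibreOrder.G f a = d := by
  set y := f a₀ with hy
  letI := FibreTd.fibreOver f y
  haveI : LocallyOfFiniteType ((f.fiber y) ↘ Spec (CommRingCat.of (Y.residueField y))) :=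
    inferInstanceAs (LocallyOfFiniteType (f.fiberToSpecResidueField y))
  let U' : (f.fiber y).Opens := (f.fiberι y) ⁻¹ᵁ U
  have hne : (U' : Set (f.fiber y)).Nonempty := by
    refine ⟨f.asFiber a₀, ?_⟩
    show f.fiberι (f a₀) (f.asFiber a₀) ∈ U
    rw [f.fiberι_asFiber]; exact ha₀
  obtain ⟨ζ, hζU, hζc⟩ := nonempty_inter_closedPoints hne U'.2.isLocallyClosed
  have hcl : IsClosed ({ζ} : Set (f.fiber y)) := hζc
  have h1 := ClosedLocalDim.main (Y.residueField y) (f.fiber y) ζ hcl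
  rw [FlatEquidimGen.localDim_eq_of_equidim (k := Y.residueField y) (X := f.fiber y) d (hd y) ζ,
    ringKrullDim_stalk_eq_coheight, FibreOrder.coheight_fiber f y ζ] at h1
  refine ⟨f.fiberι y ζ, hζU, ?_, ?_⟩
  · have : f.fiberι y ζ ∈ Set.range (f.fiberι y) := ⟨ζ, rfl⟩
    rw [f.range_fiberι] at this
    exact this
  · exact_mod_cast h1.symm

theorem S9359 [IsLocallyNoetherian X] [IsLocallyNoetherian Y] (f : X ⟶ Y)
    [Flat f] [LocallyOfFiniteType f] (d : ℕ) (hd : Cyc.HasRelDim f d) (x : X) :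
    FlatMor.localDim ↑X x = FlatMor.localDim ↑Y (f.base x) + (d : WithBot ℕ∞) := by
  haveI : LocallyOfFinitePresentation f :=
    LocallyOfFinitePresentation.iff_locallyOfFiniteType.2 inferInstance
  haveI : UniversallyOpen f := inferInstance
  apply le_antisymm
  · haveI : Nonempty {V : Opens Y // f x ∈ V} := ⟨⟨⊤, trivial⟩⟩
    obtain ⟨⟨V, hyV⟩, hV⟩ := ciInf_mem
      (fun V : {V : Opens Y // f x ∈ V} => topologicalKrullDim (V.1 : Set Y))
    have hV' : FlatMor.localDim Y (f x) = topologicalKrullDim (V : Set Y) := hV.symm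
    rw [hV']
    refine le_trans (iInf_le _ ⟨f ⁻¹ᵁ V, hyV⟩) ?_
    show topologicalKrullDim ((f ⁻¹ᵁ V : X.Opens) : Set X) ≤ _
    rw [dim_opens_eq X _ ⟨x, hyV⟩, dim_opens_eq Y V ⟨f x, hyV⟩]
    have : (⨆ a : {a : X // a ∈ (f ⁻¹ᵁ V : X.Opens)}, Order.coheight a.1) ≤
        (⨆ b : {b : Y // b ∈ V}, Order.coheight b.1) + (d : ℕ∞) := by
      refine iSup_le fun ⟨a, ha⟩ => ?_
      rw [coheight_eq_add_G_of_flat f a]
      exact add_le_add (le_iSup (fun b : {b : Y // b ∈ V} => Order.coheight b.1) ⟨f a, ha⟩)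
        (G_le_of_hasRelDim f d hd a)
    exact_mod_cast this
  · refine le_iInf fun ⟨U, hxU⟩ => ?_
    let V : Y.Opens := ⟨f '' U, f.isOpenMap _ U.2⟩
    have hyV : f x ∈ V := ⟨x, hxU, rfl⟩
    refine le_trans (add_le_add_left (iInf_le _ ⟨V, hyV⟩) _) ?_
    show topologicalKrullDim (V : Set Y) + (d : WithBot ℕ∞) ≤ topologicalKrullDim (U : Set X)
    rw [dim_opens_eq Y V ⟨f x, hyV⟩, dim_opens_eq X U ⟨x, hxU⟩]
    have : (⨆ b : {b : Y // b ∈ V}, Order.coheight b.1) + (d : ℕ∞) ≤ ⨆ a : {a : X // a ∈ U}, Order.coheight a.1 := by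
      haveI : Nonempty {b : Y // b ∈ V} := ⟨⟨f x, hyV⟩⟩
      rw [ENat.iSup_add]
      refine iSup_le fun ⟨b, hb⟩ => ?_
      obtain ⟨a₀, ha₀, rfl⟩ := hb
      obtain ⟨a, haU, hfa, hG⟩ := exists_G_eq f d hd U a₀ ha₀
      refine le_trans ?_ (le_iSup (fun a : {a : X // a ∈ U} => Order.coheight a.1) ⟨a, haU⟩)
      rw [coheight_eq_add_G_of_flat f a, hfa, hG]
    exact_mod_cast this

end Groth.Agent.Lib.lead.FlatRelDim
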