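import Mathlib
import Groth.Agent.Lib.lead.FlatRelDim
import Groth.Agent.Lib.lead.RelDimFormulaSp
import Groth.Agent.Lib.lead.FibreCompDimOne
import Groth.Agent.Lib.Helper3.AlgSpNoethChart
import Groth.Agent.Lib.Helper3.AlgSpLocalDim
import Groth.Agent.Lib.Helper3.AlgSpResTrdeg
import Groth.Prelude.Def_AlgSp4
import Groth.Prelude.Def_AlgSpDec

set_option autoImplicit false
set_option linter.style.haveILetI false
universe u
open CategoryTheory CategoryTheory.Limits AlgebraicGeometry Topology TopologicalSpace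

namespace Groth.Agent.Lib.lead.FlatRelDimSp

open Groth.Agent.Lib.lead Groth.Agent.Lib.Helper24 Groth.Agent.Lib.Helper18 Groth.Agent.Lib.Helper3
open AlgSp

variable {S : Scheme.{u}}

/-- the fibre dimension at a point does not depend on the chart diagram -/
theorem fibreDimAt_eq_of_charts {X Y : Sp S} (f : X ⟶ Y) {U₁ V₁ U₂ V₂ : Over S}
    (a₁ : (yon S).obj U₁ ⟶ X) (b₁ : (yon S).obj V₁ ⟶ Y) (h₁ : U₁ ⟶ V₁)
    (a₂ : (yon S).obj U₂ ⟶ X) (b₂ : (yon S).obj V₂ ⟶ Y) (h₂ : U₂ ⟶ V₂)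
    (ha₁ : RepWith @Etale a₁) (hb₁ : RepWith @Etale b₁) (ha₂ : RepWith @Etale a₂)
    (hb₂ : RepWith @Etale b₂) (w₁ : a₁ ≫ f = (yon S).map h₁ ≫ b₁)
    (w₂ : a₂ ≫ f = (yon S).map h₂ ≫ b₂) [LocallyOfFiniteType h₁.left]
    [LocallyOfFiniteType h₂.left] (u₁ : ↥U₁.left) (u₂ : ↥U₂.left)
    (h : Points.ofPt a₁ u₁ = Points.ofPt a₂ u₂) :
    FlatMor.fibreDimAt h₁.left u₁ = FlatMor.fibreDimAt h₂.left u₂ := by
  have hG := RelDimFormulaSp.G_eq_of_charts f a₁ b₁ h₁ a₂ b₂ h₂ ha₁ hb₁ ha₂ hb₂ w₁ w₂ u₁ u₂ h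
  have hT := resTrdeg_eq_of_charts f a₁ b₁ h₁ a₂ b₂ h₂ ha₁ hb₁ ha₂ hb₂ w₁ w₂ u₁ u₂ h
  obtain ⟨b, hb⟩ := FibreDimFormula.exists_nat_G h₁.left u₁
  have hb2 : FibreOrder.G h₂.left u₂ = b := by rw [← hG, hb]
  rw [FibreDimFormula.fibreDimAt_eq h₁.left u₁ b hb, FibreDimFormula.fibreDimAt_eq h₂.left u₂ b hb2]
  have htr : FibreDim.tr h₁.left u₁ = FibreDim.tr h₂.left u₂ := by
    have h1 : Dual3.resTrdeg h₁.left u₁ = FibreDim.tr h₁.left u₁ := FibreDim.tr_spec h₁.left u₁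
    have h2 : Dual3.resTrdeg h₂.left u₂ = FibreDim.tr h₂.left u₂ := FibreDim.tr_spec h₂.left u₂
    rw [hT, h2] at h1
    exact_mod_cast h1.symm
  rw [htr]

theorem S10314 {X Y : AlgSp.Space S} (f : X ⟶ Y)
    (hX : AlgSp.IsLocNoethSp X.obj) (hY : AlgSp.IsLocNoethSp Y.obj) (hf : AlgSp.LocP @Flat f.hom)
    (hf' : AlgSp.LocP @LocallyOfFiniteType f.hom) (d : ℕ)
    (hd : ∀ x : AlgSp.Points X.obj,
      AlgSp.HasAtMor (fun _ _ h u => FlatMor.fibreDimAt h u = (d : WithBot ℕ∞)) f.hom x)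
    (x : AlgSp.Points X.obj) (dX dY : WithBot ℕ∞)
    (hx : AlgSp.HasAt (fun U u => FlatMor.localDim ↥U u = dX) X.obj x)
    (hy : AlgSp.HasAt (fun U u => FlatMor.localDim ↥U u = dY) Y.obj (AlgSp.Points.map f.hom x)) :
    dX = dY + (d : WithBot ℕ∞) := by
  obtain ⟨U₁, V₁, a₁, b₁, h₁, u₁, ha₁, hb₁, w₁, hu₁, hd₁⟩ := hd x
  obtain ⟨U₂, a₂, u₂, ha₂, hu₂, hdX⟩ := hx
  obtain ⟨V₃, b₃, v₃, hb₃, hv₃, hdY⟩ := hy
  haveI : LocallyOfFiniteType h₁.left := hf' a₁ b₁ h₁ ha₁ hb₁ w₁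
  haveI : Flat h₁.left := hf a₁ b₁ h₁ ha₁ hb₁ w₁
  haveI : IsLocallyNoetherian U₁.left := isLocallyNoetherian_of_isLocNoethSp hX a₁ ha₁
  haveI : IsLocallyNoetherian V₁.left := isLocallyNoetherian_of_isLocNoethSp hY b₁ hb₁
  have e1 : FlatMor.localDim U₁.left u₁ = dX := by
    rw [← hdX]
    exact localDim_eq_of_ofPt_eq a₁ a₂ ha₁ ha₂ u₁ u₂ (hu₁.trans hu₂.symm)
  have e2 : FlatMor.localDim V₁.left (h₁.left u₁) = dY := by
    rw [← hdY]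
    apply localDim_eq_of_ofPt_eq b₁ b₃ hb₁ hb₃
    rw [ofPt_map_of_comm f.hom a₁ b₁ h₁ w₁ u₁, hu₁, hv₃]
  have hrel : Cyc.HasRelDim h₁.left d := by
    intro y T hT
    obtain ⟨ζ, hζ⟩ := QuasiSober.sober hT.1 (isClosed_of_mem_irreducibleComponents T hT)
    have hy : h₁.left (h₁.left.fiberι y ζ) = y := by
      have : h₁.left.fiberι y ζ ∈ Set.range (h₁.left.fiberι y) := ⟨ζ, rfl⟩
      rw [h₁.left.range_fiberι] at this
      exact this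
    rw [FibreCompDimOne.dim_component_aux h₁.left _ y hy T hT ζ hζ rfl]
    obtain ⟨U', V', a', b', h', u', ha', hb', w', hu', hd'⟩ :=
      hd (Points.ofPt a₁ (h₁.left.fiberι y ζ))
    haveI : LocallyOfFiniteType h'.left := hf' a' b' h' ha' hb' w'
    rw [fibreDimAt_eq_of_charts f.hom a₁ b₁ h₁ a' b' h' ha₁ hb₁ ha' hb' w₁ w' _ u' hu'.symm, hd']
  rw [← e1, ← e2]
  exact FlatRelDim.S9359 h₁.left d hrel u₁

end Groth.Agent.Lib.lead.FlatRelDimSp
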