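import Mathlib
import Groth.Agent.Lib.lead.FibreDimRetro
import Groth.Agent.Lib.lead.FibreDimTarget
import Groth.Agent.Lib.lead.QFConstr
import Groth.Agent.Lib.Helper18.Chev.Main
import Groth.Agent.Lib.Helper24.FibreDim.Main3448
import Groth.Prelude.Def_Flat

set_option autoImplicit false
set_option linter.style.haveILetI false
universe u
open CategoryTheory CategoryTheory.Limits AlgebraicGeometry Topology

namespace Groth.Agent.Lib.lead.FibreDimConstr

open Groth.Agent.Lib.Helper18 Groth.Agent.Lib.lead

theorem isLocallyConstructible_setOf_le_fibreDimAt {X S : Scheme.{u}} (f : X ⟶ S)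
    [LocallyOfFinitePresentation f] (n : ℕ) :
    IsLocallyConstructible {x : X | (n : WithBot ℕ∞) ≤ FlatMor.fibreDimAt f x} := by
  rcases Nat.eq_zero_or_pos n with rfl | hn
  · convert IsLocallyConstructible.univ
    ext x
    simp only [Set.mem_ofPred_eq, Set.mem_univ, iff_true]
    exact QFConstr.fibreDimAt_nonneg f x
  · have h1 := Chev.isOpen_fibreDimAt_le f (n - 1)
    have h2 := FibreDimRetro.S9355 f (n - 1)
    have h3 := QFConstr.isLocallyConstructible_compl (h2.isLocallyConstructible h1)
    convert h3 using 1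
    ext x
    obtain ⟨d, hd⟩ := Chev.exists_nat_fibreDimAt f x
    simp only [Set.mem_ofPred_eq, Set.mem_compl_iff, hd]
    constructor
    · intro h h'
      have h4 : n ≤ d := by exact_mod_cast h
      have h5 : d ≤ n - 1 := by exact_mod_cast h'
      omega
    · intro h
      by_contra h'
      apply h
      have h4 : ¬ n ≤ d := fun h4 => h' (by exact_mod_cast h4)
      have h5 : d ≤ n - 1 := by omega
      exact_mod_cast h5

theorem setOf_le_dim_fiber_eq {X Y : Scheme.{u}} (f : X ⟶ Y) [LocallyOfFiniteType f] (m : ℕ) :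
    {y : Y | (m : WithBot ℕ∞) ≤ topologicalKrullDim (f.fiber y)} =
      f '' {x : X | (m : WithBot ℕ∞) ≤ FlatMor.fibreDimAt f x} := by
  ext y
  simp only [Set.mem_ofPred_eq, Set.mem_image]
  rw [FibreDimTarget.le_dim_fibre_iff]
  constructor
  · rintro ⟨x, hx, h⟩
    exact ⟨x, h, hx⟩
  · rintro ⟨x, h, hx⟩
    exact ⟨x, hx, h⟩

theorem isLocallyConstructible_le_dim_fiber {X Y : Scheme.{u}} (f : X ⟶ Y)
    [LocallyOfFinitePresentation f] [QuasiCompact f] (m : ℕ) :
    IsLocallyConstructible {y : Y | (m : WithBot ℕ∞) ≤ topologicalKrullDim (f.fiber y)} := by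
  rw [setOf_le_dim_fiber_eq]
  exact f.isLocallyConstructible_image (isLocallyConstructible_setOf_le_fibreDimAt f m)

/-- not `≤ n` means `≥ n + 1` -/
theorem not_le_nat_iff (n : ℕ) (d : WithBot ℕ∞) :
    ¬ d ≤ (n : WithBot ℕ∞) ↔ ((n + 1 : ℕ) : WithBot ℕ∞) ≤ d := by
  induction d with
  | bot => simp
  | coe d =>
    induction d with
    | top =>
      constructor
      · intro _; exact le_top
      · intro _ h
        have : (⊤ : ℕ∞) ≤ (n : ℕ∞) := by exact_mod_cast h
        exact absurd this (by simp)
    | coe m =>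
      constructor
      · intro h
        have : ¬ m ≤ n := fun h' => h (by exact_mod_cast h')
        have : n + 1 ≤ m := by omega
        exact_mod_cast this
      · intro h h'
        have h1 : n + 1 ≤ m := by exact_mod_cast h
        have h2 : m ≤ n := by exact_mod_cast h'
        omega

/-- the fibres of a quasi-compact morphism locally of finite type have locally bounded dimension -/
theorem exists_nat_dim_fiber_le {X Y : Scheme.{u}} (f : X ⟶ Y) [LocallyOfFiniteType f]
    [QuasiCompact f] (y : Y) :
    ∃ (V : Y.Opens) (N : ℕ), y ∈ V ∧ ∀ z ∈ V, topologicalKrullDim (f.fiber z) ≤ (N : WithBot ℕ∞) := by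
  obtain ⟨V, hV, hyV, -⟩ := exists_isAffineOpen_mem_and_subset (x := y) (U := ⊤) trivial
  have hK : IsCompact (f ⁻¹' (V : Set Y)) :=
    QuasiCompact.isCompact_preimage (f := f) _ V.isOpen hV.isCompact
  obtain ⟨N, hN⟩ := hK.elim_directed_cover (fun n : ℕ => {x : X | FlatMor.fibreDimAt f x ≤ n})
    (fun n => Chev.isOpen_fibreDimAt_le f n)
    (by
      intro x _
      obtain ⟨d, hd⟩ := Chev.exists_nat_fibreDimAt f x
      exact Set.mem_iUnion.2 ⟨d, by show FlatMor.fibreDimAt f x ≤ d; rw [hd]⟩)
    (by
      refine Monotone.directed_le ?_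
      intro a b hab x hx
      have hx' : FlatMor.fibreDimAt f x ≤ (a : WithBot ℕ∞) := hx
      show FlatMor.fibreDimAt f x ≤ (b : WithBot ℕ∞)
      exact le_trans hx' (by exact_mod_cast hab))
  refine ⟨V, N, hyV, fun z hz => ?_⟩
  by_contra hcon
  rw [not_le_nat_iff, FibreDimTarget.le_dim_fibre_iff] at hcon
  obtain ⟨x, hx, h⟩ := hcon
  have hxK : x ∈ f ⁻¹' (V : Set Y) := by show f x ∈ V; rw [hx]; exact hz
  have h1 : FlatMor.fibreDimAt f x ≤ N := hN hxK
  exact (not_le_nat_iff N _).2 h h1

theorem S1333 {X Y : Scheme.{u}} (f : X ⟶ Y) [LocallyOfFinitePresentation f] [QuasiCompact f]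
    [QuasiSeparated f] (n : WithBot ℕ∞) :
    Topology.IsLocallyConstructible {y : ↑Y | topologicalKrullDim ↑(f.fiber y) = n} := by
  induction n with
  | bot =>
    have h1 : IsLocallyConstructible (f '' (Set.univ : Set X)) :=
      f.isLocallyConstructible_image IsLocallyConstructible.univ
    convert QFConstr.isLocallyConstructible_compl h1 using 1
    ext s
    simp only [Set.mem_ofPred_eq, Set.image_univ, Set.mem_compl_iff, Set.mem_range]
    rw [topologicalKrullDim, Order.krullDim_eq_bot_iff, ← not_nonempty_iff, not_iff_not]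
    constructor
    · rintro ⟨Z⟩
      obtain ⟨w, -⟩ := Z.isIrreducible.nonempty
      refine ⟨f.fiberι s w, ?_⟩
      have : f.fiberι s w ∈ Set.range (f.fiberι s) := ⟨w, rfl⟩
      rw [f.range_fiberι] at this
      exact this
    · rintro ⟨x, hx⟩
      obtain ⟨z', -⟩ := Groth.Agent.Lib.Helper24.FibreDim.exists_fibre_point f x s hx
      exact ⟨⟨closure {z'}, isIrreducible_singleton.closure, isClosed_closure⟩⟩
  | coe n =>
    induction n with
    | top =>
      convert IsLocallyConstructible.empty
      ext y
      simp only [Set.mem_ofPred_eq, Set.mem_empty_iff_false, iff_false]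
      obtain ⟨V, N, hyV, hN⟩ := exists_nat_dim_fiber_le f y
      intro h
      have := hN y hyV
      rw [h] at this
      have : (⊤ : ℕ∞) ≤ (N : ℕ∞) := by exact_mod_cast this
      exact absurd this (by simp)
    | coe m =>
      have h1 := isLocallyConstructible_le_dim_fiber f m
      have h2 := QFConstr.isLocallyConstructible_compl (isLocallyConstructible_le_dim_fiber f (m + 1))
      convert h1.inter h2 using 1
      ext y
      simp only [Set.mem_ofPred_eq, Set.mem_inter_iff, Set.mem_compl_iff]
      rw [← not_le_nat_iff, not_not]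
      constructor
      · intro h
        rw [h]
        exact ⟨le_rfl, le_rfl⟩
      · rintro ⟨h, h'⟩
        exact le_antisymm h' h


end Groth.Agent.Lib.lead.FibreDimConstr
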