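import Mathlib
import Groth.Agent.Lib.lead.FlatFibreDimOpen
import Groth.Agent.Lib.lead.FibreDimConstr
import Groth.Agent.Lib.lead.FibreDimTarget
import Groth.Agent.Lib.lead.QFConstr
import Groth.Agent.Lib.Helper18.Chev.SchemeBound
import Groth.Prelude.Def_Flat

set_option autoImplicit false
set_option linter.style.haveILetI false
universe u
open CategoryTheory CategoryTheory.Limits AlgebraicGeometry Topology

namespace Groth.Agent.Lib.lead.ProperFlatZeroDim

open Groth.Agent.Lib.Helper18 Groth.Agent.Lib.lead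

theorem dim_preimage_eq {X Y : Scheme.{u}} (f : X ⟶ Y) (y : Y) :
    topologicalKrullDim (f.base ⁻¹' {y}) = topologicalKrullDim (f.fiber y) :=
  ((f.fiberHomeo y).isHomeomorph.topologicalKrullDim_eq).symm

theorem S10889 {X Y : Scheme.{u}} (f : X ⟶ Y) [IsProper f] [Flat f]
    [LocallyOfFinitePresentation f] :
    IsClopen {y : Y | topologicalKrullDim (f.base ⁻¹' {y}) = 0} ∧
      ∀ U : Y.Opens, (U : Set Y) ⊆ {y : Y | topologicalKrullDim (f.base ⁻¹' {y}) = 0} →
        IsFinite (f ∣_ U) := by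
  have hset : {y : Y | topologicalKrullDim (f.base ⁻¹' {y}) = 0} =
      Set.range f ∩ {y : Y | ((1 : ℕ) : WithBot ℕ∞) ≤ topologicalKrullDim (f.fiber y)}ᶜ := by
    ext y
    simp only [Set.mem_ofPred_eq, Set.mem_inter_iff, Set.mem_range, Set.mem_compl_iff]
    rw [dim_preimage_eq, ← FibreDimConstr.not_le_nat_iff 0, not_not]
    constructor
    · intro h
      refine ⟨?_, by rw [h]; rfl⟩
      have h1 : ((0 : ℕ) : WithBot ℕ∞) ≤ topologicalKrullDim (f.fiber y) := by rw [h]; rfl
      rw [FibreDimTarget.le_dim_fibre_iff] at h1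
      obtain ⟨x, hx, -⟩ := h1
      exact ⟨x, hx⟩
    · rintro ⟨⟨x, hx⟩, h⟩
      refine le_antisymm h ?_
      have : ((0 : ℕ) : WithBot ℕ∞) ≤ topologicalKrullDim (f.fiber y) := by
        rw [FibreDimTarget.le_dim_fibre_iff]
        exact ⟨x, hx, QFConstr.fibreDimAt_nonneg f x⟩
      exact this
  have hB : {y : Y | ((1 : ℕ) : WithBot ℕ∞) ≤ topologicalKrullDim (f.fiber y)} =
      {y : Y | ((0 : ℕ∞) : WithBot ℕ∞) < topologicalKrullDim (f.fiber y)} := by
    ext y
    simp only [Set.mem_ofPred_eq]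
    rw [← FibreDimConstr.not_le_nat_iff 0, not_le]
    rfl
  constructor
  · rw [hset]
    refine IsClopen.inter ⟨f.isClosedMap.isClosed_range, f.isOpenMap.isOpen_range⟩ (IsClopen.compl ?_)
    refine ⟨FibreDimTarget.S3387 f f.isClosedMap 1, ?_⟩
    rw [hB]
    exact FlatFibreDimOpen.S0404 f _
  · intro U hU
    haveI : LocallyQuasiFinite (f ∣_ U) := by
      rw [QFConstr.locallyQuasiFinite_iff_forall_fibreDimAt]
      intro x'
      have hsq := Chev.fibreDimAt_eq_of_openImmersion_square (f ∣_ U) U.ι (f ⁻¹ᵁ U).ι f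
        (by simp) x'
      rw [← hsq]
      set x := (f ⁻¹ᵁ U).ι x' with hx
      have hxU : f x ∈ U := by
        have : x ∈ f ⁻¹ᵁ U := by
          rw [hx]
          exact x'.2
        exact this
      have h0 := hU hxU
      simp only [Set.mem_ofPred_eq] at h0
      rw [dim_preimage_eq] at h0
      by_contra hcon
      rw [show ((0 : WithBot ℕ∞)) = ((0 : ℕ) : WithBot ℕ∞) from rfl,
        FibreDimConstr.not_le_nat_iff] at hcon
      have h1 : ((0 + 1 : ℕ) : WithBot ℕ∞) ≤ topologicalKrullDim (f.fiber (f x)) := by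
        rw [FibreDimTarget.le_dim_fibre_iff]
        exact ⟨x, rfl, hcon⟩
      rw [h0] at h1
      exact absurd h1 (by decide)
    exact IsFinite.of_isProper_of_locallyQuasiFinite (f := f ∣_ U)


end Groth.Agent.Lib.lead.ProperFlatZeroDim
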