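import Mathlib
import Groth.Agent.Lib.lead.ProperFlatZeroDim
import Groth.Agent.Lib.lead.FlatGenDim
import Groth.Agent.Lib.lead.FibreDimBC
import Groth.Agent.Lib.lead.FibreDimTarget
import Groth.Agent.Lib.Helper24.FibreDim.Main4944
import Groth.Prelude.Def_EGA43

set_option autoImplicit false
set_option linter.style.haveILetI false
set_option linter.unusedSectionVars false
universe u
open CategoryTheory CategoryTheory.Limits AlgebraicGeometry Topology TopologicalSpace

namespace Groth.Agent.Lib.lead.ClosureFibreDim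

open Groth.Agent.Lib.lead Groth.Agent.Lib.Helper18 Groth.Agent.Lib.Helper9 Groth.Agent.Lib.Helper24

/-- the set whose dimension is `d(t)` -/
def Zset {X S : Scheme.{u}} (f : X ⟶ S) (E : Set X) (t : S) : Set X :=
  f ⁻¹' {t} ∩ closure (E ∩ f ⁻¹' {t})

theorem dim_image_of_isEmbedding {A B : Type*} [TopologicalSpace A] [TopologicalSpace B] {e : A → B}
    (he : IsEmbedding e) (T : Set A) :
    topologicalKrullDim ↥(e '' T) = topologicalKrullDim ↥T :=
  ((he.homeomorphImage T).isHomeomorph.topologicalKrullDim_eq).symm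

theorem dim_mono {B : Type*} [TopologicalSpace B] {T T' : Set B} (h : T ⊆ T') :
    topologicalKrullDim ↥T ≤ topologicalKrullDim ↥T' :=
  Topology.IsInducing.topologicalKrullDim_le (f := Set.inclusion h)
    (IsEmbedding.inclusion h).isInducing

theorem dim_inter_closed {X S : Scheme.{u}} (f : X ⟶ S) (C : Set X) (hC : IsClosed C) (t : S) :
    topologicalKrullDim ↥(f ⁻¹' {t} ∩ C) = topologicalKrullDim
      (((Scheme.IdealSheafData.vanishingIdeal (X := X) ⟨C, hC⟩).subschemeι ≫ f).fiber t) := by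
  set I := Scheme.IdealSheafData.vanishingIdeal (X := X) ⟨C, hC⟩ with hI
  have hrange : Set.range I.subschemeι = C := by
    rw [I.range_subschemeι]
    exact Scheme.IdealSheafData.coe_support_vanishingIdeal _
  rw [← ProperFlatZeroDim.dim_preimage_eq]
  have himg : I.subschemeι '' ((I.subschemeι ≫ f).base ⁻¹' {t}) = f ⁻¹' {t} ∩ C := by
    ext x
    constructor
    · rintro ⟨z, hz, rfl⟩
      refine ⟨?_, hrange ▸ ⟨z, rfl⟩⟩
      have : (I.subschemeι ≫ f) z = t := hz
      rwa [Scheme.Hom.comp_apply] at this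
    · rintro ⟨hx, hxC⟩
      rw [← hrange] at hxC
      obtain ⟨z, rfl⟩ := hxC
      refine ⟨z, ?_, rfl⟩
      show (I.subschemeι ≫ f) z = t
      rw [Scheme.Hom.comp_apply]
      exact hx
  rw [← himg, dim_image_of_isEmbedding I.subschemeι.isEmbedding]


/-- **Lemma T**, affine form. -/
theorem flat_of_dense_generic_affine (W R : CommRingCat.{u}) [IsDomain W] [ValuationRing W]
    [_root_.IsReduced R] (φ : W ⟶ R)
    (hd : ∀ b : R, ¬ IsNilpotent b → ∃ q : PrimeSpectrum R, b ∉ q.asIdeal ∧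
      q.asIdeal.comap φ.hom = ⊥) : φ.hom.Flat := by
  letI : Algebra W R := φ.hom.toAlgebra
  show Module.Flat W R
  rw [Module.Flat.flat_iff_torsion_eq_bot_of_isBezout, Submodule.eq_bot_iff]
  intro b hb
  rw [Submodule.mem_torsion_iff] at hb
  obtain ⟨c, hc⟩ := hb
  by_contra hb0
  have hnil : ¬ IsNilpotent b := fun hn => hb0 hn.eq_zero
  obtain ⟨q, hbq, hq⟩ := hd b hnil
  have hc0 : (c : W) ≠ 0 := nonZeroDivisors.coe_ne_zero c
  have hcq : φ.hom (c : W) ∉ q.asIdeal := by
    intro hmem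
    have : (c : W) ∈ q.asIdeal.comap φ.hom := hmem
    rw [hq] at this
    exact hc0 this
  have hmul : φ.hom (c : W) * b ∈ q.asIdeal := by
    have : φ.hom (c : W) * b = 0 := hc
    rw [this]
    exact zero_mem _
  rcases q.isPrime.mem_or_mem hmul with h | h
  · exact hcq h
  · exact hbq h

theorem flat_piece {Z : Scheme.{u}} (W : CommRingCat.{u}) [IsDomain W] [ValuationRing W]
    (h : Z ⟶ Spec W) [IsReduced Z] (hd : Dense (h ⁻¹' {VCov.genPt W})) (R : CommRingCat.{u})
    (j : Spec R ⟶ Z) [IsOpenImmersion j] : Flat (j ≫ h) := by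
  haveI : IsReduced (Spec R) := isReduced_of_isOpenImmersion j
  haveI : _root_.IsReduced R := (affine_isReduced_iff R).mp inferInstance
  obtain ⟨φ, hφ⟩ := Spec.map_surjective (j ≫ h)
  rw [← hφ, HasRingHomProperty.Spec_iff (P := @Flat)]
  refine flat_of_dense_generic_affine W R φ ?_
  intro b hb
  have hne : ((PrimeSpectrum.basicOpen b : Set (PrimeSpectrum R))).Nonempty := by
    rw [Set.nonempty_iff_ne_empty]
    intro he
    apply hb
    rw [← PrimeSpectrum.basicOpen_eq_bot_iff]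
    exact TopologicalSpace.Opens.ext he
  have hopen : IsOpen (j '' (PrimeSpectrum.basicOpen b : Set (PrimeSpectrum R))) :=
    j.isOpenEmbedding.isOpenMap _ (PrimeSpectrum.basicOpen b).isOpen
  obtain ⟨z, ⟨q, hq, rfl⟩, hz⟩ := hd.inter_open_nonempty _ hopen (hne.image _)
  refine ⟨q, hq, ?_⟩
  have h1 : (j ≫ h) q = VCov.genPt W := by
    rw [Scheme.Hom.comp_apply]; exact hz
  rw [← hφ] at h1
  exact congrArg PrimeSpectrum.asIdeal h1

/-- **Lemma T**: a reduced scheme over a valuation ring whose generic fibre is dense is flat. -/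
theorem flat_of_dense_generic {Z : Scheme.{u}} (W : CommRingCat.{u}) [IsDomain W] [ValuationRing W]
    (h : Z ⟶ Spec W) [IsReduced Z] (hd : Dense (h ⁻¹' {VCov.genPt W})) : Flat h := by
  rw [IsZariskiLocalAtSource.iff_of_openCover (P := @Flat) Z.affineCover]
  intro i
  exact @flat_piece Z W _ _ h _ hd _ (Z.affineCover.f i) (Z.affineCover.map_prop i)

theorem le_of_forall_nat_le {a b : WithBot ℕ∞}
    (h : ∀ n : ℕ, (n : WithBot ℕ∞) ≤ a → (n : WithBot ℕ∞) ≤ b) : a ≤ b := by
  induction a with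
  | bot => exact bot_le
  | coe a =>
    induction a with
    | top =>
      induction b with
      | bot => exact absurd (h 0 le_top) (by simp)
      | coe b =>
        induction b with
        | top => exact le_rfl
        | coe m =>
          have := h (m + 1) le_top
          have h' : ((m + 1 : ℕ) : ℕ∞) ≤ (m : ℕ∞) := by exact_mod_cast this
          have : (m + 1 : ℕ) ≤ m := by exact_mod_cast h'
          omega
    | coe n => exact h n le_rfl

theorem dim_fiber_le_gen {Z : Scheme.{u}} (W : CommRingCat.{u}) [IsDomain W] [ValuationRing W]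
    (h : Z ⟶ Spec W) [Flat h] [LocallyOfFiniteType h] (t : Spec W) :
    topologicalKrullDim (h.fiber t) ≤ topologicalKrullDim (h.fiber (VCov.genPt W)) := by
  apply le_of_forall_nat_le
  intro n hn
  rw [FibreDimTarget.le_dim_fibre_iff] at hn ⊢
  obtain ⟨x, hx, hnx⟩ := hn
  obtain ⟨x'', -, h2, h3⟩ := FlatGenDim.exists_gen_over_valuationRing W h x
  exact ⟨x'', h2, hnx.trans h3⟩

/-- **valuation ring case** -/
theorem dim_Zset_le_gen {X' : Scheme.{u}} (W : CommRingCat.{u}) [IsDomain W] [ValuationRing W]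
    (f' : X' ⟶ Spec W) [LocallyOfFiniteType f'] (E' : Set X') (t : Spec W)
    (hE : E' ∩ f' ⁻¹' {t} ⊆ closure (E' ∩ f' ⁻¹' {VCov.genPt W})) :
    topologicalKrullDim ↥(Zset f' E' t) ≤ topologicalKrullDim ↥(Zset f' E' (VCov.genPt W)) := by
  set C := closure (E' ∩ f' ⁻¹' {VCov.genPt W}) with hCdef
  have hC : IsClosed C := isClosed_closure
  set I := Scheme.IdealSheafData.vanishingIdeal (X := X') ⟨C, hC⟩ with hI
  have hrange : Set.range I.subschemeι = C := by
    rw [I.range_subschemeι]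
    exact Scheme.IdealSheafData.coe_support_vanishingIdeal _
  haveI : IsReduced I.subscheme := FibreDim.isReduced_vanishingIdeal_subscheme _
  set h := I.subschemeι ≫ f' with hh
  have hdense : Dense (h ⁻¹' {VCov.genPt W}) := by
    rw [dense_iff_closure_eq]
    apply Set.eq_univ_of_forall
    intro z
    have hz : I.subschemeι z ∈ closure (E' ∩ f' ⁻¹' {VCov.genPt W}) := by
      rw [← hCdef, ← hrange]; exact ⟨z, rfl⟩
    have hsub : E' ∩ f' ⁻¹' {VCov.genPt W} ⊆ I.subschemeι '' (h ⁻¹' {VCov.genPt W}) := by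
      rintro x ⟨hxE, hxf⟩
      have hxC : x ∈ Set.range I.subschemeι := by
        rw [hrange]; exact subset_closure ⟨hxE, hxf⟩
      obtain ⟨w, rfl⟩ := hxC
      refine ⟨w, ?_, rfl⟩
      show h w = VCov.genPt W
      rw [hh, Scheme.Hom.comp_apply]; exact hxf
    have hz2 := closure_mono hsub hz
    rw [I.subschemeι.isClosedEmbedding.closure_image_eq] at hz2
    obtain ⟨w, hw, hwz⟩ := hz2
    rwa [I.subschemeι.isClosedEmbedding.injective hwz] at hw
  haveI : Flat h := flat_of_dense_generic W h hdense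
  have h1 : Zset f' E' (VCov.genPt W) = f' ⁻¹' {VCov.genPt W} ∩ C := rfl
  have h2 : Zset f' E' t ⊆ f' ⁻¹' {t} ∩ C := by
    rintro x ⟨hx1, hx2⟩
    exact ⟨hx1, closure_minimal hE hC hx2⟩
  rw [h1, dim_inter_closed f' C hC]
  refine le_trans (dim_mono h2) ?_
  rw [dim_inter_closed f' C hC]
  exact dim_fiber_le_gen W h t

theorem dim_inter_range {X S P : Scheme.{u}} (f : X ⟶ S) (j : P ⟶ X) (hj : IsEmbedding j) (t : S) :
    topologicalKrullDim ↥(f ⁻¹' {t} ∩ Set.range j) = topologicalKrullDim ((j ≫ f).fiber t) := by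
  rw [← ProperFlatZeroDim.dim_preimage_eq]
  have himg : j '' ((j ≫ f).base ⁻¹' {t}) = f ⁻¹' {t} ∩ Set.range j := by
    ext x
    constructor
    · rintro ⟨z, hz, rfl⟩
      refine ⟨?_, ⟨z, rfl⟩⟩
      have : (j ≫ f) z = t := hz
      rwa [Scheme.Hom.comp_apply] at this
    · rintro ⟨hx, ⟨z, rfl⟩⟩
      refine ⟨z, ?_, rfl⟩
      show (j ≫ f) z = t
      rw [Scheme.Hom.comp_apply]
      exact hx
  rw [← himg, dim_image_of_isEmbedding hj]

set_option backward.isDefEq.respectTransparency.types false in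
/-- relative openness of the map between fibres under base change -/
theorem exists_open_image_fibre {X S X' S' : Scheme.{u}} (f : X ⟶ S) (k : S' ⟶ S)
    (π : X' ⟶ X) (f' : X' ⟶ S') (hc : IsPullback π f' f k) (t : S') (O : Set X') (hO : IsOpen O) :
    ∃ O₁ : Set X, IsOpen O₁ ∧ π '' (O ∩ f' ⁻¹' {t}) = O₁ ∩ f ⁻¹' {k t} := by
  have hpb := isPullback_fiberToSpecResidueField_of_isPullback hc t
  let φ : f'.fiber t ⟶ f.fiber (k t) :=
    pullback.map f' (S'.fromSpecResidueField t) f (S.fromSpecResidueField (k t)) π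
    (Spec.map (k.residueFieldMap t)) k hc.w.symm (by simp)
  have hφι : φ ≫ f.fiberι (k t) = f'.fiberι t ≫ π := pullback.lift_fst _ _ _
  haveI : UniversallyOpen φ :=
    MorphismProperty.of_isPullback (P := @UniversallyOpen) hpb.flip inferInstance
  have hopen : IsOpenMap φ := φ.isOpenMap
  have hU : IsOpen ((f'.fiberι t) ⁻¹' O) := hO.preimage (f'.fiberι t).continuous
  have hV := hopen _ hU
  obtain ⟨O₁, hO₁, hO₁eq⟩ := (f.fiberι (k t)).isEmbedding.isInducing.isOpen_iff.mp hV
  refine ⟨O₁, hO₁, ?_⟩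
  have e1 : O ∩ f' ⁻¹' {t} = (f'.fiberι t) '' ((f'.fiberι t) ⁻¹' O) := by
    rw [Set.image_preimage_eq_inter_range, f'.range_fiberι]
  have e2 : O₁ ∩ f ⁻¹' {k t} = (f.fiberι (k t)) '' ((f.fiberι (k t)) ⁻¹' O₁) := by
    rw [Set.image_preimage_eq_inter_range, f.range_fiberι]
  rw [e1, e2, hO₁eq, Set.image_image, Set.image_image]
  refine Set.image_congr fun z _ => ?_
  show π ((f'.fiberι t) z) = (f.fiberι (k t)) (φ z)
  rw [← Scheme.Hom.comp_apply, ← Scheme.Hom.comp_apply, hφι]

theorem Zset_baseChange {X S X' S' : Scheme.{u}} (f : X ⟶ S) (k : S' ⟶ S)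
    (π : X' ⟶ X) (f' : X' ⟶ S') (hc : IsPullback π f' f k) (E : Set X) (t : S') :
    Zset f' (π ⁻¹' E) t = f' ⁻¹' {t} ∩ π ⁻¹' (closure (E ∩ f ⁻¹' {k t})) := by
  have hfπ : ∀ x' : X', f (π x') = k (f' x') := by
    intro x'
    rw [← Scheme.Hom.comp_apply, ← Scheme.Hom.comp_apply, hc.w]
  ext x'
  constructor
  · rintro ⟨hx1, hx2⟩
    refine ⟨hx1, ?_⟩
    have hmaps : Set.MapsTo π (π ⁻¹' E ∩ f' ⁻¹' {t}) (E ∩ f ⁻¹' {k t}) := by
      rintro y ⟨hy1, hy2⟩
      refine ⟨hy1, ?_⟩
      show f (π y) = k t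
      rw [hfπ, show f' y = t from hy2]
    exact map_mem_closure π.continuous hx2 hmaps
  · rintro ⟨hx1, hx2⟩
    refine ⟨hx1, ?_⟩
    rw [mem_closure_iff]
    intro O hO hxO
    obtain ⟨O₁, hO₁, hO₁eq⟩ := exists_open_image_fibre f k π f' hc t O hO
    have h1 : π x' ∈ O₁ ∩ f ⁻¹' {k t} := by
      rw [← hO₁eq]; exact ⟨x', ⟨hxO, hx1⟩, rfl⟩
    obtain ⟨e, heO, heE, hef⟩ := mem_closure_iff.mp hx2 O₁ hO₁ h1.1
    have h2 : e ∈ π '' (O ∩ f' ⁻¹' {t}) := by
      rw [hO₁eq]; exact ⟨heO, hef⟩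
    obtain ⟨x'', ⟨hx''O, hx''t⟩, rfl⟩ := h2
    exact ⟨x'', hx''O, heE, hx''t⟩

set_option backward.isDefEq.respectTransparency.types false in
/-- **base change invariance** of `d` -/
theorem dim_Zset_baseChange {X S X' S' : Scheme.{u}} (f : X ⟶ S) [LocallyOfFiniteType f]
    (k : S' ⟶ S) (π : X' ⟶ X) (f' : X' ⟶ S') (hc : IsPullback π f' f k) (E : Set X) (t : S') :
    topologicalKrullDim ↥(Zset f' (π ⁻¹' E) t) = topologicalKrullDim ↥(Zset f E (k t)) := by
  rw [Zset_baseChange f k π f' hc E t]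
  set C := closure (E ∩ f ⁻¹' {k t}) with hCdef
  have hC : IsClosed C := isClosed_closure
  have h1 : Zset f E (k t) = f ⁻¹' {k t} ∩ C := rfl
  rw [h1, dim_inter_closed f C hC]
  set I := Scheme.IdealSheafData.vanishingIdeal (X := X) ⟨C, hC⟩ with hI
  have hrange : Set.range I.subschemeι = C := by
    rw [I.range_subschemeι]
    exact Scheme.IdealSheafData.coe_support_vanishingIdeal _
  let j' := pullback.snd I.subschemeι π
  have hrange' : Set.range j' = π ⁻¹' C := by
    rw [Scheme.Pullback.range_snd, hrange]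
  rw [← hrange', dim_inter_range f' j' j'.isEmbedding]
  have sq : IsPullback (pullback.fst I.subschemeι π) (j' ≫ f') (I.subschemeι ≫ f) k :=
    ((IsPullback.of_hasPullback I.subschemeι π).flip.paste_horiz hc.flip).flip
  exact FibreDimBC.S9777 (I.subschemeι ≫ f) k (j' ≫ f') (pullback.fst I.subschemeι π) sq t

set_option backward.isDefEq.respectTransparency.types false in
theorem S4972 {X S : Scheme.{u}} (f : X ⟶ S) [LocallyOfFiniteType f]
    [QuasiCompact f] {ι : Type u} (Y : ι → Scheme.{u}) (g : ∀ i, Y i ⟶ S) [∀ i, UniversallyOpen (g i)]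
    (v : ∀ i, Y i ⟶ X) (hv : ∀ i, v i ≫ f = g i) (s s' : S) (hs : s' ⤳ s) :
    letI d : S → WithBot ℕ∞ := fun t =>
      topologicalKrullDim ↥(f.base ⁻¹' {t} ∩ closure ((⋃ i, Set.range (v i).base) ∩ f.base ⁻¹' {t}))
    d s ≤ d s' := by
  set E : Set X := ⋃ i, Set.range (v i) with hE
  show topologicalKrullDim ↥(Zset f E s) ≤ topologicalKrullDim ↥(Zset f E s')
  obtain ⟨W, hD, hV, k, hk1, hk2⟩ := VCov.exists_valuationRing_of_specializes hs
  let π := pullback.fst f k
  let f' := pullback.snd f k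
  have hc : IsPullback π f' f k := IsPullback.of_hasPullback f k
  rw [← hk2, ← hk1, ← dim_Zset_baseChange f k π f' hc E, ← dim_Zset_baseChange f k π f' hc E]
  apply dim_Zset_le_gen W f' (π ⁻¹' E) (VCov.clPt W)
  rintro x' ⟨hxE, hxt⟩
  by_contra hcon
  obtain ⟨i, y, hy⟩ := Set.mem_iUnion.mp hxE
  obtain ⟨y', hy'1, hy'2⟩ := Scheme.Pullback.exists_preimage_pullback (f := v i) (g := π) y x' hy
  let b := pullback.snd (v i) π
  have sq : IsPullback (pullback.fst (v i) π) (b ≫ f') (v i ≫ f) k :=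
    ((IsPullback.of_hasPullback (v i) π).flip.paste_horiz hc.flip).flip
  haveI : UniversallyOpen (v i ≫ f) := by rw [hv i]; infer_instance
  haveI : UniversallyOpen (b ≫ f') :=
    MorphismProperty.of_isPullback (P := @UniversallyOpen) sq inferInstance
  set O : Set (pullback f k : Scheme) := (closure (π ⁻¹' E ∩ f' ⁻¹' {VCov.genPt W}))ᶜ with hOdef
  have hO : IsOpen O := isClosed_closure.isOpen_compl
  have hopen : IsOpen ((b ≫ f') '' (b ⁻¹' O)) := (b ≫ f').isOpenMap _ (hO.preimage b.continuous)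
  have hcl : VCov.clPt W ∈ (b ≫ f') '' (b ⁻¹' O) := by
    refine ⟨y', ?_, ?_⟩
    · show b y' ∈ O
      rw [hy'2]; exact hcon
    · rw [Scheme.Hom.comp_apply, hy'2]; exact hxt
  have hgen : VCov.genPt W ∈ (b ≫ f') '' (b ⁻¹' O) :=
    (VCov.genPt_specializes W (VCov.clPt W)).mem_open hopen hcl
  obtain ⟨y'', hy''O, hy''g⟩ := hgen
  have hmem : b y'' ∈ π ⁻¹' E ∩ f' ⁻¹' {VCov.genPt W} := by
    refine ⟨?_, ?_⟩
    · show π (b y'') ∈ E
      have hcond : π (b y'') = v i (pullback.fst (v i) π y'') := by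
        rw [← Scheme.Hom.comp_apply, ← Scheme.Hom.comp_apply, pullback.condition]
      rw [hcond]
      exact Set.mem_iUnion.mpr ⟨i, ⟨_, rfl⟩⟩
    · show f' (b y'') = VCov.genPt W
      rw [← Scheme.Hom.comp_apply]; exact hy''g
  exact hy''O (subset_closure hmem)

end Groth.Agent.Lib.lead.ClosureFibreDim
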