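import Mathlib
import Groth.Agent.Lib.lead.ClosureFibreDim
import Groth.Prelude.Def_W4c2submetdescSubtr

set_option autoImplicit false
set_option linter.style.haveILetI false
set_option linter.unusedSectionVars false
universe u
open CategoryTheory CategoryTheory.Limits AlgebraicGeometry Topology TopologicalSpace

namespace Groth.Agent.Lib.lead.SubtrVal

open Groth.Agent.Lib.lead Groth.Agent.Lib.Helper9 Groth.Agent.Lib.Helper24

/-- an injective local homomorphism from a valuation ring to a local domain is surjective on spectra -/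
theorem comap_surjective_of_injective_local {V W : Type u} [CommRing V] [IsDomain V] [ValuationRing V]
    [CommRing W] [IsDomain W] [IsLocalRing W] (ψ : V →+* W) (hinj : Function.Injective ψ)
    (hloc : (IsLocalRing.maximalIdeal W).comap ψ = IsLocalRing.maximalIdeal V) :
    Function.Surjective (PrimeSpectrum.comap ψ) := by
  letI : Algebra V W := ψ.toAlgebra
  haveI : IsLocalHom (algebraMap V W) := ((IsLocalRing.local_hom_TFAE ψ).out 4 0).mp hloc
  haveI : Module.Flat V W := by
    rw [Module.Flat.flat_iff_torsion_eq_bot_of_isBezout, Submodule.eq_bot_iff]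
    intro b hb
    rw [Submodule.mem_torsion_iff] at hb
    obtain ⟨c, hc⟩ := hb
    have hc0 : (c : V) ≠ 0 := nonZeroDivisors.coe_ne_zero c
    have h1 : ψ (c : V) * b = 0 := hc
    rcases mul_eq_zero.mp h1 with h | h
    · exact absurd ((map_eq_zero_iff ψ hinj).mp h) hc0
    · exact h
  haveI : Module.FaithfullyFlat V W := Module.FaithfullyFlat.of_flat_of_isLocalHom
  exact PrimeSpectrum.comap_surjective_of_faithfullyFlat

/-- a morphism of spectra of valuation rings preserving generic and closed points is surjective -/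
theorem surjective_of_gen_cl (V W : CommRingCat.{u}) [IsDomain V] [ValuationRing V] [IsDomain W]
    [ValuationRing W] (k : Spec W ⟶ Spec V) (hgen : k (VCov.genPt W) = VCov.genPt V)
    (hcl : k (VCov.clPt W) = VCov.clPt V) : Function.Surjective k := by
  obtain ⟨ψ, rfl⟩ := Spec.map_surjective k
  have hinj : Function.Injective ψ.hom := by
    rw [injective_iff_map_eq_zero]
    intro a ha
    have h1 : a ∈ (PrimeSpectrum.comap ψ.hom (VCov.genPt W)).asIdeal := by
      show ψ.hom a ∈ (⊥ : Ideal W)
      rw [ha]; exact Ideal.zero_mem _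
    have h2 : (PrimeSpectrum.comap ψ.hom (VCov.genPt W)) = VCov.genPt V := hgen
    rw [h2] at h1
    exact h1
  have hloc : (IsLocalRing.maximalIdeal W).comap ψ.hom = IsLocalRing.maximalIdeal V :=
    congrArg PrimeSpectrum.asIdeal hcl
  exact comap_surjective_of_injective_local ψ.hom hinj hloc

/-- the reduced closed subscheme on the closure of a subset of the generic fibre has dense
generic fibre -/
theorem dense_generic_of_closure {X' : Scheme.{u}} (W : CommRingCat.{u}) [IsDomain W]
    (f' : X' ⟶ Spec W) (A : Set X') (hA : A ⊆ f' ⁻¹' {VCov.genPt W}) :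
    Dense (((Scheme.IdealSheafData.vanishingIdeal (X := X') ⟨closure A, isClosed_closure⟩).subschemeι ≫ f')
      ⁻¹' {VCov.genPt W}) := by
  set I := Scheme.IdealSheafData.vanishingIdeal (X := X') ⟨closure A, isClosed_closure⟩ with hI
  have hrange : Set.range I.subschemeι = closure A := by
    rw [I.range_subschemeι]
    exact Scheme.IdealSheafData.coe_support_vanishingIdeal _
  set h := I.subschemeι ≫ f' with hh
  rw [dense_iff_closure_eq]
  apply Set.eq_univ_of_forall
  intro z
  have hz : I.subschemeι z ∈ closure A := by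
    rw [← hrange]; exact ⟨z, rfl⟩
  have hsub : A ⊆ I.subschemeι '' (h ⁻¹' {VCov.genPt W}) := by
    intro x hxA
    have hxC : x ∈ Set.range I.subschemeι := by
      rw [hrange]; exact subset_closure hxA
    obtain ⟨w, rfl⟩ := hxC
    refine ⟨w, ?_, rfl⟩
    show h w = VCov.genPt W
    rw [hh, Scheme.Hom.comp_apply]; exact hA hxA
  have hz2 := closure_mono hsub hz
  rw [I.subschemeι.isClosedEmbedding.closure_image_eq] at hz2
  obtain ⟨w, hw, hwz⟩ := hz2
  rwa [I.subschemeι.isClosedEmbedding.injective hwz] at hw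

/-- flat surjective closed subscheme ⇒ universally S-subtrusive -/
theorem univSSubtrusive_of_flat_surjective {X Y Z : Scheme.{u}} (f : X ⟶ Y) (i : Z ⟶ X)
    [Flat (i ≫ f)] [Surjective (i ≫ f)] : Subtr.UnivSSubtrusive f := by
  intro X' Y' i₁ i₂ f' hpb y y' hyy'
  let h' := pullback.snd (i ≫ f) i₂
  let u : pullback (i ≫ f) i₂ ⟶ X' := hpb.lift h' (pullback.fst (i ≫ f) i₂ ≫ i)
    (by rw [Category.assoc, ← pullback.condition])
  have hu : u ≫ f' = h' := hpb.lift_fst _ _ _
  obtain ⟨z, hz⟩ := h'.surjective y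
  obtain ⟨z', hz'1, hz'2⟩ := (Flat.generalizingMap h') (hz ▸ hyy')
  refine ⟨u z, u z', hz'1.map u.continuous, ?_, ?_⟩
  · rw [← Scheme.Hom.comp_apply, hu, hz]
  · rw [← Scheme.Hom.comp_apply, hu, hz'2]

set_option backward.isDefEq.respectTransparency.types false in
theorem S14765 (V : Type u) [CommRing V] [IsDomain V] [ValuationRing V]
    {X : Scheme.{u}} (f : X ⟶ Spec (CommRingCat.of V)) :
    List.TFAE [
      Subtr.UnivSSubtrusive f,
      Subtr.IsSSubtrusive f,
      ∀ y : Spec (CommRingCat.of V), ∃ x : X,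
        x ∈ closure (f ⁻¹' {(⟨⊥, Ideal.isPrime_bot⟩ : PrimeSpectrum V)}) ∧ f x = y,
      ∃ x x' : X, x' ⤳ x ∧ f x = IsLocalRing.closedPoint V ∧
        f x' = (⟨⊥, Ideal.isPrime_bot⟩ : PrimeSpectrum V),
      ∃ (W : Type u) (_ : CommRing W) (_ : IsDomain W) (_ : ValuationRing W)
        (g : Spec (CommRingCat.of W) ⟶ X), Surjective (g ≫ f),
      ∃ (Z : Scheme.{u}) (i : Z ⟶ X), IsClosedImmersion i ∧ Flat (i ≫ f) ∧ Surjective (i ≫ f)] := by
  have hgenV : VCov.genPt (CommRingCat.of V) = (⟨⊥, Ideal.isPrime_bot⟩ : PrimeSpectrum V) := rfl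
  have hclV : VCov.clPt (CommRingCat.of V) = IsLocalRing.closedPoint V := rfl
  tfae_have 1 → 2 := fun h => h _ _ _ IsPullback.of_id_snd
  tfae_have 2 → 4 := by
    intro h
    obtain ⟨x, x', h1, h2, h3⟩ := h (VCov.genPt_specializes (CommRingCat.of V)
      (VCov.clPt (CommRingCat.of V)))
    exact ⟨x, x', h1, h2, h3⟩
  tfae_have 4 → 5 := by
    rintro ⟨x, x', hsp, hx, hx'⟩
    obtain ⟨W, hD, hV, k, hk1, hk2⟩ := VCov.exists_valuationRing_of_specializes hsp
    refine ⟨W, inferInstance, hD, hV, k, ⟨?_⟩⟩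
    refine surjective_of_gen_cl (CommRingCat.of V) W (k ≫ f) ?_ ?_
    · rw [Scheme.Hom.comp_apply, hk1, hx']; rfl
    · rw [Scheme.Hom.comp_apply, hk2, hx]; rfl
  tfae_have 5 → 3 := by
    rintro ⟨W, hC, hD, hV, g, hsurj⟩ y
    obtain ⟨w, hw⟩ := (g ≫ f).surjective y
    obtain ⟨w₀, hw₀⟩ := (g ≫ f).surjective (VCov.genPt (CommRingCat.of V))
    have hgw : (g ≫ f) (VCov.genPt (CommRingCat.of W)) = VCov.genPt (CommRingCat.of V) := by
      have h1 : (g ≫ f) (VCov.genPt (CommRingCat.of W)) ⤳ (g ≫ f) w₀ :=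
        (VCov.genPt_specializes (CommRingCat.of W) w₀).map (g ≫ f).continuous
      rw [hw₀] at h1
      exact (h1.antisymm (VCov.genPt_specializes (CommRingCat.of V) _)).eq
    refine ⟨g w, ?_, by rw [← Scheme.Hom.comp_apply]; exact hw⟩
    have h2 : g (VCov.genPt (CommRingCat.of W)) ⤳ g w :=
      (VCov.genPt_specializes (CommRingCat.of W) w).map g.continuous
    refine closure_mono ?_ (specializes_iff_mem_closure.mp h2)
    rintro _ rfl
    show f (g (VCov.genPt (CommRingCat.of W))) = _
    rw [← Scheme.Hom.comp_apply, hgw]; rfl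
  tfae_have 3 → 6 := by
    intro h
    set A : Set X := f ⁻¹' {VCov.genPt (CommRingCat.of V)} with hA
    set I := Scheme.IdealSheafData.vanishingIdeal (X := X) ⟨closure A, isClosed_closure⟩ with hI
    have hrange : Set.range I.subschemeι = closure A := by
      rw [I.range_subschemeι]
      exact Scheme.IdealSheafData.coe_support_vanishingIdeal _
    haveI : IsReduced I.subscheme := FibreDim.isReduced_vanishingIdeal_subscheme _
    have hdense := dense_generic_of_closure (CommRingCat.of V) f A (le_refl _)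
    refine ⟨I.subscheme, I.subschemeι, inferInstance,
      ClosureFibreDim.flat_of_dense_generic (CommRingCat.of V) _ hdense, ⟨fun y => ?_⟩⟩
    obtain ⟨x, hx, hxy⟩ := h y
    have hx' : x ∈ Set.range I.subschemeι := by rw [hrange]; exact hx
    obtain ⟨z, rfl⟩ := hx'
    exact ⟨z, by rw [Scheme.Hom.comp_apply]; exact hxy⟩
  tfae_have 6 → 1 := by
    rintro ⟨Z, i, -, hfl, hsurj⟩
    exact univSSubtrusive_of_flat_surjective f i
  tfae_finish

end Groth.Agent.Lib.lead.SubtrVal
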