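import Mathlib
import Groth.Agent.Lib.lead.SubtrVal
import Groth.Prelude.Def_W4c2submetdescSubtr

set_option autoImplicit false
set_option linter.style.haveILetI false
set_option linter.unusedSectionVars false
universe u
open CategoryTheory CategoryTheory.Limits AlgebraicGeometry Topology TopologicalSpace

namespace Groth.Agent.Lib.lead.SubtrVal2

open Groth.Agent.Lib.lead Groth.Agent.Lib.Helper9 Groth.Agent.Lib.Helper24

set_option backward.isDefEq.respectTransparency.types false in
theorem S14768 {X Y : Scheme.{u}} (f : X ⟶ Y) :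
    Subtr.UnivSSubtrusive f ↔
      ∀ (V : Type u) [CommRing V] [IsDomain V] [ValuationRing V] (g : Spec (CommRingCat.of V) ⟶ Y),
        Subtr.IsSSubtrusive (pullback.snd f g) := by
  constructor
  · intro h V _ _ _ g
    exact h _ _ _ (IsPullback.of_hasPullback f g).flip
  · intro h X' Y' i₁ i₂ f' hpb y y' hyy'
    obtain ⟨W, hD, hV, k, hk1, hk2⟩ := VCov.exists_valuationRing_of_specializes hyy'
    have hS := h W (k ≫ i₂)
    obtain ⟨p, p', hp1, hp2, hp3⟩ := hS (VCov.genPt_specializes W (VCov.clPt W))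
    let u : pullback f (k ≫ i₂) ⟶ X' := hpb.lift (pullback.snd f (k ≫ i₂) ≫ k)
      (pullback.fst f (k ≫ i₂)) (by rw [Category.assoc, pullback.condition])
    have hu : u ≫ f' = pullback.snd f (k ≫ i₂) ≫ k := hpb.lift_fst _ _ _
    refine ⟨u p, u p', hp1.map u.continuous, ?_, ?_⟩
    · rw [← Scheme.Hom.comp_apply, hu, Scheme.Hom.comp_apply, hp2, hk2]
    · rw [← Scheme.Hom.comp_apply, hu, Scheme.Hom.comp_apply, hp3, hk1]

set_option backward.isDefEq.respectTransparency.types false in
theorem S14769 {X Y : Scheme.{u}} (f : X ⟶ Y) :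
    Subtr.UnivSSubtrusive f ↔
      ∀ (V : Type u) [CommRing V] [IsDomain V] [ValuationRing V] (g : Spec (CommRingCat.of V) ⟶ Y),
        ∃ (V' : Type u) (_ : CommRing V') (_ : IsDomain V') (_ : ValuationRing V')
          (a : Spec (CommRingCat.of V') ⟶ X) (b : Spec (CommRingCat.of V') ⟶ Spec (CommRingCat.of V)),
          Surjective b ∧ a ≫ f = b ≫ g := by
  constructor
  · intro h V _ _ _ g
    have h1 : Subtr.UnivSSubtrusive (pullback.snd f g) := by
      intro X' Y' i₁ i₂ f' hpb
      exact h _ _ _ (hpb.paste_vert (IsPullback.of_hasPullback f g).flip)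
    obtain ⟨V', hC, hD, hV, g', hsurj⟩ := ((SubtrVal.S14765 V (pullback.snd f g)).out 0 4).mp h1
    refine ⟨V', hC, hD, hV, g' ≫ pullback.fst f g, g' ≫ pullback.snd f g, hsurj, ?_⟩
    rw [Category.assoc, Category.assoc, pullback.condition]
  · intro h
    rw [S14768]
    intro V _ _ _ g
    obtain ⟨V', hC, hD, hV, a, b, hsurj, hab⟩ := h V g
    refine ((SubtrVal.S14765 V (pullback.snd f g)).out 4 1).mp ?_
    refine ⟨V', hC, hD, hV, pullback.lift a b hab, ?_⟩
    rw [pullback.lift_snd]
    exact hsurj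

end Groth.Agent.Lib.lead.SubtrVal2
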