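import Mathlib

open CategoryTheory CategoryTheory.Limits AlgebraicGeometry TensorProduct

universe u

namespace Groth.Agent.Lib.lead.UnivOpenAffine

section core

variable {R R' S : Type u} [CommRing R] [CommRing R'] [CommRing S] [Algebra R R'] [Algebra R S]

attribute [local instance] MvPolynomial.algebraMvPolynomial in
/-- The right square `R[X] → R'`, `S[X] → R' ⊗ S` is a pushout. -/
theorem isPushout_right (n : Type u) (b : n → R') :
    IsPushout (CommRingCat.ofHom (MvPolynomial.aeval b : MvPolynomial n R →ₐ[R] R').toRingHom)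
      (CommRingCat.ofHom (MvPolynomial.map (algebraMap R S) : MvPolynomial n R →+* MvPolynomial n S))
      (CommRingCat.ofHom (S := R' ⊗[R] S) Algebra.TensorProduct.includeLeftRingHom)
      (CommRingCat.ofHom (S := R' ⊗[R] S)
        (MvPolynomial.eval₂Hom (Algebra.TensorProduct.includeRight (R := R) (A := R') (B := S)).toRingHom
          (fun i => b i ⊗ₜ[R] (1 : S)))) := by
  have hl := CommRingCat.isPushout_of_isPushout R (MvPolynomial n R) S (MvPolynomial n S)
  have hbig := CommRingCat.isPushout_tensorProduct R R' S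
  refine IsPushout.of_left (h₁₁ := CommRingCat.ofHom (algebraMap R (MvPolynomial n R)))
    (h₂₁ := CommRingCat.ofHom (algebraMap S (MvPolynomial n S)))
    (v₁₁ := CommRingCat.ofHom (algebraMap R S)) ?_ ?_ hl
  · convert hbig using 1
    · ext x
      simp
    · ext x
      simp
  · ext x
    · simp
    · simp

/-- Ring-level core: if all `S[X₁..Xₙ] / R[X₁..Xₙ]` have open `Spec` maps then so does every base
change `R' → R' ⊗ S`. -/
theorem isOpenMap_comap_tensor
    (H : ∀ (n : Type u) [Finite n], IsOpenMap (PrimeSpectrum.comap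
      (MvPolynomial.map (algebraMap R S) : MvPolynomial n R →+* MvPolynomial n S))) :
    IsOpenMap (PrimeSpectrum.comap (algebraMap R' (R' ⊗[R] S))) := by
  rw [PrimeSpectrum.isTopologicalBasis_basic_opens.isOpenMap_iff]
  rintro _ ⟨g, rfl⟩
  obtain ⟨s, rfl⟩ := TensorProduct.exists_finset g
  let n : Type u := ↥s
  let b : n → R' := fun i => i.1.1
  let c : n → S := fun i => i.1.2
  have hpo := isPushout_right (R := R) (S := S) n b
  have hpb := (isPullback_SpecMap_of_isPushout _ _ _ _ hpo).flip
  let G : MvPolynomial n S := ∑ i : n, MvPolynomial.X i * MvPolynomial.C (c i)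
  have hG : (MvPolynomial.eval₂Hom
      (Algebra.TensorProduct.includeRight (R := R) (A := R') (B := S)).toRingHom
      (fun i => b i ⊗ₜ[R] (1 : S))) G = s.sum fun i ↦ i.1 ⊗ₜ[R] i.2 := by
    simp only [G, map_sum, map_mul, MvPolynomial.eval₂Hom_X', MvPolynomial.eval₂Hom_C]
    rw [← Finset.sum_coe_sort s]
    refine Finset.sum_congr rfl fun i _ => ?_
    simp [b, c]
  have key := Scheme.image_preimage_eq_of_isPullback hpb (PrimeSpectrum.basicOpen G).carrier
  have hopen := H n _ (PrimeSpectrum.basicOpen G).isOpen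
  have hcont : Continuous (PrimeSpectrum.comap (MvPolynomial.aeval b : MvPolynomial n R →ₐ[R] R').toRingHom) :=
    PrimeSpectrum.continuous_comap _
  have := hopen.preimage hcont
  convert this using 1
  rw [← hG]
  exact key

end core

section scheme

open AlgebraicGeometry.AffineSpace MorphismProperty

/-- All the "affine space" base changes of `f` are open maps. -/
def AffOpen {X Y : Scheme.{u}} (f : X ⟶ Y) : Prop :=
  ∀ (n : Type u) [Finite n], IsOpenMap (AffineSpace.map n f)

theorem isOpenImmersion_map (n : Type u) {X Y : Scheme.{u}} (j : X ⟶ Y) [IsOpenImmersion j] :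
    IsOpenImmersion (AffineSpace.map n j) :=
  MorphismProperty.of_isPullback (P := @IsOpenImmersion) (isPullback_map j).flip inferInstance

theorem AffOpen.of_comm {X Y X' Y' : Scheme.{u}} {f : X ⟶ Y} (H : AffOpen f) (i : X' ⟶ X)
    (j : Y' ⟶ Y) [IsOpenImmersion i] [IsOpenImmersion j] (f' : X' ⟶ Y') (h : f' ≫ j = i ≫ f) :
    AffOpen f' := by
  intro n _ W hW
  have hi := isOpenImmersion_map n i
  have hj := isOpenImmersion_map n j
  have h1 : IsOpenMap (AffineSpace.map n i ≫ AffineSpace.map n f) := by
    rw [Scheme.Hom.comp_base]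
    exact (H n).comp (AffineSpace.map n i).isOpenEmbedding.isOpenMap
  rw [← map_comp, ← h, map_comp] at h1
  have h2 := h1 W hW
  have h3 : (AffineSpace.map n f') '' W =
      (AffineSpace.map n j) ⁻¹' ((AffineSpace.map n f' ≫ AffineSpace.map n j) '' W) := by
    rw [Scheme.Hom.comp_base]
    ext y
    simp only [TopCat.hom_comp, ContinuousMap.coe_comp, Set.mem_image, Set.mem_preimage,
      Function.comp_apply]
    constructor
    · rintro ⟨w, hw, rfl⟩
      exact ⟨w, hw, rfl⟩
    · rintro ⟨w, hw, e⟩
      exact ⟨w, hw, (AffineSpace.map n j).isOpenEmbedding.injective e⟩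
  rw [h3]
  exact h2.preimage (AffineSpace.map n j).continuous

theorem AffOpen.isOpenMap_comap {R S : CommRingCat.{u}} (φ : R ⟶ S) (H : AffOpen (Spec.map φ))
    (n : Type u) [Finite n] :
    IsOpenMap (PrimeSpectrum.comap (MvPolynomial.map φ.hom : MvPolynomial n R →+* MvPolynomial n S)) := by
  have h := H n
  rw [map_SpecMap] at h
  have h1 : IsOpenMap ((SpecIso n S).inv ≫ ((SpecIso n S).hom ≫
      Spec.map (CommRingCat.ofHom (MvPolynomial.map φ.hom)) ≫ (SpecIso n R).inv) ≫
        (SpecIso n R).hom) := by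
    rw [Scheme.Hom.comp_base, Scheme.Hom.comp_base]
    exact ((SpecIso n R).hom.homeomorph.isOpenMap.comp h).comp (SpecIso n S).inv.homeomorph.isOpenMap
  simp only [Category.assoc, Iso.inv_hom_id, Category.comp_id, Iso.inv_hom_id_assoc] at h1
  exact h1

theorem universallyOpen_of_affOpen {X Y : Scheme.{u}} (f : X ⟶ Y) (H : AffOpen f) :
    UniversallyOpen f := by
  wlog hY : ∃ R, Y = Spec R generalizing X Y
  · rw [IsZariskiLocalAtTarget.iff_of_openCover (P := @UniversallyOpen) Y.affineCover]
    intro i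
    exact this _ (H.of_comm (pullback.fst _ _) (Y.affineCover.f i) _ pullback.condition.symm)
      ⟨_, rfl⟩
  obtain ⟨R, rfl⟩ := hY
  wlog hX : ∃ S, X = Spec S generalizing X
  · rw [IsZariskiLocalAtSource.iff_of_openCover (P := @UniversallyOpen) X.affineCover]
    intro i
    exact this _ (H.of_comm (X.affineCover.f i) (𝟙 _) _ (by simp)) ⟨_, rfl⟩
  obtain ⟨S, rfl⟩ := hX
  obtain ⟨φ, rfl⟩ := Spec.map_surjective f
  refine ⟨universally_mk' _ _ fun {T} g _ ↦ ?_⟩
  wlog hT : ∃ R, T = Spec R generalizing T
  · refine (IsZariskiLocalAtTarget.iff_of_openCover T.affineCover).mpr fun i ↦ ?_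
    refine (MorphismProperty.cancel_left_of_respectsIso _
      ((pullbackRightPullbackFstIso ..).inv ≫ (pullbackSymmetry ..).hom) _).mp ?_
    simpa [Scheme.Cover.pullbackHom] using! this _ _ ⟨_, rfl⟩
  obtain ⟨R', rfl⟩ := hT
  obtain ⟨ψ, rfl⟩ := Spec.map_surjective g
  algebraize [φ.hom, ψ.hom]
  refine (MorphismProperty.cancel_left_of_respectsIso _ (pullbackSpecIso R R' S).inv _).mp ?_
  convert_to! topologically _ (Spec.map <| CommRingCat.ofHom (algebraMap R' (TensorProduct R R' S)))
  · exact pullbackSpecIso_inv_fst ..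
  exact isOpenMap_comap_tensor (R := R) (R' := R') (S := S) fun n _ => H.isOpenMap_comap φ n

end scheme

end Groth.Agent.Lib.lead.UnivOpenAffine
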