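import Mathlib
import Groth.Prelude.Def_EGA43
import Groth.Agent.Lib.lead.UnivOpenAffine

open CategoryTheory CategoryTheory.Limits AlgebraicGeometry TensorProduct Topology

universe u

namespace Groth.Agent.Lib.lead.OpenAt

open EGA43 Groth.Agent.Lib.lead.UnivOpenAffine

section top

variable {α β α₀ β₀ : Type*} [TopologicalSpace α] [TopologicalSpace β] [TopologicalSpace α₀]
  [TopologicalSpace β₀]

/-- openness at a point can be checked in a chart -/
theorem isOpenAt_of_chart {F : α → β} {F₀ : α₀ → β₀} {j : α₀ → α} {ι : β₀ → β}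
    (hj : Continuous j) (hι : IsOpenMap ι) (hcomm : ∀ a, F (j a) = ι (F₀ a)) (a₀ : α₀)
    (h : IsOpenAt F₀ a₀) : IsOpenAt F (j a₀) := by
  intro U hU
  have h1 : j ⁻¹' U ∈ 𝓝 a₀ := hj.continuousAt hU
  have h2 := h _ h1
  have h3 : ι '' (F₀ '' (j ⁻¹' U)) ∈ 𝓝 (ι (F₀ a₀)) := hι.image_mem_nhds h2
  rw [hcomm]
  refine Filter.mem_of_superset h3 ?_
  rintro _ ⟨_, ⟨a, ha, rfl⟩, rfl⟩
  exact ⟨j a, ha, hcomm a⟩

/-- openness at a point passes to a chart -/
theorem isOpenAt_chart {F : α → β} {F₀ : α₀ → β₀} {j : α₀ → α} {ι : β₀ → β}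
    (hj : IsOpenMap j) (hι : Continuous ι) (hinj : Function.Injective ι)
    (hcomm : ∀ a, F (j a) = ι (F₀ a)) (a₀ : α₀)
    (h : IsOpenAt F (j a₀)) : IsOpenAt F₀ a₀ := by
  intro U hU
  have h1 : j '' U ∈ 𝓝 (j a₀) := hj.image_mem_nhds hU
  have h2 := h _ h1
  rw [hcomm] at h2
  have h3 : ι ⁻¹' (F '' (j '' U)) ∈ 𝓝 (F₀ a₀) := hι.continuousAt h2
  refine Filter.mem_of_superset h3 ?_
  rintro b ⟨_, ⟨a, ha, rfl⟩, hb⟩
  rw [hcomm] at hb
  exact ⟨a, ha, hinj hb⟩

end top

section ring

/-- A constructible subset of a prime spectrum containing all generalizations of a point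
is a neighbourhood of that point. -/
theorem mem_nhds_of_isConstructible {R : Type u} [CommRing R] {E : Set (PrimeSpectrum R)}
    (hE : IsConstructible E) (y : PrimeSpectrum R) (hy : ∀ y', y' ⤳ y → y' ∈ E) : E ∈ 𝓝 y := by
  obtain ⟨S, _, ψ, hψ⟩ := PrimeSpectrum.exists_range_eq_of_isConstructible hE.compl
  have hy' : y ∉ closure Eᶜ := by
    rw [← hψ, PrimeSpectrum.closure_range_comap]
    intro hmem
    rw [PrimeSpectrum.mem_zeroLocus, SetLike.coe_subset_coe] at hmem
    obtain ⟨p, hp, hpy⟩ := Ideal.exists_minimalPrimes_le hmem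
    obtain ⟨p', hp', hpp'⟩ := Ideal.exists_comap_eq_of_mem_minimalPrimes ψ p hp
    have hpprime : p.IsPrime := hp.1.1
    have h1 : (⟨p, hpprime⟩ : PrimeSpectrum R) ∈ Set.range (PrimeSpectrum.comap ψ) :=
      ⟨⟨p', hp'⟩, PrimeSpectrum.ext hpp'.2⟩
    rw [hψ] at h1
    exact h1 (hy _ ((PrimeSpectrum.le_iff_specializes _ _).mp hpy))
  have h2 : (closure Eᶜ)ᶜ ∈ 𝓝 y := isClosed_closure.isOpen_compl.mem_nhds hy'
  refine Filter.mem_of_superset h2 ?_
  intro z hz
  by_contra hzE
  exact hz (subset_closure hzE)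

/-- finite presentation + generalizations lift at `q` ⇒ open at `q` -/
theorem isOpenAt_comap_of_generalizing {R S : Type u} [CommRing R] [CommRing S] (φ : R →+* S)
    (hφ : φ.FinitePresentation) (q : PrimeSpectrum S)
    (hgen : ∀ p', p' ⤳ PrimeSpectrum.comap φ q → ∃ q', q' ⤳ q ∧ PrimeSpectrum.comap φ q' = p') :
    IsOpenAt (PrimeSpectrum.comap φ) q := by
  intro U hU
  obtain ⟨_, ⟨s, rfl⟩, hqs, hsU⟩ :=
    PrimeSpectrum.isTopologicalBasis_basic_opens.mem_nhds_iff.mp hU
  have hE : IsConstructible (PrimeSpectrum.comap φ '' (PrimeSpectrum.basicOpen s : Set _)) :=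
    PrimeSpectrum.isConstructible_comap_image hφ PrimeSpectrum.isConstructible_basicOpen
  have := mem_nhds_of_isConstructible hE (PrimeSpectrum.comap φ q) (by
    intro y' hy'
    obtain ⟨q', hq', rfl⟩ := hgen y' hy'
    exact ⟨q', hq'.mem_open (PrimeSpectrum.basicOpen s).isOpen hqs, rfl⟩)
  exact Filter.mem_of_superset this (Set.image_mono hsU)

/-- open at `Q` ⇒ generalizations of the image lift to generalizations of `Q`. -/
theorem exists_specializes_of_isOpenAt_comap {A B : Type*} [CommRing A] [CommRing B] (φ : A →+* B)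
    (Q : PrimeSpectrum B) (h : IsOpenAt (PrimeSpectrum.comap φ) Q) (p' : PrimeSpectrum A)
    (hp' : p' ⤳ PrimeSpectrum.comap φ Q) :
    ∃ Q', Q' ⤳ Q ∧ PrimeSpectrum.comap φ Q' = p' := by
  let C := Localization.AtPrime Q.asIdeal
  let ψ : A →+* C := (algebraMap B C).comp φ
  have hmem : p' ∈ Set.range (PrimeSpectrum.comap ψ) := by
    rw [PrimeSpectrum.mem_range_comap_iff]
    apply le_antisymm _ Ideal.le_comap_map
    intro a ha
    rw [Ideal.mem_comap] at ha
    have e : p'.asIdeal.map ψ = (p'.asIdeal.map φ).map (algebraMap B C) := by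
      rw [Ideal.map_map]
    rw [e, IsLocalization.mem_map_algebraMap_iff Q.asIdeal.primeCompl] at ha
    obtain ⟨⟨⟨x, hx⟩, ⟨g, hg⟩⟩, hxg⟩ := ha
    simp only [ψ, RingHom.comp_apply, ← map_mul] at hxg
    obtain ⟨⟨c, hc⟩, hcc⟩ := (IsLocalization.eq_iff_exists Q.asIdeal.primeCompl C).mp hxg
    simp only at hcc
    have hmem2 : c * g * φ a ∈ p'.asIdeal.map φ := by
      have : c * g * φ a = c * (φ a * g) := by ring
      rw [this, hcc]
      exact Ideal.mul_mem_left _ _ hx
    have hQ : Q ∈ (PrimeSpectrum.basicOpen (c * g) : Set (PrimeSpectrum B)) := by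
      show c * g ∉ Q.asIdeal
      exact fun hh => (Q.2.mem_or_mem hh).elim hc hg
    have hnhds := h _ ((PrimeSpectrum.basicOpen (c * g)).isOpen.mem_nhds hQ)
    have : p' ∈ PrimeSpectrum.comap φ '' (PrimeSpectrum.basicOpen (c * g) : Set (PrimeSpectrum B)) :=
      mem_of_mem_nhds (hp' hnhds)
    obtain ⟨Q₁, hQ₁, rfl⟩ := this
    have hle1 : (PrimeSpectrum.comap φ Q₁).asIdeal.map φ ≤ Q₁.asIdeal :=
      Ideal.map_le_iff_le_comap.mpr le_rfl
    have h3 := hle1 hmem2
    rcases Q₁.2.mem_or_mem h3 with h4 | h4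
    · exact absurd h4 hQ₁
    · exact h4
  obtain ⟨P, hP⟩ := hmem
  refine ⟨PrimeSpectrum.comap (algebraMap B C) P, ?_, ?_⟩
  · show PrimeSpectrum.comap (algebraMap B C) P ⤳ Q
    rw [← PrimeSpectrum.le_iff_specializes]
    show P.asIdeal.comap (algebraMap B C) ≤ Q.asIdeal
    have h1 : P.asIdeal ≤ IsLocalRing.maximalIdeal C := IsLocalRing.le_maximalIdeal P.2.ne_top
    calc P.asIdeal.comap (algebraMap B C) ≤ (IsLocalRing.maximalIdeal C).comap (algebraMap B C) :=
          Ideal.comap_mono h1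
      _ = Q.asIdeal := IsLocalization.AtPrime.under_maximalIdeal C Q.asIdeal
  · rw [← hP]
    rfl

variable {R R' S : Type u} [CommRing R] [CommRing R'] [CommRing S] [Algebra R R'] [Algebra R S]

/-- Pointwise ring-level core. -/
theorem isOpenAt_comap_tensor (r : PrimeSpectrum (R' ⊗[R] S))
    (H : ∀ (n : Type u) [Finite n] (p : PrimeSpectrum (MvPolynomial n S)),
      PrimeSpectrum.comap (MvPolynomial.C : S →+* MvPolynomial n S) p =
        PrimeSpectrum.comap (Algebra.TensorProduct.includeRight (R := R) (A := R') (B := S)).toRingHom r →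
      IsOpenAt (PrimeSpectrum.comap
        (MvPolynomial.map (algebraMap R S) : MvPolynomial n R →+* MvPolynomial n S)) p) :
    IsOpenAt (PrimeSpectrum.comap (algebraMap R' (R' ⊗[R] S))) r := by
  intro U hU
  obtain ⟨_, ⟨g, rfl⟩, hrg, hgU⟩ :=
    PrimeSpectrum.isTopologicalBasis_basic_opens.mem_nhds_iff.mp hU
  obtain ⟨s, rfl⟩ := TensorProduct.exists_finset g
  let n : Type u := ↥s
  let b : n → R' := fun i => i.1.1
  let c : n → S := fun i => i.1.2
  have hpo := isPushout_right (R := R) (S := S) n b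
  have hpb := (isPullback_SpecMap_of_isPushout _ _ _ _ hpo).flip
  let G : MvPolynomial n S := ∑ i : n, MvPolynomial.X i * MvPolynomial.C (c i)
  set β : MvPolynomial n S →+* R' ⊗[R] S := (MvPolynomial.eval₂Hom
      (Algebra.TensorProduct.includeRight (R := R) (A := R') (B := S)).toRingHom
      (fun i => b i ⊗ₜ[R] (1 : S))) with hβ
  have hG : β G = s.sum fun i ↦ i.1 ⊗ₜ[R] i.2 := by
    simp only [hβ, G, map_sum, map_mul, MvPolynomial.eval₂Hom_X', MvPolynomial.eval₂Hom_C]
    rw [← Finset.sum_coe_sort s]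
    refine Finset.sum_congr rfl fun i _ => ?_
    simp [b, c]
  have key := Scheme.image_preimage_eq_of_isPullback hpb (PrimeSpectrum.basicOpen G).carrier
  let p : PrimeSpectrum (MvPolynomial n S) := PrimeSpectrum.comap β r
  have hpG : p ∈ (PrimeSpectrum.basicOpen G : Set _) := by
    show β G ∉ r.asIdeal
    rw [hG]
    exact hrg
  have hpC : PrimeSpectrum.comap (MvPolynomial.C : S →+* MvPolynomial n S) p =
      PrimeSpectrum.comap (Algebra.TensorProduct.includeRight (R := R) (A := R') (B := S)).toRingHom r := by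
    show PrimeSpectrum.comap _ (PrimeSpectrum.comap β r) = _
    rw [← PrimeSpectrum.comap_comp_apply]
    congr 1
    ext x
    simp [hβ]
  have hopen := H n p hpC _ ((PrimeSpectrum.basicOpen G).isOpen.mem_nhds hpG)
  set α : MvPolynomial n R →+* R' := (MvPolynomial.aeval b : MvPolynomial n R →ₐ[R] R').toRingHom
    with hα
  have hcont : Continuous (PrimeSpectrum.comap α) := PrimeSpectrum.continuous_comap _
  have hpt : PrimeSpectrum.comap α (PrimeSpectrum.comap (algebraMap R' (R' ⊗[R] S)) r) =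
      PrimeSpectrum.comap (MvPolynomial.map (algebraMap R S)) p := by
    show _ = PrimeSpectrum.comap _ (PrimeSpectrum.comap β r)
    rw [← PrimeSpectrum.comap_comp_apply, ← PrimeSpectrum.comap_comp_apply]
    congr 1
    have := congrArg CommRingCat.Hom.hom hpo.w
    simp only [CommRingCat.hom_comp, CommRingCat.hom_ofHom] at this
    exact this
  rw [← hpt] at hopen
  have h3 := hcont.continuousAt hopen
  refine Filter.mem_of_superset h3 ?_
  have key' : PrimeSpectrum.comap (algebraMap R' (R' ⊗[R] S)) ''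
      (PrimeSpectrum.basicOpen (β G) : Set _) = PrimeSpectrum.comap α ⁻¹'
        (PrimeSpectrum.comap (MvPolynomial.map (algebraMap R S)) '' (PrimeSpectrum.basicOpen G : Set _)) :=
    key
  rw [← key', hG]
  exact Set.image_mono hgU

end ring

end Groth.Agent.Lib.lead.OpenAt
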