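import Mathlib
import Groth.Prelude.Def_EGA43
import Groth.Agent.Lib.lead.OpenAt

open CategoryTheory CategoryTheory.Limits AlgebraicGeometry TensorProduct Topology

universe u

namespace Groth.Agent.Lib.lead.OpenAtSch

open EGA43 Groth.Agent.Lib.lead.UnivOpenAffine Groth.Agent.Lib.lead.OpenAt

/-- affine chart around a point -/
theorem exists_affine_chart {X Y : Scheme.{u}} (f : X ⟶ Y) (x : X) (V₀ : Y.Opens)
    (hV₀ : f x ∈ V₀) :
    ∃ (V : Y.Opens) (U : X.Opens) (_ : IsAffineOpen V) (_ : IsAffineOpen U) (_ : U ≤ f ⁻¹ᵁ V),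
      x ∈ U ∧ V ≤ V₀ := by
  obtain ⟨_, ⟨V, hV, rfl⟩, hxV, hVV₀⟩ := (Y.isBasis_affineOpens).exists_subset_of_mem_open
    hV₀ V₀.isOpen
  obtain ⟨_, ⟨U, hU, rfl⟩, hxU, hUV⟩ := (X.isBasis_affineOpens).exists_subset_of_mem_open
    (show x ∈ ((f ⁻¹ᵁ V : X.Opens) : Set X) from hxV) (f ⁻¹ᵁ V).isOpen
  exact ⟨V, U, hV, hU, hUV, hxU, hVV₀⟩

theorem isOpenAt_of_generalizing {X Y : Scheme.{u}} (f : X ⟶ Y) [LocallyOfFinitePresentation f]
    (x : X) (hgen : ∀ y', y' ⤳ f x → ∃ x', x' ⤳ x ∧ f x' = y') : IsOpenAt f.base x := by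
  obtain ⟨V, U, hV, hU, e, hxU, -⟩ := exists_affine_chart f x ⊤ trivial
  have hcomm := hV.SpecMap_appLE_fromSpec f hU e
  have hcomm' : ∀ a, f (hU.fromSpec a) = hV.fromSpec ((Spec.map (f.appLE V U e)) a) := by
    intro a
    rw [← Scheme.Hom.comp_apply, ← Scheme.Hom.comp_apply, hcomm]
  obtain ⟨x₀, rfl⟩ : x ∈ Set.range hU.fromSpec := by rw [hU.range_fromSpec]; exact hxU
  refine isOpenAt_of_chart (F₀ := (Spec.map (f.appLE V U e)).base) (j := hU.fromSpec.base)
    (ι := hV.fromSpec.base) hU.fromSpec.continuous hV.fromSpec.isOpenEmbedding.isOpenMap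
    hcomm' x₀ ?_
  change IsOpenAt (PrimeSpectrum.comap (f.appLE V U e).hom) x₀
  apply isOpenAt_comap_of_generalizing _ (f.finitePresentation_appLE hV hU e) x₀
  intro p' hp'
  have h1 : hV.fromSpec p' ⤳ f (hU.fromSpec x₀) := by
    rw [hcomm']
    exact hp'.map hV.fromSpec.continuous
  obtain ⟨x', hx', hfx'⟩ := hgen _ h1
  have : x' ∈ Set.range hU.fromSpec := by
    rw [hU.range_fromSpec]
    exact hx'.mem_open U.isOpen hxU
  obtain ⟨x₁, rfl⟩ := this
  refine ⟨x₁, (hU.fromSpec.isOpenEmbedding.isInducing.specializes_iff).mp hx', ?_⟩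
  apply hV.fromSpec.isOpenEmbedding.injective
  rw [← hfx', hcomm']
  rfl

theorem exists_specializes_of_isOpenAt {X Y : Scheme.{u}} (f : X ⟶ Y) (x : X)
    (h : IsOpenAt f.base x) (y' : Y) (hy' : y' ⤳ f x) : ∃ x', x' ⤳ x ∧ f x' = y' := by
  obtain ⟨V, U, hV, hU, e, hxU, -⟩ := exists_affine_chart f x ⊤ trivial
  have hcomm := hV.SpecMap_appLE_fromSpec f hU e
  have hcomm' : ∀ a, f (hU.fromSpec a) = hV.fromSpec ((Spec.map (f.appLE V U e)) a) := by
    intro a
    rw [← Scheme.Hom.comp_apply, ← Scheme.Hom.comp_apply, hcomm]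
  obtain ⟨x₀, rfl⟩ : x ∈ Set.range hU.fromSpec := by rw [hU.range_fromSpec]; exact hxU
  have h0 : IsOpenAt (Spec.map (f.appLE V U e)).base x₀ :=
    isOpenAt_chart (F := f.base) (j := hU.fromSpec.base) (ι := hV.fromSpec.base)
      hU.fromSpec.isOpenEmbedding.isOpenMap hV.fromSpec.continuous
      hV.fromSpec.isOpenEmbedding.injective hcomm' x₀ h
  have hfV : f (hU.fromSpec x₀) ∈ V := e hxU
  have : y' ∈ Set.range hV.fromSpec := by
    rw [hV.range_fromSpec]
    exact hy'.mem_open V.isOpen hfV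
  obtain ⟨p', rfl⟩ := this
  have hp' : p' ⤳ (Spec.map (f.appLE V U e)) x₀ := by
    rw [← hV.fromSpec.isOpenEmbedding.isInducing.specializes_iff, ← hcomm']
    exact hy'
  obtain ⟨Q', hQ', hQ'p⟩ := exists_specializes_of_isOpenAt_comap (f.appLE V U e).hom x₀ h0 p' hp'
  refine ⟨hU.fromSpec Q', hQ'.map hU.fromSpec.continuous, ?_⟩
  rw [hcomm']
  exact congrArg _ hQ'p

section affine

open AlgebraicGeometry.AffineSpace

variable (R R' S : Type u) [CommRing R] [CommRing R'] [CommRing S] [Algebra R R'] [Algebra R S]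

/-- pointwise openness of `𝔸ⁿ_{Spec S} → 𝔸ⁿ_{Spec R}` in terms of polynomial rings -/
theorem isOpenAt_comap_map_of_isOpenAt_map (n : Type u) (p : PrimeSpectrum (MvPolynomial n S))
    (h : IsOpenAt (AffineSpace.map n (Spec.map (CommRingCat.ofHom (algebraMap R S)))).base
      ((SpecIso n (CommRingCat.of S)).inv.base p)) :
    IsOpenAt (PrimeSpectrum.comap
      (MvPolynomial.map (algebraMap R S) : MvPolynomial n R →+* MvPolynomial n S)) p := by
  refine isOpenAt_chart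
    (F := (AffineSpace.map n (Spec.map (CommRingCat.ofHom (algebraMap R S)))).base)
    (j := (SpecIso n (CommRingCat.of S)).inv.base) (ι := (SpecIso n (CommRingCat.of R)).inv.base)
    (SpecIso n (CommRingCat.of S)).inv.homeomorph.isOpenMap
    (SpecIso n (CommRingCat.of R)).inv.continuous
    (SpecIso n (CommRingCat.of R)).inv.homeomorph.injective ?_ p h
  intro a
  have h1 := map_SpecMap (n := n) (CommRingCat.ofHom (algebraMap R S))
  have h2 : (SpecIso n (CommRingCat.of S)).inv ≫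
      AffineSpace.map n (Spec.map (CommRingCat.ofHom (algebraMap R S))) =
      Spec.map (CommRingCat.ofHom (MvPolynomial.map (algebraMap R S))) ≫
        (SpecIso n (CommRingCat.of R)).inv := by
    rw [h1, Iso.inv_hom_id_assoc]
  exact congr(($h2).base a)

theorem isOpenAt_fst_of_affine
    (x₀ : ↥(pullback (Spec.map (CommRingCat.ofHom (algebraMap R R')))
      (Spec.map (CommRingCat.ofHom (algebraMap R S)))))
    (Haff : ∀ (n : Type u) [Finite n] (q : 𝔸(n; Spec (CommRingCat.of S))),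
      (𝔸(n; Spec (CommRingCat.of S)) ↘ Spec (CommRingCat.of S)).base q =
        (pullback.snd (Spec.map (CommRingCat.ofHom (algebraMap R R')))
          (Spec.map (CommRingCat.ofHom (algebraMap R S)))).base x₀ →
      IsOpenAt (AffineSpace.map n (Spec.map (CommRingCat.ofHom (algebraMap R S)))).base q) :
    IsOpenAt (pullback.fst (Spec.map (CommRingCat.ofHom (algebraMap R R')))
      (Spec.map (CommRingCat.ofHom (algebraMap R S)))).base x₀ := by
  set eI := pullbackSpecIso R R' S with heI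
  set r := eI.hom.base x₀ with hr
  have hx₀ : x₀ = eI.inv.base r := by
    rw [hr, ← Scheme.Hom.comp_apply, Iso.hom_inv_id]
    rfl
  rw [hx₀]
  refine isOpenAt_of_chart (F₀ := PrimeSpectrum.comap (algebraMap R' (R' ⊗[R] S)))
    (j := eI.inv.base) (ι := id) eI.inv.continuous IsOpenMap.id (fun a => ?_) r ?_
  · rw [← Scheme.Hom.comp_apply, heI, pullbackSpecIso_inv_fst]
    rfl
  apply isOpenAt_comap_tensor
  intro n _ p hp
  apply isOpenAt_comap_map_of_isOpenAt_map
  apply Haff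
  rw [← Scheme.Hom.comp_apply, SpecIso_inv_over]
  change PrimeSpectrum.comap (MvPolynomial.C : S →+* MvPolynomial n S) p = _
  rw [hp, hr, ← pullbackSpecIso_hom_snd, Scheme.Hom.comp_apply]
  rfl

end affine

theorem exists_affine_le {X Y : Scheme.{u}} (f : X ⟶ Y) (x : X) (V : Y.Opens) (hx : f x ∈ V) :
    ∃ (U : X.Opens) (_ : IsAffineOpen U) (_ : U ≤ f ⁻¹ᵁ V), x ∈ U := by
  obtain ⟨_, ⟨U, hU, rfl⟩, hxU, hUV⟩ := (X.isBasis_affineOpens).exists_subset_of_mem_open
    (show x ∈ ((f ⁻¹ᵁ V : X.Opens) : Set X) from hx) (f ⁻¹ᵁ V).isOpen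
  exact ⟨U, hU, hUV, hxU⟩

open AlgebraicGeometry.AffineSpace in
/-- Pointwise version: universal openness at `x` can be tested on the affine spaces. -/
theorem isUnivOpenAt_of_affOpenAt {X Y : Scheme.{u}} (f : X ⟶ Y) (x : X)
    (H : ∀ (n : Type u) [Finite n] (q : 𝔸(n; X)), (𝔸(n; X) ↘ X).base q = x →
      IsOpenAt (AffineSpace.map n f).base q) : IsUnivOpenAt f x := by
  intro Y' g x' hx'
  -- flip the pullback
  set xs := (pullbackSymmetry f g).hom.base x' with hxs
  have hflip : x' = (pullbackSymmetry f g).inv.base xs := by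
    rw [hxs, ← Scheme.Hom.comp_apply, Iso.hom_inv_id]
    rfl
  have hxs1 : (pullback.fst g f).base xs = (pullback.snd f g).base x' := by
    rw [hxs, ← Scheme.Hom.comp_apply, pullbackSymmetry_hom_comp_fst]
  have hxs2 : (pullback.snd g f).base xs = x := by
    rw [hxs, ← Scheme.Hom.comp_apply, pullbackSymmetry_hom_comp_snd, hx']
  rw [hflip]
  refine isOpenAt_of_chart (F₀ := (pullback.fst g f).base) (j := (pullbackSymmetry f g).inv.base)
    (ι := id) (pullbackSymmetry f g).inv.continuous IsOpenMap.id (fun a => ?_) xs ?_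
  · rw [← Scheme.Hom.comp_apply, pullbackSymmetry_inv_comp_snd]
    rfl
  -- charts
  obtain ⟨V, hV, hfxV⟩ : ∃ V : Y.Opens, IsAffineOpen V ∧ f x ∈ V := by
    obtain ⟨_, ⟨V, hV, rfl⟩, hxV, -⟩ := (Y.isBasis_affineOpens).exists_subset_of_mem_open
      (Set.mem_univ (f x)) isOpen_univ
    exact ⟨V, hV, hxV⟩
  obtain ⟨U, hU, eU, hxU⟩ := exists_affine_le f x V hfxV
  have hgy : g ((pullback.fst g f).base xs) ∈ V := by
    rw [← Scheme.Hom.comp_apply, pullback.condition, Scheme.Hom.comp_apply, hxs2]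
    exact hfxV
  obtain ⟨W, hW, eW, hyW⟩ := exists_affine_le g _ V hgy
  have e₁ : Spec.map (f.appLE V U eU) ≫ hV.fromSpec = hU.fromSpec ≫ f :=
    hV.SpecMap_appLE_fromSpec f hU eU
  have e₂ : Spec.map (g.appLE V W eW) ≫ hV.fromSpec = hW.fromSpec ≫ g :=
    hV.SpecMap_appLE_fromSpec g hW eW
  obtain ⟨φ, hφ⟩ : ∃ φ : Γ(Y, V) ⟶ Γ(X, U), φ = f.appLE V U eU := ⟨_, rfl⟩
  obtain ⟨ψ, hψ⟩ : ∃ ψ : Γ(Y, V) ⟶ Γ(Y', W), ψ = g.appLE V W eW := ⟨_, rfl⟩
  rw [← hφ] at e₁
  rw [← hψ] at e₂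
  algebraize [φ.hom, ψ.hom]
  have hrange := Scheme.Pullback.range_map (f := Spec.map ψ) (g := Spec.map φ) g f hW.fromSpec
    hU.fromSpec hV.fromSpec e₂ e₁
  obtain ⟨x₀, hx₀⟩ : xs ∈ Set.range (pullback.map (Spec.map ψ) (Spec.map φ) g f hW.fromSpec
      hU.fromSpec hV.fromSpec e₂ e₁) := by
    rw [hrange]
    refine ⟨?_, ?_⟩
    · rw [hW.range_fromSpec]
      exact hyW
    · rw [hU.range_fromSpec, Set.mem_preimage, hxs2]
      exact hxU
  rw [← hx₀]
  refine isOpenAt_of_chart (F₀ := (pullback.fst (Spec.map ψ) (Spec.map φ)).base)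
    (j := (pullback.map (Spec.map ψ) (Spec.map φ) g f hW.fromSpec
      hU.fromSpec hV.fromSpec e₂ e₁).base) (ι := hW.fromSpec.base)
    (Scheme.Hom.continuous _) hW.fromSpec.isOpenEmbedding.isOpenMap (fun a => ?_) x₀ ?_
  · rw [← Scheme.Hom.comp_apply, ← Scheme.Hom.comp_apply, pullback.lift_fst]
  refine isOpenAt_fst_of_affine Γ(Y, V) Γ(Y', W) Γ(X, U) x₀ ?_
  intro n _ q hq
  -- transfer to `map n f`
  have hcomm : AffineSpace.map n (Spec.map φ) ≫ AffineSpace.map n hV.fromSpec =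
      AffineSpace.map n hU.fromSpec ≫ AffineSpace.map n f := by
    rw [← map_comp, ← map_comp, e₁]
  have hiU := isOpenImmersion_map n hU.fromSpec
  have hiV := isOpenImmersion_map n hV.fromSpec
  refine isOpenAt_chart (F := (AffineSpace.map n f).base)
    (j := (AffineSpace.map n hU.fromSpec).base) (ι := (AffineSpace.map n hV.fromSpec).base)
    (AffineSpace.map n hU.fromSpec).isOpenEmbedding.isOpenMap
    (AffineSpace.map n hV.fromSpec).continuous
    (AffineSpace.map n hV.fromSpec).isOpenEmbedding.injective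
    (fun a => congr(($hcomm.symm).base a)) q ?_
  apply H
  rw [← Scheme.Hom.comp_apply, map_over, Scheme.Hom.comp_apply]
  have h5 : (𝔸(n; Spec Γ(X, U)) ↘ Spec Γ(X, U)).base q = (pullback.snd (Spec.map ψ) (Spec.map φ)).base x₀ := hq
  rw [h5, ← Scheme.Hom.comp_apply, ← hxs2, ← hx₀, ← Scheme.Hom.comp_apply, pullback.lift_snd]

end Groth.Agent.Lib.lead.OpenAtSch
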