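import Mathlib
import Groth.Agent.Lib.lead.OpenAtSch

open CategoryTheory CategoryTheory.Limits AlgebraicGeometry TensorProduct Topology

universe u

namespace Groth.Agent.Lib.lead.ReflSpec

open Groth.Agent.Lib.lead.OpenAtSch

variable {X Y : Scheme.{u}} (f : Y ⟶ X)

/-- the hypothesis: all locally-finite-type base changes reflect specializations -/
def ReflLFT : Prop :=
  ∀ (X' : Scheme.{u}) (g : X' ⟶ X) [LocallyOfFiniteType g] (y₀ y₁ : ↥(pullback f g)),
    (pullback.snd f g).base y₁ ⤳ (pullback.snd f g).base y₀ → y₁ ⤳ y₀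

variable {f}

/-- testing against a locally finite type `t : T ⟶ X` through which `g` factors -/
theorem test_specializes (h : ReflLFT f) {X' T : Scheme.{u}} (g : X' ⟶ X) (t : T ⟶ X)
    [LocallyOfFiniteType t] (a : X' ⟶ T) (ha : a ≫ t = g) (y₀ y₁ : ↥(pullback f g))
    (hsp : (pullback.snd f g).base y₁ ⤳ (pullback.snd f g).base y₀) :
    (pullback.map f g f t (𝟙 _) a (𝟙 _) (by simp) (by simp [ha])).base y₁ ⤳
      (pullback.map f g f t (𝟙 _) a (𝟙 _) (by simp) (by simp [ha])).base y₀ := by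
  apply h T t
  rw [← Scheme.Hom.comp_apply, ← Scheme.Hom.comp_apply, pullback.lift_snd]
  simp only [Scheme.Hom.comp_apply]
  exact hsp.map a.continuous

section ringpart

variable (B C B' : Type u) [CommRing B] [CommRing C] [CommRing B'] [Algebra B C] [Algebra B B']

/-- ring-level heart: if for every finite family `b'` the primes `r₁, r₀` of `C ⊗ B'` have
specializing contractions to `C ⊗ B[T]`, then `r₁ ⤳ r₀`. -/
theorem specializes_of_forall_comap (r₀ r₁ : PrimeSpectrum (C ⊗[B] B'))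
    (H : ∀ (n : Type u) [Finite n] (b' : n → B'),
      PrimeSpectrum.comap (Algebra.TensorProduct.map (AlgHom.id B C)
        (MvPolynomial.aeval b' : MvPolynomial n B →ₐ[B] B')).toRingHom r₁ ⤳
      PrimeSpectrum.comap (Algebra.TensorProduct.map (AlgHom.id B C)
        (MvPolynomial.aeval b' : MvPolynomial n B →ₐ[B] B')).toRingHom r₀) : r₁ ⤳ r₀ := by
  rw [← PrimeSpectrum.le_iff_specializes]
  intro h' hh'
  by_contra hnot
  obtain ⟨s, rfl⟩ := TensorProduct.exists_finset h'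
  let n : Type u := ↥s
  let b' : n → B' := fun i => i.1.2
  let c : n → C := fun i => i.1.1
  set θ := (Algebra.TensorProduct.map (AlgHom.id B C)
        (MvPolynomial.aeval b' : MvPolynomial n B →ₐ[B] B')) with hθ
  let Hh : C ⊗[B] MvPolynomial n B := ∑ i : n, c i ⊗ₜ[B] MvPolynomial.X i
  have hH : θ Hh = s.sum fun i ↦ i.1 ⊗ₜ[B] i.2 := by
    simp only [Hh, map_sum, hθ, Algebra.TensorProduct.map_tmul, MvPolynomial.aeval_X]
    rw [← Finset.sum_coe_sort s]
    rfl
  have h1 := H n b'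
  have h0 : PrimeSpectrum.comap θ.toRingHom r₀ ∈ (PrimeSpectrum.basicOpen Hh : Set _) := by
    show θ Hh ∉ r₀.asIdeal
    rw [hH]
    exact hnot
  have h2 : PrimeSpectrum.comap θ.toRingHom r₁ ∈ (PrimeSpectrum.basicOpen Hh : Set _) :=
    h1.mem_open (PrimeSpectrum.basicOpen Hh).isOpen h0
  apply h2
  show θ Hh ∈ r₁.asIdeal
  rw [hH]
  exact hh'

end ringpart

section specIso

variable (B C B' B'' : Type u) [CommRing B] [CommRing C] [CommRing B'] [CommRing B'']
  [Algebra B C] [Algebra B B'] [Algebra B B'']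

theorem pullbackMap_specIso (α : B'' →ₐ[B] B')
    (e : Spec.map (CommRingCat.ofHom (algebraMap B B')) ≫ 𝟙 _ =
      Spec.map (CommRingCat.ofHom α.toRingHom) ≫ Spec.map (CommRingCat.ofHom (algebraMap B B''))) :
    pullback.map (Spec.map (CommRingCat.ofHom (algebraMap B C)))
      (Spec.map (CommRingCat.ofHom (algebraMap B B')))
      (Spec.map (CommRingCat.ofHom (algebraMap B C)))
      (Spec.map (CommRingCat.ofHom (algebraMap B B''))) (𝟙 _)
      (Spec.map (CommRingCat.ofHom α.toRingHom)) (𝟙 _) (by simp) e ≫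
        (pullbackSpecIso B C B'').hom =
    (pullbackSpecIso B C B').hom ≫ Spec.map (CommRingCat.ofHom
      (Algebra.TensorProduct.map (AlgHom.id B C) α).toRingHom) := by
  rw [← cancel_mono (pullbackSpecIso B C B'').inv]
  simp only [Category.assoc, Iso.hom_inv_id, Category.comp_id]
  apply pullback.hom_ext
  · simp only [pullback.lift_fst, Category.comp_id, Category.assoc, pullbackSpecIso_inv_fst]
    rw [← pullbackSpecIso_hom_fst, ← Spec.map_comp]
    congr 2
    ext x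
    simp
  · simp only [pullback.lift_snd, Category.assoc, pullbackSpecIso_inv_snd]
    rw [← pullbackSpecIso_hom_snd_assoc, ← Spec.map_comp, ← Spec.map_comp]
    congr 2

end specIso

/-- affine target case -/
theorem reflects_affine (h : ReflLFT f) (V : X.Opens) (hV : IsAffineOpen V)
    (B' : CommRingCat.{u}) (ψ : Γ(X, V) ⟶ B') (g : Spec B' ⟶ X)
    (hg : g = Spec.map ψ ≫ hV.fromSpec) (y₀ y₁ : ↥(pullback f g))
    (hsp : (pullback.snd f g).base y₁ ⤳ (pullback.snd f g).base y₀) : y₁ ⤳ y₀ := by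
  -- Step 3: first coordinates specialize
  have hfst : (pullback.fst f g).base y₁ ⤳ (pullback.fst f g).base y₀ := by
    have := test_specializes h g hV.fromSpec (Spec.map ψ) hg.symm y₀ y₁ hsp
    have h2 := this.map (pullback.fst f hV.fromSpec).continuous
    rwa [← Scheme.Hom.comp_apply, ← Scheme.Hom.comp_apply, pullback.lift_fst,
      Category.comp_id] at h2
  have hfV : f.base ((pullback.fst f g).base y₀) ∈ V := by
    rw [← Scheme.Hom.comp_apply, pullback.condition, Scheme.Hom.comp_apply]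
    have h3 : g.base ((pullback.snd f g).base y₀) =
        hV.fromSpec.base ((Spec.map ψ).base ((pullback.snd f g).base y₀)) := by
      exact congr(($hg).base _)
    rw [h3]
    have : hV.fromSpec.base ((Spec.map ψ).base ((pullback.snd f g).base y₀)) ∈
      Set.range hV.fromSpec.base := Set.mem_range_self _
    rwa [hV.range_fromSpec] at this
  obtain ⟨U, hU, eU, hxU⟩ := exists_affine_le f _ V hfV
  have hx₁U : (pullback.fst f g).base y₁ ∈ U := hfst.mem_open U.isOpen hxU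
  obtain ⟨φ, hφ⟩ : ∃ φ : Γ(X, V) ⟶ Γ(Y, U), φ = f.appLE V U eU := ⟨_, rfl⟩
  have e₁ : Spec.map φ ≫ hV.fromSpec = hU.fromSpec ≫ f := by
    rw [hφ]; exact hV.SpecMap_appLE_fromSpec f hU eU
  have e₂ : Spec.map ψ ≫ hV.fromSpec = 𝟙 _ ≫ g := by rw [Category.id_comp, hg]
  -- the affine chart `P₀ → P`
  have hrange := Scheme.Pullback.range_map (f := Spec.map φ) (g := Spec.map ψ) f g hU.fromSpec
    (𝟙 _) hV.fromSpec e₁ e₂
  have hmem : ∀ y : ↥(pullback f g), (pullback.fst f g).base y ∈ U →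
      y ∈ Set.range (pullback.map (Spec.map φ) (Spec.map ψ) f g hU.fromSpec
        (𝟙 _) hV.fromSpec e₁ e₂).base := by
    intro y hy
    rw [hrange]
    refine ⟨?_, ?_⟩
    · rw [hU.range_fromSpec]
      exact hy
    · simp
  obtain ⟨z₀, hz₀⟩ := hmem y₀ hxU
  obtain ⟨z₁, hz₁⟩ := hmem y₁ hx₁U
  rw [← hz₀, ← hz₁]
  refine Specializes.map ?_ (Scheme.Hom.continuous _)
  -- pass to rings
  algebraize [φ.hom, ψ.hom]
  have hr : ∀ z : ↥(pullback (Spec.map φ) (Spec.map ψ)),
      z = (pullbackSpecIso Γ(X, V) Γ(Y, U) B').inv.base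
        ((pullbackSpecIso Γ(X, V) Γ(Y, U) B').hom.base z) := by
    intro z
    rw [← Scheme.Hom.comp_apply, Iso.hom_inv_id]
    rfl
  rw [hr z₀, hr z₁]
  refine Specializes.map ?_ (Scheme.Hom.continuous _)
  apply specializes_of_forall_comap
  intro n _ b'
  obtain ⟨α, hα⟩ : ∃ α : MvPolynomial n Γ(X, V) →ₐ[Γ(X, V)] B', α = MvPolynomial.aeval b' :=
    ⟨_, rfl⟩
  rw [← hα]
  obtain ⟨cB, hcB⟩ : ∃ cB : Γ(X, V) ⟶ CommRingCat.of (MvPolynomial n Γ(X, V)),
    cB = CommRingCat.ofHom (algebraMap Γ(X, V) (MvPolynomial n Γ(X, V))) := ⟨_, rfl⟩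
  have hft : LocallyOfFiniteType (Spec.map cB) := by
    rw [HasRingHomProperty.Spec_iff (P := @LocallyOfFiniteType), hcB]
    exact RingHom.finiteType_algebraMap.mpr inferInstance
  obtain ⟨a, ha'⟩ : ∃ a : Spec B' ⟶ Spec (CommRingCat.of (MvPolynomial n Γ(X, V))),
    a = Spec.map (CommRingCat.ofHom α.toRingHom) := ⟨_, rfl⟩
  have hαψ : cB ≫ CommRingCat.ofHom α.toRingHom = ψ := by
    rw [hcB]
    ext x
    exact α.commutes x
  have ha : a ≫ (Spec.map cB ≫ hV.fromSpec) = g := by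
    rw [ha', ← Category.assoc, ← Spec.map_comp, hαψ, hg]
  have ht := test_specializes h g (Spec.map cB ≫ hV.fromSpec) a ha y₀ y₁ hsp
  have e₃ : Spec.map cB ≫ hV.fromSpec = 𝟙 _ ≫ (Spec.map cB ≫ hV.fromSpec) := by
    rw [Category.id_comp]
  have e₄ : Spec.map ψ ≫ 𝟙 _ = a ≫ Spec.map cB := by
    rw [Category.comp_id, ha', ← Spec.map_comp, hαψ]
  have hcomm : pullback.map (Spec.map φ) (Spec.map ψ) f g hU.fromSpec (𝟙 _) hV.fromSpec e₁ e₂ ≫
      pullback.map f g f (Spec.map cB ≫ hV.fromSpec) (𝟙 _) a (𝟙 _) (by simp) (by simp [ha]) =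
      pullback.map (Spec.map φ) (Spec.map ψ) (Spec.map φ) (Spec.map cB) (𝟙 _) a (𝟙 _)
        (by simp) e₄ ≫
      pullback.map (Spec.map φ) (Spec.map cB) f (Spec.map cB ≫ hV.fromSpec) hU.fromSpec (𝟙 _)
        hV.fromSpec e₁ e₃ := by
    apply pullback.hom_ext <;>
      simp only [pullback.map, Category.assoc, pullback.lift_fst, pullback.lift_snd,
        pullback.lift_fst_assoc, pullback.lift_snd_assoc, Category.comp_id]
  rw [← hz₀, ← hz₁, ← Scheme.Hom.comp_apply, ← Scheme.Hom.comp_apply, hcomm,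
    Scheme.Hom.comp_apply, Scheme.Hom.comp_apply] at ht
  have ht2 := (Scheme.Hom.isOpenEmbedding _).isInducing.specializes_iff.mp ht
  subst hcB ha'
  have hcont : Continuous (fun z : ↥(pullback (Spec.map φ) (Spec.map
      (CommRingCat.ofHom (algebraMap Γ(X, V) (MvPolynomial n Γ(X, V)))))) =>
      (pullbackSpecIso Γ(X, V) Γ(Y, U) (MvPolynomial n Γ(X, V))).hom.base z) :=
    Scheme.Hom.continuous _
  have ht3 := ht2.map hcont
  simp only at ht3
  have key := pullbackMap_specIso Γ(X, V) Γ(Y, U) B' (MvPolynomial n Γ(X, V)) α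
    e₄
  have hk : ∀ z, (pullbackSpecIso Γ(X, V) Γ(Y, U) (MvPolynomial n Γ(X, V))).hom.base
      ((pullback.map (Spec.map φ) (Spec.map ψ) (Spec.map φ) (Spec.map
        (CommRingCat.ofHom (algebraMap Γ(X, V) (MvPolynomial n Γ(X, V))))) (𝟙 _)
        (Spec.map (CommRingCat.ofHom α.toRingHom)) (𝟙 _)
        (by simp) e₄).base z) =
      PrimeSpectrum.comap (Algebra.TensorProduct.map (AlgHom.id Γ(X, V) Γ(Y, U)) α).toRingHom
        ((pullbackSpecIso Γ(X, V) Γ(Y, U) B').hom.base z) := by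
    intro z
    exact congr(($key).base z)
  rw [hk, hk] at ht3
  exact ht3

theorem S15345 {X Y : Scheme.{u}} [QuasiSeparatedSpace ↥X]
    (f : Y ⟶ X)
    (h : ∀ (X' : Scheme.{u}) (g : X' ⟶ X) [LocallyOfFiniteType g] (y₀ y₁ : ↥(pullback f g)),
      (pullback.snd f g).base y₁ ⤳ (pullback.snd f g).base y₀ → y₁ ⤳ y₀) :
    ∀ (X' : Scheme.{u}) (g : X' ⟶ X) (y₀ y₁ : ↥(pullback f g)),
        (pullback.snd f g).base y₁ ⤳ (pullback.snd f g).base y₀ → y₁ ⤳ y₀ := by
  intro X' g y₀ y₁ hsp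
  obtain ⟨V, hV, hgV⟩ : ∃ V : X.Opens, IsAffineOpen V ∧ g.base ((pullback.snd f g).base y₀) ∈ V := by
    obtain ⟨_, ⟨V, hV, rfl⟩, hxV, -⟩ := (X.isBasis_affineOpens).exists_subset_of_mem_open
      (Set.mem_univ (g.base ((pullback.snd f g).base y₀))) isOpen_univ
    exact ⟨V, hV, hxV⟩
  obtain ⟨W, hW, eW, hyW⟩ := exists_affine_le g _ V hgV
  have hy₁W : (pullback.snd f g).base y₁ ∈ W := hsp.mem_open W.isOpen hyW
  have e : Spec.map (g.appLE V W eW) ≫ hV.fromSpec = hW.fromSpec ≫ g :=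
    hV.SpecMap_appLE_fromSpec g hW eW
  have e₂ : (hW.fromSpec ≫ g) ≫ 𝟙 _ = hW.fromSpec ≫ g := Category.comp_id _
  have hrange := Scheme.Pullback.range_map (f := f) (g := hW.fromSpec ≫ g) f g (𝟙 _)
    hW.fromSpec (𝟙 _) (by simp) e₂
  have hmem : ∀ y : ↥(pullback f g), (pullback.snd f g).base y ∈ W →
      y ∈ Set.range (pullback.map f (hW.fromSpec ≫ g) f g (𝟙 _)
        hW.fromSpec (𝟙 _) (by simp) e₂).base := by
    intro y hy
    rw [hrange]
    refine ⟨by simp, ?_⟩
    rw [hW.range_fromSpec]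
    exact hy
  obtain ⟨w₀, hw₀⟩ := hmem y₀ hyW
  obtain ⟨w₁, hw₁⟩ := hmem y₁ hy₁W
  rw [← hw₀, ← hw₁]
  refine Specializes.map ?_ (Scheme.Hom.continuous _)
  refine reflects_affine h V hV _ (g.appLE V W eW) (hW.fromSpec ≫ g) e.symm w₀ w₁ ?_
  rw [← hW.fromSpec.isOpenEmbedding.isInducing.specializes_iff]
  have hs : ∀ w, hW.fromSpec.base ((pullback.snd f (hW.fromSpec ≫ g)).base w) =
      (pullback.snd f g).base ((pullback.map f (hW.fromSpec ≫ g) f g (𝟙 _)
        hW.fromSpec (𝟙 _) (by simp) e₂).base w) := by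
    intro w
    rw [← Scheme.Hom.comp_apply, ← Scheme.Hom.comp_apply, pullback.lift_snd]
  rw [hs, hs, hw₀, hw₁]
  exact hsp


end Groth.Agent.Lib.lead.ReflSpec
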