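import Mathlib
import Groth.Agent.Lib.lead.ReflSpec

open CategoryTheory CategoryTheory.Limits AlgebraicGeometry TensorProduct Topology

universe u

namespace Groth.Agent.Lib.lead.UnivClosedAffine

open Groth.Agent.Lib.lead.ReflSpec

section top

variable {P T P' T' : Type*} [TopologicalSpace P] [TopologicalSpace T] [TopologicalSpace P']
  [TopologicalSpace T']

/-- the basic topological step: a closed test map separates `t` from the image of `Z`. -/
theorem compl_image_mem_nhds (F : P → T) (F' : P' → T') (a : T → T') (a' : P → P')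
    (ha : Continuous a) (hcomm : ∀ z, F' (a' z) = a (F z))
    (hcart : ∀ t z', F' z' = a t → ∃ z, a' z = z' ∧ F z = t) (hF' : IsClosedMap F')
    (Z : Set P) (O' : Set P') (hO' : IsOpen O') (t : T) (hfib : ∀ z, F z = t → a' z ∈ O')
    (hZ : ∀ z ∈ Z, a' z ∉ O') : (F '' Z)ᶜ ∈ 𝓝 t := by
  have hcl : IsClosed (F' '' O'ᶜ) := hF' _ hO'.isClosed_compl
  have hN : IsOpen (a ⁻¹' (F' '' O'ᶜ)ᶜ) := hcl.isOpen_compl.preimage ha
  have htN : t ∈ a ⁻¹' (F' '' O'ᶜ)ᶜ := by
    rintro ⟨z', hz', e⟩
    obtain ⟨z, rfl, hz⟩ := hcart t z' e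
    exact hz' (hfib z hz)
  refine Filter.mem_of_superset (hN.mem_nhds htN) ?_
  rintro t₂ ht₂ ⟨z, hz, rfl⟩
  exact ht₂ ⟨a' z, hZ z hz, hcomm z⟩

theorem isClosedMap_of_forall_compl_image_mem_nhds (F : P → T)
    (H : ∀ Z : Set P, IsClosed Z → ∀ t, t ∉ F '' Z → (F '' Z)ᶜ ∈ 𝓝 t) : IsClosedMap F := by
  intro Z hZ
  rw [← isOpen_compl_iff, isOpen_iff_mem_nhds]
  intro t ht
  exact H Z hZ t ht

end top

section charts

variable {X : Scheme.{u}} {B : Type u} [CommRing B] (f : X ⟶ Spec (CommRingCat.of B))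

/-- an affine chart of `X` over the affine base `Spec B` -/
structure Chart where
  U : X.Opens
  hU : IsAffineOpen U
  alg : Algebra B Γ(X, U)
  comm : hU.fromSpec ≫ f = Spec.map (CommRingCat.ofHom (algebraMap B Γ(X, U)))

attribute [instance] Chart.alg

variable {f}

theorem Chart.exists_mem (x : X) : ∃ c : Chart f, x ∈ c.U := by
  obtain ⟨_, ⟨U, hU, rfl⟩, hxU, -⟩ := (X.isBasis_affineOpens).exists_subset_of_mem_open
    (Set.mem_univ x) isOpen_univ
  obtain ⟨φ, hφ⟩ := Spec.map_surjective (hU.fromSpec ≫ f)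
  exact ⟨⟨U, hU, φ.hom.toAlgebra, hφ.symm⟩, hxU⟩

variable (B' : Type u) [CommRing B'] [Algebra B B']

/-- the base change of `f` to `Spec B'` -/
noncomputable abbrev PB (f : X ⟶ Spec (CommRingCat.of B)) : Scheme.{u} :=
  pullback f (Spec.map (CommRingCat.ofHom (algebraMap B B')))

/-- the chart of the base change -/
noncomputable def Chart.j (c : Chart f) :
    pullback (Spec.map (CommRingCat.ofHom (algebraMap B Γ(X, c.U))))
      (Spec.map (CommRingCat.ofHom (algebraMap B B'))) ⟶ PB B' f :=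
  pullback.map _ _ _ _ c.hU.fromSpec (𝟙 _) (𝟙 _)
    (by rw [Category.comp_id, c.comm]) (by simp)

instance (c : Chart f) : IsOpenImmersion (c.j B') := by
  unfold Chart.j
  infer_instance

theorem Chart.range_j (c : Chart f) :
    Set.range (c.j B').base = (pullback.fst f _).base ⁻¹' (c.U : Set X) := by
  unfold Chart.j
  rw [Scheme.Pullback.range_map, c.hU.range_fromSpec]
  simp

@[reassoc]
theorem Chart.j_fst (c : Chart f) :
    c.j B' ≫ pullback.fst f _ = pullback.fst _ _ ≫ c.hU.fromSpec := by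
  unfold Chart.j
  exact pullback.lift_fst _ _ _

@[reassoc]
theorem Chart.j_snd (c : Chart f) :
    c.j B' ≫ pullback.snd f _ = pullback.snd _ _ := by
  unfold Chart.j
  rw [pullback.lift_snd, Category.comp_id]

end charts

section tests

variable {X : Scheme.{u}} {B : Type u} [CommRing B] {f : X ⟶ Spec (CommRingCat.of B)}
variable {B' B'' : Type u} [CommRing B'] [Algebra B B'] [CommRing B''] [Algebra B B'']

theorem specMap_algHom_comp (α : B'' →ₐ[B] B') :
    Spec.map (CommRingCat.ofHom (algebraMap B B')) ≫ 𝟙 _ =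
      Spec.map (CommRingCat.ofHom α.toRingHom) ≫ Spec.map (CommRingCat.ofHom (algebraMap B B'')) := by
  rw [Category.comp_id, ← Spec.map_comp]
  congr 1
  ext x
  exact (α.commutes x).symm

/-- the map of base changes induced by a `B`-algebra map `B'' → B'` -/
noncomputable def aT (f : X ⟶ Spec (CommRingCat.of B)) (α : B'' →ₐ[B] B') : PB B' f ⟶ PB B'' f :=
  pullback.map _ _ _ _ (𝟙 _) (Spec.map (CommRingCat.ofHom α.toRingHom)) (𝟙 _) (by simp)
    (specMap_algHom_comp α)

@[reassoc]
theorem aT_fst (α : B'' →ₐ[B] B') : aT f α ≫ pullback.fst f _ = pullback.fst f _ := by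
  unfold aT
  rw [pullback.lift_fst, Category.comp_id]

@[reassoc]
theorem aT_snd (α : B'' →ₐ[B] B') :
    aT f α ≫ pullback.snd f _ = pullback.snd f _ ≫ Spec.map (CommRingCat.ofHom α.toRingHom) := by
  unfold aT
  exact pullback.lift_snd _ _ _

theorem isPullback_aT (α : B'' →ₐ[B] B') :
    IsPullback (aT f α) (pullback.snd f (Spec.map (CommRingCat.ofHom (algebraMap B B'))))
      (pullback.snd f (Spec.map (CommRingCat.ofHom (algebraMap B B''))))
      (Spec.map (CommRingCat.ofHom α.toRingHom)) := by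
  refine IsPullback.of_right (h₁₂ := pullback.fst f _) (h₂₂ := Spec.map _) (v₁₃ := f) ?_
    (aT_snd α) (IsPullback.of_hasPullback f _)
  rw [aT_fst]
  have := (specMap_algHom_comp (B := B) α).symm
  rw [Category.comp_id] at this
  rw [this]
  exact IsPullback.of_hasPullback f _

/-- the induced map of charts -/
noncomputable def Chart.m (c : Chart f) (α : B'' →ₐ[B] B') :
    pullback (Spec.map (CommRingCat.ofHom (algebraMap B Γ(X, c.U))))
      (Spec.map (CommRingCat.ofHom (algebraMap B B'))) ⟶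
    pullback (Spec.map (CommRingCat.ofHom (algebraMap B Γ(X, c.U))))
      (Spec.map (CommRingCat.ofHom (algebraMap B B''))) :=
  pullback.map _ _ _ _ (𝟙 _) (Spec.map (CommRingCat.ofHom α.toRingHom)) (𝟙 _) (by simp)
    (specMap_algHom_comp α)

theorem Chart.j_aT (c : Chart f) (α : B'' →ₐ[B] B') :
    c.j B' ≫ aT f α = c.m α ≫ c.j B'' := by
  unfold Chart.j Chart.m aT
  apply pullback.hom_ext <;>
    simp only [pullback.map, Category.assoc, pullback.lift_fst, pullback.lift_snd,
      pullback.lift_fst_assoc, pullback.lift_snd_assoc, Category.comp_id]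

/-- preimages of chart opens under the test map -/
theorem Chart.preimage_aT_image (c : Chart f) (α : B'' →ₐ[B] B')
    (W : Set ↥(pullback (Spec.map (CommRingCat.ofHom (algebraMap B Γ(X, c.U))))
      (Spec.map (CommRingCat.ofHom (algebraMap B B''))))) :
    (aT f α).base ⁻¹' ((c.j B'').base '' W) = (c.j B').base '' ((c.m α).base ⁻¹' W) := by
  ext z
  constructor
  · rintro ⟨w, hw, e⟩
    have hz : z ∈ Set.range (c.j B').base := by
      rw [c.range_j B']
      have h1 : (pullback.fst f _).base ((aT f α).base z) ∈ (c.U : Set X) := by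
        have : (aT f α).base z ∈ Set.range (c.j B'').base := ⟨w, e⟩
        rw [c.range_j B''] at this
        exact this
      rwa [← Scheme.Hom.comp_apply, aT_fst] at h1
    obtain ⟨z₀, rfl⟩ := hz
    refine ⟨z₀, ?_, rfl⟩
    have h2 : (c.j B'').base ((c.m α).base z₀) = (c.j B'').base w := by
      rw [e, ← Scheme.Hom.comp_apply, ← Scheme.Hom.comp_apply, c.j_aT]
    have := (c.j B'').isOpenEmbedding.injective h2
    show (c.m α).base z₀ ∈ W
    rw [this]
    exact hw
  · rintro ⟨z₀, hz₀, rfl⟩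
    refine ⟨(c.m α).base z₀, hz₀, ?_⟩
    rw [← Scheme.Hom.comp_apply, ← Scheme.Hom.comp_apply, c.j_aT]

end tests

section basic

variable {X : Scheme.{u}} {B : Type u} [CommRing B] {f : X ⟶ Spec (CommRingCat.of B)}
variable {B' B'' : Type u} [CommRing B'] [Algebra B B'] [CommRing B''] [Algebra B B'']

/-- basic opens of the charts of the base change -/
noncomputable def Chart.basic (c : Chart f) (h : Γ(X, c.U) ⊗[B] B') : Set ↥(PB B' f) :=
  (c.j B').base '' ((pullbackSpecIso B Γ(X, c.U) B').hom.base ⁻¹'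
    (PrimeSpectrum.basicOpen h).carrier)

theorem Chart.isOpen_basic (c : Chart f) (h : Γ(X, c.U) ⊗[B] B') : IsOpen (c.basic h) := by
  unfold Chart.basic
  apply (c.j B').isOpenEmbedding.isOpenMap
  exact (PrimeSpectrum.basicOpen h).isOpen.preimage (Scheme.Hom.continuous _)

theorem Chart.exists_basic (z : ↥(PB B' f)) (W : Set ↥(PB B' f)) (hW : IsOpen W) (hz : z ∈ W) :
    ∃ (c : Chart f) (h : Γ(X, c.U) ⊗[B] B'), z ∈ c.basic h ∧ c.basic h ⊆ W := by
  obtain ⟨c, hc⟩ := Chart.exists_mem (f := f) ((pullback.fst f _).base z)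
  have hzr : z ∈ Set.range (c.j B').base := by rw [c.range_j B']; exact hc
  obtain ⟨z₀, rfl⟩ := hzr
  set e := pullbackSpecIso B Γ(X, c.U) B' with he
  have hW' : IsOpen (e.inv.base ⁻¹' ((c.j B').base ⁻¹' W)) :=
    (hW.preimage (Scheme.Hom.continuous _)).preimage (Scheme.Hom.continuous _)
  have hmem : e.hom.base z₀ ∈ e.inv.base ⁻¹' ((c.j B').base ⁻¹' W) := by
    show (c.j B').base (e.inv.base (e.hom.base z₀)) ∈ W
    rw [← Scheme.Hom.comp_apply e.hom e.inv, Iso.hom_inv_id]
    exact hz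
  obtain ⟨_, ⟨h, rfl⟩, hh, hsub⟩ :=
    PrimeSpectrum.isTopologicalBasis_basic_opens.exists_subset_of_mem_open hmem hW'
  refine ⟨c, h, ⟨z₀, hh, rfl⟩, ?_⟩
  rintro _ ⟨w, hw, rfl⟩
  have := hsub hw
  have h2 : (c.j B').base (e.inv.base (e.hom.base w)) ∈ W := this
  rwa [← Scheme.Hom.comp_apply e.hom e.inv, Iso.hom_inv_id] at h2

theorem Chart.preimage_aT_basic (c : Chart f) (α : B'' →ₐ[B] B') (H : Γ(X, c.U) ⊗[B] B'') :
    (aT f α).base ⁻¹' (c.basic H) =
      c.basic (Algebra.TensorProduct.map (AlgHom.id B Γ(X, c.U)) α H) := by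
  unfold Chart.basic
  rw [c.preimage_aT_image α]
  congr 1
  ext z
  have key := pullbackMap_specIso B Γ(X, c.U) B' B'' α (specMap_algHom_comp α)
  have hk : (pullbackSpecIso B Γ(X, c.U) B'').hom.base ((c.m α).base z) =
      PrimeSpectrum.comap (Algebra.TensorProduct.map (AlgHom.id B Γ(X, c.U)) α).toRingHom
        ((pullbackSpecIso B Γ(X, c.U) B').hom.base z) := congr(($key).base z)
  simp only [Set.mem_preimage]
  rw [hk]
  rfl

end basic

section core

variable {X : Scheme.{u}} {B : Type u} [CommRing B] (f : X ⟶ Spec (CommRingCat.of B))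
variable (B' : Type u) [CommRing B'] [Algebra B B']

theorem isClosedMap_snd_of_tests [QuasiCompact f]
    (Htest : ∀ (n : Type u) [Finite n], IsClosedMap
      (pullback.snd f (Spec.map (CommRingCat.ofHom (algebraMap B (MvPolynomial n B))))).base) :
    IsClosedMap (pullback.snd f (Spec.map (CommRingCat.ofHom (algebraMap B B')))).base := by
  apply isClosedMap_of_forall_compl_image_mem_nhds
  intro Z hZ t ht
  set F := pullback.snd f (Spec.map (CommRingCat.ofHom (algebraMap B B'))) with hF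
  have hK : IsCompact (F.base ⁻¹' {t}) := F.isCompact_preimage_singleton t
  have hex : ∀ z : ↥(F.base ⁻¹' {t}), ∃ (c : Chart f) (h : Γ(X, c.U) ⊗[B] B'),
      (z : ↥(PB B' f)) ∈ c.basic h ∧ c.basic h ⊆ Zᶜ := by
    intro z
    apply Chart.exists_basic _ _ hZ.isOpen_compl
    intro hzZ
    exact ht ⟨z, hzZ, z.2⟩
  choose c h hz hsub using hex
  obtain ⟨fs, hfs⟩ := hK.elim_finite_subcover (fun z : ↥(F.base ⁻¹' {t}) => (c z).basic (h z))
    (fun z => (c z).isOpen_basic (h z)) (by
      intro z hzK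
      exact Set.mem_iUnion.mpr ⟨⟨z, hzK⟩, hz ⟨z, hzK⟩⟩)
  have hs : ∀ z : ↥(F.base ⁻¹' {t}), ∃ s : Finset (Γ(X, (c z).U) × B'),
      h z = s.sum fun i ↦ i.1 ⊗ₜ[B] i.2 := fun z => TensorProduct.exists_finset (h z)
  choose s hs using hs
  let n : Type u := Σ i : ↥fs, ↥(s i.1)
  let b' : n → B' := fun p => p.2.1.2
  let α : MvPolynomial n B →ₐ[B] B' := MvPolynomial.aeval b'
  let H : ∀ i : ↥fs, Γ(X, (c i.1).U) ⊗[B] MvPolynomial n B :=
    fun i => ∑ p : ↥(s i.1), p.1.1 ⊗ₜ[B] MvPolynomial.X (⟨i, p⟩ : n)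
  have hH : ∀ i : ↥fs, Algebra.TensorProduct.map (AlgHom.id B Γ(X, (c i.1).U)) α (H i) = h i.1 := by
    intro i
    simp only [H, map_sum, Algebra.TensorProduct.map_tmul, α, MvPolynomial.aeval_X]
    rw [hs i.1, ← Finset.sum_coe_sort (s i.1)]
    rfl
  let O' : Set ↥(PB (MvPolynomial n B) f) := ⋃ i : ↥fs, (c i.1).basic (H i)
  have hO' : IsOpen O' := isOpen_iUnion fun i => (c i.1).isOpen_basic (H i)
  have hpre : ∀ z : ↥(PB B' f), (aT f α).base z ∈ O' ↔ ∃ i : ↥fs, z ∈ (c i.1).basic (h i.1) := by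
    intro z
    simp only [O', Set.mem_iUnion]
    refine exists_congr fun i => ?_
    rw [← hH i, ← (c i.1).preimage_aT_basic α (H i)]
    rfl
  refine compl_image_mem_nhds F.base (pullback.snd f _).base
    (Spec.map (CommRingCat.ofHom α.toRingHom)).base (aT f α).base (Scheme.Hom.continuous _)
    (fun z => ?_) (fun t z' e => ?_) (Htest n) Z O' hO' t (fun z hzt => ?_) (fun z hzZ hcon => ?_)
  · rw [← Scheme.Hom.comp_apply, aT_snd]
    rfl
  · exact Scheme.exists_preimage_of_isPullback (isPullback_aT α) z' t e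
  · rw [hpre]
    have := hfs (show z ∈ F.base ⁻¹' {t} from hzt)
    simp only [Set.mem_iUnion] at this
    obtain ⟨i, hi, hzi⟩ := this
    exact ⟨⟨i, hi⟩, hzi⟩
  · rw [hpre] at hcon
    obtain ⟨i, hi⟩ := hcon
    exact hsub i.1 hi hzZ

end core

end Groth.Agent.Lib.lead.UnivClosedAffine
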