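import Mathlib
import Groth.Agent.Lib.lead.UnivOpenAffine

open CategoryTheory CategoryTheory.Limits AlgebraicGeometry TensorProduct

universe u

namespace Groth.Agent.Lib.lead.UnivOpenFin

open Groth.Agent.Lib.lead.UnivOpenAffine AlgebraicGeometry.AffineSpace

theorem reindex_symm_comp {n m : Type u} (e : n ≃ m) (X : Scheme.{u}) :
    reindex e.symm X ≫ reindex e X = 𝟙 _ := by
  apply AffineSpace.hom_ext
  · simp
  · intro i
    simp

/-- reindexing along an equivalence -/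
theorem isOpenMap_map_of_equiv {X Y : Scheme.{u}} (f : X ⟶ Y) {n m : Type u} (e : n ≃ m)
    (h : IsOpenMap (AffineSpace.map m f)) : IsOpenMap (AffineSpace.map n f) := by
  have h1 : reindex e.symm X ≫ reindex e X = 𝟙 _ := reindex_symm_comp e X
  have h3 : AffineSpace.map n f = reindex e.symm X ≫ AffineSpace.map m f ≫ reindex e Y := by
    rw [map_reindex, ← Category.assoc, h1, Category.id_comp]
  have h4 : reindex e X ≫ reindex e.symm X = 𝟙 _ := by
    simpa using reindex_symm_comp e.symm X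
  have h5 : reindex e Y ≫ reindex e.symm Y = 𝟙 _ := by
    simpa using reindex_symm_comp e.symm Y
  have h6 : reindex e.symm Y ≫ reindex e Y = 𝟙 _ := reindex_symm_comp e Y
  have i1 : IsIso (reindex e.symm X) := ⟨reindex e X, h1, h4⟩
  have i2 : IsIso (reindex e Y) := ⟨reindex e.symm Y, h5, h6⟩
  rw [h3, Scheme.Hom.comp_base, Scheme.Hom.comp_base]
  exact ((reindex e Y).homeomorph.isOpenMap.comp h).comp (reindex e.symm X).homeomorph.isOpenMap

/-- `f` is open as soon as one `𝔸ⁿ`-base change is. -/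
theorem isOpenMap_of_isOpenMap_map {X Y : Scheme.{u}} (f : X ⟶ Y) (m : Type u)
    (h : IsOpenMap (AffineSpace.map m f)) : IsOpenMap f := by
  intro U hU
  have hsurj : Function.Surjective (𝔸(m; X) ↘ X) := (𝔸(m; X) ↘ X).surjective
  have h1 : f '' U = (𝔸(m; Y) ↘ Y) '' ((AffineSpace.map m f) '' ((𝔸(m; X) ↘ X) ⁻¹' U)) := by
    ext y
    constructor
    · rintro ⟨x, hx, rfl⟩
      obtain ⟨z, rfl⟩ := hsurj x
      refine ⟨_, ⟨z, hx, rfl⟩, ?_⟩
      rw [← Scheme.Hom.comp_apply, map_over, Scheme.Hom.comp_apply]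
    · rintro ⟨_, ⟨z, hz, rfl⟩, rfl⟩
      refine ⟨(𝔸(m; X) ↘ X) z, hz, ?_⟩
      rw [← Scheme.Hom.comp_apply, ← map_over, Scheme.Hom.comp_apply]
  rw [h1]
  exact isOpenMap_over (n := m) (S := Y) _ (h _ (hU.preimage (𝔸(m; X) ↘ X).continuous))

theorem isOpenMap_map_of_isEmpty {X Y : Scheme.{u}} (f : X ⟶ Y) (n : Type u) [IsEmpty n]
    (h : IsOpenMap f) : IsOpenMap (AffineSpace.map n f) := by
  have h1 : AffineSpace.map n f = (𝔸(n; X) ↘ X) ≫ f ≫ inv (𝔸(n; Y) ↘ Y) := by
    rw [← Category.assoc, ← map_over, Category.assoc, IsIso.hom_inv_id, Category.comp_id]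
  rw [h1, Scheme.Hom.comp_base, Scheme.Hom.comp_base]
  exact ((inv (𝔸(n; Y) ↘ Y)).homeomorph.isOpenMap.comp h).comp
    (𝔸(n; X) ↘ X).homeomorph.isOpenMap

theorem affOpen_of_fin {X Y : Scheme.{u}} (f : X ⟶ Y)
    (H : ∀ k : ℕ, 0 < k → IsOpenMap (AffineSpace.map (ULift.{u} (Fin k)) f)) : AffOpen f := by
  intro n _
  rcases isEmpty_or_nonempty n with hn | hn
  · exact isOpenMap_map_of_isEmpty f n (isOpenMap_of_isOpenMap_map f _ (H 1 Nat.one_pos))
  · have hpos : 0 < Nat.card n := Nat.card_pos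
    have e : n ≃ ULift.{u} (Fin (Nat.card n)) :=
      (Finite.equivFin n).trans Equiv.ulift.symm
    exact isOpenMap_map_of_equiv f e (H _ hpos)

theorem universallyOpen_of_fin {X Y : Scheme.{u}} (f : X ⟶ Y)
    (H : ∀ k : ℕ, 0 < k → IsOpenMap (AffineSpace.map (ULift.{u} (Fin k)) f)) :
    UniversallyOpen f :=
  universallyOpen_of_affOpen f (affOpen_of_fin f H)

theorem isOpenMap_map_of_universallyOpen {X Y : Scheme.{u}} (f : X ⟶ Y) [UniversallyOpen f]
    (n : Type u) : IsOpenMap (AffineSpace.map n f) :=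
  UniversallyOpen.universally_isOpenMap _ _ _ (isPullback_map f)

theorem S1373 {X S : Scheme.{u}} (f : X ⟶ S) :
    UniversallyOpen f ↔ ∀ n : ℕ, IsOpenMap ⇑(AffineSpace.map (ULift.{u} (Fin n)) f) :=
  ⟨fun _ _ => isOpenMap_map_of_universallyOpen f _, fun H => universallyOpen_of_fin f fun k _ => H k⟩

theorem S4780 {X Y : Scheme.{u}} (f : X ⟶ Y)
    (h : ∀ n : ℕ, 0 < n →
      IsOpenMap ⇑(Limits.pullback.snd f (AffineSpace (ULift.{u} (Fin n)) Y ↘ Y))) :
    UniversallyOpen f := by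
  apply universallyOpen_of_fin
  intro k hk
  have h1 := (isPullback_map (n := ULift.{u} (Fin k)) f).flip.isoPullback_hom_snd
  rw [← h1, Scheme.Hom.comp_base]
  exact (h k hk).comp (Scheme.Hom.homeomorph _).isOpenMap


end Groth.Agent.Lib.lead.UnivOpenFin
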