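import Mathlib
import Groth.Agent.Lib.lead.UnivClosedAffine
import Groth.Agent.Lib.lead.UnivOpenFin

open CategoryTheory CategoryTheory.Limits AlgebraicGeometry TensorProduct Topology

universe u

namespace Groth.Agent.Lib.lead.UnivClosedAff2

open AlgebraicGeometry.AffineSpace MorphismProperty
open Groth.Agent.Lib.lead.UnivClosedAffine Groth.Agent.Lib.lead.UnivOpenAffine
  Groth.Agent.Lib.lead.UnivOpenFin

/-- All the "affine space" base changes of `f` are closed maps. -/
def AffClosed {X Y : Scheme.{u}} (f : X ⟶ Y) : Prop :=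
  ∀ (n : Type u) [Finite n], IsClosedMap (AffineSpace.map n f)

theorem isPullback_map_map (n : Type u) {X Y X' Y' : Scheme.{u}} {f : X ⟶ Y} {i : X' ⟶ X}
    {j : Y' ⟶ Y} {f' : X' ⟶ Y'} (h : IsPullback i f' f j) :
    IsPullback (AffineSpace.map n i) (AffineSpace.map n f') (AffineSpace.map n f)
      (AffineSpace.map n j) := by
  refine IsPullback.of_bot (v₂₁ := 𝔸(n; Y') ↘ Y') (v₂₂ := 𝔸(n; Y) ↘ Y) (h₃₁ := j) ?_ ?_
    (isPullback_map j)
  · rw [map_over, map_over]
    exact (isPullback_map i).paste_vert h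
  · rw [← map_comp, ← map_comp, h.w]

theorem AffClosed.of_isPullback {X Y X' Y' : Scheme.{u}} {f : X ⟶ Y} (H : AffClosed f)
    {i : X' ⟶ X} {j : Y' ⟶ Y} [IsOpenImmersion j] {f' : X' ⟶ Y'} (h : IsPullback i f' f j) :
    AffClosed f' := by
  intro n _
  have hj := isOpenImmersion_map n j
  exact IsZariskiLocalAtTarget.of_isPullback (P := topologically @IsClosedMap)
    (isPullback_map_map n h) (H n)

/-- the test hypotheses of the core theorem, from `AffClosed` -/
theorem AffClosed.isClosedMap_snd {X : Scheme.{u}} {B : Type u} [CommRing B]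
    {f : X ⟶ Spec (CommRingCat.of B)} (H : AffClosed f) (n : Type u) [Finite n] :
    IsClosedMap
      (pullback.snd f (Spec.map (CommRingCat.ofHom (algebraMap B (MvPolynomial n B))))).base := by
  have h0 := (isPullback_map (n := n) f).flip
  have h1 : IsPullback (𝔸(n; X) ↘ X) (AffineSpace.map n f ≫ (SpecIso n (CommRingCat.of B)).hom) f
      (Spec.map (CommRingCat.ofHom (algebraMap B (MvPolynomial n B)))) := by
    refine IsPullback.of_iso h0 (Iso.refl _) (Iso.refl _) (SpecIso n (CommRingCat.of B))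
      (Iso.refl _) (by simp) (by simp) (by simp) ?_
    have := SpecIso_inv_over (n := n) (CommRingCat.of B)
    rw [Iso.inv_comp_eq] at this
    rw [MvPolynomial.algebraMap_eq, Iso.refl_hom, Category.comp_id]
    exact this
  have h2 := h1.isoPullback_hom_snd
  have h3 : pullback.snd f (Spec.map (CommRingCat.ofHom (algebraMap B (MvPolynomial n B)))) =
      h1.isoPullback.inv ≫ AffineSpace.map n f ≫ (SpecIso n (CommRingCat.of B)).hom := by
    rw [Iso.eq_inv_comp]
    exact h2
  rw [h3, Scheme.Hom.comp_base, Scheme.Hom.comp_base]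
  exact ((SpecIso n (CommRingCat.of B)).hom.homeomorph.isClosedMap.comp (H n)).comp
    h1.isoPullback.inv.homeomorph.isClosedMap

theorem universallyClosed_of_affClosed {X Y : Scheme.{u}} (f : X ⟶ Y) [QuasiCompact f]
    (H : AffClosed f) : UniversallyClosed f := by
  wlog hY : ∃ R, Y = Spec R generalizing X Y
  · rw [IsZariskiLocalAtTarget.iff_of_openCover (P := @UniversallyClosed) Y.affineCover]
    intro i
    have hq : QuasiCompact (Y.affineCover.pullbackHom f i) := by
      unfold Scheme.Cover.pullbackHom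
      exact MorphismProperty.pullback_snd _ _ inferInstance
    exact this _ (H.of_isPullback (IsPullback.of_hasPullback f (Y.affineCover.f i))) ⟨_, rfl⟩
  obtain ⟨R, rfl⟩ := hY
  refine ⟨universally_mk' _ _ fun {T} g _ ↦ ?_⟩
  wlog hT : ∃ R, T = Spec R generalizing T
  · refine (IsZariskiLocalAtTarget.iff_of_openCover T.affineCover).mpr fun i ↦ ?_
    refine (MorphismProperty.cancel_left_of_respectsIso _
      ((pullbackRightPullbackFstIso ..).inv ≫ (pullbackSymmetry ..).hom) _).mp ?_
    simpa [Scheme.Cover.pullbackHom] using! this _ _ ⟨_, rfl⟩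
  obtain ⟨R', rfl⟩ := hT
  obtain ⟨ψ, rfl⟩ := Spec.map_surjective g
  algebraize [ψ.hom]
  rw [← pullbackSymmetry_hom_comp_snd,
    MorphismProperty.cancel_left_of_respectsIso (topologically @IsClosedMap)]
  exact isClosedMap_snd_of_tests (B := R) f R' fun n _ => H.isClosedMap_snd n

/-- reindexing along an equivalence -/
theorem isClosedMap_map_of_equiv {X Y : Scheme.{u}} (f : X ⟶ Y) {n m : Type u} (e : n ≃ m)
    (h : IsClosedMap (AffineSpace.map m f)) : IsClosedMap (AffineSpace.map n f) := by
  have h1 : reindex e.symm X ≫ reindex e X = 𝟙 _ := reindex_symm_comp e X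
  have h3 : AffineSpace.map n f = reindex e.symm X ≫ AffineSpace.map m f ≫ reindex e Y := by
    rw [map_reindex, ← Category.assoc, h1, Category.id_comp]
  have h4 : reindex e X ≫ reindex e.symm X = 𝟙 _ := by
    simpa using reindex_symm_comp e.symm X
  have h5 : reindex e Y ≫ reindex e.symm Y = 𝟙 _ := by
    simpa using reindex_symm_comp e.symm Y
  have h6 : reindex e.symm Y ≫ reindex e Y = 𝟙 _ := reindex_symm_comp e Y
  have i1 : IsIso (reindex e.symm X) := ⟨reindex e X, h1, h4⟩
  have i2 : IsIso (reindex e Y) := ⟨reindex e.symm Y, h5, h6⟩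
  rw [h3, Scheme.Hom.comp_base, Scheme.Hom.comp_base]
  exact ((reindex e Y).homeomorph.isClosedMap.comp h).comp
    (reindex e.symm X).homeomorph.isClosedMap

theorem isClosedMap_map_iff_snd {X Y : Scheme.{u}} (f : X ⟶ Y) (n : Type u) :
    IsClosedMap (AffineSpace.map n f) ↔ IsClosedMap (pullback.snd f (𝔸(n; Y) ↘ Y)).base := by
  have h1 := (isPullback_map (n := n) f).flip.isoPullback_hom_snd
  constructor
  · intro h
    have h2 : pullback.snd f (𝔸(n; Y) ↘ Y) =
        (isPullback_map (n := n) f).flip.isoPullback.inv ≫ AffineSpace.map n f := by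
      rw [Iso.eq_inv_comp]
      exact h1
    rw [h2, Scheme.Hom.comp_base]
    exact h.comp (Scheme.Hom.homeomorph _).isClosedMap
  · intro h
    rw [← h1, Scheme.Hom.comp_base]
    exact h.comp (Scheme.Hom.homeomorph _).isClosedMap

theorem affClosed_of_fin {X Y : Scheme.{u}} (f : X ⟶ Y)
    (H : ∀ k : ℕ, IsClosedMap (pullback.snd f (𝔸(ULift.{u} (Fin k); Y) ↘ Y)).base) :
    AffClosed f := by
  intro n _
  have e : n ≃ ULift.{u} (Fin (Nat.card n)) := (Finite.equivFin n).trans Equiv.ulift.symm
  exact isClosedMap_map_of_equiv f e ((isClosedMap_map_iff_snd f _).mpr (H _))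

theorem S9205 {X S : Scheme.{u}} (f : X ⟶ S) [QuasiCompact f] :
    (UniversallyClosed f ↔ ∀ (S' : Scheme.{u}) (g : S' ⟶ S), LocallyOfFinitePresentation g →
        IsClosedMap (pullback.snd f g).base) ∧
      (UniversallyClosed f ↔
        ∀ n : ℕ, IsClosedMap (pullback.snd f (𝔸(ULift.{u} (Fin n); S) ↘ S)).base) := by
  have key : (∀ n : ℕ, IsClosedMap (pullback.snd f (𝔸(ULift.{u} (Fin n); S) ↘ S)).base) →
      UniversallyClosed f := fun H => universallyClosed_of_affClosed f (affClosed_of_fin f H)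
  have fwd : UniversallyClosed f → ∀ (S' : Scheme.{u}) (g : S' ⟶ S),
      IsClosedMap (pullback.snd f g).base := by
    intro h S' g
    exact (pullback.snd f g).isClosedMap
  refine ⟨⟨fun h S' g _ => fwd h S' g, fun H => key fun n => H _ _ inferInstance⟩,
    ⟨fun h n => fwd h _ _, key⟩⟩

theorem S4379 {X S : Scheme.{u}} [IsLocallyNoetherian S] (f : X ⟶ S)
    [IsSeparated f] [LocallyOfFiniteType f] [QuasiCompact f] :
    IsProper f ↔ ∀ n : ℕ, IsClosedMap (pullback.snd f (𝔸(ULift.{u} (Fin n); S) ↘ S)).base := by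
  rw [← (S9205 f).2]
  constructor
  · intro h
    infer_instance
  · intro h
    exact { }


end Groth.Agent.Lib.lead.UnivClosedAff2
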