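import Mathlib
import Groth.Agent.Lib.lead.UnivClosedAff2
import Groth.Agent.Lib.lead.SubtrVal2

open CategoryTheory CategoryTheory.Limits AlgebraicGeometry TensorProduct Topology

universe u

namespace Groth.Agent.Lib.lead.UnivSubtrAffine

open AlgebraicGeometry.AffineSpace MorphismProperty
open Groth.Agent.Lib.lead.UnivClosedAffine Groth.Agent.Lib.lead.UnivOpenAffine
  Groth.Agent.Lib.lead.UnivOpenFin Groth.Agent.Lib.lead.UnivClosedAff2
open Groth.Agent.Lib.Helper9

section core

variable {X : Scheme.{u}} {B : Type u} [CommRing B] (f : X ⟶ Spec (CommRingCat.of B))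
variable (B' : Type u) [CommRing B'] [Algebra B B']

/-- finite descent of an open neighbourhood of a fibre to a polynomial test ring -/
theorem exists_test [QuasiCompact f] (t : Spec (CommRingCat.of B')) (W : Set ↥(PB B' f))
    (hW : IsOpen W)
    (hfib : (pullback.snd f (Spec.map (CommRingCat.ofHom (algebraMap B B')))).base ⁻¹' {t} ⊆ W) :
    ∃ (n : Type u) (_ : Finite n) (_ : Nonempty n) (α : MvPolynomial n B →ₐ[B] B')
      (O' : Set ↥(PB (MvPolynomial n B) f)), IsOpen O' ∧ (aT f α).base ⁻¹' O' ⊆ W ∧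
      (pullback.snd f (Spec.map (CommRingCat.ofHom (algebraMap B B')))).base ⁻¹' {t} ⊆
        (aT f α).base ⁻¹' O' := by
  set F := pullback.snd f (Spec.map (CommRingCat.ofHom (algebraMap B B'))) with hF
  have hK : IsCompact (F.base ⁻¹' {t}) := F.isCompact_preimage_singleton t
  have hex : ∀ z : ↥(F.base ⁻¹' {t}), ∃ (c : Chart f) (h : Γ(X, c.U) ⊗[B] B'),
      (z : ↥(PB B' f)) ∈ c.basic h ∧ c.basic h ⊆ W := by
    intro z
    exact Chart.exists_basic _ _ hW (hfib z.2)
  choose c h hz hsub using hex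
  obtain ⟨fs, hfs⟩ := hK.elim_finite_subcover (fun z : ↥(F.base ⁻¹' {t}) => (c z).basic (h z))
    (fun z => (c z).isOpen_basic (h z)) (by
      intro z hzK
      exact Set.mem_iUnion.mpr ⟨⟨z, hzK⟩, hz ⟨z, hzK⟩⟩)
  have hs : ∀ z : ↥(F.base ⁻¹' {t}), ∃ s : Finset (Γ(X, (c z).U) × B'),
      h z = s.sum fun i ↦ i.1 ⊗ₜ[B] i.2 := fun z => TensorProduct.exists_finset (h z)
  choose s hs using hs
  let n : Type u := Option (Σ i : ↥fs, ↥(s i.1))
  let b' : n → B' := fun p => p.elim 0 fun q => q.2.1.2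
  let α : MvPolynomial n B →ₐ[B] B' := MvPolynomial.aeval b'
  let H : ∀ i : ↥fs, Γ(X, (c i.1).U) ⊗[B] MvPolynomial n B :=
    fun i => ∑ p : ↥(s i.1), p.1.1 ⊗ₜ[B] MvPolynomial.X (some ⟨i, p⟩ : n)
  have hH : ∀ i : ↥fs, Algebra.TensorProduct.map (AlgHom.id B Γ(X, (c i.1).U)) α (H i) = h i.1 := by
    intro i
    simp only [H, map_sum, Algebra.TensorProduct.map_tmul, α, MvPolynomial.aeval_X]
    rw [hs i.1, ← Finset.sum_coe_sort (s i.1)]
    rfl
  let O' : Set ↥(PB (MvPolynomial n B) f) := ⋃ i : ↥fs, (c i.1).basic (H i)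
  have hO' : IsOpen O' := isOpen_iUnion fun i => (c i.1).isOpen_basic (H i)
  have hpre : ∀ z : ↥(PB B' f), (aT f α).base z ∈ O' ↔ ∃ i : ↥fs, z ∈ (c i.1).basic (h i.1) := by
    intro z
    simp only [O', Set.mem_iUnion]
    refine exists_congr fun i => ?_
    rw [← hH i, ← (c i.1).preimage_aT_basic α (H i)]
    rfl
  refine ⟨n, inferInstance, ⟨none⟩, α, O', hO', ?_, ?_⟩
  · intro z hz
    obtain ⟨i, hi⟩ := (hpre z).mp hz
    exact hsub i.1 hi
  · intro z hzt
    show (aT f α).base z ∈ O'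
    rw [hpre]
    have := hfs (show z ∈ F.base ⁻¹' {t} from hzt)
    simp only [Set.mem_iUnion] at this
    obtain ⟨i, hi, hzi⟩ := this
    exact ⟨⟨i, hi⟩, hzi⟩

theorem exists_mem_closure_of_tests [QuasiCompact f]
    (Htest : ∀ (n : Type u) [Finite n] [Nonempty n], Subtr.IsSSubtrusive
      (pullback.snd f (Spec.map (CommRingCat.ofHom (algebraMap B (MvPolynomial n B))))))
    (t t' : Spec (CommRingCat.of B')) (htt' : t' ⤳ t) :
    ∃ x : ↥(PB B' f), x ∈ closure
      ((pullback.snd f (Spec.map (CommRingCat.ofHom (algebraMap B B')))).base ⁻¹' {t'}) ∧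
      (pullback.snd f (Spec.map (CommRingCat.ofHom (algebraMap B B')))).base x = t := by
  set F := pullback.snd f (Spec.map (CommRingCat.ofHom (algebraMap B B'))) with hF
  by_contra hne
  push Not at hne
  obtain ⟨n, hn, hn', α, O', hO', h1, h2⟩ := exists_test f B' t (closure (F.base ⁻¹' {t'}))ᶜ
    isClosed_closure.isOpen_compl (fun z hz hzc => hne z hzc hz)
  have hsp : (Spec.map (CommRingCat.ofHom α.toRingHom)).base t' ⤳
      (Spec.map (CommRingCat.ofHom α.toRingHom)).base t :=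
    htt'.map (Scheme.Hom.continuous _)
  obtain ⟨x, x', hxx', hx, hx'⟩ := Htest n hsp
  obtain ⟨z, hz1, hz2⟩ := Scheme.exists_preimage_of_isPullback (isPullback_aT (f := f) α) x t hx
  obtain ⟨z', hz'1, hz'2⟩ := Scheme.exists_preimage_of_isPullback (isPullback_aT (f := f) α) x' t' hx'
  have hxO : x ∈ O' := by
    rw [← hz1]
    exact h2 hz2
  have hx'O : x' ∈ O' := hxx'.mem_open hO' hxO
  have hz'W : z' ∈ (closure (F.base ⁻¹' {t'}))ᶜ := h1 (by rw [Set.mem_preimage, hz'1]; exact hx'O)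
  exact hz'W (subset_closure hz'2)

end core

section scheme

theorem isSSubtrusive_iso_comp {X X' Y : Scheme.{u}} (e : X' ⟶ X) [IsIso e] {F : X ⟶ Y}
    (h : Subtr.IsSSubtrusive F) : Subtr.IsSSubtrusive (e ≫ F) := by
  intro y y' hyy'
  obtain ⟨x, x', hxx', hx, hx'⟩ := h hyy'
  refine ⟨(inv e).base x, (inv e).base x', hxx'.map (Scheme.Hom.continuous _), ?_, ?_⟩
  · rw [← Scheme.Hom.comp_apply, IsIso.inv_hom_id_assoc]
    exact hx
  · rw [← Scheme.Hom.comp_apply, IsIso.inv_hom_id_assoc]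
    exact hx'

theorem isSSubtrusive_comp_iso {X Y Y' : Scheme.{u}} (e : Y ⟶ Y') [IsIso e] {F : X ⟶ Y}
    (h : Subtr.IsSSubtrusive F) : Subtr.IsSSubtrusive (F ≫ e) := by
  intro y y' hyy'
  have h1 : (inv e).base y' ⤳ (inv e).base y := hyy'.map (Scheme.Hom.continuous _)
  obtain ⟨x, x', hxx', hx, hx'⟩ := h h1
  refine ⟨x, x', hxx', ?_, ?_⟩
  · rw [Scheme.Hom.comp_apply]
    show e.base (F.base x) = y
    have : F.base x = (inv e).base y := hx
    rw [this, ← Scheme.Hom.comp_apply, IsIso.inv_hom_id]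
    rfl
  · rw [Scheme.Hom.comp_apply]
    show e.base (F.base x') = y'
    have : F.base x' = (inv e).base y' := hx'
    rw [this, ← Scheme.Hom.comp_apply, IsIso.inv_hom_id]
    rfl

/-- base change along an open immersion -/
theorem isSSubtrusive_of_isPullback {X Y X' Y' : Scheme.{u}} {F : X ⟶ Y} {i : X' ⟶ X}
    {j : Y' ⟶ Y} [IsOpenImmersion j] {F' : X' ⟶ Y'} (h : IsPullback i F' F j)
    (hF : Subtr.IsSSubtrusive F) : Subtr.IsSSubtrusive F' := by
  have hi : IsOpenImmersion i := MorphismProperty.of_isPullback (P := @IsOpenImmersion) h.flip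
    inferInstance
  intro y y' hyy'
  have h1 : j.base y' ⤳ j.base y := hyy'.map (Scheme.Hom.continuous _)
  obtain ⟨x, x', hxx', hx, hx'⟩ := hF h1
  obtain ⟨w, hw1, hw2⟩ := Scheme.exists_preimage_of_isPullback h x y hx
  obtain ⟨w', hw'1, hw'2⟩ := Scheme.exists_preimage_of_isPullback h x' y' hx'
  refine ⟨w, w', ?_, hw2, hw'2⟩
  rw [← i.isOpenEmbedding.isInducing.specializes_iff]
  show i.base w' ⤳ i.base w
  rw [hw1, hw'1]
  exact hxx'

/-- All the nonempty "affine space" base changes of `f` are S-subtrusive. -/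
def AffSub {X Y : Scheme.{u}} (f : X ⟶ Y) : Prop :=
  ∀ (n : Type u) [Finite n] [Nonempty n], Subtr.IsSSubtrusive (AffineSpace.map n f)

theorem AffSub.of_isPullback {X Y X' Y' : Scheme.{u}} {f : X ⟶ Y} (H : AffSub f)
    {i : X' ⟶ X} {j : Y' ⟶ Y} [IsOpenImmersion j] {f' : X' ⟶ Y'} (h : IsPullback i f' f j) :
    AffSub f' := by
  intro n _ _
  have hj := isOpenImmersion_map n j
  exact isSSubtrusive_of_isPullback (isPullback_map_map n h) (H n)

theorem AffSub.isSSubtrusive_snd {X : Scheme.{u}} {B : Type u} [CommRing B]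
    {f : X ⟶ Spec (CommRingCat.of B)} (H : AffSub f) (n : Type u) [Finite n] [Nonempty n] :
    Subtr.IsSSubtrusive
      (pullback.snd f (Spec.map (CommRingCat.ofHom (algebraMap B (MvPolynomial n B))))) := by
  have h0 := (isPullback_map (n := n) f).flip
  have h1 : IsPullback (𝔸(n; X) ↘ X) (AffineSpace.map n f ≫ (SpecIso n (CommRingCat.of B)).hom) f
      (Spec.map (CommRingCat.ofHom (algebraMap B (MvPolynomial n B)))) := by
    refine IsPullback.of_iso h0 (Iso.refl _) (Iso.refl _) (SpecIso n (CommRingCat.of B))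
      (Iso.refl _) (by simp) (by simp) (by simp) ?_
    have := SpecIso_inv_over (n := n) (CommRingCat.of B)
    rw [Iso.inv_comp_eq] at this
    rw [MvPolynomial.algebraMap_eq, Iso.refl_hom, Category.comp_id]
    exact this
  have h2 := h1.isoPullback_hom_snd
  have h3 : pullback.snd f (Spec.map (CommRingCat.ofHom (algebraMap B (MvPolynomial n B)))) =
      h1.isoPullback.inv ≫ AffineSpace.map n f ≫ (SpecIso n (CommRingCat.of B)).hom := by
    rw [Iso.eq_inv_comp]
    exact h2
  rw [h3]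
  exact isSSubtrusive_iso_comp _ (isSSubtrusive_comp_iso _ (H n))

theorem isSSubtrusive_map_of_equiv {X Y : Scheme.{u}} (f : X ⟶ Y) {n m : Type u} (e : n ≃ m)
    (h : Subtr.IsSSubtrusive (AffineSpace.map m f)) :
    Subtr.IsSSubtrusive (AffineSpace.map n f) := by
  have h1 : reindex e.symm X ≫ reindex e X = 𝟙 _ := reindex_symm_comp e X
  have h3 : AffineSpace.map n f = reindex e.symm X ≫ AffineSpace.map m f ≫ reindex e Y := by
    rw [map_reindex, ← Category.assoc, h1, Category.id_comp]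
  have h4 : reindex e X ≫ reindex e.symm X = 𝟙 _ := by
    simpa using reindex_symm_comp e.symm X
  have h5 : reindex e Y ≫ reindex e.symm Y = 𝟙 _ := by
    simpa using reindex_symm_comp e.symm Y
  have h6 : reindex e.symm Y ≫ reindex e Y = 𝟙 _ := reindex_symm_comp e Y
  have i1 : IsIso (reindex e.symm X) := ⟨reindex e X, h1, h4⟩
  have i2 : IsIso (reindex e Y) := ⟨reindex e.symm Y, h5, h6⟩
  rw [h3]
  exact isSSubtrusive_iso_comp _ (isSSubtrusive_comp_iso _ h)

theorem affSub_of_fin {X Y : Scheme.{u}} (f : X ⟶ Y)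
    (H : ∀ k : ℕ, 0 < k →
      Subtr.IsSSubtrusive (pullback.snd f (𝔸(ULift.{u} (Fin k); Y) ↘ Y))) :
    AffSub f := by
  intro n _ _
  have e : n ≃ ULift.{u} (Fin (Nat.card n)) := (Finite.equivFin n).trans Equiv.ulift.symm
  refine isSSubtrusive_map_of_equiv f e ?_
  have h1 := (isPullback_map (n := ULift.{u} (Fin (Nat.card n))) f).flip.isoPullback_hom_snd
  rw [← h1]
  exact isSSubtrusive_iso_comp _ (H _ Nat.card_pos)

set_option backward.isDefEq.respectTransparency.types false in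
theorem univSSubtrusive_of_affSub {X Y : Scheme.{u}} (f : X ⟶ Y) [QuasiCompact f]
    (H : AffSub f) : Subtr.UnivSSubtrusive f := by
  rw [SubtrVal2.S14768]
  intro V _ _ _ g
  -- an affine open neighbourhood of the image of the closed point
  obtain ⟨_, ⟨U, hU, rfl⟩, hyU, -⟩ := (Y.isBasis_affineOpens).exists_subset_of_mem_open
    (Set.mem_univ (g.base (IsLocalRing.closedPoint V))) isOpen_univ
  have hrange : Set.range g.base ⊆ Set.range hU.fromSpec.base := by
    rw [hU.range_fromSpec]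
    rintro _ ⟨p, rfl⟩
    have hp : g.base p ⤳ g.base (IsLocalRing.closedPoint V) :=
      (IsLocalRing.specializes_closedPoint p).map (Scheme.Hom.continuous _)
    exact hp.mem_open U.isOpen hyU
  set j := hU.fromSpec with hj
  let g' : Spec (CommRingCat.of V) ⟶ Spec Γ(Y, U) := IsOpenImmersion.lift j g hrange
  have hg' : g' ≫ j = g := IsOpenImmersion.lift_fac _ _ _
  set fU := pullback.snd f j with hfU
  have hAU : AffSub fU := H.of_isPullback (IsPullback.of_hasPullback f j)
  obtain ⟨ψ, hψ⟩ := Spec.map_surjective g'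
  algebraize [ψ.hom]
  have hcore : Subtr.IsSSubtrusive (pullback.snd fU (Spec.map ψ)) := by
    refine ((SubtrVal.S14765 V (pullback.snd fU (Spec.map ψ))).out 2 1).mp ?_
    intro y
    exact exists_mem_closure_of_tests (B := Γ(Y, U)) fU V (fun n _ _ => hAU.isSSubtrusive_snd n)
      y (⟨⊥, Ideal.isPrime_bot⟩ : PrimeSpectrum V) (VCov.genPt_specializes (CommRingCat.of V) y)
  rw [hψ] at hcore
  have h5 := pullbackLeftPullbackSndIso_hom_snd f j g'
  rw [← hg']
  have h6 : pullback.snd f (g' ≫ j) = (pullbackLeftPullbackSndIso f j g').inv ≫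
      pullback.snd (pullback.snd f j) g' := by
    rw [Iso.eq_inv_comp]
    exact h5
  rw [h6]
  exact isSSubtrusive_iso_comp _ hcore

theorem S14772 {X Y : Scheme.{u}} (f : X ⟶ Y) [QuasiCompact f] :
    Subtr.UnivSSubtrusive f ↔
      ∀ n : ℕ, 0 < n →
        Subtr.IsSSubtrusive (pullback.snd f (AffineSpace (ULift.{u} (Fin n)) Y ↘ Y)) := by
  constructor
  · intro h n _
    exact h _ _ _ (IsPullback.of_hasPullback f _).flip
  · intro H
    exact univSSubtrusive_of_affSub f (affSub_of_fin f H)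


end scheme

end Groth.Agent.Lib.lead.UnivSubtrAffine
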