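import Mathlib
import Groth.Agent.Lib.lead.FlatRelDim
import Groth.Agent.Lib.lead.FibreDimFormula
import Groth.Agent.Lib.lead.QFRelDim

set_option autoImplicit false
set_option linter.style.haveILetI false
universe u
open CategoryTheory CategoryTheory.Limits AlgebraicGeometry Topology TopologicalSpace

namespace Groth.Agent.Lib.lead.LocalDimProd

open Groth.Agent.Lib.lead Groth.Agent.Lib.Helper7 Groth.Agent.Lib.Helper24 Groth.Agent.Lib.Helper18

section flat

variable (k : Type u) [Field k] {X Y : Scheme.{u}} [X.Over (Spec (CommRingCat.of k))]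
  [Y.Over (Spec (CommRingCat.of k))]
  [LocallyOfFiniteType (X ↘ Spec (CommRingCat.of k))]
  [LocallyOfFiniteType (Y ↘ Spec (CommRingCat.of k))]
  (f : X ⟶ Y) (hf : f ≫ (Y ↘ Spec (CommRingCat.of k)) = X ↘ Spec (CommRingCat.of k))

include hf in
/-- for a flat `k`-morphism between schemes locally of finite type over `k`:
`dim_x X = dim_{f x} Y + dim_x X_{f x}` -/
theorem localDim_eq_add_fibreDimAt_of_flat [Flat f] [LocallyOfFiniteType f] (w : X) :
    FlatMor.localDim X w = FlatMor.localDim Y (f w) + FlatMor.fibreDimAt f w := by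
  obtain ⟨nw, hnw, -⟩ := VarDim.exists_nat_dim_closure_eq k X w
  obtain ⟨ny, hny, -⟩ := VarDim.exists_nat_dim_closure_eq k Y (f w)
  have hadd := VarTdAdd.td_add k f hf w
  unfold GenFinite.td at hadd
  rw [hnw, hny] at hadd
  have hsum : ny + FibreDim.tr f w = nw := by exact_mod_cast hadd
  obtain ⟨b, hb⟩ := FibreDimFormula.exists_nat_G f w
  haveI : IsLocallyNoetherian Y :=
    LocallyOfFiniteType.isLocallyNoetherian (Y ↘ Spec (CommRingCat.of k))
  rw [FibreDim.localDim_eq_td_add_coheight k X w nw hnw,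
    FibreDim.localDim_eq_td_add_coheight k Y (f w) ny hny,
    FibreDimFormula.fibreDimAt_eq f w b hb, FlatRelDim.coheight_eq_add_G_of_flat f w, hb, ← hsum]
  have : (((ny + FibreDim.tr f w : ℕ) : ℕ∞) + (Order.coheight (f w) + (b : ℕ∞)) : ℕ∞) =
      ((ny : ℕ∞) + Order.coheight (f w)) + ((FibreDim.tr f w + b : ℕ) : ℕ∞) := by
    push_cast; ring
  rw [this]
  push_cast
  rfl

end flat

set_option backward.isDefEq.respectTransparency.types false in
theorem localDim_pullback (k : Type u) [Field k] {X Y : Scheme.{u}}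
    (qX : X ⟶ Spec (CommRingCat.of k)) (qY : Y ⟶ Spec (CommRingCat.of k))
    [LocallyOfFiniteType qX] [LocallyOfFiniteType qY] (z : ↥(pullback qX qY)) :
    FlatMor.localDim ↥(pullback qX qY) z =
      FlatMor.localDim ↥X (pullback.fst qX qY z) + FlatMor.localDim ↥Y (pullback.snd qX qY z) := by
  haveI : Subsingleton (Spec (CommRingCat.of k)) :=
    inferInstanceAs (Subsingleton (PrimeSpectrum k))
  haveI : IsIntegral (Spec (CommRingCat.of k)) := inferInstance
  haveI : Flat qX := inferInstance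
  letI oX : X.Over (Spec (CommRingCat.of k)) := ⟨qX⟩
  letI oY : Y.Over (Spec (CommRingCat.of k)) := ⟨qY⟩
  haveI : LocallyOfFiniteType (X ↘ Spec (CommRingCat.of k)) := ‹LocallyOfFiniteType qX›
  haveI : LocallyOfFiniteType (Y ↘ Spec (CommRingCat.of k)) := ‹LocallyOfFiniteType qY›
  letI oP : (pullback qX qY).Over (Spec (CommRingCat.of k)) := ⟨pullback.snd qX qY ≫ qY⟩
  haveI : LocallyOfFiniteType (pullback.snd qX qY) :=
    MorphismProperty.pullback_snd _ _ inferInstance
  haveI : LocallyOfFiniteType ((pullback qX qY) ↘ Spec (CommRingCat.of k)) :=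
    inferInstanceAs (LocallyOfFiniteType (pullback.snd qX qY ≫ qY))
  have h1 := localDim_eq_add_fibreDimAt_of_flat k (pullback.snd qX qY) rfl z
  have h2 := FibreDimBCLocal.fibreDimAt_baseChange qX qY (pullback.fst qX qY) (pullback.snd qX qY)
    (IsPullback.of_hasPullback qX qY) z
  letI oS : (Spec (CommRingCat.of k)).Over (Spec (CommRingCat.of k)) := ⟨𝟙 _⟩
  haveI : LocallyOfFiniteType ((Spec (CommRingCat.of k)) ↘ Spec (CommRingCat.of k)) :=
    inferInstanceAs (LocallyOfFiniteType (𝟙 (Spec (CommRingCat.of k))))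
  have h3 := localDim_eq_add_fibreDimAt_of_flat k qX (Category.comp_id _) (pullback.fst qX qY z)
  have h4 : FlatMor.localDim (Spec (CommRingCat.of k)) (qX (pullback.fst qX qY z)) = 0 := by
    apply QFRelDim.localDim_eq_zero_of_isOpen_singleton
    have : ({qX (pullback.fst qX qY z)} : Set (Spec (CommRingCat.of k))) = Set.univ :=
      Set.eq_univ_of_forall fun t => Subsingleton.elim _ _
    rw [this]
    exact isOpen_univ
  rw [h1, h2, h3, h4, zero_add, add_comm]

theorem S7610 (k : Type u) [Field k] (X : Scheme.{u}) [X.Over (Spec (CommRingCat.of k))]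
    [LocallyOfFiniteType (X ↘ (Spec (CommRingCat.of k)))]
    (Y : Scheme.{u}) [Y.Over (Spec (CommRingCat.of k))]
    [LocallyOfFiniteType (Y ↘ (Spec (CommRingCat.of k)))]
    (z : ↥(pullback (X ↘ (Spec (CommRingCat.of k))) (Y ↘ (Spec (CommRingCat.of k))))) :
    FlatMor.localDim ↥(pullback (X ↘ (Spec (CommRingCat.of k))) (Y ↘ (Spec (CommRingCat.of k)))) z =
      FlatMor.localDim ↥X (pullback.fst (X ↘ (Spec (CommRingCat.of k)))
        (Y ↘ (Spec (CommRingCat.of k))) z) +
        FlatMor.localDim ↥Y (pullback.snd (X ↘ (Spec (CommRingCat.of k)))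
          (Y ↘ (Spec (CommRingCat.of k))) z) :=
  localDim_pullback k _ _ z

end Groth.Agent.Lib.lead.LocalDimProd
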