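import Mathlib
import Groth.Agent.Lib.lead.LocalDimProd
import Groth.Agent.Lib.lead.FlatEquidimGen
import Groth.Agent.Lib.lead.GenFiniteGen
import Groth.Prelude.Def_Grpd

set_option autoImplicit false
set_option linter.style.haveILetI false
universe u
open CategoryTheory CategoryTheory.Limits AlgebraicGeometry Topology TopologicalSpace

namespace Groth.Agent.Lib.lead.GrpdEquidim

open Groth.Agent.Lib.lead Groth.Agent.Lib.Helper7 Groth.Agent.Lib.Helper24 Groth.Agent.Lib.Helper18

section prod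

set_option backward.isDefEq.respectTransparency.types false in
/-- product formula for local dimensions, for an arbitrary cartesian square over a field -/
theorem localDim_of_isPullback (k : Type u) [Field k] {P X Y : Scheme.{u}}
    (qX : X ⟶ Spec (CommRingCat.of k)) (qY : Y ⟶ Spec (CommRingCat.of k))
    [LocallyOfFiniteType qX] [LocallyOfFiniteType qY] (p₁ : P ⟶ X) (p₂ : P ⟶ Y)
    (hsq : IsPullback p₁ p₂ qX qY) (z : P) :
    FlatMor.localDim P z = FlatMor.localDim X (p₁ z) + FlatMor.localDim Y (p₂ z) := by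
  haveI : Subsingleton (Spec (CommRingCat.of k)) :=
    inferInstanceAs (Subsingleton (PrimeSpectrum k))
  haveI : IsIntegral (Spec (CommRingCat.of k)) := inferInstance
  haveI : Flat qX := inferInstance
  haveI : Flat p₂ := MorphismProperty.of_isPullback hsq inferInstance
  letI oX : X.Over (Spec (CommRingCat.of k)) := ⟨qX⟩
  letI oY : Y.Over (Spec (CommRingCat.of k)) := ⟨qY⟩
  haveI : LocallyOfFiniteType (X ↘ Spec (CommRingCat.of k)) := ‹LocallyOfFiniteType qX›
  haveI : LocallyOfFiniteType (Y ↘ Spec (CommRingCat.of k)) := ‹LocallyOfFiniteType qY›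
  letI oP : P.Over (Spec (CommRingCat.of k)) := ⟨p₂ ≫ qY⟩
  haveI : LocallyOfFiniteType p₂ := MorphismProperty.of_isPullback hsq inferInstance
  haveI : LocallyOfFiniteType (P ↘ Spec (CommRingCat.of k)) :=
    inferInstanceAs (LocallyOfFiniteType (p₂ ≫ qY))
  have h1 := LocalDimProd.localDim_eq_add_fibreDimAt_of_flat k p₂ rfl z
  have h2 := FibreDimBCLocal.fibreDimAt_baseChange qX qY p₁ p₂ hsq z
  letI oS : (Spec (CommRingCat.of k)).Over (Spec (CommRingCat.of k)) := ⟨𝟙 _⟩
  haveI : LocallyOfFiniteType ((Spec (CommRingCat.of k)) ↘ Spec (CommRingCat.of k)) :=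
    inferInstanceAs (LocallyOfFiniteType (𝟙 (Spec (CommRingCat.of k))))
  have h3 := LocalDimProd.localDim_eq_add_fibreDimAt_of_flat k qX (Category.comp_id _) (p₁ z)
  have h4 : FlatMor.localDim (Spec (CommRingCat.of k)) (qX (p₁ z)) = 0 := by
    apply QFRelDim.localDim_eq_zero_of_isOpen_singleton
    have : ({qX (p₁ z)} : Set (Spec (CommRingCat.of k))) = Set.univ :=
      Set.eq_univ_of_forall fun t => Subsingleton.elim _ _
    rw [this]
    exact isOpen_univ
  rw [h1, h2, h3, h4, zero_add, add_comm]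

theorem exists_nat_localDim (k : Type u) [Field k] (X : Scheme.{u})
    [X.Over (Spec (CommRingCat.of k))] [LocallyOfFiniteType (X ↘ Spec (CommRingCat.of k))]
    (x : X) : ∃ n : ℕ, FlatMor.localDim X x = n ∧ Order.coheight x ≤ (n : ℕ∞) := by
  obtain ⟨nx, hnx, -⟩ := VarDim.exists_nat_dim_closure_eq k X x
  haveI : IsLocallyNoetherian X :=
    LocallyOfFiniteType.isLocallyNoetherian (X ↘ Spec (CommRingCat.of k))
  have h1 : ringKrullDim (X.presheaf.stalk x) ≠ ⊤ := ringKrullDim_ne_top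
  rw [ringKrullDim_stalk_eq_coheight] at h1
  have h2 : Order.coheight x ≠ ⊤ := by
    intro h
    rw [h] at h1
    exact h1 rfl
  obtain ⟨b, hb⟩ := ENat.ne_top_iff_exists.mp h2
  refine ⟨nx + b, ?_, ?_⟩
  · rw [FibreDim.localDim_eq_td_add_coheight k X x nx hnx, ← hb]
    push_cast
    rfl
  · rw [← hb]
    exact_mod_cast Nat.le_add_left b nx

end prod

section grpd

variable {S : Scheme.{u}} (G : Grpd.GroupoidScheme S)

theorem lift_c_congr {W : Scheme.{u}} {α α' β β' : W ⟶ G.R} (h : α ≫ G.s = β ≫ G.t)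
    (hα : α = α') (hβ : β = β') (h' : α' ≫ G.s = β' ≫ G.t) :
    pullback.lift α β h ≫ G.c = pullback.lift α' β' h' ≫ G.c := by
  subst hα hβ; rfl

theorem comp_c {W : Scheme.{u}} (m : W ⟶ pullback G.s G.t) :
    m ≫ G.c = pullback.lift (m ≫ pullback.fst G.s G.t) (m ≫ pullback.snd G.s G.t)
      (by rw [Category.assoc, Category.assoc, pullback.condition]) ≫ G.c := by
  congr 1
  apply pullback.hom_ext
  · rw [pullback.lift_fst]
  · rw [pullback.lift_snd]

theorem c_s : G.c ≫ G.s = pullback.snd G.s G.t ≫ G.s := by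
  have h := G.comp_s (pullback.fst G.s G.t) (pullback.snd G.s G.t) pullback.condition
  have hid : pullback.lift (pullback.fst G.s G.t) (pullback.snd G.s G.t) pullback.condition =
      𝟙 _ := by
    apply pullback.hom_ext <;> simp
  rwa [hid, Category.id_comp] at h

theorem c_t : G.c ≫ G.t = pullback.fst G.s G.t ≫ G.t := by
  have h := G.comp_t (pullback.fst G.s G.t) (pullback.snd G.s G.t) pullback.condition
  have hid : pullback.lift (pullback.fst G.s G.t) (pullback.snd G.s G.t) pullback.condition =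
      𝟙 _ := by
    apply pullback.hom_ext <;> simp
  rwa [hid, Category.id_comp] at h

/-- `(a, b) ↦ (a ∘ b, b)` identifies `R ×_{s,t} R` with `R ×_{s,s} R` -/
theorem isPullback_c_snd : IsPullback G.c (pullback.snd G.s G.t) G.s G.s := by
  refine ⟨⟨c_s G⟩, ⟨PullbackCone.IsLimit.mk _ (fun σ => ?_) (fun σ => ?_) (fun σ => ?_)
    (fun σ m h1 h2 => ?_)⟩⟩
  · have h1 : σ.fst ≫ G.s = (σ.snd ≫ G.i) ≫ G.t := by
      rw [Category.assoc, G.i_t]; exact σ.condition
    refine pullback.lift (pullback.lift σ.fst (σ.snd ≫ G.i) h1 ≫ G.c) σ.snd ?_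
    rw [G.comp_s, Category.assoc, G.i_s]
  · have h1 : σ.fst ≫ G.s = (σ.snd ≫ G.i) ≫ G.t := by
      rw [Category.assoc, G.i_t]; exact σ.condition
    have h2 : (σ.snd ≫ G.i) ≫ G.s = σ.snd ≫ G.t := by rw [Category.assoc, G.i_s]
    have hass := G.assoc σ.fst (σ.snd ≫ G.i) σ.snd h1 h2
    rw [hass]
    have h3 : σ.fst ≫ G.s = (σ.fst ≫ G.s ≫ G.e) ≫ G.t := by
      rw [Category.assoc, Category.assoc, G.e_t, Category.comp_id]
    rw [lift_c_congr G _ rfl ((G.i_comp σ.snd).trans
      (by rw [← Category.assoc, ← σ.condition, Category.assoc])) h3]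
    exact G.comp_e σ.fst
  · exact pullback.lift_snd _ _ _
  · have hcond : (m ≫ pullback.fst G.s G.t) ≫ G.s = (m ≫ pullback.snd G.s G.t) ≫ G.t := by
      rw [Category.assoc, Category.assoc, pullback.condition]
    apply pullback.hom_ext
    · rw [pullback.lift_fst]
      -- a = lift α (β ≫ i) ≫ c with α = m ≫ c, β = m ≫ snd
      have hα : σ.fst = pullback.lift (m ≫ pullback.fst G.s G.t) (m ≫ pullback.snd G.s G.t)
          hcond ≫ G.c := by rw [← h1]; exact comp_c G m
      have hβ : σ.snd = m ≫ pullback.snd G.s G.t := h2.symm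
      have h4 : (m ≫ pullback.snd G.s G.t) ≫ G.s = ((m ≫ pullback.snd G.s G.t) ≫ G.i) ≫ G.t := by
        rw [Category.assoc _ G.i, G.i_t]
      have h5 : (pullback.lift (m ≫ pullback.fst G.s G.t) (m ≫ pullback.snd G.s G.t) hcond ≫ G.c) ≫ G.s =
          ((m ≫ pullback.snd G.s G.t) ≫ G.i) ≫ G.t := by
        rw [G.comp_s]; exact h4
      rw [lift_c_congr G _ hα (show σ.snd ≫ G.i = (m ≫ pullback.snd G.s G.t) ≫ G.i by rw [hβ]) h5]
      have hass := G.assoc (m ≫ pullback.fst G.s G.t) (m ≫ pullback.snd G.s G.t)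
        ((m ≫ pullback.snd G.s G.t) ≫ G.i) hcond h4
      rw [hass]
      have h6 : (m ≫ pullback.fst G.s G.t) ≫ G.s =
          ((m ≫ pullback.fst G.s G.t) ≫ G.s ≫ G.e) ≫ G.t := by
        rw [Category.assoc _ _ G.t, Category.assoc _ _ G.t, G.e_t, Category.comp_id]
      rw [lift_c_congr G _ rfl ((G.comp_i (m ≫ pullback.snd G.s G.t)).trans
        (by rw [← Category.assoc, ← hcond, Category.assoc])) h6]
      exact (G.comp_e _).symm
    · rw [pullback.lift_snd]; exact h2

/-- `(a, b) ↦ (a, a ∘ b)` identifies `R ×_{s,t} R` with `R ×_{t,t} R` -/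
theorem isPullback_fst_c : IsPullback (pullback.fst G.s G.t) G.c G.t G.t := by
  refine ⟨⟨(c_t G).symm⟩, ⟨PullbackCone.IsLimit.mk _ (fun σ => ?_) (fun σ => ?_) (fun σ => ?_)
    (fun σ m h1 h2 => ?_)⟩⟩
  · have h1 : (σ.fst ≫ G.i) ≫ G.s = σ.snd ≫ G.t := by
      rw [Category.assoc, G.i_s]; exact σ.condition
    refine pullback.lift σ.fst (pullback.lift (σ.fst ≫ G.i) σ.snd h1 ≫ G.c) ?_
    rw [G.comp_t, Category.assoc, G.i_t]
  · exact pullback.lift_fst _ _ _
  · have h1 : (σ.fst ≫ G.i) ≫ G.s = σ.snd ≫ G.t := by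
      rw [Category.assoc, G.i_s]; exact σ.condition
    have h0 : σ.fst ≫ G.s = (σ.fst ≫ G.i) ≫ G.t := by rw [Category.assoc, G.i_t]
    have hass := G.assoc σ.fst (σ.fst ≫ G.i) σ.snd h0 h1
    rw [← hass]
    have h3 : (σ.snd ≫ G.t ≫ G.e) ≫ G.s = σ.snd ≫ G.t := by
      rw [Category.assoc, Category.assoc, G.e_s, Category.comp_id]
    rw [lift_c_congr G _ ((G.comp_i σ.fst).trans
      (by rw [← Category.assoc, σ.condition, Category.assoc])) rfl h3]
    exact G.e_comp σ.snd
  · have hcond : (m ≫ pullback.fst G.s G.t) ≫ G.s = (m ≫ pullback.snd G.s G.t) ≫ G.t := by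
      rw [Category.assoc, Category.assoc, pullback.condition]
    apply pullback.hom_ext
    · rw [pullback.lift_fst]; exact h1
    · rw [pullback.lift_snd]
      have hα : σ.fst = m ≫ pullback.fst G.s G.t := h1.symm
      have hβ : σ.snd = pullback.lift (m ≫ pullback.fst G.s G.t) (m ≫ pullback.snd G.s G.t)
          hcond ≫ G.c := by rw [← h2]; exact comp_c G m
      have h4 : ((m ≫ pullback.fst G.s G.t) ≫ G.i) ≫ G.s = (m ≫ pullback.fst G.s G.t) ≫ G.t := by
        rw [Category.assoc _ G.i, G.i_s]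
      have h5 : ((m ≫ pullback.fst G.s G.t) ≫ G.i) ≫ G.s =
          (pullback.lift (m ≫ pullback.fst G.s G.t) (m ≫ pullback.snd G.s G.t) hcond ≫ G.c) ≫ G.t := by
        rw [G.comp_t]; exact h4
      rw [lift_c_congr G _ (show σ.fst ≫ G.i = (m ≫ pullback.fst G.s G.t) ≫ G.i by rw [hα]) hβ h5]
      have hass := G.assoc ((m ≫ pullback.fst G.s G.t) ≫ G.i) (m ≫ pullback.fst G.s G.t)
        (m ≫ pullback.snd G.s G.t) h4 hcond
      rw [← hass]
      have h6 : ((m ≫ pullback.snd G.s G.t) ≫ G.t ≫ G.e) ≫ G.s =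
          (m ≫ pullback.snd G.s G.t) ≫ G.t := by
        rw [Category.assoc _ _ G.s, Category.assoc _ _ G.s, G.e_s, Category.comp_id]
      rw [lift_c_congr G _ ((G.i_comp (m ≫ pullback.fst G.s G.t)).trans
        (by rw [← Category.assoc, hcond, Category.assoc])) rfl h6]
      exact (G.e_comp _).symm

end grpd

theorem S7518 (S : Scheme.{u}) (G : Grpd.GroupoidScheme S) (k : Type u) [Field k]
    (eU : G.U ≅ Spec (CommRingCat.of k)) [LocallyOfFiniteType G.s] [LocallyOfFiniteType G.t] :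
    (∀ Z ∈ irreducibleComponents ↥G.R, topologicalKrullDim ↥Z = topologicalKrullDim ↥G.R) ∧
      ∀ r : G.R, FlatMor.localDim ↥G.R r = topologicalKrullDim ↥G.R := by
  have sq1 : IsPullback (pullback.fst G.s G.t) (pullback.snd G.s G.t) (G.s ≫ eU.hom)
      (G.t ≫ eU.hom) :=
    (IsPullback.of_hasPullback G.s G.t).of_iso (Iso.refl _) (Iso.refl _) (Iso.refl _) eU
      (by simp) (by simp) (by simp) (by simp)
  have sq2 : IsPullback G.c (pullback.snd G.s G.t) (G.s ≫ eU.hom) (G.s ≫ eU.hom) :=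
    (isPullback_c_snd G).of_iso (Iso.refl _) (Iso.refl _) (Iso.refl _) eU
      (by simp) (by simp) (by simp) (by simp)
  have sq3 : IsPullback (pullback.fst G.s G.t) G.c (G.t ≫ eU.hom) (G.t ≫ eU.hom) :=
    (isPullback_fst_c G).of_iso (Iso.refl _) (Iso.refl _) (Iso.refl _) eU
      (by simp) (by simp) (by simp) (by simp)
  haveI : Subsingleton (Spec (CommRingCat.of k)) :=
    inferInstanceAs (Subsingleton (PrimeSpectrum k))
  letI oR : G.R.Over (Spec (CommRingCat.of k)) := ⟨G.s ≫ eU.hom⟩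
  haveI : LocallyOfFiniteType (G.R ↘ Spec (CommRingCat.of k)) :=
    inferInstanceAs (LocallyOfFiniteType (G.s ≫ eU.hom))
  have key : ∀ r r' : G.R, FlatMor.localDim G.R r = FlatMor.localDim G.R r' := by
    intro r r'
    have hU : G.s r = G.t r' := by
      apply eU.hom.homeomorph.injective
      exact Subsingleton.elim _ _
    obtain ⟨z, hz1, hz2⟩ := Scheme.Pullback.exists_preimage_pullback r r' hU
    have e1 := localDim_of_isPullback k (G.s ≫ eU.hom) (G.t ≫ eU.hom) _ _ sq1 z
    have e2 := localDim_of_isPullback k (G.s ≫ eU.hom) (G.s ≫ eU.hom) _ _ sq2 z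
    have e3 := localDim_of_isPullback k (G.t ≫ eU.hom) (G.t ≫ eU.hom) _ _ sq3 z
    rw [hz1, hz2] at e1
    rw [hz2] at e2
    rw [hz1] at e3
    obtain ⟨a, ha, -⟩ := exists_nat_localDim k G.R r
    obtain ⟨b, hb, -⟩ := exists_nat_localDim k G.R r'
    obtain ⟨m, hm, -⟩ := exists_nat_localDim k G.R (G.c z)
    rw [ha, hb] at e1
    rw [hm, hb] at e2
    rw [ha, hm] at e3
    have h12 : a + b = m + b := by exact_mod_cast e1.symm.trans e2
    have h13 : a + b = a + m := by exact_mod_cast e1.symm.trans e3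
    rw [ha, hb]
    have : a = b := by omega
    rw [this]
  have hdim : ∀ r : G.R, FlatMor.localDim ↥G.R r = topologicalKrullDim ↥G.R := by
    intro r
    apply le_antisymm
    · unfold FlatMor.localDim
      exact le_trans (iInf_le _ ⟨⊤, trivial⟩) (topologicalKrullDim_subspace_le _ _)
    · rw [Groth.Agent.Lib.Helper3.topologicalKrullDim_eq_iSup_stalk]
      refine iSup_le fun x => ?_
      rw [ringKrullDim_stalk_eq_coheight, key r x]
      obtain ⟨n, hn, hle⟩ := exists_nat_localDim k G.R x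
      rw [hn]
      exact_mod_cast hle
  refine ⟨fun Z hZ => ?_, hdim⟩
  obtain ⟨ξ, hξ⟩ := QuasiSober.sober hZ.1 (isClosed_of_mem_irreducibleComponents Z hZ)
  have hξmax : ∀ z : G.R, z ⤳ ξ → z = ξ :=
    GenFiniteGen.maximal_of_mem_irreducibleComponents (by rw [hξ.def]; exact hZ)
  have hmax : IsMax ξ := by
    intro b hb
    have hb' : b ⤳ ξ := (Scheme.le_iff_specializes).1 hb
    rw [hξmax b hb']
  rw [← hdim ξ, FlatEquidimGen.localDim_of_isMax (k := k) (X := G.R) ξ hmax, hξ.def]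

end Groth.Agent.Lib.lead.GrpdEquidim
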