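import Mathlib
import Groth.Agent.Lib.lead.QFCodimSp

set_option autoImplicit false
universe u
open CategoryTheory CategoryTheory.Limits AlgebraicGeometry

namespace Groth.Agent.Lib.lead.QFFinSp

open AlgSp Groth.Agent.Lib.Helper3 Groth.Agent.Lib.lead.QFCodim Groth.Agent.Lib.lead.QFCodimSp

variable {S : Scheme.{u}}

/-- For a morphism of finite type, the points of a fibre at which it is quasi-finite are finite in
number. -/
theorem finite_quasiFiniteAt_fibre {U V : Scheme.{u}} (h : U ⟶ V) [LocallyOfFiniteType h]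
    [QuasiCompact h] (v : V) : {u : U | h u = v ∧ h.QuasiFiniteAt u}.Finite := by
  have : LocallyOfFiniteType (h.fiberToSpecResidueField v) :=
    MorphismProperty.pullback_snd (P := @LocallyOfFiniteType) _ _ inferInstance
  haveI : IsLocallyNoetherian (h.fiber v) :=
    LocallyOfFiniteType.isLocallyNoetherian (h.fiberToSpecResidueField v)
  haveI : IsNoetherian (h.fiber v) := {}
  haveI : TopologicalSpace.NoetherianSpace (h ⁻¹' {v}) :=
    TopologicalSpace.noetherianSpace_of_surjective _ (h.fiberHomeo v).continuous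
      (h.fiberHomeo v).surjective
  let J' : Set (h ⁻¹' {v}) := {z | h.QuasiFiniteAt z.1}
  have hJc : IsCompact J' := TopologicalSpace.NoetherianSpace.isCompact J'
  have hJd : DiscreteTopology J' := by
    rw [discreteTopology_iff_isOpen_singleton]
    rintro ⟨⟨z, hz⟩, hzq⟩
    obtain ⟨O, hO, hOe⟩ := (quasiFiniteAt_iff_exists_open h z).1 hzq
    have : ({⟨⟨z, hz⟩, hzq⟩} : Set J') = (fun w : J' => (w.1.1 : U)) ⁻¹' O := by
      ext ⟨⟨w, hw⟩, hwq⟩
      simp only [Set.mem_singleton_iff, Set.mem_preimage, Subtype.mk.injEq]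
      constructor
      · rintro rfl
        have : w ∈ O ∩ h ⁻¹' {h w} := by rw [hOe]; rfl
        exact this.1
      · intro hwO
        have : w ∈ O ∩ h ⁻¹' {h z} := ⟨hwO, by rw [Set.mem_preimage, Set.mem_singleton_iff, hw, hz]⟩
        rw [hOe] at this
        exact this
    rw [this]
    exact hO.preimage (continuous_subtype_val.comp continuous_subtype_val)
  have hfin : J'.Finite := hJc.finite ⟨hJd⟩
  have : {u : U | h u = v ∧ h.QuasiFiniteAt u} = Subtype.val '' J' := by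
    ext u
    constructor
    · rintro ⟨h1, h2⟩
      exact ⟨⟨u, h1⟩, h2, rfl⟩
    · rintro ⟨⟨w, hw⟩, hwq, rfl⟩
      exact ⟨hw, hwq⟩
  rw [this]
  exact hfin.image _


theorem main {X Y : AlgSp.Space S} (f : X ⟶ Y) (hf : AlgSp.IsFiniteTypeMor f.hom)
    (y : AlgSp.Points Y.obj) :
    {x : AlgSp.Points X.obj | AlgSp.Points.map f.hom x = y ∧
      AlgSp.HasAtMor QFQ f.hom x}.Finite := by
  obtain ⟨hlft, hqc⟩ := hf
  obtain ⟨V₀, b₀, hb₀e, hb₀s⟩ := Y.property.atlas
  obtain ⟨v₀, hv₀⟩ := exists_ofPt_eq b₀ hb₀s y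
  obtain ⟨_, ⟨V₁', hV₁, rfl⟩, hv₀V, -⟩ := V₀.left.isBasis_affineOpens.exists_subset_of_mem_open
    (Set.mem_univ v₀) isOpen_univ
  let V₁ : V₀.left.Opens := V₁'
  let V : Over S := Over.mk (V₁.ι ≫ V₀.hom)
  let b : (yon S).obj V ⟶ Y.obj := chartRestrict b₀ V₁
  have hbe : RepWith @Etale b := chartRestrict_etale b₀ hb₀e V₁
  let v : V.left := ⟨v₀, hv₀V⟩
  have hv : Points.ofPt b v = y := by rw [ofPt_chartRestrict]; exact hv₀
  haveI : IsAffine V.left := hV₁
  have hZ : IsQuasiCompactSp ((yon S).obj V) :=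
    ⟨V, 𝟙 _, repWith_id @Etale V, repWith_id @Surjective V, inferInstance⟩
  obtain ⟨U, c, hce, hcs, hUc⟩ :=
    hqc (IsAlgSpace.yon_obj V) hZ b _ _ (IsPullback.of_hasPullback f.hom b)
  haveI := hUc
  obtain ⟨h, hh⟩ := (yon S).map_surjective (c ≫ pullback.snd f.hom b)
  have hfe : RepWith @Etale (pullback.fst f.hom b) :=
    MorphismProperty.of_isPullback (IsPullback.of_hasPullback f.hom b).flip hbe
  have hae : RepWith @Etale (c ≫ pullback.fst f.hom b) := MorphismProperty.comp_mem _ _ _ hce hfe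
  have hk : (c ≫ pullback.fst f.hom b) ≫ f.hom = (yon S).map h ≫ b := by
    rw [hh, Category.assoc, Category.assoc, pullback.condition]
  haveI : LocallyOfFiniteType h.left := hlft _ b h hae hbe hk
  haveI : QuasiCompact h.left := inferInstance
  refine ((finite_quasiFiniteAt_fibre h.left v).image
    (Points.ofPt (c ≫ pullback.fst f.hom b))).subset ?_
  rintro x ⟨hx, hxq⟩
  obtain ⟨z, hz1, hz2⟩ := Points.exists_of_isPullback (IsPullback.of_hasPullback f.hom b) x
    (Points.schemeHomeo V v) (by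
      rw [hx, ← hv, Points.ofPt_eq_map_ofScheme]; rfl)
  obtain ⟨u, rfl⟩ := exists_ofPt_eq c hcs z
  rw [Points.map_ofPt] at hz1 hz2
  refine ⟨u, ⟨?_, ?_⟩, hz1⟩
  · apply (Points.schemeHomeo V).injective
    rw [← hz2, ← hh]
    have := Points.ofPt_yon_map_comp h (𝟙 ((yon S).obj V)) u
    rw [Category.comp_id] at this
    rw [this]; rfl
  · obtain ⟨U₁, V₁', a₁, b₁, h₁, u₁, ha₁, hb₁, e₁, hu₁, hQ⟩ := hxq
    exact quasiFiniteAt_of_charts f.hom _ b h a₁ b₁ h₁ hae hbe ha₁ hb₁ hk e₁ u u₁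
      (hz1.trans hu₁.symm) (quasiFiniteAt_of_QFQ _ _ hQ)

end Groth.Agent.Lib.lead.QFFinSp
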