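import Mathlib
import Groth.Agent.Lib.lead.GrpdEquidim
import Groth.Agent.Lib.lead.ClosedLocalDim
import Groth.Agent.Lib.Helper4.ActShear2
import Groth.Prelude.Def_AlgGrp

set_option autoImplicit false
set_option linter.style.haveILetI false
universe u
open CategoryTheory CategoryTheory.Limits MonoidalCategory CartesianMonoidalCategory MonObj GrpObj
  AlgebraicGeometry Topology TopologicalSpace

namespace Groth.Agent.Lib.lead.GrpEquidim

open Groth.Agent.Lib.lead Groth.Agent.Lib.Helper7 Groth.Agent.Lib.Helper24 Groth.Agent.Lib.Helper18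
open Groth.Agent.Lib.Helper4.ActShear Groth.Agent.Lib.Helper4.ActShear2

/-- constancy of the local dimension implies equidimensionality -/
theorem equidim_of_localDim_const (k : Type u) [Field k] (X : Scheme.{u})
    [X.Over (Spec (CommRingCat.of k))] [LocallyOfFiniteType (X ↘ Spec (CommRingCat.of k))]
    (key : ∀ r r' : X, FlatMor.localDim X r = FlatMor.localDim X r') :
    (∀ Z ∈ irreducibleComponents ↥X, topologicalKrullDim ↥Z = topologicalKrullDim ↥X) ∧
      ∀ r : X, FlatMor.localDim ↥X r = topologicalKrullDim ↥X := by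
  have hdim : ∀ r : X, FlatMor.localDim ↥X r = topologicalKrullDim ↥X := by
    intro r
    apply le_antisymm
    · unfold FlatMor.localDim
      exact le_trans (iInf_le _ ⟨⊤, trivial⟩) (topologicalKrullDim_subspace_le _ _)
    · rw [Groth.Agent.Lib.Helper3.topologicalKrullDim_eq_iSup_stalk]
      refine iSup_le fun x => ?_
      rw [ringKrullDim_stalk_eq_coheight, key r x]
      obtain ⟨n, hn, hle⟩ := GrpdEquidim.exists_nat_localDim k X x
      rw [hn]
      exact_mod_cast hle
  refine ⟨fun Z hZ => ?_, hdim⟩
  obtain ⟨ξ, hξ⟩ := QuasiSober.sober hZ.1 (isClosed_of_mem_irreducibleComponents Z hZ)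
  have hξmax : ∀ z : X, z ⤳ ξ → z = ξ :=
    GenFiniteGen.maximal_of_mem_irreducibleComponents (by rw [hξ.def]; exact hZ)
  have hmax : IsMax ξ := by
    intro b hb
    have hb' : b ⤳ ξ := (Scheme.le_iff_specializes).1 hb
    rw [hξmax b hb']
  rw [← hdim ξ, FlatEquidimGen.localDim_of_isMax (k := k) (X := X) ξ hmax, hξ.def]

variable (k : Type u) [Field k] (G : Over (Spec (CommRingCat.of k))) [GrpObj G]

theorem isPullback_fst_mul :
    IsPullback (pullback.fst G.hom G.hom) μ[G].left G.hom G.hom := by
  have A := IsPullback.of_hasPullback G.hom G.hom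
  have h1 : (shear (selfAct G)).left ≫ pullback.fst G.hom G.hom = pullback.fst G.hom G.hom := by
    have h : shear (selfAct G) ≫ fst G G = fst G G := by simp [shear]
    exact congrArg (fun φ => φ.left) h
  have h2 : (shear (selfAct G)).left ≫ pullback.snd G.hom G.hom = μ[G].left :=
    (act_left (selfAct G)).symm
  exact A.of_iso' (asIso (shear (selfAct G)).left) (Iso.refl _) (Iso.refl _) (Iso.refl _)
    (by simpa using h1) (by simpa using h2) (by simp) (by simp)

theorem localDim_const [LocallyOfFiniteType G.hom] (r r' : G.left) :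
    FlatMor.localDim G.left r = FlatMor.localDim G.left r' := by
  haveI : Subsingleton (Spec (CommRingCat.of k)) :=
    inferInstanceAs (Subsingleton (PrimeSpectrum k))
  letI oR : G.left.Over (Spec (CommRingCat.of k)) := ⟨G.hom⟩
  haveI : LocallyOfFiniteType (G.left ↘ Spec (CommRingCat.of k)) := ‹LocallyOfFiniteType G.hom›
  -- every point has the local dimension of the unit
  have hunit : ∀ r : G.left, FlatMor.localDim G.left r =
      FlatMor.localDim G.left (η[G].left (G.hom r)) := by
    intro r
    set z := (lift ι[G] (𝟙 G)).left r with hz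
    have hsnd : pullback.snd G.hom G.hom z = r := by
      have h : lift ι[G] (𝟙 G) ≫ snd G G = 𝟙 G := lift_snd _ _
      have h' : (lift ι[G] (𝟙 G)).left ≫ pullback.snd G.hom G.hom = 𝟙 G.left :=
        congrArg (fun φ => φ.left) h
      have h'' : ((lift ι[G] (𝟙 G)).left ≫ pullback.snd G.hom G.hom) r = r := by rw [h']; rfl
      exact (Scheme.Hom.comp_apply _ _ _).symm.trans h''
    have hfst : pullback.fst G.hom G.hom z = ι[G].left r := by
      have h : lift ι[G] (𝟙 G) ≫ fst G G = ι[G] := lift_fst _ _
      have h' : (lift ι[G] (𝟙 G)).left ≫ pullback.fst G.hom G.hom = ι[G].left :=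
        congrArg (fun φ => φ.left) h
      have h'' : ((lift ι[G] (𝟙 G)).left ≫ pullback.fst G.hom G.hom) r = ι[G].left r := by rw [h']
      exact (Scheme.Hom.comp_apply _ _ _).symm.trans h''
    have hmul : μ[G].left z = η[G].left (G.hom r) := by
      have h : lift ι[G] (𝟙 G) ≫ μ[G] = toUnit G ≫ η[G] := by
        have := GrpObj.lift_comp_inv_left (𝟙 G)
        simpa using this
      have h' : (lift ι[G] (𝟙 G)).left ≫ μ[G].left = G.hom ≫ η[G].left :=
        congrArg (fun φ => φ.left) h
      have h'' : ((lift ι[G] (𝟙 G)).left ≫ μ[G].left) r = (G.hom ≫ η[G].left) r := by rw [h']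
      exact ((Scheme.Hom.comp_apply _ _ _).symm.trans h'').trans (Scheme.Hom.comp_apply _ _ _)
    have e1 := GrpdEquidim.localDim_of_isPullback k G.hom G.hom _ _
      (IsPullback.of_hasPullback G.hom G.hom) z
    have e3 := GrpdEquidim.localDim_of_isPullback k G.hom G.hom _ _ (isPullback_fst_mul k G) z
    rw [hsnd] at e1
    rw [hmul] at e3
    obtain ⟨a, ha, -⟩ := GrpdEquidim.exists_nat_localDim k G.left (pullback.fst G.hom G.hom z)
    obtain ⟨b, hb, -⟩ := GrpdEquidim.exists_nat_localDim k G.left r
    obtain ⟨m, hm, -⟩ := GrpdEquidim.exists_nat_localDim k G.left (η[G].left (G.hom r))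
    rw [ha, hb] at e1
    rw [ha, hm] at e3
    have h13 : a + b = a + m := by exact_mod_cast e1.symm.trans e3
    rw [hb, hm]
    have : b = m := by omega
    rw [this]
  rw [hunit r, hunit r', Subsingleton.elim (G.hom r) (G.hom r')]

theorem S5341 [LocallyOfFiniteType G.hom] :
    (∀ Z ∈ irreducibleComponents ↥G.left, topologicalKrullDim ↥Z = topologicalKrullDim ↥G.left) ∧
    (∀ g : G.left, FlatMor.localDim ↥G.left g = topologicalKrullDim ↥G.left) := by
  letI oR : G.left.Over (Spec (CommRingCat.of k)) := ⟨G.hom⟩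
  haveI : LocallyOfFiniteType (G.left ↘ Spec (CommRingCat.of k)) := ‹LocallyOfFiniteType G.hom›
  exact equidim_of_localDim_const k G.left (localDim_const k G)

theorem S0354 [LocallyOfFiniteType G.hom] (g : G.left) (hg : IsClosed ({g} : Set G.left)) :
    ringKrullDim (G.left.presheaf.stalk g) = topologicalKrullDim G.left := by
  letI oR : G.left.Over (Spec (CommRingCat.of k)) := ⟨G.hom⟩
  haveI : LocallyOfFiniteType (G.left ↘ Spec (CommRingCat.of k)) := ‹LocallyOfFiniteType G.hom›
  rw [← ClosedLocalDim.main k G.left g hg]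
  exact (S5341 k G).2 g

end Groth.Agent.Lib.lead.GrpEquidim
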