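import Mathlib
import Groth.Agent.Lib.lead.GrpEquidim
import Groth.Agent.Lib.lead.ProperFlatZeroDim
import Groth.Agent.Lib.lead.FibreDimConstr
import Groth.Agent.Lib.lead.FlatFibreDimOpen
import Groth.Agent.Lib.lead.FlatGenDim
import Groth.Prelude.Def_SGA3
import Groth.Prelude.Def_SGA3x
import Groth.Prelude.Def_AlgGrp

set_option autoImplicit false
set_option linter.style.haveILetI false
set_option linter.unusedSectionVars false
universe u
open CategoryTheory CategoryTheory.Limits MonoidalCategory CartesianMonoidalCategory MonObj GrpObj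
  AlgebraicGeometry Topology TopologicalSpace

namespace Groth.Agent.Lib.lead.GrpFibreDim

open Groth.Agent.Lib.lead Groth.Agent.Lib.Helper18

/-- for a group scheme, the local fibre dimension at any point is the dimension of the fibre -/
theorem fibreDimAt_eq_dim (S : Scheme.{u}) (G : Over S) [GrpObj G] [LocallyOfFiniteType G.hom]
    (x : G.left) :
    FlatMor.fibreDimAt G.hom x = topologicalKrullDim (G.hom.fiber (G.hom x)) := by
  set s := G.hom x with hs
  let φ := S.fromSpecResidueField s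
  let Gs : Over (Spec (CommRingCat.of (S.residueField s))) := (Over.pullback φ).obj G
  letI : GrpObj Gs := Functor.grpObjObj
  haveI : LocallyOfFiniteType Gs.hom := by
    show LocallyOfFiniteType (pullback.snd G.hom φ)
    infer_instance
  exact (GrpEquidim.S5341 (S.residueField s) Gs).2 (G.hom.asFiber x)

theorem isLocallyConstructible_preimage {X Y : Scheme.{u}} (f : X ⟶ Y) {s : Set Y}
    (hs : IsLocallyConstructible s) : IsLocallyConstructible (f ⁻¹' s) := by
  intro x
  obtain ⟨U, hxU, hU, H⟩ := hs (f x)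
  refine ⟨f ⁻¹' U, f.continuous.continuousAt.preimage_mem_nhds hxU, hU.preimage f.continuous, ?_⟩
  have := (f ∣_ ⟨U, hU⟩).isConstructible_preimage H
  have hset : ((f ∣_ ⟨U, hU⟩) ⁻¹' (Subtype.val ⁻¹' s)) =
      (Subtype.val ⁻¹' (f ⁻¹' s) : Set ↥(f ⁻¹ᵁ ⟨U, hU⟩)) := by
    ext z
    show ((f ∣_ ⟨U, hU⟩) z).1 ∈ s ↔ f z.1 ∈ s
    rw [morphismRestrict_base_coe f ⟨U, hU⟩ z]
  have h2 : IsConstructible (Subtype.val ⁻¹' (f ⁻¹' s) : Set ↥(f ⁻¹ᵁ ⟨U, hU⟩)) := hset ▸ this
  exact h2

variable (S : Scheme.{u}) (G : Over S) [GrpObj G] [LocallyOfFiniteType G.hom]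

/-- the unit section -/
noncomputable def unitSec : S ⟶ G.left := η[G].left

theorem unitSec_comp : unitSec S G ≫ G.hom = 𝟙 S := Over.w η[G]

theorem hom_unitSec (s : S) : G.hom (unitSec S G s) = s := by
  have h : (unitSec S G ≫ G.hom) s = s := by rw [unitSec_comp]; rfl
  exact (Scheme.Hom.comp_apply _ _ _).symm.trans h

theorem dim_eq_fibreDimAt (x : G.left) :
    topologicalKrullDim ↥(G.hom.base ⁻¹' {G.hom x}) = FlatMor.fibreDimAt G.hom x := by
  rw [fibreDimAt_eq_dim, ProperFlatZeroDim.dim_preimage_eq]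

theorem dim_eq_fibreDimAt_unit (s : S) :
    topologicalKrullDim ↥(G.hom.base ⁻¹' {s}) = FlatMor.fibreDimAt G.hom (unitSec S G s) := by
  rw [← dim_eq_fibreDimAt, hom_unitSec]

theorem isOpen_dim_le (n : ℕ) :
    IsOpen {s : S | topologicalKrullDim ↥(G.hom.base ⁻¹' {s}) ≤ (n : WithBot ℕ∞)} := by
  have := (Chev.isOpen_fibreDimAt_le G.hom n).preimage (unitSec S G).continuous
  convert this using 1
  ext s
  simp only [Set.mem_ofPred_eq, Set.mem_preimage]
  rw [dim_eq_fibreDimAt_unit]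

theorem exists_nat_dim (s : S) :
    ∃ n : ℕ, topologicalKrullDim ↥(G.hom.base ⁻¹' {s}) = (n : WithBot ℕ∞) := by
  obtain ⟨n, hn⟩ := Chev.exists_nat_fibreDimAt G.hom (unitSec S G s)
  exact ⟨n, by rw [dim_eq_fibreDimAt_unit, hn]⟩

theorem usc : UpperSemicontinuous (fun s : S => topologicalKrullDim ↥(G.hom.base ⁻¹' {s})) := by
  intro s c hc
  obtain ⟨n, hn⟩ := exists_nat_dim S G s
  have hc' : (n : WithBot ℕ∞) < c := hn ▸ hc
  filter_upwards [(isOpen_dim_le S G n).mem_nhds hn.le] with t ht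
  exact lt_of_le_of_lt ht hc'

theorem isLocallyConstructible_le_dim [LocallyOfFinitePresentation G.hom] (m : ℕ) :
    IsLocallyConstructible {s : S | (m : WithBot ℕ∞) ≤ topologicalKrullDim ↥(G.hom.base ⁻¹' {s})} := by
  have := isLocallyConstructible_preimage (unitSec S G)
    (FibreDimConstr.isLocallyConstructible_setOf_le_fibreDimAt G.hom m)
  convert this using 1
  ext s
  simp only [Set.mem_ofPred_eq, Set.mem_preimage]
  rw [dim_eq_fibreDimAt_unit]

theorem isLocallyConstructible_dim_eq [LocallyOfFinitePresentation G.hom] (d : WithBot ℕ∞) :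
    IsLocallyConstructible {s : S | topologicalKrullDim ↥(G.hom.base ⁻¹' {s}) = d} := by
  by_cases hd : ∃ m : ℕ, d = (m : WithBot ℕ∞)
  · obtain ⟨m, rfl⟩ := hd
    have h1 := isLocallyConstructible_le_dim S G m
    have h2 := QFConstr.isLocallyConstructible_compl (isLocallyConstructible_le_dim S G (m + 1))
    convert h1.inter h2 using 1
    ext y
    simp only [Set.mem_ofPred_eq, Set.mem_inter_iff, Set.mem_compl_iff]
    rw [← FibreDimConstr.not_le_nat_iff, not_not]
    constructor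
    · intro h
      rw [h]
      exact ⟨le_rfl, le_rfl⟩
    · rintro ⟨h, h'⟩
      exact le_antisymm h' h
  · convert IsLocallyConstructible.empty
    ext s
    simp only [Set.mem_ofPred_eq, Set.mem_empty_iff_false, iff_false]
    intro h
    obtain ⟨n, hn⟩ := exists_nat_dim S G s
    exact hd ⟨n, h.symm.trans hn⟩

theorem S5329 (S : Scheme.{u}) (G : Over S) [GrpObj G] [LocallyOfFiniteType G.hom] :
    UpperSemicontinuous (fun s : S => topologicalKrullDim ↥(G.hom.base ⁻¹' {s})) ∧
    (LocallyOfFinitePresentation G.hom → ∀ s : S, ∃ V : S.Opens, s ∈ V ∧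
      ((fun t : S => topologicalKrullDim ↥(G.hom.base ⁻¹' {t})) '' (V : Set S)).Finite ∧
      ∀ d : WithBot ℕ∞, Topology.IsConstructible {t : V | topologicalKrullDim ↥(G.hom.base ⁻¹' {(t : S)}) = d}) := by
  refine ⟨usc S G, fun hfp s => ?_⟩
  obtain ⟨n, hn⟩ := exists_nat_dim S G s
  obtain ⟨V, hV, hsV, hVU⟩ := exists_isAffineOpen_mem_and_subset (x := s)
    (U := ⟨_, isOpen_dim_le S G n⟩) hn.le
  refine ⟨V, hsV, ?_, fun d => ?_⟩
  · refine Set.Finite.subset ((Set.finite_Iic n).image (fun m : ℕ => (m : WithBot ℕ∞))) ?_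
    rintro _ ⟨t, ht, rfl⟩
    obtain ⟨m, hm⟩ := exists_nat_dim S G t
    have hle : topologicalKrullDim ↥(G.hom.base ⁻¹' {t}) ≤ (n : WithBot ℕ∞) := hVU ht
    refine ⟨m, ?_, hm.symm⟩
    rw [hm] at hle
    exact_mod_cast hle
  · haveI : CompactSpace ↥V := isCompact_iff_compactSpace.mp hV.isCompact
    haveI : PrespectralSpace ↥V := V.isOpen.isOpenEmbedding_subtypeVal.prespectralSpace
    haveI : QuasiSeparatedSpace ↥V := (isQuasiSeparated_iff_quasiSeparatedSpace _ V.isOpen).mp hV.isQuasiSeparated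
    exact ((isLocallyConstructible_dim_eq S G d).preimage_of_isOpenEmbedding
      V.isOpen.isOpenEmbedding_subtypeVal).isConstructible

theorem S3022 (S : Scheme.{u}) (G : Over S) [GrpObj G] [Flat G.hom]
    [LocallyOfFinitePresentation G.hom] :
    IsLocallyConstant (fun s : S => topologicalKrullDim ↥(G.hom.base ⁻¹' {s})) := by
  rw [IsLocallyConstant.iff_exists_open]
  intro s
  obtain ⟨n, hn⟩ := exists_nat_dim S G s
  have hA : IsOpen {t : S | (n : WithBot ℕ∞) ≤ topologicalKrullDim ↥(G.hom.base ⁻¹' {t})} := by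
    refine FlatFibreDimOpen.isOpen_of_isLocallyConstructible_of_stableUnderGeneralization
      (isLocallyConstructible_le_dim S G n) ?_
    intro t t' htt' ht
    -- t' ⤳ t
    simp only [Set.mem_ofPred_eq] at ht ⊢
    rw [dim_eq_fibreDimAt_unit] at ht
    obtain ⟨x'', -, h2, h3⟩ := FlatGenDim.exists_gen_fibreDimAt_le G.hom (unitSec S G t) t'
      (by rw [hom_unitSec]; exact htt')
    rw [← h2, dim_eq_fibreDimAt]
    exact le_trans ht h3
  refine ⟨{t : S | (n : WithBot ℕ∞) ≤ topologicalKrullDim ↥(G.hom.base ⁻¹' {t})} ∩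
    {t : S | topologicalKrullDim ↥(G.hom.base ⁻¹' {t}) ≤ (n : WithBot ℕ∞)},
    hA.inter (isOpen_dim_le S G n), ⟨hn.ge, hn.le⟩, ?_⟩
  rintro t ⟨h1, h2⟩
  show topologicalKrullDim ↥(G.hom.base ⁻¹' {t}) = topologicalKrullDim ↥(G.hom.base ⁻¹' {s})
  rw [hn]
  exact le_antisymm h2 h1

end Groth.Agent.Lib.lead.GrpFibreDim
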