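import Mathlib
import Groth.Agent.Lib.lead.GrpFibreDim
import Groth.Agent.Lib.lead.ClosureFibreDim
import Groth.Agent.Lib.Helper4.ActShear
import Groth.Prelude.Def_AlgGrp
import Groth.Prelude.Def_Flat

set_option autoImplicit false
set_option linter.style.haveILetI false
set_option linter.unusedSectionVars false
universe u
open CategoryTheory CategoryTheory.Limits AlgebraicGeometry Topology TopologicalSpace
open MonoidalCategory CartesianMonoidalCategory MonObj GrpObj

namespace Groth.Agent.Lib.lead.HomogDim

open Groth.Agent.Lib.lead Groth.Agent.Lib.Helper18 Groth.Agent.Lib.Helper24 Groth.Agent.Lib.Helper4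

/-- the fibre dimension is invariant along orbits: `dim_x = dim_{g x}`. -/
theorem fibreDimAt_act {S : Scheme.{u}} {G X : Over S} [GrpObj G] [LocallyOfFiniteType X.hom]
    (a : AlgGrp.Action G X) (w : (G ⊗ X).left) :
    FlatMor.fibreDimAt X.hom ((snd G X).left w) = FlatMor.fibreDimAt X.hom (a.act.left w) := by
  have hpb : IsPullback (pullback.snd G.hom X.hom) (pullback.fst G.hom X.hom) X.hom G.hom :=
    (IsPullback.of_hasPullback G.hom X.hom).flip
  have h1 := FibreDimBCLocal.fibreDimAt_baseChange X.hom G.hom _ _ hpb w
  have h2 := FibreDimBCLocal.fibreDimAt_baseChange X.hom G.hom _ _ hpb ((ActShear.shear a).left w)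
  haveI : LocallyOfFiniteType (pullback.fst G.hom X.hom) :=
    MorphismProperty.pullback_fst _ _ inferInstance
  have hcomm : pullback.fst G.hom X.hom ≫ 𝟙 G.left =
      (ActShear.shear a).left ≫ pullback.fst G.hom X.hom := by
    rw [Category.comp_id]
    have h : ActShear.shear a ≫ fst G X = fst G X := by simp [ActShear.shear]
    exact (congrArg (fun φ => φ.left) h).symm
  have h3 := Chev.fibreDimAt_eq_of_openImmersion_square (pullback.fst G.hom X.hom) (𝟙 G.left)
    (ActShear.shear a).left (pullback.fst G.hom X.hom) hcomm w
  have h4 : pullback.snd G.hom X.hom ((ActShear.shear a).left w) = a.act.left w := by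
    rw [ActShear.act_left a, Scheme.Hom.comp_apply]
  rw [h4] at h2
  exact h1.symm.trans (h3.symm.trans h2)


/-- over a one-point base, the fibre inclusion is an open embedding -/
theorem isOpenEmbedding_fiberι {X Y : Scheme.{u}} (f : X ⟶ Y) [Subsingleton Y] (y : Y) :
    IsOpenEmbedding (f.fiberι y) := by
  refine ⟨(f.fiberι y).isEmbedding, ?_⟩
  rw [Scheme.Hom.range_fiberι]
  have : f ⁻¹' {y} = Set.univ := by
    ext z
    simp [Subsingleton.elim (f z) y]
  rw [this]
  exact isOpen_univ

theorem surjective_fiberι {X Y : Scheme.{u}} (f : X ⟶ Y) [Subsingleton Y] (y : Y) :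
    Function.Surjective (f.fiberι y) := by
  rw [← Set.range_eq_univ, Scheme.Hom.range_fiberι]
  ext z
  simp [Subsingleton.elim (f z) y]

/-- over a one-point base, the fibre dimension is the local dimension -/
theorem fibreDimAt_eq_localDim {X Y : Scheme.{u}} (f : X ⟶ Y) [Subsingleton Y] (x : X) :
    FlatMor.fibreDimAt f x = FlatMor.localDim X x := by
  have h1 := LocalDim.localDim_eq_of_isOpenEmbedding (f.fiberι (f x))
    (isOpenEmbedding_fiberι f (f x)) (f.asFiber x)
  rw [f.fiberι_asFiber] at h1
  exact h1

set_option backward.isDefEq.respectTransparency.types false in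
/-- **S3033** -/
theorem S3033 (A : Type u) [CommRing A] [IsArtinianRing A] [IsLocalRing A]
    (G X : Over (Spec (CommRingCat.of A))) [GrpObj G] [LocallyOfFiniteType G.hom]
    [LocallyOfFiniteType X.hom] [Nonempty X.left]
    (a : AlgGrp.Action G X) (hΦ : Surjective (lift a.act (snd G X)).left) (x y : X.left) :
    topologicalKrullDim ↥(connectedComponent x) = topologicalKrullDim ↥(connectedComponent y) := by
  haveI hsub : Subsingleton (Spec (CommRingCat.of A)) := by
    refine ⟨fun p q => ?_⟩
    have hp := IsLocalRing.eq_maximalIdeal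
      (IsArtinianRing.isMaximal_of_isPrime (PrimeSpectrum.asIdeal p))
    have hq := IsLocalRing.eq_maximalIdeal
      (IsArtinianRing.isMaximal_of_isPrime (PrimeSpectrum.asIdeal q))
    exact PrimeSpectrum.ext (hp.trans hq.symm)
  -- the local dimension is constant
  have hconst : ∀ x y : X.left, FlatMor.localDim X.left x = FlatMor.localDim X.left y := by
    intro x y
    obtain ⟨z, hz1, hz2⟩ := Scheme.Pullback.exists_preimage_pullback (f := X.hom) (g := X.hom) y x
      (Subsingleton.elim _ _)
    obtain ⟨w, hw⟩ := hΦ.surj z
    have h1 : a.act.left w = y := by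
      have h : lift a.act (snd G X) ≫ fst X X = a.act := lift_fst _ _
      have h' : (lift a.act (snd G X)).left ≫ pullback.fst X.hom X.hom = a.act.left :=
        congrArg (fun φ => φ.left) h
      rw [← h', Scheme.Hom.comp_apply, hw, hz1]
    have h2 : (snd G X).left w = x := by
      have h : lift a.act (snd G X) ≫ snd X X = snd G X := lift_snd _ _
      have h' : (lift a.act (snd G X)).left ≫ pullback.snd X.hom X.hom = (snd G X).left :=
        congrArg (fun φ => φ.left) h
      rw [← h', Scheme.Hom.comp_apply, hw, hz2]
    have h3 := fibreDimAt_act a w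
    rw [h1, h2, fibreDimAt_eq_localDim, fibreDimAt_eq_localDim] at h3
    exact h3
  -- the fibre over the point, a scheme over a field
  set s := X.hom x with hs
  let φ := (Spec (CommRingCat.of A)).fromSpecResidueField s
  let Xs : Over (Spec (CommRingCat.of ((Spec (CommRingCat.of A)).residueField s))) :=
    (Over.pullback φ).obj X
  letI : Xs.left.Over (Spec (CommRingCat.of ((Spec (CommRingCat.of A)).residueField s))) :=
    ⟨Xs.hom⟩
  haveI : LocallyOfFiniteType
      (Xs.left ↘ Spec (CommRingCat.of ((Spec (CommRingCat.of A)).residueField s))) := by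
    show LocallyOfFiniteType (pullback.snd X.hom φ)
    infer_instance
  let jj : Xs.left ⟶ X.left := X.hom.fiberι s
  have hemb : IsOpenEmbedding jj := isOpenEmbedding_fiberι X.hom s
  have hsurj : Function.Surjective jj := surjective_fiberι X.hom s
  have key : ∀ r r' : Xs.left, FlatMor.localDim Xs.left r = FlatMor.localDim Xs.left r' := by
    intro r r'
    rw [LocalDim.localDim_eq_of_isOpenEmbedding jj hemb r,
      LocalDim.localDim_eq_of_isOpenEmbedding jj hemb r']
    exact hconst _ _
  obtain ⟨hirr, -⟩ := GrpEquidim.equidim_of_localDim_const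
    ((Spec (CommRingCat.of A)).residueField s) Xs.left key
  have hhomeo : IsHomeomorph jj :=
    ⟨jj.continuous, hemb.isOpenMap, hemb.injective, hsurj⟩
  have hdimX : topologicalKrullDim Xs.left = topologicalKrullDim X.left :=
    IsHomeomorph.topologicalKrullDim_eq _ hhomeo
  have main : ∀ x : X.left, topologicalKrullDim ↥(connectedComponent x) =
      topologicalKrullDim X.left := by
    intro x
    apply le_antisymm (topologicalKrullDim_subspace_le _ _)
    obtain ⟨r, rfl⟩ := hsurj x
    have hZ := irreducibleComponent_mem_irreducibleComponents r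
    have h1 := hirr _ hZ
    have h2 : jj '' irreducibleComponent r ⊆ connectedComponent (jj r) := by
      apply IsPreconnected.subset_connectedComponent
      · exact (isIrreducible_irreducibleComponent.isPreirreducible.isPreconnected).image _
          jj.continuous.continuousOn
      · exact ⟨r, mem_irreducibleComponent, rfl⟩
    have h3 := ClosureFibreDim.dim_mono h2
    rw [ClosureFibreDim.dim_image_of_isEmbedding hemb.isEmbedding, h1, hdimX] at h3
    exact h3
  rw [main x, main y]

end Groth.Agent.Lib.lead.HomogDim
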