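import Mathlib

/-!
# Finite modules over a complete Noetherian ring are complete (lead)
-/

set_option autoImplicit false

namespace Groth.Agent.Lib.Lead.ComplFin

open TensorProduct

variable {R : Type*} [CommRing R] (I : Ideal R) (M : Type*) [AddCommGroup M] [Module R M]

theorem of_smul_eq (a : R) (y : AdicCompletion I M) :
    (AdicCompletion.of I R a) • y = a • y := by
  have h : AdicCompletion.of I R a = algebraMap R (AdicCompletion I R) a := by
    rw [AdicCompletion.algebraMap_apply]
    rfl
  rw [h, algebraMap_smul]

theorem of_surjective_of_finite [IsPrecomplete I R] [Module.Finite R M] :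
    Function.Surjective (AdicCompletion.of I M) := by
  intro y
  obtain ⟨w, rfl⟩ := AdicCompletion.ofTensorProduct_surjective_of_finite I M y
  induction w using TensorProduct.induction_on with
  | zero => exact ⟨0, by rw [map_zero, map_zero]⟩
  | tmul r x =>
    obtain ⟨a, rfl⟩ := AdicCompletion.of_surjective I R r
    refine ⟨a • x, ?_⟩
    rw [AdicCompletion.ofTensorProduct_tmul, of_smul_eq, map_smul]
  | add w₁ w₂ h₁ h₂ =>
    obtain ⟨x₁, h₁⟩ := h₁
    obtain ⟨x₂, h₂⟩ := h₂
    exact ⟨x₁ + x₂, by rw [map_add, map_add, h₁, h₂]⟩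

theorem isPrecomplete_of_finite [IsPrecomplete I R] [Module.Finite R M] : IsPrecomplete I M :=
  AdicCompletion.of_surjective_iff.1 (of_surjective_of_finite I M)

theorem isHausdorff_of_finite [IsNoetherianRing R] [IsAdicComplete I R] [Module.Finite R M] :
    IsHausdorff I M := by
  have h := Ideal.iInf_pow_smul_eq_bot_of_le_jacobson (M := M) I (IsAdicComplete.le_jacobson_bot I)
  refine ⟨fun x hx => ?_⟩
  have hx' : x ∈ (⨅ i : ℕ, I ^ i • ⊤ : Submodule R M) := by
    rw [Submodule.mem_iInf]
    intro n
    have := hx n
    rwa [SModEq.zero] at this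
  rw [h] at hx'
  exact hx'

theorem isAdicComplete_of_finite [IsNoetherianRing R] [IsAdicComplete I R] [Module.Finite R M] :
    IsAdicComplete I M :=
  { toIsHausdorff := isHausdorff_of_finite I M
    toIsPrecomplete := isPrecomplete_of_finite I M }

end Groth.Agent.Lib.Lead.ComplFin
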