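import Groth.Agent.Lib.lead.FormalC
import Groth.Agent.Lib.lead.ComplFin

/-!
# Formal functions, layer D (lead): the comparison map from the completion of `H^p(X, M)`
to the inverse limit of the `H^p(X, M / I^n M)`
-/

set_option backward.isDefEq.respectTransparency.types false
set_option autoImplicit false
universe u
open CategoryTheory CategoryTheory.Limits AlgebraicGeometry Opposite Abelian

noncomputable section

namespace Groth.Agent.Lib.Lead.FormalD

open Formal Groth.Agent.Lib.Helper23.FQuot Groth.Agent.Lib.Lead.FormalA Groth.Agent.Lib.Lead.FormalB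

variable {A : Type u} [CommRing A] {X : Scheme.{u}} [X.Over (Spec (CommRingCat.of A))]
variable (I : Ideal A) (M : X.Modules) (p : ℕ)

theorem toHHmodPow_eq (n : ℕ) (x : Coh.HH X M p) :
    toHHmodPow I M p n x = Canon.HHlin A (modPowπ I (n + 1) M) p x := rfl

theorem HHmodPowTrans_eq (n : ℕ) (y : HHmodPow I M p (n + 1)) :
    HHmodPowTrans I M p n y = Canon.HHlin A (modPowTrans I (n + 1) M) p y := rfl

theorem pow_smul_le_ker (n : ℕ) :
    I ^ (n + 1) • (⊤ : Submodule A (Coh.HH X M p)) ≤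
      LinearMap.ker (Canon.HHlin A (modPowπ I (n + 1) M) p) :=
  smul_top_le_ker_HHlin A _ p _ (IsQuot.le_annIdeal (isQuot_modPowπ I (n + 1) M))

/-- the map `H / I^(n+1) H → H^p(X, M / I^(n+1) M)`. -/
def ρ (n : ℕ) :
    (Coh.HH X M p ⧸ (I ^ (n + 1) • ⊤ : Submodule A (Coh.HH X M p))) →ₗ[A] HHmodPow I M p n :=
  Submodule.liftQ _ (Canon.HHlin A (modPowπ I (n + 1) M) p) (pow_smul_le_ker I M p n)

theorem ρ_mk (n : ℕ) (x : Coh.HH X M p) :
    ρ I M p n (Submodule.Quotient.mk x) = toHHmodPow I M p n x := rfl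

theorem trans_toHHmodPow (n : ℕ) (x : Coh.HH X M p) :
    HHmodPowTrans I M p n (toHHmodPow I M p (n + 1) x) = toHHmodPow I M p n x := by
  rw [toHHmodPow_eq, toHHmodPow_eq, HHmodPowTrans_eq, HHlin_comp_apply, modPowπ_trans]

/-- the comparison map. -/
def Φ : AdicCompletion I (Coh.HH X M p) →+ HHlim I M p where
  toFun h := ⟨fun n => ρ I M p n (h.val (n + 1)), by
    intro n
    obtain ⟨x, hx⟩ := Submodule.Quotient.mk_surjective _ (h.val (n + 1 + 1))
    have h1 : h.val (n + 1) = Submodule.Quotient.mk x := by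
      rw [← h.property (Nat.le_succ (n + 1)), ← hx]
      rfl
    change HHmodPowTrans I M p n (ρ I M p (n + 1) (h.val (n + 1 + 1))) = ρ I M p n (h.val (n + 1))
    rw [h1, ← hx, ρ_mk, ρ_mk, trans_toHHmodPow]⟩
  map_zero' := by
    ext n
    change ρ I M p n ((0 : AdicCompletion I (Coh.HH X M p)).val (n + 1)) = 0
    rw [AdicCompletion.val_zero_apply, map_zero]
  map_add' h h' := by
    ext n
    change ρ I M p n ((h + h').val (n + 1)) =
      ρ I M p n (h.val (n + 1)) + ρ I M p n (h'.val (n + 1))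
    rw [AdicCompletion.val_add_apply, map_add]

theorem Φ_apply (h : AdicCompletion I (Coh.HH X M p)) (n : ℕ) :
    (Φ I M p h).1 n = ρ I M p n (h.val (n + 1)) := rfl

theorem Φ_of (x : Coh.HH X M p) : Φ I M p (AdicCompletion.of I _ x) = toHHlim I M p x := by
  ext n
  rfl

/-! ## compatible families and iterated transition maps -/

theorem HHlin_trans_of_mem (z : HHlim I M p) (n : ℕ) :
    ∀ (m : ℕ), n ≤ m → ∀ (t : modPow I (m + 1) M ⟶ modPow I (n + 1) M),
      modPowπ I (m + 1) M ≫ t = modPowπ I (n + 1) M → Canon.HHlin A t p (z.1 m) = z.1 n := by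
  intro m hm
  induction m, hm using Nat.le_induction with
  | base =>
    intro t ht
    have : t = 𝟙 _ := by
      rw [← cancel_epi (modPowπ I (n + 1) M), ht, Category.comp_id]
    rw [this, HHlin_id]
    rfl
  | succ m hm ih =>
    intro t ht
    obtain ⟨t', ht'⟩ := IsQuot.exists_trans (Ideal.pow_le_pow_right (Nat.succ_le_succ hm))
      (isQuot_modPowπ I (n + 1) M) (isQuot_modPowπ I (m + 1) M)
    have h1 : t = modPowTrans I (m + 1) M ≫ t' := by
      rw [← cancel_epi (modPowπ I (m + 1 + 1) M), ht, ← Category.assoc, modPowπ_trans, ht']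
    rw [h1, ← HHlin_comp_apply, ← HHmodPowTrans_eq, z.2 m]
    exact ih t' ht'

variable {I M p}

theorem toHHmodPow_eq_of_le (z : HHlim I M p) (x : ℕ → Coh.HH X M p)
    (hx : ∀ n, toHHmodPow I M p n (x n) = z.1 n) {n m : ℕ} (h : n ≤ m) :
    toHHmodPow I M p n (x m) = z.1 n := by
  obtain ⟨t, ht⟩ := IsQuot.exists_trans (Ideal.pow_le_pow_right (Nat.succ_le_succ h))
    (isQuot_modPowπ I (n + 1) M) (isQuot_modPowπ I (m + 1) M)
  rw [toHHmodPow_eq, ← ht, ← HHlin_comp_apply, ← toHHmodPow_eq, hx m]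
  exact HHlin_trans_of_mem I M p z n m h t ht

/-! ## bijectivity -/

theorem Φ_injective (hA : PropA A I M p) : Function.Injective (Φ I M p) := by
  rw [injective_iff_map_eq_zero]
  intro h hh
  apply AdicCompletion.ext
  intro j
  obtain ⟨n', hn'⟩ := hA j
  obtain ⟨x, hx⟩ := Submodule.Quotient.mk_surjective _ (h.val (max n' j + 1))
  have h0 : toHHmodPow I M p (max n' j) x = 0 := by
    have := congrArg (fun w => w.1 (max n' j)) hh
    change ρ I M p (max n' j) (h.val (max n' j + 1)) = 0 at this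
    rwa [← hx, ρ_mk] at this
  have h1 : x ∈ I ^ j • (⊤ : Submodule A (Coh.HH X M p)) := by
    refine hn' (modPowπ I n' M) (isQuot_modPowπ I n' M) ?_
    refine ker_HHlin_le_of_le (Ideal.pow_le_pow_right (show n' ≤ max n' j + 1 by omega))
      (isQuot_modPowπ I n' M) (isQuot_modPowπ I (max n' j + 1) M) p ?_
    rw [LinearMap.mem_ker]
    exact h0
  have h2 : h.val j = Submodule.Quotient.mk x := by
    rw [← h.property (show j ≤ max n' j + 1 by omega), ← hx]
    rfl
  rw [h2, AdicCompletion.val_zero_apply, Submodule.Quotient.mk_eq_zero]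
  exact h1

theorem exists_lift (hB : PropB A I M p) (z : HHlim I M p) (n : ℕ) :
    ∃ x : Coh.HH X M p, toHHmodPow I M p n x = z.1 n := by
  obtain ⟨n', hn', h⟩ := hB (n + 1)
  obtain ⟨m, rfl⟩ : ∃ m, n' = m + 1 := ⟨n' - 1, by omega⟩
  have hnm : n ≤ m := by omega
  obtain ⟨t, ht⟩ := IsQuot.exists_trans (Ideal.pow_le_pow_right hn')
    (isQuot_modPowπ I (n + 1) M) (isQuot_modPowπ I (m + 1) M)
  have h1 := h (modPowπ I (n + 1) M) (modPowπ I (m + 1) M) t (isQuot_modPowπ I (n + 1) M)
    (isQuot_modPowπ I (m + 1) M) ht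
  obtain ⟨x, hx⟩ := h1 ⟨z.1 m, rfl⟩
  refine ⟨x, ?_⟩
  rw [toHHmodPow_eq, hx]
  exact HHlin_trans_of_mem I M p z n m hnm t ht

theorem Φ_surjective (hA : PropA A I M p) (hB : PropB A I M p) :
    Function.Surjective (Φ I M p) := by
  intro z
  choose x hx using exists_lift hB z
  choose g hg using hA
  let G : ℕ → ℕ := fun j => j + ∑ i ∈ Finset.range (j + 1), g i
  have hGmono : Monotone G := by
    intro j j' hjj'
    have : ∑ i ∈ Finset.range (j + 1), g i ≤ ∑ i ∈ Finset.range (j' + 1), g i :=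
      Finset.sum_le_sum_of_subset (Finset.range_mono (Nat.succ_le_succ hjj'))
    exact Nat.add_le_add hjj' this
  have hGg : ∀ j, g j ≤ G j := by
    intro j
    have : g j ≤ ∑ i ∈ Finset.range (j + 1), g i :=
      Finset.single_le_sum (f := g) (fun _ _ => Nat.zero_le _) (Finset.self_mem_range_succ j)
    exact this.trans (Nat.le_add_left _ _)
  have hGj : ∀ j, j ≤ G j := fun j => Nat.le_add_right _ _
  have hdiff : ∀ {n m : ℕ}, n ≤ m →
      x m - x n ∈ LinearMap.ker (Canon.HHlin A (modPowπ I (n + 1) M) p) := by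
    intro n m hnm
    rw [LinearMap.mem_ker, map_sub, ← toHHmodPow_eq, ← toHHmodPow_eq,
      toHHmodPow_eq_of_le z x hx hnm, hx n, sub_self]
  have hcauchy : ∀ {j j' : ℕ}, j ≤ j' →
      x (G j') - x (G j) ∈ I ^ j • (⊤ : Submodule A (Coh.HH X M p)) := by
    intro j j' hjj'
    refine hg j (modPowπ I (g j) M) (isQuot_modPowπ I (g j) M) ?_
    exact ker_HHlin_le_of_le (Ideal.pow_le_pow_right (show g j ≤ G j + 1 from (hGg j).trans (Nat.le_succ _)))
      (isQuot_modPowπ I (g j) M) (isQuot_modPowπ I (G j + 1) M) p (hdiff (hGmono hjj'))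
  let h : AdicCompletion I (Coh.HH X M p) :=
    ⟨fun j => Submodule.Quotient.mk (x (G j)), by
      intro j j' hjj'
      change Submodule.Quotient.mk (x (G j')) = Submodule.Quotient.mk (x (G j))
      rw [Submodule.Quotient.eq]
      exact hcauchy hjj'⟩
  refine ⟨h, ?_⟩
  ext n
  change ρ I M p n (Submodule.Quotient.mk (x (G (n + 1)))) = z.1 n
  rw [ρ_mk]
  exact toHHmodPow_eq_of_le z x hx ((Nat.le_succ n).trans (hGj (n + 1)))

theorem Φ_bijective (hA : PropA A I M p) (hB : PropB A I M p) : Function.Bijective (Φ I M p) :=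
  ⟨Φ_injective hA, Φ_surjective hA hB⟩

end Groth.Agent.Lib.Lead.FormalD
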