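import Groth.Agent.Lib.lead.FormalE
import Groth.Agent.Lib.lead.FormalD
import Groth.Agent.S0792
import Groth.Agent.Lib.Helper2.Bridge3
import Groth.Agent.Lib.Helper2.SerreFin1
import Groth.Agent.Lib.Helper4.ProperFinal

/-!
# Formal functions, layer F (lead): coherent modules with proper support
-/

set_option backward.isDefEq.respectTransparency.types false
set_option autoImplicit false
universe u
open CategoryTheory CategoryTheory.Limits AlgebraicGeometry Opposite Abelian

noncomputable section

namespace Groth.Agent.Lib.Lead.FormalF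

open Formal Groth.Agent.Lib.Helper23.FQuot Groth.Agent.Lib.Lead.FormalA Groth.Agent.Lib.Lead.FormalB
  Groth.Agent.Lib.Lead.FormalC Groth.Agent.Lib.Lead.FormalE

variable (A : Type u) [CommRing A] [IsNoetherianRing A] (X : Scheme.{u})
  [X.Over (Spec (CommRingCat.of A))] [LocallyOfFiniteType (X ↘ Spec (CommRingCat.of A))]

/-- **finiteness of cohomology for coherent modules with proper support**. -/
theorem finite_HH_of_isProperOver_support (F : X.Modules) (hF : Coh.IsCoh F)
    (hs : ClSub.IsProperOver (X ↘ Spec (CommRingCat.of A)) (CohB1.support F)) (p : ℕ) :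
    Module.Finite A (Coh.HH X F p) := by
  obtain ⟨Z, i, hi, hp, G, hG, hGft, ⟨e⟩⟩ :=
    (Groth.Agent.S0792.result (X ↘ Spec (CommRingCat.of A)) F hF.1 hF.2).1 hs
  letI : Z.Over (Spec (CommRingCat.of A)) := ⟨i ≫ (X ↘ Spec (CommRingCat.of A))⟩
  haveI : IsProper (Z ↘ Spec (CommRingCat.of A)) := hp
  haveI : IsAffineHom i := inferInstance
  obtain ⟨ε, -⟩ := Groth.Agent.Lib.Helper2.Bridge3.exists_natural_linearEquiv A i rfl p
  haveI : Module.Finite A (Coh.HH Z G p) :=
    Groth.Agent.Lib.Helper4.ProperFinal.finite_HH A Z G ⟨hG, hGft⟩ p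
  have h1 : Module.Finite A (Coh.HH X ((Scheme.Modules.pushforward i).obj G) p) :=
    Module.Finite.equiv (ε G hG).symm
  exact Groth.Agent.Lib.Helper2.SerreFin1.finite_of_iso A e p h1

variable [QuasiCompact (X ↘ Spec (CommRingCat.of A))]

omit [LocallyOfFiniteType (X ↘ Spec (CommRingCat.of A))] [QuasiCompact (X ↘ Spec (CommRingCat.of A))] in
theorem isNoetherian (f : X ⟶ Spec (CommRingCat.of A)) [LocallyOfFiniteType f] [QuasiCompact f] :
    IsNoetherian X :=
  { toIsLocallyNoetherian := LocallyOfFiniteType.isLocallyNoetherian f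
    toCompactSpace := QuasiCompact.compactSpace_of_compactSpace f }

/-- (a') and (b') for coherent modules with proper support. -/
theorem good_of_isProperOver_support (I : Ideal A) (M : X.Modules) (hM : Coh.IsCoh M)
    (hs : ClSub.IsProperOver (X ↘ Spec (CommRingCat.of A)) (CohB1.support M)) (p : ℕ) :
    PropA A I M p ∧ PropB A I M p := by
  haveI : IsNoetherian X := isNoetherian A X (X ↘ Spec (CommRingCat.of A))
  refine goodQ (A := A) (X := X)
    (fun F => ClSub.IsProperOver (X ↘ Spec (CommRingCat.of A)) (CohB1.support F)) ?_ ?_ I M hM hs p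
  · intro M N f hf hM hN hPM
    haveI := hf
    exact Groth.Agent.S0792.isProperOver_of_subset _ hPM
      (Groth.Agent.Lib.Helper6.DevCore.isClosed_support N hN)
      (Groth.Agent.Lib.Helper6.DevCore.support_subset_of_epi f)
  · intro F hF hPF q
    exact finite_HH_of_isProperOver_support A X F hF hPF q

end Groth.Agent.Lib.Lead.FormalF
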