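import Groth.Agent.Lib.Helper23.Formal.Quot
import Groth.Agent.Lib.Helper4.HLesFin1
import Groth.Agent.Lib.Helper6.DevCore
import Groth.Prelude.Def_Canon

/-!
# Formal functions, layer A (lead): calculus of `M / J M`, `A`-linear maps on cohomology
-/

set_option backward.isDefEq.respectTransparency.types false
set_option autoImplicit false
universe u
open CategoryTheory CategoryTheory.Limits AlgebraicGeometry Opposite

noncomputable section

namespace Groth.Agent.Lib.Lead.FormalA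

open Formal Groth.Agent.Lib.Helper23.FQuot

variable {A : Type u} [CommRing A] {X : Scheme.{u}} [X.Over (Spec (CommRingCat.of A))]

/-! ## the annihilator ideal of a morphism -/

variable (A) in
/-- the ideal of those `a : A` with `a • g = 0`. -/
def annIdeal {M T : X.Modules} (g : M ⟶ T) : Ideal A :=
  LinearMap.ker (LinearMap.toSpanSingleton A (M ⟶ T) g)

theorem mem_annIdeal {M T : X.Modules} (g : M ⟶ T) (a : A) :
    a ∈ annIdeal A g ↔ smulMod A M a ≫ g = 0 := by
  change a • g = 0 ↔ _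
  rw [KLin.smul_def]

theorem le_annIdeal_iff {M T : X.Modules} (g : M ⟶ T) (J : Ideal A) :
    J ≤ annIdeal A g ↔ ∀ a ∈ J, smulMod A M a ≫ g = 0 := by
  constructor
  · intro h a ha
    exact (mem_annIdeal g a).1 (h ha)
  · intro h a ha
    exact (mem_annIdeal g a).2 (h a ha)

theorem annIdeal_comp_le {M T T' : X.Modules} (g : M ⟶ T) (k : T ⟶ T') :
    annIdeal A g ≤ annIdeal A (g ≫ k) := by
  intro a ha
  rw [mem_annIdeal] at ha ⊢
  rw [← Category.assoc, ha, zero_comp]

theorem annIdeal_epi_comp {M N T : X.Modules} (f : M ⟶ N) [Epi f] (g : N ⟶ T) :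
    annIdeal A (f ≫ g) = annIdeal A g := by
  ext a
  rw [mem_annIdeal, mem_annIdeal, ← Category.assoc, smulMod_naturality, Category.assoc]
  constructor
  · intro h
    rwa [← cancel_epi f, comp_zero]
  · intro h
    rw [h, comp_zero]

theorem annIdeal_le_comp {M N T : X.Modules} (f : M ⟶ N) (g : N ⟶ T) :
    annIdeal A g ≤ annIdeal A (f ≫ g) := by
  intro a ha
  rw [mem_annIdeal] at ha ⊢
  rw [← Category.assoc, smulMod_naturality, Category.assoc, ha, comp_zero]

theorem smulMod_mul (M : X.Modules) (a b : A) :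
    smulMod A M (a * b) = smulMod A M a ≫ smulMod A M b := by
  unfold Formal.smulMod
  rw [map_mul]
  exact KLin.smulModΓ_mul M _ _

theorem smulMod_one (M : X.Modules) : smulMod A M 1 = 𝟙 M := by
  unfold Formal.smulMod
  rw [map_one]
  exact KLin.smulModΓ_one M

theorem smulMod_pow_succ (M : X.Modules) (a : A) (n : ℕ) :
    smulMod A M (a ^ (n + 1)) = smulMod A M (a ^ n) ≫ smulMod A M a := by
  rw [pow_succ, smulMod_mul]

theorem smulMod_pow_add (M : X.Modules) (a : A) (m n : ℕ) :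
    smulMod A M (a ^ (m + n)) = smulMod A M (a ^ m) ≫ smulMod A M (a ^ n) := by
  rw [pow_add, smulMod_mul]

/-! ## quotients -/

theorem isQuot_of_le_annIdeal {J : Ideal A} {M N : X.Modules} (f : M ⟶ N) [Epi f]
    (h0 : J ≤ annIdeal A f)
    (hfac : ∀ {T : X.Modules} (g : M ⟶ T), J ≤ annIdeal A g → ∃ g' : N ⟶ T, f ≫ g' = g) :
    IsQuot J f :=
  ⟨inferInstance, (le_annIdeal_iff f J).1 h0, fun g hg => hfac g ((le_annIdeal_iff g J).2 hg)⟩

theorem IsQuot.le_annIdeal {J : Ideal A} {M N : X.Modules} {f : M ⟶ N} (hf : IsQuot J f) :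
    J ≤ annIdeal A f := (le_annIdeal_iff f J).2 hf.zero

theorem IsQuot.desc {J : Ideal A} {M N T : X.Modules} {f : M ⟶ N} (hf : IsQuot J f) (g : M ⟶ T)
    (hg : J ≤ annIdeal A g) : ∃ g' : N ⟶ T, f ≫ g' = g :=
  hf.fac g ((le_annIdeal_iff g J).1 hg)

/-- a quotient by a smaller ideal maps to a quotient by a bigger ideal. -/
theorem IsQuot.exists_trans {J J' : Ideal A} (h : J' ≤ J) {M N N' : X.Modules} {f : M ⟶ N}
    {f' : M ⟶ N'} (hf : IsQuot J f) (hf' : IsQuot J' f') : ∃ t : N' ⟶ N, f' ≫ t = f :=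
  IsQuot.desc hf' f (h.trans (IsQuot.le_annIdeal hf))

/-- functoriality of quotients. -/
theorem IsQuot.exists_map {J : Ideal A} {M M' N N' : X.Modules} {f : M ⟶ N} {f' : M' ⟶ N'}
    (hf : IsQuot J f) (hf' : IsQuot J f') (h : M ⟶ M') : ∃ t : N ⟶ N', f ≫ t = h ≫ f' :=
  IsQuot.desc hf (h ≫ f') ((IsQuot.le_annIdeal hf').trans (annIdeal_le_comp h f'))

theorem IsQuot.comp_sup {J J' : Ideal A} {M N P : X.Modules} {p : M ⟶ N} {q : N ⟶ P}
    (hp : IsQuot J' p) (hq : IsQuot J q) : IsQuot (J' ⊔ J) (p ≫ q) := by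
  haveI := hp.epi
  haveI := hq.epi
  haveI : Epi (p ≫ q) := epi_comp p q
  refine isQuot_of_le_annIdeal (p ≫ q) ?_ ?_
  · refine sup_le ?_ ?_
    · exact (IsQuot.le_annIdeal hp).trans (annIdeal_comp_le p q)
    · exact (IsQuot.le_annIdeal hq).trans (annIdeal_le_comp p q)
  · intro T g hg
    obtain ⟨g', hg'⟩ := IsQuot.desc hp g (le_sup_left.trans hg)
    have h2 : J ≤ annIdeal A g' := by
      rw [← annIdeal_epi_comp p g', hg']
      exact le_sup_right.trans hg
    obtain ⟨g'', hg''⟩ := IsQuot.desc hq g' h2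
    exact ⟨g'', by rw [Category.assoc, hg'', hg']⟩

theorem span_singleton_le_annIdeal_iff {M T : X.Modules} (g : M ⟶ T) (a : A) :
    Ideal.span {a} ≤ annIdeal A g ↔ smulMod A M a ≫ g = 0 := by
  rw [Ideal.span_singleton_le_iff_mem, mem_annIdeal]

theorem isQuot_cokernel_smulMod (M : X.Modules) (a : A) :
    IsQuot (Ideal.span {a}) (cokernel.π (smulMod A M a)) := by
  refine isQuot_of_le_annIdeal _ ?_ ?_
  · rw [span_singleton_le_annIdeal_iff]
    exact cokernel.condition _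
  · intro T g hg
    rw [span_singleton_le_annIdeal_iff] at hg
    exact ⟨cokernel.desc _ g hg, cokernel.π_desc _ _ _⟩

theorem isQuot_cokernel_smulMod_pow (M : X.Modules) (a : A) (n : ℕ) :
    IsQuot (Ideal.span {a} ^ n) (cokernel.π (smulMod A M (a ^ n))) := by
  rw [Ideal.span_singleton_pow]
  exact isQuot_cokernel_smulMod M (a ^ n)

/-! ## coherence of quotients -/

theorem isCoh_of_isQuot [IsLocallyNoetherian X] {J : Ideal A} (hJ : J.FG) :
    ∀ {M N : X.Modules} (f : M ⟶ N), Coh.IsCoh M → IsQuot J f → Coh.IsCoh N := by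
  induction J, hJ using Submodule.fg_induction with
  | singleton a =>
    intro M N f hM hf
    have h1 : IsQuot (Ideal.span {a}) (cokernel.π (smulMod A M a)) := isQuot_cokernel_smulMod M a
    obtain ⟨e, -⟩ := IsQuot.exists_iso h1 hf
    exact Groth.Agent.Lib.Helper6.DevCore.isCoh_of_iso e
      (Groth.Agent.Lib.Helper6.DevCore.isCoh_cokernel _ hM hM)
  | sup J₁ J₂ _ _ ih₁ ih₂ =>
    intro M N f hM hf
    have h1 := isQuot_cokernelπ J₁ M
    have hN1 := ih₁ _ hM h1
    have h2 := isQuot_cokernelπ J₂ (cokernel (smulFamily J₁ M))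
    have hN2 := ih₂ _ hN1 h2
    obtain ⟨e, -⟩ := IsQuot.exists_iso (IsQuot.comp_sup h1 h2) hf
    exact Groth.Agent.Lib.Helper6.DevCore.isCoh_of_iso e hN2

/-! ## `A`-linear maps on cohomology -/

section HH

variable (A)

theorem HHlin_apply {F G : X.Modules} (φ : F ⟶ G) (p : ℕ) (x : Coh.HH X F p) :
    Canon.HHlin A φ p x = Sheaf.H.map ((SheafOfModules.toSheaf X.ringCatSheaf).map φ) p x := rfl

theorem HHlin_comp {F G K : X.Modules} (φ : F ⟶ G) (ψ : G ⟶ K) (p : ℕ) :
    Canon.HHlin A (φ ≫ ψ) p = (Canon.HHlin A ψ p).comp (Canon.HHlin A φ p) := by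
  ext x
  exact (Formal.HHmap_comp φ ψ p x).symm

theorem HHlin_comp_apply {F G K : X.Modules} (φ : F ⟶ G) (ψ : G ⟶ K) (p : ℕ) (x : Coh.HH X F p) :
    Canon.HHlin A ψ p (Canon.HHlin A φ p x) = Canon.HHlin A (φ ≫ ψ) p x :=
  Formal.HHmap_comp φ ψ p x

theorem HHlin_id (F : X.Modules) (p : ℕ) : Canon.HHlin A (𝟙 F) p = LinearMap.id := by
  ext x
  have h : (SheafOfModules.toSheaf X.ringCatSheaf).map (𝟙 F) = 𝟙 (Coh.toAb F) := CategoryTheory.Functor.map_id _ _
  rw [HHlin_apply, h, Sheaf.H.map_id_apply]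
  rfl

theorem HHlin_zero (F G : X.Modules) (p : ℕ) : Canon.HHlin A (0 : F ⟶ G) p = 0 := by
  ext x
  have h : (SheafOfModules.toSheaf X.ringCatSheaf).map (0 : F ⟶ G) = (0 : Coh.toAb F ⟶ Coh.toAb G) :=
    CategoryTheory.Functor.map_zero _ _ _
  rw [HHlin_apply, h]
  change ((Sheaf.functorH _ p).map (0 : Coh.toAb F ⟶ Coh.toAb G)).hom x = 0
  rw [Functor.map_zero]
  rfl

theorem HHlin_smulMod (M : X.Modules) (a : A) (p : ℕ) (x : Coh.HH X M p) :
    Canon.HHlin A (smulMod A M a) p x = a • x := rfl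

theorem HHlin_eq_zero_of_mem_annIdeal {F G : X.Modules} (φ : F ⟶ G) (p : ℕ) (a : A)
    (ha : a ∈ annIdeal A φ) (x : Coh.HH X F p) : Canon.HHlin A φ p (a • x) = 0 := by
  rw [← HHlin_smulMod, HHlin_comp_apply, (mem_annIdeal φ a).1 ha, HHlin_zero]
  rfl

theorem smul_top_le_ker_HHlin {F G : X.Modules} (φ : F ⟶ G) (p : ℕ) (J : Ideal A)
    (hJ : J ≤ annIdeal A φ) :
    J • (⊤ : Submodule A (Coh.HH X F p)) ≤ LinearMap.ker (Canon.HHlin A φ p) := by
  rw [Submodule.smul_le]
  intro a ha x _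
  rw [LinearMap.mem_ker]
  exact HHlin_eq_zero_of_mem_annIdeal A φ p a (hJ ha) x

/-- an isomorphism induces a linear equivalence on cohomology. -/
theorem HHlin_bijective_of_isIso {F G : X.Modules} (φ : F ⟶ G) [IsIso φ] (p : ℕ) :
    Function.Bijective (Canon.HHlin A φ p) := by
  refine Function.bijective_iff_has_inverse.2 ⟨Canon.HHlin A (inv φ) p, ?_, ?_⟩
  · intro x
    rw [HHlin_comp_apply, IsIso.hom_inv_id, HHlin_id]
    rfl
  · intro x
    rw [HHlin_comp_apply, IsIso.inv_hom_id, HHlin_id]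
    rfl

end HH

end Groth.Agent.Lib.Lead.FormalA
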