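import Mathlib

set_option linter.style.haveILetI false
universe u
open CategoryTheory AlgebraicGeometry Limits Opposite

namespace Groth.Agent.Lib.lead.ChevA

/-- compatibility of `app` with restriction -/
theorem app_res {Z P : Scheme.{u}} (ι : Z ⟶ P) {U V : P.Opens} (h : U ≤ V) (s : Γ(P, V)) :
    ι.app U (P.presheaf.map (homOfLE h).op s) =
      Z.presheaf.map (homOfLE (ι.preimage_mono h)).op (ι.app V s) := by
  have h1 : P.presheaf.map (homOfLE h).op ≫ ι.app U =
      ι.app V ≫ Z.presheaf.map (homOfLE (ι.preimage_mono h)).op :=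
    ι.naturality (homOfLE h).op
  exact congrArg (fun ψ => ψ.hom s) h1

/-- killing a section vanishing on `X` over a basic open, by one global function vanishing on `X` -/
theorem exists_kill_basicOpen {P X : Scheme.{u}} [IsAffine P] [CompactSpace X] (g : X ⟶ P)
    (W : P.Opens) (e : Γ(P, W)) (he : g.app W e = 0) (ρ : Γ(P, ⊤)) (hρ : P.basicOpen ρ ≤ W) :
    ∃ j : Γ(P, ⊤), g.appTop j = 0 ∧ ∀ {Z : Scheme.{u}} (ι : Z ⟶ P), ι.appTop j = 0 →
      ι.app (P.basicOpen ρ) (P.presheaf.map (homOfLE hρ).op e) = 0 := by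
  haveI := (isAffineOpen_top P).isLocalization_basicOpen ρ
  set e' : Γ(P, P.basicOpen ρ) := P.presheaf.map (homOfLE hρ).op e with he'
  let res : Γ(P, ⊤) →+* Γ(P, P.basicOpen ρ) := (P.presheaf.map (homOfLE le_top).op).hom
  obtain ⟨N, y, hy⟩ := IsLocalization.Away.surj ρ e'
  have hy' : e' * res ρ ^ N = res y := hy
  have hunit : IsUnit (res ρ) := IsLocalization.Away.algebraMap_isUnit ρ
  -- on `X`
  have h1 : g.app (P.basicOpen ρ) e' = 0 := by
    rw [he', app_res, he, map_zero]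
  have h2 : g.app (P.basicOpen ρ) (res y) = 0 := by
    rw [← hy', map_mul, h1, zero_mul]
  have h3 : X.presheaf.map (homOfLE (g.preimage_mono (le_top : P.basicOpen ρ ≤ ⊤))).op
      (g.appTop y) = 0 := by
    rw [← h2]
    exact (app_res g (le_top : P.basicOpen ρ ≤ ⊤) y).symm
  have hle : X.basicOpen (g.appTop ρ) ≤ g ⁻¹ᵁ P.basicOpen ρ :=
    le_of_eq (Scheme.preimage_basicOpen g ρ).symm
  have h4 : X.presheaf.map (homOfLE (le_top : X.basicOpen (g.appTop ρ) ≤ ⊤)).op
      (g.appTop y) = 0 := by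
    have h5 := congrArg (X.presheaf.map (homOfLE hle).op) h3
    rw [map_zero, ← ConcreteCategory.comp_apply, ← Functor.map_comp] at h5
    exact h5
  obtain ⟨M, hM⟩ := exists_pow_mul_eq_zero_of_res_basicOpen_eq_zero_of_isCompact X
    (U := ⊤) isCompact_univ (g.appTop y) (g.appTop ρ) h4
  refine ⟨ρ ^ M * y, ?_, ?_⟩
  · rw [map_mul, map_pow]
    exact hM
  · intro Z ι hι
    have hu : IsUnit (ι.app (P.basicOpen ρ) (res ρ)) := hunit.map _
    have h6 : ι.app (P.basicOpen ρ) (res (ρ ^ M * y)) = 0 := by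
      have := app_res ι (le_top : P.basicOpen ρ ≤ ⊤) (ρ ^ M * y)
      change ι.app (P.basicOpen ρ) (res (ρ ^ M * y)) = _ at this
      rw [this]
      have h7 : ι.app ⊤ (ρ ^ M * y) = 0 := hι
      rw [h7, map_zero]
    rw [map_mul, map_pow, map_mul, map_pow] at h6
    have h8 : ι.app (P.basicOpen ρ) (res y) = 0 := (hu.pow M).mul_right_eq_zero.mp h6
    have h9 : ι.app (P.basicOpen ρ) e' * ι.app (P.basicOpen ρ) (res ρ) ^ N = 0 := by
      rw [← map_pow, ← map_mul, hy', h8]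
    exact (hu.pow N).mul_left_eq_zero.mp h9


/-- killing a section over a quasi-compact open that vanishes on `X`, by finitely many global
functions vanishing on `X` -/
theorem exists_finset_kill {P X : Scheme.{u}} [IsAffine P] [CompactSpace X] (g : X ⟶ P)
    (W : P.Opens) (hW : IsCompact (W : Set P)) (e : Γ(P, W)) (he : g.app W e = 0) :
    ∃ F : Finset Γ(P, ⊤), (∀ x ∈ F, g.appTop x = 0) ∧
      ∀ {Z : Scheme.{u}} (ι : Z ⟶ P), (∀ x ∈ F, ι.appTop x = 0) → ι.app W e = 0 := by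
  classical
  let T := {ρ : Γ(P, ⊤) // P.basicOpen ρ ≤ W}
  obtain ⟨t, ht⟩ := hW.elim_finite_subcover (fun ρ : T => (P.basicOpen ρ.1 : Set P))
    (fun ρ => (P.basicOpen ρ.1).isOpen) (by
      intro w hw
      obtain ⟨_, ⟨_, ⟨ρ, rfl⟩, rfl⟩, hwρ, hρW⟩ :=
        (isBasis_basicOpen P).exists_subset_of_mem_open hw W.isOpen
      exact Set.mem_iUnion.mpr ⟨⟨ρ, hρW⟩, hwρ⟩)
  have hex : ∀ ρ : T, ∃ j : Γ(P, ⊤), g.appTop j = 0 ∧ ∀ {Z : Scheme.{u}} (ι : Z ⟶ P),
      ι.appTop j = 0 → ι.app (P.basicOpen ρ.1) (P.presheaf.map (homOfLE ρ.2).op e) = 0 :=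
    fun ρ => exists_kill_basicOpen g W e he ρ.1 ρ.2
  choose j hj1 hj2 using hex
  refine ⟨t.image j, ?_, ?_⟩
  · intro x hx
    obtain ⟨ρ, _, rfl⟩ := Finset.mem_image.mp hx
    exact hj1 ρ
  · intro Z ι hι
    have hzero : ι.app W e = (0 : Γ(Z, ι ⁻¹ᵁ W)) := by
      refine Z.sheaf.eq_of_locally_eq' (fun ρ : t => ι ⁻¹ᵁ P.basicOpen ρ.1.1) (ι ⁻¹ᵁ W)
        (fun ρ => homOfLE (ι.preimage_mono ρ.1.2)) ?_ _ _ ?_
      · intro z hz
        have hz' : ι z ∈ W := hz
        have := ht hz'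
        simp only [Set.mem_iUnion] at this
        obtain ⟨ρ, hρt, hzρ⟩ := this
        exact TopologicalSpace.Opens.mem_iSup.mpr ⟨⟨ρ, hρt⟩, hzρ⟩
      · intro ρ
        change Z.presheaf.map (homOfLE (ι.preimage_mono ρ.1.2)).op (ι.app W e) =
          Z.presheaf.map (homOfLE (ι.preimage_mono ρ.1.2)).op 0
        rw [map_zero, ← app_res]
        exact hj2 ρ.1 ι (hι _ (Finset.mem_image_of_mem j ρ.2))
    exact hzero


set_option backward.isDefEq.respectTransparency false in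
/-- finiteness can be checked on an affine open cover of the target, on sections -/
theorem isFinite_of_cover {X Y : Scheme.{u}} (f : X ⟶ Y) [IsAffineHom f] {ι : Type*}
    (U : ι → Y.affineOpens) (hU : ⨆ i, (U i : Y.Opens) = ⊤)
    (h : ∀ i, (f.app (U i).1).hom.Finite) : IsFinite f := by
  refine (HasAffineProperty.iff_of_iSup_eq_top (P := @IsFinite) U hU).mpr fun i => ?_
  refine ⟨(U i).2.preimage f, ?_⟩
  change RingHom.Finite ((f ∣_ (U i).1).app ⊤).hom
  simp only [morphismRestrict_app, CommRingCat.hom_comp,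
    RingHom.finite_respectsIso.cancel_right_isIso]
  have h2 : RingHom.Finite (Scheme.Hom.app f (U i).1).hom := h i
  change RingHom.Finite (Scheme.Hom.app f ((U i).1.ι ''ᵁ ⊤)).hom
  rw [Scheme.Opens.ι_image_top]
  exact h2


/-- **Thickening lemma.** Let `P` be an affine scheme, affine and locally of finite type over a
quasi-compact `S`, and `g : X ⟶ P` with `X` affine and `X ⟶ S` integral. Then finitely many
functions on `P` vanishing on `X` cut out closed subschemes finite over `S`. -/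
theorem exists_finset_finite {P X S : Scheme.{u}} [IsAffine P] [IsAffine X] [CompactSpace S]
    (g : X ⟶ P) (p : P ⟶ S) [IsAffineHom p] [LocallyOfFiniteType p] [IsIntegralHom (g ≫ p)] :
    ∃ F : Finset Γ(P, ⊤), (∀ x ∈ F, g.appTop x = 0) ∧
      ∀ {Z : Scheme.{u}} (ι : Z ⟶ P) [IsClosedImmersion ι], (∀ x ∈ F, ι.appTop x = 0) →
        IsFinite (ι ≫ p) := by
  classical
  obtain ⟨t, ht⟩ := isCompact_univ.elim_finite_subcover
    (fun U : S.affineOpens => (U.1 : Set S)) (fun U => U.1.isOpen) (by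
      intro s _
      obtain ⟨_, ⟨U, hU, rfl⟩, hs, -⟩ :=
        S.isBasis_affineOpens.exists_subset_of_mem_open (Set.mem_univ s) isOpen_univ
      exact Set.mem_iUnion.mpr ⟨⟨U, hU⟩, hs⟩)
  -- generators
  have hft : ∀ U : S.affineOpens, (p.app U.1).hom.FiniteType := by
    intro U
    have := p.finiteType_appLE U.2 (U.2.preimage p) le_rfl
    rwa [← Scheme.Hom.app_eq_appLE] at this
  have hgen : ∀ U : S.affineOpens, ∃ s : Finset Γ(P, p ⁻¹ᵁ U.1),
      @Algebra.adjoin Γ(S, U.1) Γ(P, p ⁻¹ᵁ U.1) _ _ (p.app U.1).hom.toAlgebra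
        (s : Set Γ(P, p ⁻¹ᵁ U.1)) = ⊤ := by
    intro U
    letI := (p.app U.1).hom.toAlgebra
    have h1 : Algebra.FiniteType Γ(S, U.1) Γ(P, p ⁻¹ᵁ U.1) := hft U
    exact h1.out
  choose sgen hsgen using hgen
  -- integrality relations
  have hrel : ∀ (U : S.affineOpens) (r : Γ(P, p ⁻¹ᵁ U.1)), ∃ q : Polynomial Γ(S, U.1),
      q.Monic ∧ g.app (p ⁻¹ᵁ U.1) (Polynomial.eval₂ (p.app U.1).hom r q) = 0 := by
    intro U r
    have hint := IsIntegralHom.isIntegral_app (g ≫ p) U.1 U.2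
    obtain ⟨q, hq, hq0⟩ := hint ((g.app (p ⁻¹ᵁ U.1)).hom r)
    refine ⟨q, hq, ?_⟩
    have h2 : ((g ≫ p).app U.1).hom = (g.app (p ⁻¹ᵁ U.1)).hom.comp (p.app U.1).hom := by
      rw [Scheme.Hom.comp_app]; rfl
    rw [h2] at hq0
    change (g.app (p ⁻¹ᵁ U.1)).hom (Polynomial.eval₂ (p.app U.1).hom r q) = 0
    rw [Polynomial.hom_eval₂]
    exact hq0
  choose q hqm hq0 using hrel
  have hkill : ∀ (U : S.affineOpens) (r : Γ(P, p ⁻¹ᵁ U.1)), ∃ F : Finset Γ(P, ⊤),
      (∀ x ∈ F, g.appTop x = 0) ∧ ∀ {Z : Scheme.{u}} (ι : Z ⟶ P), (∀ x ∈ F, ι.appTop x = 0) →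
        ι.app (p ⁻¹ᵁ U.1) (Polynomial.eval₂ (p.app U.1).hom r (q U r)) = 0 :=
    fun U r => exists_finset_kill g (p ⁻¹ᵁ U.1) (U.2.preimage p).isCompact _ (hq0 U r)
  choose F hF1 hF2 using hkill
  refine ⟨t.biUnion (fun U => (sgen U).biUnion (fun r => F U r)), ?_, ?_⟩
  · intro x hx
    obtain ⟨U, _, hx⟩ := Finset.mem_biUnion.mp hx
    obtain ⟨r, _, hx⟩ := Finset.mem_biUnion.mp hx
    exact hF1 U r x hx
  · intro Z ι _ hι
    have hsup : ⨆ U : t, ((U.1 : S.affineOpens) : S.Opens) = ⊤ := by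
      rw [eq_top_iff]
      intro s _
      have := ht (Set.mem_univ s)
      simp only [Set.mem_iUnion] at this
      obtain ⟨U, hU, hs⟩ := this
      exact TopologicalSpace.Opens.mem_iSup.mpr ⟨⟨U, hU⟩, hs⟩
    refine isFinite_of_cover (ι ≫ p) (fun U : t => U.1) hsup ?_
    rintro ⟨U, hUt⟩
    let φ := (p.app U.1).hom
    let χ := (ι.app (p ⁻¹ᵁ U.1)).hom
    have hχ : Function.Surjective χ := ι.app_surjective (p ⁻¹ᵁ U.1) (U.2.preimage p)
    have h2 : ((ι ≫ p).app U.1).hom = χ.comp φ := by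
      rw [Scheme.Hom.comp_app]; rfl
    change ((ι ≫ p).app U.1).hom.Finite
    rw [h2]
    refine RingHom.IsIntegral.to_finite ?_
      (RingHom.FiniteType.comp (RingHom.FiniteType.of_surjective χ hχ) (hft U))
    have hint : ∀ w : Γ(P, p ⁻¹ᵁ U.1), (χ.comp φ).IsIntegralElem (χ w) := by
      intro w
      letI := φ.toAlgebra
      have hw : w ∈ Algebra.adjoin Γ(S, U.1) ((sgen U : Finset _) : Set Γ(P, p ⁻¹ᵁ U.1)) := by
        rw [hsgen U]; trivial
      induction hw using Algebra.adjoin_induction with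
      | mem r hr =>
        refine ⟨q U r, hqm U r, ?_⟩
        rw [← Polynomial.hom_eval₂]
        refine hF2 U r ι ?_
        intro x hx
        exact hι x (Finset.mem_biUnion.mpr ⟨U, hUt, Finset.mem_biUnion.mpr ⟨r, hr, hx⟩⟩)
      | algebraMap b => exact (χ.comp φ).isIntegralElem_map
      | add x y _ _ hx hy =>
        rw [map_add]; exact RingHom.IsIntegralElem.add _ hx hy
      | mul x y _ _ hx hy =>
        rw [map_mul]; exact RingHom.IsIntegralElem.mul _ hx hy
    intro z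
    obtain ⟨w, rfl⟩ := hχ z
    exact hint w

end Groth.Agent.Lib.lead.ChevA
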