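import Mathlib
import Groth.Agent.Lib.lead.ChevA
import Groth.Agent.Lib.lead.NaAbs
import Groth.Agent.Lib.Helper13.SpecFGLimit
import Groth.Agent.S0021

set_option linter.style.haveILetI false
universe u
open CategoryTheory AlgebraicGeometry Limits Opposite

namespace Groth.Agent.Lib.lead.ChevB

/-- locally of finite type over a locally Noetherian base implies locally of finite presentation -/
theorem lfp_of_lft_of_isLocallyNoetherian {X Y : Scheme.{u}} (f : X ⟶ Y) [LocallyOfFiniteType f]
    [IsLocallyNoetherian Y] : LocallyOfFinitePresentation f := by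
  rw [HasRingHomProperty.iff_appLE (P := @LocallyOfFinitePresentation)]
  intro U V e
  have h := f.finiteType_appLE U.2 V.2 e
  haveI : IsNoetherianRing Γ(Y, U.1) := IsLocallyNoetherian.component_noetherian U
  algebraize [(f.appLE U.1 V.1 e).hom]
  exact RingHom.finitePresentation_algebraMap.mpr
    (Algebra.FinitePresentation.of_finiteType.mp inferInstance)

/-- The target of a surjective universally closed morphism from a separated scheme is separated. -/
theorem isSeparated_of_surjective_universallyClosed {X S : Scheme.{u}} (f : X ⟶ S)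
    [Surjective f] [UniversallyClosed f] [X.IsSeparated] : S.IsSeparated := by
  let τ := terminal.from S
  let m : pullback (f ≫ τ) (f ≫ τ) ⟶ pullback τ τ :=
    pullback.map (f ≫ τ) (f ≫ τ) τ τ f f (𝟙 _) ((Category.comp_id _).trans rfl)
      ((Category.comp_id _).trans rfl)
  haveI : UniversallyClosed m :=
    MorphismProperty.pullbackMap (P := @UniversallyClosed) ‹UniversallyClosed f›
      ‹UniversallyClosed f› rfl rfl
  have hcomm : pullback.diagonal (f ≫ τ) ≫ m = f ≫ pullback.diagonal τ := by
    have hm1 : m ≫ pullback.fst τ τ = pullback.fst (f ≫ τ) (f ≫ τ) ≫ f := pullback.lift_fst _ _ _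
    have hm2 : m ≫ pullback.snd τ τ = pullback.snd (f ≫ τ) (f ≫ τ) ≫ f := pullback.lift_snd _ _ _
    apply pullback.hom_ext
    · rw [Category.assoc, hm1, ← Category.assoc, pullback.diagonal_fst, Category.id_comp,
        Category.assoc, pullback.diagonal_fst, Category.comp_id]
    · rw [Category.assoc, hm2, ← Category.assoc, pullback.diagonal_snd, Category.id_comp,
        Category.assoc, pullback.diagonal_snd, Category.comp_id]
  have hcl : IsClosed (Set.range (pullback.diagonal τ)) := by
    have h1 : Set.range (pullback.diagonal τ) = m '' Set.range (pullback.diagonal (f ≫ τ)) := by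
      ext z
      constructor
      · rintro ⟨s, rfl⟩
        obtain ⟨x, rfl⟩ := f.surjective s
        refine ⟨pullback.diagonal (f ≫ τ) x, ⟨x, rfl⟩, ?_⟩
        rw [← Scheme.Hom.comp_apply, hcomm, Scheme.Hom.comp_apply]
      · rintro ⟨_, ⟨x, rfl⟩, rfl⟩
        refine ⟨f x, ?_⟩
        rw [← Scheme.Hom.comp_apply, ← hcomm, Scheme.Hom.comp_apply]
    rw [h1]
    exact m.isClosedMap _ (pullback.diagonal (f ≫ τ)).isClosedEmbedding.isClosed_range
  have : IsClosedImmersion (pullback.diagonal τ) := IsClosedImmersion.of_isPreimmersion _ hcl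
  exact ⟨⟨this⟩⟩


open Groth.Agent.Lib.lead.NaMain Groth.Agent.Lib.Helper13

/-- global functions of the closed subscheme `Spec (Γ(P)/I) ⟶ P` of an affine scheme -/
theorem appTop_specQuot {P : Scheme.{u}} [IsAffine P] {Q : CommRingCat.{u}} (mk : Γ(P, ⊤) ⟶ Q) :
    (Spec.map mk ≫ P.isoSpec.inv).appTop = mk ≫ (Scheme.ΓSpecIso Q).inv := by
  have h := Scheme.isoSpec_inv_naturality (Spec.map mk ≫ P.isoSpec.inv)
  rw [Scheme.isoSpec_Spec_inv, ← Category.assoc, cancel_mono, ← Spec.map_comp] at h
  exact Spec.map_injective h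

/-- **Key step**: an integral surjective morphism from an affine scheme onto a separated limit of
finite type `ℤ`-schemes is dominated by a finite, finitely presented, surjective morphism from an
affine scheme. -/
theorem exists_finite_fp_affine {I : Type u} [Preorder I] [IsDirected I (fun a b => a ≤ b)]
    [Nonempty I] (D : Iᵒᵖ ⥤ Scheme.{u}) (haff : ∀ (i j : Iᵒᵖ) (f : i ⟶ j), IsAffineHom (D.map f))
    (hft : ∀ i, FTZ (D.obj i)) (c : Cone D) (hc : IsLimit c) [c.pt.IsSeparated]
    {X : Scheme.{u}} [IsAffine X] (f : X ⟶ c.pt) [IsIntegralHom f] [Surjective f] :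
    ∃ (T : Scheme.{u}) (t : T ⟶ c.pt), IsAffine T ∧ IsFinite t ∧ Surjective t ∧
      LocallyOfFinitePresentation t := by
  classical
  haveI : ∀ {i j : Iᵒᵖ} (f : i ⟶ j), IsAffineHom (D.map f) := fun f => haff _ _ f
  haveI : ∀ i, IsNoetherian (D.obj i) := fun i => isNoetherian_of_ftz (hft i)
  haveI : ∀ i, CompactSpace (D.obj i) := fun i => (hft i).1
  haveI : CompactSpace c.pt := Scheme.compactSpace_of_isLimit D c hc
  obtain ⟨i₀⟩ : Nonempty Iᵒᵖ := inferInstance
  haveI hπ : IsAffineHom (c.π.app i₀) := isAffineHom_π_app D c hc i₀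
  -- step 1: factor `X ⟶ D i₀` through a finite type affine scheme
  let C := Γ(X, ⊤)
  let Z0 := Spec (CommRingCat.of (ULift.{u} ℤ))
  haveI hlft0 : LocallyOfFiniteType (specULiftZIsTerminal.from (D.obj i₀)) := (hft i₀).2
  haveI : IsLocallyNoetherian Z0 := inferInstance
  haveI hlfp0 : LocallyOfFinitePresentation (specULiftZIsTerminal.from (D.obj i₀)) :=
    lfp_of_lft_of_isLocallyNoetherian _
  let E := SpecFG.specDiag C
  let cE := SpecFG.specCone C
  have hcE : IsLimit cE := SpecFG.specIsLimit C
  haveI : ∀ {s s' : (Finset C)ᵒᵖ} (φ : s ⟶ s'), IsAffineHom (E.map φ) := fun φ => inferInstance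
  haveI : ∀ s, CompactSpace (E.obj s) := fun s => inferInstance
  haveI : ∀ s, QuasiSeparatedSpace (E.obj s) := fun s => inferInstance
  let tE : E ⟶ (Functor.const (Finset C)ᵒᵖ).obj Z0 :=
    { app := fun s => specULiftZIsTerminal.from _
      naturality := fun _ _ _ => specULiftZIsTerminal.hom_ext _ _ }
  let a : cE.pt ⟶ D.obj i₀ := X.isoSpec.inv ≫ f ≫ c.π.app i₀
  obtain ⟨s, h₀, hh₀, -⟩ := Scheme.exists_π_app_comp_eq_of_locallyOfFinitePresentation E tE
    (specULiftZIsTerminal.from (D.obj i₀)) cE hcE a (by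
      ext s; exact specULiftZIsTerminal.hom_ext _ _)
  -- the finite type affine scheme `X'`
  let X' : Scheme.{u} := E.obj s
  haveI : IsAffine X' := inferInstance
  have hX'ft : FTZ X' := by
    haveI : Algebra.FiniteType ℤ (Algebra.adjoin ℤ (s.unop : Set C)) :=
      (Subalgebra.fg_iff_finiteType _).mp (Subalgebra.fg_adjoin_finset _)
    exact ftz_Spec (CommRingCat.of (Algebra.adjoin ℤ (s.unop : Set C)))
  haveI : LocallyOfFiniteType (h₀ ≫ specULiftZIsTerminal.from (D.obj i₀)) := by
    have : h₀ ≫ specULiftZIsTerminal.from (D.obj i₀) = specULiftZIsTerminal.from X' :=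
      specULiftZIsTerminal.hom_ext _ _
    rw [this]
    exact hX'ft.2
  haveI : LocallyOfFiniteType h₀ :=
    locallyOfFiniteType_of_comp h₀ (specULiftZIsTerminal.from (D.obj i₀))
  haveI : LocallyOfFinitePresentation h₀ := lfp_of_lft_of_isLocallyNoetherian _
  -- step 2: the affine scheme `P = X' ×_{D i₀} c.pt`
  let P := pullback h₀ (c.π.app i₀)
  let p₁ : P ⟶ X' := pullback.fst h₀ (c.π.app i₀)
  let p : P ⟶ c.pt := pullback.snd h₀ (c.π.app i₀)
  haveI : IsAffineHom p₁ := inferInstance
  haveI : IsAffine P := isAffine_of_isAffineHom p₁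
  haveI : LocallyOfFinitePresentation p := inferInstance
  haveI : LocallyOfFiniteType p := inferInstance
  haveI : IsAffineHom p := by
    haveI : IsAffineHom (p ≫ terminal.from c.pt) := by
      have : p ≫ terminal.from c.pt = terminal.from P := terminal.hom_ext _ _
      rw [this]
      infer_instance
    exact IsAffineHom.of_comp p (terminal.from c.pt)
  let e0 : X ⟶ cE.pt := X.isoSpec.hom
  have he0 : e0 ≫ a = f ≫ c.π.app i₀ := by
    change X.isoSpec.hom ≫ X.isoSpec.inv ≫ f ≫ c.π.app i₀ = _
    rw [Iso.hom_inv_id_assoc]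
  let g : X ⟶ P := pullback.lift (e0 ≫ cE.π.app s) f (by
    rw [Category.assoc, hh₀, he0])
  have hgp : g ≫ p = f := pullback.lift_snd _ _ _
  haveI : IsIntegralHom (g ≫ p) := by rw [hgp]; infer_instance
  -- step 3: the thickening
  obtain ⟨F, hF1, hF2⟩ := ChevA.exists_finset_finite g p
  let R := Γ(P, ⊤)
  let J : Ideal R := Ideal.span (F : Set R)
  let Q : CommRingCat.{u} := CommRingCat.of (R ⧸ J)
  let mk : R ⟶ Q := CommRingCat.ofHom (Ideal.Quotient.mk J)
  have hmk : Function.Surjective mk.hom := Ideal.Quotient.mk_surjective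
  let ι : Spec Q ⟶ P := Spec.map mk ≫ P.isoSpec.inv
  haveI : IsClosedImmersion (Spec.map mk) := IsClosedImmersion.spec_of_surjective mk hmk
  haveI : IsClosedImmersion ι := inferInstance
  have hιF : ∀ x ∈ F, ι.appTop x = 0 := by
    intro x hx
    have h1 : ι.appTop = mk ≫ (Scheme.ΓSpecIso Q).inv := appTop_specQuot mk
    rw [h1]
    change (Scheme.ΓSpecIso Q).inv (Ideal.Quotient.mk J x) = 0
    rw [Ideal.Quotient.eq_zero_iff_mem.mpr (Ideal.subset_span (Finset.mem_coe.mpr hx)), map_zero]
  haveI hfin : IsFinite (ι ≫ p) := hF2 ι hιF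
  -- `g` factors through the thickening
  have hJ : ∀ x ∈ J, g.appTop.hom x = 0 := by
    intro x hx
    have hle : J ≤ RingHom.ker g.appTop.hom := by
      rw [Ideal.span_le]
      intro y hy
      exact hF1 y (Finset.mem_coe.mp hy)
    exact hle hx
  let lift : Q ⟶ Γ(X, ⊤) := CommRingCat.ofHom (Ideal.Quotient.lift J g.appTop.hom hJ)
  have hlift : mk ≫ lift = g.appTop := by
    apply CommRingCat.hom_ext
    apply RingHom.ext
    intro x
    exact Ideal.Quotient.lift_mk J g.appTop.hom hJ
  let g' : X ⟶ Spec Q := X.isoSpec.hom ≫ Spec.map lift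
  have hg' : g' ≫ ι = g := by
    change (X.isoSpec.hom ≫ Spec.map lift) ≫ Spec.map mk ≫ P.isoSpec.inv = g
    rw [Category.assoc, ← Category.assoc (Spec.map lift), ← Spec.map_comp, hlift,
      Scheme.isoSpec_hom_naturality_assoc, Iso.hom_inv_id, Category.comp_id]
  haveI : Surjective (g' ≫ (ι ≫ p)) := by
    rw [← Category.assoc, hg', hgp]; infer_instance
  haveI hsurj : Surjective (ι ≫ p) := Surjective.of_comp g' (ι ≫ p)
  -- finite presentation
  haveI : LocallyOfFinitePresentation (Spec.map mk) := by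
    refine (HasRingHomProperty.Spec_iff (P := @LocallyOfFinitePresentation)).mpr ?_
    refine RingHom.FinitePresentation.of_surjective _ hmk ?_
    change (RingHom.ker (Ideal.Quotient.mk J)).FG
    rw [Ideal.mk_ker]
    exact ⟨F, rfl⟩
  haveI : LocallyOfFinitePresentation ι := inferInstance
  exact ⟨Spec Q, ι ≫ p, inferInstance, hfin, hsurj, inferInstance⟩

end Groth.Agent.Lib.lead.ChevB
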