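import Mathlib
import Groth.Prelude.Def_W4sga3xxiRoot
import Groth.Agent.Lib.Helper4.RootD

/-!
Lead's library for the `RootD` statements (root data, SGA3 XXI §3): positive systems are pointed,
indecomposable elements form a simple system.
-/

namespace Groth.Agent.RootDL

open RootD

variable {ι M N : Type*} [AddCommGroup M] [AddCommGroup N] (P : RootPairing ι ℤ M N)

lemma root_neg (i : ι) : P.root (P.reflectionPerm i i) = - P.root i := by
  rw [P.root_reflectionPerm, P.reflection_apply_self]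

lemma neg_neg_idx (i : ι) :
    P.reflectionPerm (P.reflectionPerm i i) (P.reflectionPerm i i) = i := by
  apply P.root.injective
  rw [root_neg, root_neg, neg_neg]

lemma pairing_eq (i j : ι) : P.pairingIn ℤ i j = P.pairing i j := by
  simpa using P.algebraMap_pairingIn ℤ i j

lemma smul_root_ne_zero {n : ℤ} (hn : n ≠ 0) (i : ι) : n • P.root i ≠ 0 := by
  intro h
  have := congrArg (P.coroot' i) h
  simp only [map_smul, RootPairing.root_coroot'_eq_pairing, RootPairing.pairing_same, map_zero,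
    smul_eq_mul] at this
  omega

lemma nsmul_root_ne_zero {n : ℕ} (hn : n ≠ 0) (i : ι) : n • P.root i ≠ 0 := by
  rw [← natCast_zsmul]
  exact smul_root_ne_zero P (by exact_mod_cast hn) i

lemma root_mem_natSpan {S : Set ι} {i : ι} (hi : i ∈ S) : P.root i ∈ natSpan P S :=
  AddSubmonoid.subset_closure ⟨i, hi, rfl⟩

lemma natSpan_mono {S T : Set ι} (h : S ⊆ T) : natSpan P S ≤ natSpan P T :=
  AddSubmonoid.closure_mono (Set.image_mono h)

lemma natSpan_le_rootSpan (S : Set ι) {x : M} (hx : x ∈ natSpan P S) : x ∈ P.rootSpan ℤ := by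
  induction hx using AddSubmonoid.closure_induction with
  | mem x hx =>
    obtain ⟨s, -, rfl⟩ := hx
    exact Submodule.subset_span ⟨s, rfl⟩
  | zero => exact zero_mem _
  | add x y _ _ hx hy => exact add_mem hx hy

lemma natSpan_cases {S : Set ι} {x : M} (hx : x ∈ natSpan P S) :
    x = 0 ∨ ∃ s ∈ S, ∃ x' ∈ natSpan P S, x = P.root s + x' := by
  induction hx using AddSubmonoid.closure_induction with
  | mem x hx =>
    obtain ⟨s, hs, rfl⟩ := hx
    exact Or.inr ⟨s, hs, 0, zero_mem _, by simp⟩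
  | zero => exact Or.inl rfl
  | add x y _ hy ihx ihy =>
    rcases ihx with rfl | ⟨s, hs, x', hx', rfl⟩
    · simpa using ihy
    · exact Or.inr ⟨s, hs, x' + y, add_mem hx' hy, by abel⟩

/-- A set of roots is *pointed* if no nontrivial non-negative combination vanishes. -/
def Pointed (S : Set ι) : Prop :=
  ∀ ⦃x y : M⦄, x ∈ natSpan P S → y ∈ natSpan P S → x + y = 0 → x = 0

variable {P}

lemma Pointed.mono {S T : Set ι} (hT : Pointed P T) (h : S ⊆ T) : Pointed P S :=
  fun _ _ hx hy hxy => hT (natSpan_mono P h hx) (natSpan_mono P h hy) hxy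

lemma posSys_closed {S : Set ι} (hS : IsPosSys P S) {k : ι} (hk : P.root k ∈ natSpan P S) :
    k ∈ S := hS.sat 1 one_pos (by simpa using hk)

lemma posSys_pointed {S : Set ι} (hS : IsPosSys P S) : Pointed P S := by
  intro x y hx hy h
  rcases natSpan_cases P hx with rfl | ⟨s, hs, x', hx', rfl⟩
  · rfl
  · exfalso
    rw [add_assoc] at h
    have h2 : P.root (P.reflectionPerm s s) = x' + y := by
      rw [root_neg]; exact neg_eq_of_add_eq_zero_right h
    exact hS.disjoint hs (posSys_closed hS (h2 ▸ add_mem hx' hy))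

/-- The indecomposable elements of `S`. -/
def simpleOf (P : RootPairing ι ℤ M N) (S : Set ι) : Set ι :=
  {k | k ∈ S ∧ ¬ ∃ i ∈ S, ∃ j ∈ S, P.root k = P.root i + P.root j}

lemma simpleOf_subset (S : Set ι) : simpleOf P S ⊆ S := fun _ h => h.1

/-- In a pointed set, every element is a non-negative combination of indecomposables. -/
lemma root_mem_natSpan_simpleOf [Finite ι] {S : Set ι} (hS : Pointed P S) {k : ι} (hk : k ∈ S) :
    P.root k ∈ natSpan P (simpleOf P S) := by
  classical
  let r : ι → ι → Prop := fun j k =>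
    ∃ x ∈ natSpan P S, x ≠ 0 ∧ P.root k = P.root j + x
  have : IsTrans ι r := ⟨by
    rintro a b c ⟨x, hx, hx0, hab⟩ ⟨y, hy, hy0, hbc⟩
    refine ⟨x + y, add_mem hx hy, fun h => hx0 (hS hx hy h), ?_⟩
    rw [hbc, hab, add_assoc]⟩
  have : Std.Irrefl r := ⟨by
    rintro a ⟨x, hx, hx0, ha⟩
    exact hx0 (by simpa using ha.symm)⟩
  have wf : WellFounded r := Finite.wellFounded_of_trans_of_irrefl r
  induction k using wf.induction with
  | _ k ih =>
    by_cases hk' : k ∈ simpleOf P S
    · exact root_mem_natSpan P hk'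
    · simp only [simpleOf, Set.mem_ofPred_eq, not_and, not_not] at hk'
      obtain ⟨i, hi, j, hj, hkij⟩ := hk' hk
      rw [hkij]
      refine add_mem (ih i ⟨P.root j, root_mem_natSpan P hj, P.ne_zero j, hkij⟩ hi)
        (ih j ⟨P.root i, root_mem_natSpan P hi, P.ne_zero i, by rw [hkij, add_comm]⟩ hj)


lemma zsmul_root_mem_natSpan {S : Set ι} {i : ι} (hi : i ∈ S) {n : ℤ} (hn : 0 ≤ n) :
    n • P.root i ∈ natSpan P S := by
  obtain ⟨m, rfl⟩ := Int.eq_ofNat_of_zero_le hn
  rw [natCast_zsmul]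
  exact AddSubmonoid.nsmul_mem _ (root_mem_natSpan P hi) m

lemma sum_zsmul_root_mem_natSpan {S : Set ι} (s : Finset ι) (c : ι → ℤ)
    (hs : ∀ i ∈ s, i ∈ S ∧ 0 ≤ c i) : ∑ i ∈ s, c i • P.root i ∈ natSpan P S :=
  AddSubmonoid.sum_mem _ fun i hi => zsmul_root_mem_natSpan (hs i hi).1 (hs i hi).2

/-- distinct indecomposables of a set satisfying (P 2) are pairwise obtuse -/
lemma pairing_le_zero_of_simpleOf [Finite ι] {S : Set ι}
    (hP2 : ∀ i, i ∈ S ∨ P.reflectionPerm i i ∈ S) {i j : ι}
    (hi : i ∈ simpleOf P S) (hj : j ∈ simpleOf P S) (hij : i ≠ j) : P.pairing i j ≤ 0 := by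
  by_contra hpos
  push Not at hpos
  obtain ⟨m, hm⟩ := P.root_sub_root_mem_of_pairingIn_pos (by rwa [pairing_eq]) hij
  rcases hP2 m with h | h
  · exact hi.2 ⟨j, hj.1, m, h, by rw [hm]; abel⟩
  · exact hj.2 ⟨i, hi.1, _, h, by rw [root_neg, hm]; abel⟩

lemma rootForm_root_root_le_zero [Fintype ι] {i j : ι} (h : P.pairing i j ≤ 0) :
    P.RootForm (P.root i) (P.root j) ≤ 0 := by
  have h1 := P.toInvariantForm.two_mul_apply_root_root i j
  have h2 : 0 < P.RootForm (P.root j) (P.root j) :=
    P.rootForm_pos_of_ne_zero (Submodule.subset_span ⟨j, rfl⟩) (P.ne_zero j)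
  simp only [RootPairing.toInvariantForm_form] at h1
  nlinarith

/-- pairwise obtuse + pointed ⇒ linearly independent -/
lemma linIndep_of_obtuse_pointed [Finite ι] {Δ : Set ι}
    (hobt : ∀ i ∈ Δ, ∀ j ∈ Δ, i ≠ j → P.pairing i j ≤ 0) (hpt : Pointed P Δ) :
    LinearIndepOn ℤ P.root Δ := by
  classical
  have := Fintype.ofFinite ι
  rw [linearIndepOn_iff']
  intro t c ht hc
  have H : ∀ c : ι → ℤ, (∑ i ∈ t with 0 < c i, c i • P.root i) = 0 → ∀ i ∈ t, c i ≤ 0 := by
    intro c h i hi
    by_contra hpos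
    push Not at hpos
    have hi' : i ∈ t.filter (fun i => 0 < c i) := by simp [hi, hpos]
    rw [← Finset.add_sum_erase _ _ hi'] at h
    have h1 : c i • P.root i ∈ natSpan P Δ := zsmul_root_mem_natSpan (ht hi) hpos.le
    have h2 : ∑ j ∈ (t.filter (fun i => 0 < c i)).erase i, c j • P.root j ∈ natSpan P Δ := by
      refine sum_zsmul_root_mem_natSpan _ _ fun j hj => ?_
      have hj' := Finset.mem_of_mem_erase hj
      rw [Finset.mem_filter] at hj'
      exact ⟨ht hj'.1, hj'.2.le⟩
    exact smul_root_ne_zero P hpos.ne' i (hpt h1 h2 h)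
  set x := ∑ i ∈ t with 0 < c i, c i • P.root i with hx
  set y := ∑ i ∈ t with 0 < -c i, (-c i) • P.root i with hy
  have hxy : x = y := by
    simp_rw [hx, hy, neg_smul, Finset.sum_neg_distrib, ← add_eq_zero_iff_eq_neg]
    rw [← hc, ← Finset.sum_union, Finset.sum_subset]
    · grind only [= Finset.subset_iff, = Finset.mem_union, = Finset.mem_filter]
    · simp +contextual [eq_comm (a := (0 : ℤ))]
    · grind only [Finset.disjoint_filter]
  have hxmem : x ∈ P.rootSpan ℤ :=
    Submodule.sum_mem _ fun i _ => Submodule.smul_mem _ _ (Submodule.subset_span ⟨i, rfl⟩)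
  have hx₀ : x = 0 := by
    apply P.eq_zero_of_mem_rootSpan_of_rootForm_self_eq_zero hxmem
    apply le_antisymm _ (P.zero_le_rootForm x)
    nth_rw 2 [hxy]
    rw [hx, hy]
    simp only [map_sum, LinearMap.sum_apply, map_smul, LinearMap.smul_apply, smul_eq_mul]
    refine Finset.sum_nonpos fun i hi => ?_
    rw [Finset.mem_filter] at hi
    refine mul_nonpos_of_nonneg_of_nonpos hi.2.le (Finset.sum_nonpos fun j hj => ?_)
    rw [Finset.mem_filter] at hj
    have hji : j ≠ i := by
      rintro rfl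
      omega
    exact mul_nonpos_of_nonneg_of_nonpos hj.2.le
      (rootForm_root_root_le_zero (hobt j (ht hj.1) i (ht hi.1) hji))
  have hy₀ : y = 0 := hxy ▸ hx₀
  intro i hi
  have h1 := H c hx₀ i hi
  have h2 := H (fun i => - c i) hy₀ i hi
  omega


/-- The indecomposables of a pointed set satisfying (P 2) form a system of simple roots. -/
theorem isSimpleSys_simpleOf_of_pointed [Finite ι] {S : Set ι}
    (hP2 : ∀ i, i ∈ S ∨ P.reflectionPerm i i ∈ S) (hpt : Pointed P S) :
    IsSimpleSys P (simpleOf P S) where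
  linInd := linIndep_of_obtuse_pointed
    (fun _ hi _ hj hij => pairing_le_zero_of_simpleOf hP2 hi hj hij)
    (hpt.mono (simpleOf_subset S))
  mem_or_neg_mem i := by
    rcases hP2 i with h | h
    · exact Or.inl (root_mem_natSpan_simpleOf hpt h)
    · right
      rw [← root_neg]
      exact root_mem_natSpan_simpleOf hpt h

theorem isSimpleSys_simpleOf [Finite ι] {S : Set ι} (hS : IsPosSys P S) :
    IsSimpleSys P (simpleOf P S) :=
  isSimpleSys_simpleOf_of_pointed hS.cover (posSys_pointed hS)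

lemma natSpan_le_span (S : Set ι) {x : M} (hx : x ∈ natSpan P S) :
    x ∈ Submodule.span ℤ (P.root '' S) := by
  induction hx using AddSubmonoid.closure_induction with
  | mem x hx => exact Submodule.subset_span hx
  | zero => exact zero_mem _
  | add x y _ _ hx hy => exact add_mem hx hy

lemma eq_of_subset_of_linIndep {Δ' Δ : Set ι} (hsub : Δ' ⊆ Δ) (hli : LinearIndepOn ℤ P.root Δ)
    (h : ∀ l ∈ Δ, ∃ n : ℤ, n ≠ 0 ∧ n • P.root l ∈ Submodule.span ℤ (P.root '' Δ')) : Δ' = Δ := by
  refine hsub.antisymm fun l hl => ?_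
  by_contra hl'
  obtain ⟨n, hn, hmem⟩ := h l hl
  refine hn (hli.eq_zero_of_smul_mem_span hl n (Submodule.span_mono (Set.image_mono ?_) hmem))
  intro i hi
  exact ⟨hsub hi, fun h => hl' (h ▸ hi)⟩

open Groth.Agent.Lib.Helper4.RD in
lemma simpleSys_subset_simpleOf {Δ : Set ι} (hΔ : IsSimpleSys P Δ) :
    Δ ⊆ simpleOf P (posOf P Δ) := by
  classical
  intro i hi
  refine ⟨root_mem_natSpan P hi, ?_⟩
  rintro ⟨a, ha, b, hb, hab⟩
  have h1 := (mem_posOf_iff hΔ a).mp ha
  have h2 := (mem_posOf_iff hΔ b).mp hb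
  have h3 : coef hΔ a + coef hΔ b = Finsupp.single ⟨i, hi⟩ 1 := by
    apply lc_injective P hΔ.linInd
    rw [map_add, lc_coef, lc_coef, lc_single, one_smul, hab]
  have key : ∀ l, coef hΔ a l + coef hΔ b l = if (⟨i, hi⟩ : Δ) = l then 1 else 0 := by
    intro l
    have := DFunLike.congr_fun h3 l
    simpa [Finsupp.single_apply] using this
  have hi3 := key ⟨i, hi⟩
  simp only [if_true] at hi3
  have hor : coef hΔ a ⟨i, hi⟩ = 0 ∨ coef hΔ b ⟨i, hi⟩ = 0 := by
    have := h1 ⟨i, hi⟩
    have := h2 ⟨i, hi⟩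
    omega
  rcases hor with h | h
  · apply coef_ne_zero hΔ a
    ext l
    by_cases hl : (⟨i, hi⟩ : Δ) = l
    · subst hl; simpa using h
    · have := key l
      rw [if_neg hl] at this
      have := h1 l
      have := h2 l
      simp only [Finsupp.coe_zero, Pi.zero_apply]
      omega
  · apply coef_ne_zero hΔ b
    ext l
    by_cases hl : (⟨i, hi⟩ : Δ) = l
    · subst hl; simpa using h
    · have := key l
      rw [if_neg hl] at this
      have := h1 l
      have := h2 l
      simp only [Finsupp.coe_zero, Pi.zero_apply]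
      omega

end Groth.Agent.RootDL
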