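import Mathlib
import Groth.Agent.Lib.lead.RootDA

/-!
Uniqueness of the simple system in a positive system.
-/

namespace Groth.Agent.RootDL

open RootD

variable {ι M N : Type*} [AddCommGroup M] [AddCommGroup N] {P : RootPairing ι ℤ M N}

lemma natSpan_posOf_le (Δ : Set ι) : natSpan P (posOf P Δ) ≤ natSpan P Δ := by
  refine AddSubmonoid.closure_le.mpr ?_
  rintro _ ⟨k, hk, rfl⟩
  exact hk

lemma subset_posOf (Δ : Set ι) : Δ ⊆ posOf P Δ := fun _ hi => root_mem_natSpan P hi

open Groth.Agent.Lib.Helper4.RD in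
/-- (copied from helper4's proof of S5449) -/
lemma posOf_isPosSys {Δ : Set ι} (hΔ : IsSimpleSys P Δ) : IsPosSys P (posOf P Δ) := by
  classical
  have hnat := natSpan_posOf_le (P := P) Δ
  refine ⟨fun k hk hk' => ?_, fun k => ?_, fun k n hn hk => ?_⟩
  · have h1 := (mem_posOf_iff hΔ k).mp hk
    have h2 := (mem_posOf_iff hΔ _).mp hk'
    rw [coef_neg hΔ k] at h2
    apply coef_ne_zero hΔ k
    ext l
    have a := h1 l
    have b := h2 l
    simp only [Finsupp.neg_apply] at b
    simp only [Finsupp.zero_apply]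
    omega
  · rcases coef_sign hΔ k with h | h
    · exact Or.inl ((mem_posOf_iff hΔ k).mpr h)
    · refine Or.inr ((mem_posOf_iff hΔ _).mpr fun l => ?_)
      rw [coef_neg hΔ k, Finsupp.neg_apply]
      have := h l
      omega
  · have hk' := hnat hk
    obtain ⟨c, hc, e⟩ := (mem_natSpan_iff P Δ _).mp hk'
    have e' : lc P Δ ((n : ℤ) • coef hΔ k) = lc P Δ c := by
      rw [map_smul, lc_coef, e, natCast_zsmul]
    have := lc_injective P hΔ.linInd e'
    rw [mem_posOf_iff hΔ]
    intro l
    have hl := DFunLike.congr_fun this l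
    simp only [Finsupp.smul_apply, smul_eq_mul] at hl
    have hcl := hc l
    have hn' : (0 : ℤ) < n := by exact_mod_cast hn
    by_contra hneg
    push Not at hneg
    have : (n : ℤ) * coef hΔ k l < 0 := mul_neg_of_pos_of_neg hn' hneg
    omega

/-- A positive system containing a simple system `Δ` is `posOf Δ`. -/
lemma eq_posOf_of_subset {Δ S : Set ι} (hΔ : IsSimpleSys P Δ) (hS : IsPosSys P S) (hsub : Δ ⊆ S) :
    S = posOf P Δ := by
  have hpos := posOf_isPosSys hΔ
  have hle : posOf P Δ ⊆ S := fun k hk => posSys_closed hS (natSpan_mono P hsub hk)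
  apply Set.Subset.antisymm _ hle
  intro k hk
  rcases hpos.cover k with h | h
  · exact h
  · exact absurd (hle h) (hS.disjoint hk)

/-- two positive systems one contained in the other are equal -/
lemma posSys_eq_of_subset {S S' : Set ι} (hS : IsPosSys P S) (hS' : IsPosSys P S') (h : S ⊆ S') :
    S = S' := by
  apply Set.Subset.antisymm h
  intro k hk
  rcases hS.cover k with h' | h'
  · exact h'
  · exact absurd (h h') (hS'.disjoint hk)

/-- The simple system contained in a positive system is the set of its indecomposables. -/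
theorem simpleSys_eq_simpleOf [Finite ι] {Δ S : Set ι} (hΔ : IsSimpleSys P Δ) (hS : IsPosSys P S)
    (hsub : Δ ⊆ S) : Δ = simpleOf P S := by
  have hSeq := eq_posOf_of_subset hΔ hS hsub
  have h1 : Δ ⊆ simpleOf P S := hSeq ▸ simpleSys_subset_simpleOf hΔ
  refine eq_of_subset_of_linIndep h1 (isSimpleSys_simpleOf hS).linInd fun l hl => ?_
  refine ⟨1, one_ne_zero, ?_⟩
  rw [one_smul]
  have : l ∈ posOf P Δ := hSeq ▸ hl.1
  exact natSpan_le_span Δ this

theorem simpleOf_posOf [Finite ι] {Δ : Set ι} (hΔ : IsSimpleSys P Δ) :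
    simpleOf P (posOf P Δ) = Δ :=
  (simpleSys_eq_simpleOf hΔ (posOf_isPosSys hΔ) (subset_posOf Δ)).symm

theorem existsUnique_simpleSys [Finite ι] {S : Set ι} (hS : IsPosSys P S) :
    ∃! Δ : Set ι, IsSimpleSys P Δ ∧ Δ ⊆ S :=
  ⟨simpleOf P S, ⟨isSimpleSys_simpleOf hS, simpleOf_subset S⟩,
    fun _ h => simpleSys_eq_simpleOf h.1 hS h.2⟩

end Groth.Agent.RootDL
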