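import Mathlib
import Groth.Agent.Lib.lead.RootDB
import Groth.Agent.S5490

/-!
Closed sets of roots with (P 1), (P 2) are positive systems; criteria for simple systems.
-/

namespace Groth.Agent.RootDL

open RootD

variable {ι M N : Type*} [AddCommGroup M] [AddCommGroup N] {P : RootPairing ι ℤ M N}

lemma closed_mem [Finite ι] {S : Set ι} (hcl : IsClosedSub P S) {k : ι}
    (hk : P.root k ∈ natSpan P S) : k ∈ S :=
  (Groth.Agent.S5490.result P S).mp hcl k hk

lemma closed_of_natSpan [Finite ι] {S : Set ι} (h : ∀ k : ι, P.root k ∈ natSpan P S → k ∈ S) :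
    IsClosedSub P S :=
  (Groth.Agent.S5490.result P S).mpr h

lemma posSys_isClosed [Finite ι] {S : Set ι} (hS : IsPosSys P S) : IsClosedSub P S :=
  closed_of_natSpan fun _ hk => posSys_closed hS hk

/-- (P 1) + closed ⇒ pointed -/
lemma pointed_of_closed [Finite ι] {S : Set ι} (hP1 : ∀ i ∈ S, P.reflectionPerm i i ∉ S)
    (hcl : IsClosedSub P S) : Pointed P S := by
  intro x y hx hy h
  rcases natSpan_cases P hx with rfl | ⟨s, hs, x', hx', rfl⟩
  · rfl
  · exfalso
    rw [add_assoc] at h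
    have h2 : P.root (P.reflectionPerm s s) = x' + y := by
      rw [root_neg]; exact neg_eq_of_add_eq_zero_right h
    exact hP1 s hs (closed_mem hcl (h2 ▸ add_mem hx' hy))

/-- (P 1) + (P 2) + pointed ⇒ positive system -/
lemma isPosSys_of_pointed {S : Set ι} (hP1 : ∀ i ∈ S, P.reflectionPerm i i ∉ S)
    (hP2 : ∀ i, i ∈ S ∨ P.reflectionPerm i i ∈ S) (hpt : Pointed P S) : IsPosSys P S where
  disjoint := fun i hi => hP1 i hi
  cover := hP2
  sat := by
    intro k n hn hk
    rcases hP2 k with h | h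
    · exact h
    · exfalso
      have h1 : n • P.root (P.reflectionPerm k k) ∈ natSpan P S :=
        AddSubmonoid.nsmul_mem _ (root_mem_natSpan P h) n
      have h2 : n • P.root k + n • P.root (P.reflectionPerm k k) = 0 := by
        rw [root_neg, smul_neg, add_neg_cancel]
      exact nsmul_root_ne_zero P hn.ne' k (hpt hk h1 h2)

theorem isPosSys_iff_closed [Finite ι] (S : Set ι) :
    IsPosSys P S ↔ ((∀ i ∈ S, P.reflectionPerm i i ∉ S) ∧
      (∀ i : ι, i ∈ S ∨ P.reflectionPerm i i ∈ S) ∧ IsClosedSub P S) :=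
  ⟨fun hS => ⟨fun _ hi => hS.disjoint hi, hS.cover, posSys_isClosed hS⟩,
    fun ⟨h1, h2, h3⟩ => isPosSys_of_pointed h1 h2 (pointed_of_closed h1 h3)⟩

end Groth.Agent.RootDL
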