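import Mathlib
import Groth.Agent.Lib.lead.RootDC

/-!
Criteria for a set of roots to be a simple system (SGA3 XXI 3.1.5-ish).
-/

namespace Groth.Agent.RootDL

open RootD

variable {ι M N : Type*} [AddCommGroup M] [AddCommGroup N] {P : RootPairing ι ℤ M N}

include P in
lemma torsionFree : IsAddTorsionFree M := by
  have : Module.IsReflexive ℤ M := .of_isPerfPair P.toLinearMap
  exact .of_isTorsionFree ℤ M

/-- `x ∈ natSpan Δ` iff `x` is a non-negative combination, with coefficients in `ι →₀ ℤ`. -/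
lemma mem_natSpan_iff_finsupp (Δ : Set ι) (x : M) :
    x ∈ natSpan P Δ ↔ ∃ c : ι →₀ ℤ, ↑c.support ⊆ Δ ∧ (∀ j, 0 ≤ c j) ∧
      Finsupp.linearCombination ℤ P.root c = x := by
  classical
  constructor
  · intro hx
    induction hx using AddSubmonoid.closure_induction with
    | mem x hx =>
      obtain ⟨l, hl, rfl⟩ := hx
      refine ⟨Finsupp.single l 1, ?_, fun j => ?_, by simp⟩
      · intro j hj
        have := Finsupp.support_single_subset hj
        simp only [Finset.mem_singleton] at this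
        exact this ▸ hl
      · rw [Finsupp.single_apply]; split_ifs <;> simp
    | zero => exact ⟨0, by simp, fun _ => le_rfl, map_zero _⟩
    | add x y _ _ hx hy =>
      obtain ⟨c, hcs, hc, rfl⟩ := hx
      obtain ⟨c', hcs', hc', rfl⟩ := hy
      refine ⟨c + c', ?_, fun l => add_nonneg (hc l) (hc' l), map_add _ _ _⟩
      intro j hj
      rcases Finset.mem_union.mp (Finsupp.support_add hj) with h | h
      · exact hcs h
      · exact hcs' h
  · rintro ⟨c, hcs, hc, rfl⟩
    rw [Finsupp.linearCombination_apply, Finsupp.sum]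
    exact sum_zsmul_root_mem_natSpan _ _ fun i hi => ⟨hcs hi, hc i⟩

/-- linear independence ⇒ pointed -/
lemma pointed_of_linIndep {Δ : Set ι} (hli : LinearIndepOn ℤ P.root Δ) : Pointed P Δ := by
  open Groth.Agent.Lib.Helper4.RD in
  intro x y hx hy h
  obtain ⟨c, hc, rfl⟩ := (mem_natSpan_iff P Δ x).mp hx
  obtain ⟨d, hd, rfl⟩ := (mem_natSpan_iff P Δ y).mp hy
  rw [← map_add] at h
  have h0 : c + d = 0 := lc_injective P hli (h.trans (map_zero _).symm)
  have : c = 0 := by
    ext l
    have := DFunLike.congr_fun h0 l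
    have := hc l
    have := hd l
    simp only [Finsupp.add_apply, Finsupp.zero_apply] at *
    omega
  rw [this, map_zero]

/-- rational version of `posOf` -/
def ratPosOf (P : RootPairing ι ℤ M N) (Δ : Set ι) : Set ι :=
  {k | ∃ n : ℕ, 0 < n ∧ n • P.root k ∈ natSpan P Δ}

lemma exists_nsmul_mem_of_mem_natSpan_ratPosOf {Δ : Set ι} {x : M}
    (hx : x ∈ natSpan P (ratPosOf P Δ)) : ∃ n : ℕ, 0 < n ∧ n • x ∈ natSpan P Δ := by
  induction hx using AddSubmonoid.closure_induction with
  | mem x hx =>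
    obtain ⟨k, hk, rfl⟩ := hx
    exact hk
  | zero => exact ⟨1, one_pos, by simp⟩
  | add x y _ _ hx hy =>
    obtain ⟨n, hn, hnx⟩ := hx
    obtain ⟨m, hm, hmy⟩ := hy
    refine ⟨n * m, Nat.mul_pos hn hm, ?_⟩
    rw [smul_add]
    refine add_mem ?_ ?_
    · rw [mul_comm, mul_smul]; exact AddSubmonoid.nsmul_mem _ hnx m
    · rw [mul_smul]; exact AddSubmonoid.nsmul_mem _ hmy n

lemma pointed_ratPosOf {Δ : Set ι} (hpt : Pointed P Δ) : Pointed P (ratPosOf P Δ) := by
  intro x y hx hy h
  obtain ⟨n, hn, hnx⟩ := exists_nsmul_mem_of_mem_natSpan_ratPosOf hx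
  obtain ⟨m, hm, hmy⟩ := exists_nsmul_mem_of_mem_natSpan_ratPosOf hy
  have h1 : (m * n) • x ∈ natSpan P Δ := by
    rw [mul_smul]; exact AddSubmonoid.nsmul_mem _ hnx m
  have h2 : (m * n) • y ∈ natSpan P Δ := by
    rw [mul_comm, mul_smul]; exact AddSubmonoid.nsmul_mem _ hmy n
  have h3 : (m * n) • x + (m * n) • y = 0 := by rw [← smul_add, h, smul_zero]
  have := torsionFree (P := P)
  exact (nsmul_eq_zero_iff_right (Nat.mul_pos hm hn).ne').mp (hpt h1 h2 h3)

/-- A pointed set `S` with (P 2) satisfies (P 1). -/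
lemma P1_of_pointed {S : Set ι} (hpt : Pointed P S) : ∀ i ∈ S, P.reflectionPerm i i ∉ S := by
  intro i hi hi'
  refine P.ne_zero i (hpt (root_mem_natSpan P hi) (root_mem_natSpan P hi') ?_)
  rw [root_neg, add_neg_cancel]

lemma ratPosOf_isPosSys {Δ : Set ι} (hpt : Pointed P Δ)
    (hcone : ∀ k : ι, ∃ n : ℕ, 0 < n ∧
      (n • P.root k ∈ natSpan P Δ ∨ n • (-P.root k) ∈ natSpan P Δ)) :
    IsPosSys P (ratPosOf P Δ) := by
  have hpt' := pointed_ratPosOf hpt
  refine isPosSys_of_pointed (P1_of_pointed hpt') (fun k => ?_) hpt'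
  obtain ⟨n, hn, h | h⟩ := hcone k
  · exact Or.inl ⟨n, hn, h⟩
  · exact Or.inr ⟨n, hn, by rwa [root_neg]⟩

lemma subset_ratPosOf (Δ : Set ι) : Δ ⊆ ratPosOf P Δ :=
  fun i hi => ⟨1, one_pos, by simpa using root_mem_natSpan P hi⟩

/-- positive rational multiples of an indivisible root -/
lemma eq_or_eq_two_smul_of_proportional {a i : ι} (hind : IsIndiv P i) {p q : ℤ} (hp : 0 < p)
    (hq : 0 < q) (h : p • P.root a = q • P.root i) :
    P.root a = P.root i ∨ P.root a = (2 : ℤ) • P.root i := by
  have := torsionFree (P := P)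
  have h1 : p * P.pairing a i = 2 * q := by
    have := congrArg (P.coroot' i) h
    simp only [map_smul, RootPairing.root_coroot'_eq_pairing, RootPairing.pairing_same,
      smul_eq_mul] at this
    linarith
  have h2 : 2 * p = q * P.pairing i a := by
    have := congrArg (P.coroot' a) h
    simp only [map_smul, RootPairing.root_coroot'_eq_pairing, RootPairing.pairing_same,
      smul_eq_mul] at this
    linarith
  have hpos : 0 < P.pairing a i := by
    by_contra hneg
    push Not at hneg
    have : p * P.pairing a i ≤ 0 := mul_nonpos_of_nonneg_of_nonpos hp.le hneg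
    omega
  have h4 : P.pairing a i * P.pairing i a = 4 := by
    have : (p * q) * (P.pairing a i * P.pairing i a) = (p * q) * 4 := by
      calc (p * q) * (P.pairing a i * P.pairing i a)
          = (p * P.pairing a i) * (q * P.pairing i a) := by ring
        _ = (2 * q) * (2 * p) := by rw [h1, h2]
        _ = (p * q) * 4 := by ring
    exact mul_left_cancel₀ (mul_pos hp hq).ne' this
  have hdvd : P.pairing a i ∣ 4 := ⟨_, h4.symm⟩
  have hle : P.pairing a i ≤ 4 := Int.le_of_dvd (by norm_num) hdvd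
  have h5 : (2 : ℤ) • P.root a = P.pairing a i • P.root i := by
    apply zsmul_right_injective hp.ne'
    simp only
    rw [smul_comm, h, smul_smul, smul_smul, h1, mul_comm]
  have hcases : P.pairing a i = 1 ∨ P.pairing a i = 2 ∨ P.pairing a i = 4 := by
    have h3 : P.pairing a i ≠ 3 := by
      intro h3
      rw [h3] at hdvd
      norm_num at hdvd
    omega
  rcases hcases with h | h | h
  · exfalso
    rw [h, one_smul] at h5
    exact hind a h5
  · left
    rw [h] at h5
    exact zsmul_right_injective (by norm_num : (2 : ℤ) ≠ 0) h5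
  · right
    rw [h] at h5
    apply zsmul_right_injective (by norm_num : (2 : ℤ) ≠ 0)
    simp only
    rw [h5, smul_smul]
    norm_num


open Groth.Agent.Lib.Helper4.RD in
/-- if `n • root a` is a non-negative combination of `Δ` supported at `i`, it is a positive multiple
of `root i` -/
lemma exists_pos_smul_eq_of_supported {Δ : Set ι} {i : ι} (hi : i ∈ Δ) {a : ι} {n : ℕ} (hn : 0 < n)
    {c : Δ →₀ ℤ} (hc : ∀ l, 0 ≤ c l) (hca : lc P Δ c = n • P.root a)
    (hsupp : ∀ l : Δ, l ≠ ⟨i, hi⟩ → c l = 0) :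
    ∃ q : ℤ, 0 < q ∧ (n : ℤ) • P.root a = q • P.root i := by
  classical
  have hceq : c = Finsupp.single ⟨i, hi⟩ (c ⟨i, hi⟩) := by
    ext l
    by_cases hl : l = ⟨i, hi⟩
    · subst hl; simp
    · rw [hsupp l hl, Finsupp.single_apply, if_neg (Ne.symm hl)]
  have h1 : (n : ℤ) • P.root a = c ⟨i, hi⟩ • P.root i := by
    rw [natCast_zsmul, ← hca, hceq, lc_single]
    simp
  refine ⟨c ⟨i, hi⟩, lt_of_le_of_ne (hc _) fun h0 => ?_, h1⟩
  rw [← h0, zero_smul] at h1
  exact smul_root_ne_zero P (by exact_mod_cast hn.ne') a h1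

open Groth.Agent.Lib.Helper4.RD in
theorem isSimpleSys_of_indiv_linIndep_cone [Finite ι] {Δ : Set ι}
    (hind : ∀ i ∈ Δ, IsIndiv P i) (hli : LinearIndepOn ℤ P.root Δ)
    (hcone : ∀ k : ι, ∃ n : ℕ, 0 < n ∧
      (n • P.root k ∈ natSpan P Δ ∨ n • (-P.root k) ∈ natSpan P Δ)) :
    IsSimpleSys P Δ := by
  classical
  have hpt := pointed_of_linIndep hli
  have hS := ratPosOf_isPosSys hpt hcone
  have hΔ₀ := isSimpleSys_simpleOf hS
  have hsub : Δ ⊆ simpleOf P (ratPosOf P Δ) := by
    intro i hi
    refine ⟨subset_ratPosOf Δ hi, ?_⟩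
    rintro ⟨a, ⟨na, hna, ha⟩, b, ⟨nb, hnb, hb⟩, hab⟩
    obtain ⟨c, hc, hca⟩ := (mem_natSpan_iff P Δ _).mp ha
    obtain ⟨d, hd, hdb⟩ := (mem_natSpan_iff P Δ _).mp hb
    have key : (nb : ℤ) • c + (na : ℤ) • d = ((na : ℤ) * nb) • Finsupp.single ⟨i, hi⟩ 1 := by
      apply lc_injective P hli
      rw [← natCast_zsmul] at hca hdb
      simp only [map_add, map_smul, hca, hdb, lc_single, one_smul]
      rw [hab]
      module
    have hz : ∀ l : Δ, l ≠ ⟨i, hi⟩ → c l = 0 ∧ d l = 0 := by
      intro l hl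
      have := DFunLike.congr_fun key l
      simp only [Finsupp.add_apply, Finsupp.smul_apply, smul_eq_mul, Finsupp.single_apply,
        if_neg (Ne.symm hl), mul_zero] at this
      have h1 : 0 ≤ (nb : ℤ) * c l := mul_nonneg (by positivity) (hc l)
      have h2 : 0 ≤ (na : ℤ) * d l := mul_nonneg (by positivity) (hd l)
      have h3 : (nb : ℤ) * c l = 0 := by omega
      have h4 : (na : ℤ) * d l = 0 := by omega
      have hna' : (na : ℤ) ≠ 0 := by exact_mod_cast hna.ne'
      have hnb' : (nb : ℤ) ≠ 0 := by exact_mod_cast hnb.ne'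
      exact ⟨(mul_eq_zero.mp h3).resolve_left hnb', (mul_eq_zero.mp h4).resolve_left hna'⟩
    obtain ⟨qa, hqa, hqa'⟩ := exists_pos_smul_eq_of_supported hi hna hc hca fun l hl => (hz l hl).1
    obtain ⟨qb, hqb, hqb'⟩ := exists_pos_smul_eq_of_supported hi hnb hd hdb fun l hl => (hz l hl).2
    have hna' : (0 : ℤ) < na := by exact_mod_cast hna
    have hnb' : (0 : ℤ) < nb := by exact_mod_cast hnb
    have hA := eq_or_eq_two_smul_of_proportional (hind i hi) hna' hqa hqa'
    have hB := eq_or_eq_two_smul_of_proportional (hind i hi) hnb' hqb hqb'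
    have hfin : ∃ m : ℤ, m ≠ 0 ∧ m • P.root i = 0 := by
      rcases hA with hA | hA <;> rcases hB with hB | hB
      · exact ⟨1, by norm_num, by rw [one_smul]; nth_rw 1 [← sub_eq_zero] at hab; rw [hA, hB] at hab; simpa using hab⟩
      · refine ⟨2, by norm_num, ?_⟩
        rw [hA, hB] at hab
        have : (2 : ℤ) • P.root i = P.root i + (2 : ℤ) • P.root i - P.root i := by abel
        rw [this, ← hab, sub_self]
      · refine ⟨2, by norm_num, ?_⟩
        rw [hA, hB] at hab
        have : (2 : ℤ) • P.root i = (2 : ℤ) • P.root i + P.root i - P.root i := by abel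
        rw [this, ← hab, sub_self]
      · refine ⟨3, by norm_num, ?_⟩
        rw [hA, hB] at hab
        have : (3 : ℤ) • P.root i = (2 : ℤ) • P.root i + (2 : ℤ) • P.root i - P.root i := by
          rw [← add_smul, ← sub_eq_zero]
          norm_num
          module
        rw [this, ← hab, sub_self]
    obtain ⟨m, hm, hm0⟩ := hfin
    exact smul_root_ne_zero P hm i hm0
  have heq : Δ = simpleOf P (ratPosOf P Δ) := by
    refine eq_of_subset_of_linIndep hsub hΔ₀.linInd fun l hl => ?_
    obtain ⟨n, hn, hmem⟩ := hl.1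
    exact ⟨n, by exact_mod_cast hn.ne', by rw [natCast_zsmul]; exact natSpan_le_span Δ hmem⟩
  rw [heq]
  exact hΔ₀


lemma support_single_subset' {Δ : Set ι} {i : ι} (hi : i ∈ Δ) (z : ℤ) :
    (↑(Finsupp.single i z).support : Set ι) ⊆ Δ := by
  intro j hj
  have := Finsupp.support_single_subset hj
  simp only [Finset.mem_singleton] at this
  exact this ▸ hi

lemma support_add_subset' {Δ : Set ι} {c d : ι →₀ ℤ} (hc : (↑c.support : Set ι) ⊆ Δ)
    (hd : (↑d.support : Set ι) ⊆ Δ) : (↑(c + d).support : Set ι) ⊆ Δ := by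
  classical
  intro j hj
  rcases Finset.mem_union.mp (Finsupp.support_add hj) with h | h
  · exact hc h
  · exact hd h

lemma single_one_nonneg (i j : ι) : 0 ≤ (Finsupp.single i (1 : ℤ)) j := by
  classical
  rw [Finsupp.single_apply]; split_ifs <;> simp

theorem isSimpleSys_of_existsUnique_sameSign [Finite ι] {Δ : Set ι}
    (h : ∀ k : ι, ∃! c : ι →₀ ℤ, (↑c.support ⊆ Δ ∧ ((∀ j, 0 ≤ c j) ∨ (∀ j, c j ≤ 0)) ∧
      Finsupp.linearCombination ℤ P.root c = P.root k)) : IsSimpleSys P Δ := by
  classical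
  have hrel : ∀ c : ι →₀ ℤ, ↑c.support ⊆ Δ → (∀ j, 0 ≤ c j) →
      Finsupp.linearCombination ℤ P.root c = 0 → c = 0 := by
    intro c hcs hc hc0
    by_contra hne
    obtain ⟨i0, hi0⟩ := Finsupp.support_nonempty_iff.mpr hne
    have hi0Δ : i0 ∈ Δ := hcs hi0
    obtain ⟨c0, -, huniq⟩ := h i0
    have e1 := huniq (Finsupp.single i0 1)
      ⟨support_single_subset' hi0Δ 1, Or.inl (single_one_nonneg i0), by simp⟩
    have e2 := huniq (Finsupp.single i0 1 + c)
      ⟨support_add_subset' (support_single_subset' hi0Δ 1) hcs,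
        Or.inl fun j => add_nonneg (single_one_nonneg i0 j) (hc j), by simp [hc0]⟩
    have : Finsupp.single i0 1 + c = Finsupp.single i0 1 := e2.trans e1.symm
    exact hne (by simpa using this)
  have hpt : Pointed P Δ := by
    intro x y hx hy hxy
    obtain ⟨c, hcs, hc, rfl⟩ := (mem_natSpan_iff_finsupp Δ x).mp hx
    obtain ⟨d, hds, hd, rfl⟩ := (mem_natSpan_iff_finsupp Δ y).mp hy
    rw [← map_add] at hxy
    have h0 := hrel (c + d) (support_add_subset' hcs hds) (fun j => add_nonneg (hc j) (hd j)) hxy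
    have : c = 0 := by
      ext l
      have := DFunLike.congr_fun h0 l
      have := hc l
      have := hd l
      simp only [Finsupp.add_apply, Finsupp.zero_apply] at *
      omega
    rw [this, map_zero]
  have hmem : ∀ i, P.root i ∈ natSpan P Δ ∨ -P.root i ∈ natSpan P Δ := by
    intro k
    obtain ⟨c, ⟨hcs, hsign, hck⟩, -⟩ := h k
    rcases hsign with hs | hs
    · exact Or.inl ((mem_natSpan_iff_finsupp Δ _).mpr ⟨c, hcs, hs, hck⟩)
    · refine Or.inr ((mem_natSpan_iff_finsupp Δ _).mpr ⟨-c, ?_, fun j => ?_, by rw [map_neg, hck]⟩)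
      · rwa [Finsupp.support_neg]
      · have := hs j
        simp only [Finsupp.neg_apply]
        omega
  have hptS : Pointed P (posOf P Δ) := fun x y hx hy hxy =>
    hpt (natSpan_posOf_le Δ hx) (natSpan_posOf_le Δ hy) hxy
  have hP2 : ∀ i, i ∈ posOf P Δ ∨ P.reflectionPerm i i ∈ posOf P Δ := by
    intro i
    rcases hmem i with h | h
    · exact Or.inl h
    · right
      change P.root _ ∈ natSpan P Δ
      rwa [root_neg]
  have hS : IsPosSys P (posOf P Δ) := isPosSys_of_pointed (P1_of_pointed hptS) hP2 hptS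
  have hΔ₀ := isSimpleSys_simpleOf hS
  have hsub : Δ ⊆ simpleOf P (posOf P Δ) := by
    intro i hi
    refine ⟨subset_posOf Δ hi, ?_⟩
    rintro ⟨a, ha, b, hb, hab⟩
    obtain ⟨c, hcs, hc, hca⟩ := (mem_natSpan_iff_finsupp Δ _).mp ha
    obtain ⟨d, hds, hd, hdb⟩ := (mem_natSpan_iff_finsupp Δ _).mp hb
    obtain ⟨c0, -, huniq⟩ := h i
    have e1 := huniq (Finsupp.single i 1)
      ⟨support_single_subset' hi 1, Or.inl (single_one_nonneg i), by simp⟩
    have e2 := huniq (c + d) ⟨support_add_subset' hcs hds,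
      Or.inl fun j => add_nonneg (hc j) (hd j), by rw [map_add, hca, hdb, hab]⟩
    have hcd : c + d = Finsupp.single i 1 := e2.trans e1.symm
    have key : ∀ l, c l + d l = if i = l then 1 else 0 := by
      intro l
      have := DFunLike.congr_fun hcd l
      simpa [Finsupp.single_apply] using this
    have hi3 := key i
    simp only [if_true] at hi3
    have hor : c i = 0 ∨ d i = 0 := by
      have := hc i
      have := hd i
      omega
    have hzero : ∀ e : ι →₀ ℤ, (∀ l, 0 ≤ e l) → (∀ l, e l ≤ c l + d l) → e i = 0 → e = 0 := by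
      intro e he hle hei
      ext l
      by_cases hl : i = l
      · subst hl; simpa using hei
      · have := key l
        rw [if_neg hl] at this
        have := he l
        have := hle l
        simp only [Finsupp.coe_zero, Pi.zero_apply]
        omega
    rcases hor with h0 | h0
    · have : c = 0 := hzero c hc (fun l => by have := hd l; omega) h0
      rw [this, map_zero] at hca
      exact P.ne_zero a hca.symm
    · have : d = 0 := hzero d hd (fun l => by have := hc l; omega) h0
      rw [this, map_zero] at hdb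
      exact P.ne_zero b hdb.symm
  exact ⟨hΔ₀.linInd.mono hsub, hmem⟩

end Groth.Agent.RootDL
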