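import Mathlib
import Groth.Agent.Lib.lead.LocalDimProd
import Groth.Agent.Lib.lead.FibreDimBCLocal
import Groth.Agent.Lib.Helper18.FibreTd

set_option autoImplicit false
set_option linter.style.haveILetI false
universe u
open CategoryTheory CategoryTheory.Limits AlgebraicGeometry Topology TopologicalSpace Order

namespace Groth.Agent.Lib.lead.FibreDimComp

open Groth.Agent.Lib.lead Groth.Agent.Lib.Helper7 Groth.Agent.Lib.Helper24 Groth.Agent.Lib.Helper18

section Order

variable {P Q : Type*} [Preorder P] [Preorder Q]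

/-- local version of `FlatEquidim.coheight_le_of_generalizing` -/
theorem coheight_le_of_generalizing_above (φ : P → Q) (hmono : Monotone φ) (p₀ : P)
    (hgen : ∀ p : P, p₀ ≤ p → ∀ q : Q, φ p ≤ q → ∃ p' : P, p ≤ p' ∧ φ p' = q) (p : P)
    (hp₀ : p₀ ≤ p) : Order.coheight (φ p) ≤ Order.coheight p := by
  have key : ∀ n : ℕ, ∀ p : P, p₀ ≤ p → (n : ℕ∞) ≤ Order.coheight (φ p) →
      (n : ℕ∞) ≤ Order.coheight p := by
    intro n
    induction n with
    | zero => intro p _ _; simp
    | succ n ih =>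
      intro p hp0 hp
      have hnot : ¬ Order.coheight (φ p) ≤ (n : ℕ∞) := by
        intro hle
        have : ((n + 1 : ℕ) : ℕ∞) ≤ n := hp.trans hle
        have : n + 1 ≤ n := by exact_mod_cast this
        omega
      rw [Order.coheight_le_coe_iff] at hnot
      push Not at hnot
      obtain ⟨q, hq, hqn⟩ := hnot
      obtain ⟨p', hpp', hp'q⟩ := hgen p hp0 q hq.le
      have hlt : p < p' := by
        refine lt_of_le_not_ge hpp' (fun h => ?_)
        have := hmono h
        rw [hp'q] at this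
        exact hq.not_ge this
      have h1 := ih p' (hp0.trans hpp') (by rw [hp'q]; exact hqn)
      have h2 := Order.coheight_add_one_le hlt
      calc ((n + 1 : ℕ) : ℕ∞) = (n : ℕ∞) + 1 := by push_cast; rfl
        _ ≤ Order.coheight p' + 1 := by gcongr
        _ ≤ Order.coheight p := h2
  induction hc : Order.coheight (φ p) with
  | top =>
    rw [ENat.eq_top_iff_forall_ge] at hc
    rw [top_le_iff, ENat.eq_top_iff_forall_ge]
    intro n
    exact key n p hp₀ (hc n)
  | coe m => exact key m p hp₀ hc.ge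

end Order

variable {X Y : Scheme.{u}}

/-- local version of `FibreOrder.ge_of_generic` -/
theorem ge_of_generic' (f : X ⟶ Y) (x : X)
    (hb : ∀ z : X, x ≤ z → f z = f x → FibreOrder.G f z = 0 → coheight z = coheight (f z)) :
    coheight (f x) + FibreOrder.G f x ≤ coheight x := by
  apply FibreOrder.enat_add_le_of_forall_nat
  intro n hn
  have hG : coheight (f.asFiber x) = FibreOrder.G f x := by
    rw [FibreOrder.coheight_fiber, Scheme.Hom.fiberι_asFiber]
  rw [← hG] at hn
  obtain ⟨p, hhead, hlen⟩ := exists_series_of_le_coheight (f.asFiber x) hn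
  obtain ⟨z, hwz, hzmax⟩ := FibreOrder.exists_isMax_ge p.last
  have hz0 : coheight z = 0 := coheight_eq_zero.2 hzmax
  set z' := f.fiberι (f x) z with hz'
  have hGz : FibreOrder.G f z' = 0 := by rw [← FibreOrder.coheight_fiber, hz0]
  have hfz : f z' = f x := (f.fiberHomeo (f x) z).2
  have hxz : x ≤ z' := by
    have h1 : f.asFiber x ≤ z := by
      rw [← hhead]
      exact (LTSeries.head_le_last p).trans hwz
    rw [StalkDimIneq.fibre_le_iff, Scheme.Hom.fiberι_asFiber] at h1
    exact (Scheme.le_iff_specializes).2 h1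
  have h1 := hb z' hxz hfz hGz
  rw [hfz] at h1
  let q : LTSeries X := p.map (f.fiberι (f x)) (FibreOrder.fiberι_strictMono f (f x))
  have hqhead : q.head = x := by
    show f.fiberι (f x) p.head = x
    rw [hhead, Scheme.Hom.fiberι_asFiber]
  have hqlast : q.last = f.fiberι (f x) p.last := rfl
  have hqlen : q.length = n := hlen
  have h2 := FibreOrder.coheight_last_add_length_le q
  rw [hqhead, hqlast, hqlen] at h2
  have h3 : f.fiberι (f x) p.last ≤ z' := by
    rw [StalkDimIneq.fibre_le_iff] at hwz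
    exact hwz
  have h4 : coheight z' ≤ coheight (f.fiberι (f x) p.last) := coheight_anti h3
  rw [← h1]
  exact le_trans (add_le_add_left h4 _) h2

/-- pointwise flat dimension formula from lifting of generizations above `x` -/
theorem coheight_eq_add_G_of_genLift [IsLocallyNoetherian Y] (f : X ⟶ Y) [LocallyOfFiniteType f]
    (x : X) (hgen : ∀ z : X, x ≤ z → ∀ b : Y, f z ≤ b → ∃ z' : X, z ≤ z' ∧ f z' = b) :
    coheight x = coheight (f x) + FibreOrder.G f x := by
  have hle : ∀ z : X, coheight z ≤ coheight (f z) + FibreOrder.G f z := by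
    intro z
    have h2 := StalkDimIneq.main f z
    rw [ringKrullDim_stalk_eq_coheight, ringKrullDim_stalk_eq_coheight,
      FibreOrder.ringKrullDim_fiber_stalk f z] at h2
    exact_mod_cast h2
  have hmono : Monotone (fun z : X => f z) := by
    intro a b hab
    rw [Scheme.le_iff_specializes] at hab ⊢
    exact hab.map f.continuous
  apply le_antisymm (hle x)
  apply ge_of_generic' f x
  intro z hxz _ hG
  apply le_antisymm _ (coheight_le_of_generalizing_above (fun z : X => f z) hmono x hgen z hxz)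
  have := hle z
  rwa [hG, add_zero] at this

/-- flatness of the stalk map at `x` lifts generizations above `x` -/
theorem genLift_of_flat_stalkMap (f : X ⟶ Y) (x : X) (hflat : (f.stalkMap x).hom.Flat) :
    ∀ z : X, x ≤ z → ∀ b : Y, f z ≤ b → ∃ z' : X, z ≤ z' ∧ f z' = b := by
  intro z hxz b hb
  rw [Scheme.le_iff_specializes] at hxz hb
  have hgm := RingHom.Flat.generalizingMap_comap hflat
  obtain ⟨p, rfl⟩ : z ∈ Set.range (X.fromSpecStalk x) := by
    rw [Scheme.range_fromSpecStalk]; exact hxz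
  have hbx : b ⤳ f x := hb.trans (hxz.map f.continuous)
  obtain ⟨q, rfl⟩ : b ∈ Set.range (Y.fromSpecStalk (f x)) := by
    rw [Scheme.range_fromSpecStalk]; exact hbx
  have hnat : ∀ p : Spec (X.presheaf.stalk x), f (X.fromSpecStalk x p) =
      Y.fromSpecStalk (f x) (Spec.map (f.stalkMap x) p) := by
    intro p
    rw [← Scheme.Hom.comp_apply, ← Scheme.Hom.comp_apply, Scheme.SpecMap_stalkMap_fromSpecStalk]
  rw [hnat] at hb
  have hq : q ⤳ Spec.map (f.stalkMap x) p :=
    (Y.fromSpecStalk (f x)).isEmbedding.isInducing.specializes_iff.1 hb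
  obtain ⟨p', hp', hp'q⟩ : ∃ p' : Spec (X.presheaf.stalk x), p' ⤳ p ∧
      Spec.map (f.stalkMap x) p' = q := hgm hq
  refine ⟨X.fromSpecStalk x p',
    (Scheme.le_iff_specializes).2 (hp'.map (X.fromSpecStalk x).continuous), ?_⟩
  rw [hnat p', hp'q]

section overField

variable (k : Type u) [Field k] {X Y : Scheme.{u}} [X.Over (Spec (CommRingCat.of k))]
  [Y.Over (Spec (CommRingCat.of k))]
  [LocallyOfFiniteType (X ↘ Spec (CommRingCat.of k))]
  [LocallyOfFiniteType (Y ↘ Spec (CommRingCat.of k))]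
  (f : X ⟶ Y) (hf : f ≫ (Y ↘ Spec (CommRingCat.of k)) = X ↘ Spec (CommRingCat.of k))

include hf in
theorem localDim_add_fibreDimAt [LocallyOfFiniteType f] (w : X) :
    FlatMor.localDim X w ≤ FlatMor.localDim Y (f w) + FlatMor.fibreDimAt f w ∧
      (coheight w = coheight (f w) + FibreOrder.G f w →
        FlatMor.localDim X w = FlatMor.localDim Y (f w) + FlatMor.fibreDimAt f w) := by
  obtain ⟨nw, hnw, -⟩ := VarDim.exists_nat_dim_closure_eq k X w
  obtain ⟨ny, hny, -⟩ := VarDim.exists_nat_dim_closure_eq k Y (f w)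
  have hadd := VarTdAdd.td_add k f hf w
  unfold GenFinite.td at hadd
  rw [hnw, hny] at hadd
  have hsum : ny + FibreDim.tr f w = nw := by exact_mod_cast hadd
  obtain ⟨b, hb⟩ := FibreDimFormula.exists_nat_G f w
  haveI : IsLocallyNoetherian Y :=
    LocallyOfFiniteType.isLocallyNoetherian (Y ↘ Spec (CommRingCat.of k))
  have hle : coheight w ≤ coheight (f w) + FibreOrder.G f w := by
    have h2 := StalkDimIneq.main f w
    rw [ringKrullDim_stalk_eq_coheight, ringKrullDim_stalk_eq_coheight,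
      FibreOrder.ringKrullDim_fiber_stalk f w] at h2
    exact_mod_cast h2
  rw [FibreDim.localDim_eq_td_add_coheight k X w nw hnw,
    FibreDim.localDim_eq_td_add_coheight k Y (f w) ny hny,
    FibreDimFormula.fibreDimAt_eq f w b hb, ← hsum]
  have hcalc : ∀ c : ℕ∞, (((ny + FibreDim.tr f w : ℕ) : ℕ∞) + (c + (b : ℕ∞)) : ℕ∞) =
      ((ny : ℕ∞) + c) + ((FibreDim.tr f w + b : ℕ) : ℕ∞) := by
    intro c; push_cast; ring
  have hcast : (((((ny : ℕ∞) + coheight (f w)) + ((FibreDim.tr f w + b : ℕ) : ℕ∞) : ℕ∞)) :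
      WithBot ℕ∞) = (((ny : ℕ∞) + coheight (f w) : ℕ∞) : WithBot ℕ∞) +
        ((FibreDim.tr f w + b : ℕ) : WithBot ℕ∞) := by
    push_cast; rfl
  constructor
  · rw [← hcast, ← hcalc, ← hb]
    exact_mod_cast add_le_add_right hle _
  · intro hc
    rw [← hcast, ← hcalc, ← hb, hc]

end overField

section comp

variable {X Y S : Scheme.{u}} (f : X ⟶ Y) (g : Y ⟶ S) (s : S)

/-- the induced map of fibres -/
noncomputable def fibMap : (f ≫ g).fiber s ⟶ g.fiber s :=
  pullback.lift ((f ≫ g).fiberι s ≫ f) ((f ≫ g).fiberToSpecResidueField s)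
    (by rw [Category.assoc]; exact (f ≫ g).fiber_fac s)

theorem fibMap_fiberι : fibMap f g s ≫ g.fiberι s = (f ≫ g).fiberι s ≫ f :=
  pullback.lift_fst _ _ _

theorem fibMap_snd : fibMap f g s ≫ g.fiberToSpecResidueField s =
    (f ≫ g).fiberToSpecResidueField s :=
  pullback.lift_snd _ _ _

theorem isPullback_fibMap : IsPullback ((f ≫ g).fiberι s) (fibMap f g s) f (g.fiberι s) := by
  have big : IsPullback (fibMap f g s ≫ g.fiberToSpecResidueField s) ((f ≫ g).fiberι s)
      (S.fromSpecResidueField s) (f ≫ g) := by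
    rw [fibMap_snd]
    exact (IsPullback.of_hasPullback (f ≫ g) (S.fromSpecResidueField s)).flip
  have right : IsPullback (g.fiberToSpecResidueField s) (g.fiberι s)
      (S.fromSpecResidueField s) g :=
    (IsPullback.of_hasPullback g (S.fromSpecResidueField s)).flip
  exact (IsPullback.of_right big (fibMap_fiberι f g s) right).flip

theorem genLift_fibMap (w : (f ≫ g).fiber s)
    (hgen : ∀ z : X, (f ≫ g).fiberι s w ≤ z → ∀ b : Y, f z ≤ b → ∃ z' : X, z ≤ z' ∧ f z' = b) :
    ∀ z : (f ≫ g).fiber s, w ≤ z → ∀ b : g.fiber s, fibMap f g s z ≤ b →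
      ∃ z' : (f ≫ g).fiber s, z ≤ z' ∧ fibMap f g s z' = b := by
  intro z hz b hb
  have hcomm : ∀ t : (f ≫ g).fiber s, g.fiberι s (fibMap f g s t) = f ((f ≫ g).fiberι s t) := by
    intro t
    rw [← Scheme.Hom.comp_apply, fibMap_fiberι, Scheme.Hom.comp_apply]
  have h1 : (f ≫ g).fiberι s w ≤ (f ≫ g).fiberι s z := by
    rw [StalkDimIneq.fibre_le_iff] at hz
    exact (Scheme.le_iff_specializes).2 hz
  have h2 : f ((f ≫ g).fiberι s z) ≤ g.fiberι s b := by
    rw [StalkDimIneq.fibre_le_iff, hcomm] at hb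
    exact (Scheme.le_iff_specializes).2 hb
  obtain ⟨z', hz', hfz'⟩ := hgen _ h1 _ h2
  obtain ⟨t, ht1, ht2⟩ := Scheme.exists_preimage_of_isPullback (isPullback_fibMap f g s) z' b hfz'
  refine ⟨t, ?_, ht2⟩
  rw [StalkDimIneq.fibre_le_iff, ht1]
  exact (Scheme.le_iff_specializes).1 hz'

end comp

set_option backward.isDefEq.respectTransparency.types false in
theorem S9354 {X Y S : Scheme.{u}} (f : X ⟶ Y) (g : Y ⟶ S) [LocallyOfFiniteType f]
    [LocallyOfFiniteType g] (x : X) :
    FlatMor.fibreDimAt (f ≫ g) x ≤ FlatMor.fibreDimAt f x + FlatMor.fibreDimAt g (f.base x) ∧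
      ((f.stalkMap x).hom.Flat →
        FlatMor.fibreDimAt (f ≫ g) x = FlatMor.fibreDimAt f x + FlatMor.fibreDimAt g (f.base x)) := by
  have sq := isPullback_fibMap f g ((f ≫ g) x)
  haveI : LocallyOfFiniteType (fibMap f g ((f ≫ g) x)) :=
    MorphismProperty.of_isPullback sq inferInstance
  have hx : (f ≫ g).fiberι ((f ≫ g) x) ((f ≫ g).asFiber x) = x := (f ≫ g).fiberι_asFiber x
  have e1 : FlatMor.fibreDimAt (fibMap f g ((f ≫ g) x)) ((f ≫ g).asFiber x) =
      FlatMor.fibreDimAt f x := by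
    rw [FibreDimBCLocal.fibreDimAt_baseChange f (g.fiberι ((f ≫ g) x))
      ((f ≫ g).fiberι ((f ≫ g) x)) (fibMap f g ((f ≫ g) x)) sq ((f ≫ g).asFiber x), hx]
  have hι : g.fiberι ((f ≫ g) x) (fibMap f g ((f ≫ g) x) ((f ≫ g).asFiber x)) = f x := by
    rw [← Scheme.Hom.comp_apply, fibMap_fiberι, Scheme.Hom.comp_apply, hx]
  have e2 : FlatMor.localDim (g.fiber ((f ≫ g) x))
      (fibMap f g ((f ≫ g) x) ((f ≫ g).asFiber x)) = FlatMor.fibreDimAt g (f x) := by
    rw [FibreDimBCLocal.localDim_fiber_eq_fibreDimAt g ((f ≫ g) x) _, hι]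
  have e3 : FlatMor.fibreDimAt (f ≫ g) x =
      FlatMor.localDim ((f ≫ g).fiber ((f ≫ g) x)) ((f ≫ g).asFiber x) := rfl
  letI o1 := FibreTd.fibreOver (f ≫ g) ((f ≫ g) x)
  letI o2 := FibreTd.fibreOver g ((f ≫ g) x)
  haveI : LocallyOfFiniteType (((f ≫ g).fiber ((f ≫ g) x)) ↘
      Spec (CommRingCat.of (S.residueField ((f ≫ g) x)))) :=
    inferInstanceAs (LocallyOfFiniteType ((f ≫ g).fiberToSpecResidueField ((f ≫ g) x)))
  haveI : LocallyOfFiniteType ((g.fiber ((f ≫ g) x)) ↘
      Spec (CommRingCat.of (S.residueField ((f ≫ g) x)))) :=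
    inferInstanceAs (LocallyOfFiniteType (g.fiberToSpecResidueField ((f ≫ g) x)))
  have hf : fibMap f g ((f ≫ g) x) ≫ ((g.fiber ((f ≫ g) x)) ↘
      Spec (CommRingCat.of (S.residueField ((f ≫ g) x)))) =
      ((f ≫ g).fiber ((f ≫ g) x)) ↘ Spec (CommRingCat.of (S.residueField ((f ≫ g) x))) :=
    fibMap_snd f g ((f ≫ g) x)
  obtain ⟨hineq, heq⟩ := localDim_add_fibreDimAt (S.residueField ((f ≫ g) x))
    (fibMap f g ((f ≫ g) x)) hf ((f ≫ g).asFiber x)
  rw [e1, e2] at hineq heq
  refine ⟨?_, fun hflat => ?_⟩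
  · rw [e3, add_comm]; exact hineq
  · rw [e3, add_comm]
    apply heq
    haveI : IsLocallyNoetherian (g.fiber ((f ≫ g) x)) :=
      LocallyOfFiniteType.isLocallyNoetherian (g.fiberToSpecResidueField ((f ≫ g) x))
    apply coheight_eq_add_G_of_genLift
    apply genLift_fibMap
    rw [hx]
    exact genLift_of_flat_stalkMap f x hflat

end Groth.Agent.Lib.lead.FibreDimComp
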