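import Mathlib
import Groth.Agent.Lib.lead.FibreDimComp
import Groth.Agent.Lib.lead.FibreCompDimOne
import Groth.Prelude.Def_Cyc

set_option autoImplicit false
set_option linter.style.haveILetI false
universe u
open CategoryTheory CategoryTheory.Limits AlgebraicGeometry Topology TopologicalSpace Order

namespace Groth.Agent.Lib.lead.RelDimComp

open Groth.Agent.Lib.lead

theorem S9357 {X Y Z : Scheme.{u}} (f : X ⟶ Y) (g : Y ⟶ Z) [LocallyOfFiniteType f]
    [LocallyOfFiniteType g] (d e : ℕ) :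
    ((∀ x : ↑X, FlatMor.fibreDimAt f x ≤ d) → (∀ y : ↑Y, FlatMor.fibreDimAt g y ≤ e) →
        ∀ x : ↑X, FlatMor.fibreDimAt (f ≫ g) x ≤ (d + e : ℕ)) ∧
      (Cyc.HasRelDim f d → Cyc.HasRelDim g e → Flat f → Cyc.HasRelDim (f ≫ g) (d + e)) := by
  constructor
  · intro h1 h2 x
    refine (FibreDimComp.S9354 f g x).1.trans ?_
    push_cast
    exact add_le_add (h1 x) (h2 _)
  · intro h1 h2 hflat y T hT
    obtain ⟨ζ, hζ⟩ := QuasiSober.sober hT.1 (isClosed_of_mem_irreducibleComponents T hT)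
    have hy : (f ≫ g) ((f ≫ g).fiberι y ζ) = y := by
      have : (f ≫ g).fiberι y ζ ∈ Set.range ((f ≫ g).fiberι y) := ⟨ζ, rfl⟩
      rw [(f ≫ g).range_fiberι] at this
      exact this
    rw [FibreCompDimOne.dim_component_aux (f ≫ g) _ y hy T hT ζ hζ rfl,
      (FibreDimComp.S9354 f g _).2 (Flat.stalkMap f _),
      FibreDimBCLocal.fibreDimAt_eq_of_hasRelDim f d h1,
      FibreDimBCLocal.fibreDimAt_eq_of_hasRelDim g e h2]
    push_cast
    rfl

end Groth.Agent.Lib.lead.RelDimComp
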