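import Mathlib
import Groth.Prelude.Def_Cyc
import Groth.Agent.Lib.Helper7.AffinePoints

set_option autoImplicit false
universe u
open Order

namespace Groth.Agent.Lib.lead.DimFunChart

/-- A function dropping by exactly one along covers drops by exactly `height b` between `⊥` and `b`,
when the height is finite. -/
theorem dimfun_bot_eq {P : Type*} [PartialOrder P] [OrderBot P] (b : P) (g : ℕ)
    (hg : height b = g) (δ' : P → ℤ)
    (cov : ∀ u v : P, u ⋖ v → v ≤ b → δ' u = δ' v + 1) :
    δ' ⊥ = δ' b + g := by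
  obtain ⟨l, hlast, hlen⟩ := exists_series_of_height_eq_coe b hg
  have hlh : (l.length : ℕ∞) = height l.last := by rw [hlast, hg, hlen]
  have hidx := fun i => height_eq_index_of_length_eq_height_last hlh i
  -- consecutive elements form covers
  have hcov : ∀ (i : ℕ) (hi : i < l.length), l ⟨i, by omega⟩ ⋖ l ⟨i + 1, by omega⟩ := by
    intro i hi
    refine ⟨l.strictMono (by simp [Fin.lt_def]), ?_⟩
    intro z hz1 hz2
    have h1 := height_add_one_le hz1
    have h2 := height_add_one_le hz2
    rw [hidx] at h1 h2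
    have h3 : ((i : ℕ∞) + 1) + 1 ≤ ((i + 1 : ℕ) : ℕ∞) := by
      refine le_trans (add_le_add_left h1 1) ?_
      simpa using h2
    have : (i + 1 + 1 : ℕ) ≤ i + 1 := by exact_mod_cast h3
    omega
  have hle : ∀ (i : ℕ) (hi : i < l.length + 1), l ⟨i, hi⟩ ≤ b := by
    intro i hi
    rw [← hlast]
    exact l.monotone (Fin.le_last _)
  -- telescoping
  have htel : ∀ (i : ℕ) (hi : i < l.length + 1), δ' (l ⟨0, by omega⟩) = δ' (l ⟨i, hi⟩) + i := by
    intro i
    induction i with
    | zero => intro hi; simp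
    | succ k ih =>
      intro hi
      have hk : k < l.length := by omega
      have h1 := cov _ _ (hcov k hk) (hle (k + 1) hi)
      rw [ih (by omega), h1]
      push_cast; ring
  have hhead : l ⟨0, by omega⟩ = ⊥ := by
    have h0 := hidx ⟨0, by omega⟩
    have : height (l ⟨0, by omega⟩) = 0 := by simpa using h0
    rw [height_eq_zero] at this
    exact isMin_iff_eq_bot.1 this
  have h1 := htel l.length (by omega)
  rw [hhead] at h1
  have h2 : l ⟨l.length, by omega⟩ = b := hlast
  rw [h2] at h1
  rw [h1, hlen]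


open AlgebraicGeometry Groth.Agent.Lib.Helper7

/-- On an affine chart, a dimension function drops between two points `s ⤳ t` by the height of
the prime of `t` in the quotient by the prime of `s`. -/
theorem delta_eq_add_height {S : Scheme.{u}} (δ : S → ℤ) (hδ : Cyc.IsDimFun S δ) {V : S.Opens}
    (hV : IsAffineOpen V) (s t : S) (hs : s ∈ V) (ht : t ∈ V) (hst : s ⤳ t) (g : ℕ)
    (hg : ((hV.primeIdealOf ⟨t, ht⟩).asIdeal.map
      (Ideal.Quotient.mk (hV.primeIdealOf ⟨s, hs⟩).asIdeal)).height = g) :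
    δ s = δ t + g := by
  classical
  set ps := (hV.primeIdealOf ⟨s, hs⟩).asIdeal with hps
  set pt := (hV.primeIdealOf ⟨t, ht⟩).asIdeal with hpt
  haveI : ps.IsPrime := (hV.primeIdealOf ⟨s, hs⟩).isPrime
  haveI : pt.IsPrime := (hV.primeIdealOf ⟨t, ht⟩).isPrime
  have hle : ps ≤ pt := (AffPts.primeIdealOf_le_iff hV ⟨s, hs⟩ ⟨t, ht⟩).2 hst
  let mk := Ideal.Quotient.mk ps
  have hmk : Function.Surjective mk := Ideal.Quotient.mk_surjective
  have hker : RingHom.ker mk = ps := Ideal.mk_ker
  -- the point of a prime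
  let point : PrimeSpectrum Γ(S, V) → V := fun r =>
    Classical.choose (AffPts.primeIdealOf_surjective hV r)
  have hpoint : ∀ r, hV.primeIdealOf (point r) = r := fun r =>
    Classical.choose_spec (AffPts.primeIdealOf_surjective hV r)
  have hpoint' : ∀ x : V, point (hV.primeIdealOf x) = x := fun x =>
    AffPts.primeIdealOf_injective hV (hpoint _)
  let δ' : PrimeSpectrum (Γ(S, V) ⧸ ps) → ℤ := fun r => δ (point (PrimeSpectrum.comap mk r)).1
  have hcomap_le : ∀ {a b : PrimeSpectrum (Γ(S, V) ⧸ ps)},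
      PrimeSpectrum.comap mk a ≤ PrimeSpectrum.comap mk b ↔ a ≤ b :=
    fun {a b} => Ideal.comap_le_comap_iff_of_surjective mk hmk _ _
  have hptbar : (pt.map mk).IsPrime :=
    Ideal.map_isPrime_of_surjective hmk (by rw [hker]; exact hle)
  let b : PrimeSpectrum (Γ(S, V) ⧸ ps) := ⟨pt.map mk, hptbar⟩
  have hb : height b = g := by
    rw [← PrimeSpectrum.height_eq_orderHeight]; exact hg
  have cov : ∀ u v : PrimeSpectrum (Γ(S, V) ⧸ ps), u ⋖ v → v ≤ b → δ' u = δ' v + 1 := by
    intro u v huv _
    set xu := point (PrimeSpectrum.comap mk u) with hxu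
    set xv := point (PrimeSpectrum.comap mk v) with hxv
    have hsp : (xu : S) ⤳ (xv : S) := by
      rw [← AffPts.primeIdealOf_le_iff hV, hpoint, hpoint, hcomap_le]
      exact huv.le
    have hne : (xu : S) ≠ (xv : S) := by
      intro h
      have h1 : xu = xv := Subtype.ext h
      have h2 : PrimeSpectrum.comap mk u = PrimeSpectrum.comap mk v := by
        rw [← hpoint (PrimeSpectrum.comap mk u), ← hpoint (PrimeSpectrum.comap mk v), ← hxu,
          ← hxv, h1]
      have h3 : u ≤ v ∧ v ≤ u := ⟨hcomap_le.1 (le_of_eq h2), hcomap_le.1 (le_of_eq h2.symm)⟩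
      exact huv.lt.ne (le_antisymm h3.1 h3.2)
    refine ((hδ xu xv hsp hne).2 ?_)
    intro z hz1 hz2
    have hzV : z ∈ V := hz2.mem_open V.isOpen xv.2
    set z' := hV.primeIdealOf ⟨z, hzV⟩ with hz'
    have h1 : PrimeSpectrum.comap mk u ≤ z' := by
      rw [← hpoint (PrimeSpectrum.comap mk u), AffPts.primeIdealOf_le_iff hV]
      exact hz1
    have h2 : z' ≤ PrimeSpectrum.comap mk v := by
      rw [← hpoint (PrimeSpectrum.comap mk v), AffPts.primeIdealOf_le_iff hV]
      exact hz2
    have hkz : RingHom.ker mk ≤ z'.asIdeal :=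
      le_trans (Ideal.ker_le_comap mk) (show (PrimeSpectrum.comap mk u).asIdeal ≤ z'.asIdeal from h1)
    have hwprime : (z'.asIdeal.map mk).IsPrime := Ideal.map_isPrime_of_surjective hmk hkz
    let w : PrimeSpectrum (Γ(S, V) ⧸ ps) := ⟨z'.asIdeal.map mk, hwprime⟩
    have hw : PrimeSpectrum.comap mk w = z' := by
      apply PrimeSpectrum.ext
      show (z'.asIdeal.map mk).comap mk = z'.asIdeal
      rw [Ideal.comap_map_of_surjective mk hmk, ← RingHom.ker_eq_comap_bot]
      exact sup_eq_left.2 hkz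
    have huw : u ≤ w := hcomap_le.1 (by rw [hw]; exact h1)
    have hwv : w ≤ v := hcomap_le.1 (by rw [hw]; exact h2)
    rcases huv.eq_or_eq huw hwv with h | h
    · left
      have : (⟨z, hzV⟩ : V) = xu := by
        rw [← hpoint' ⟨z, hzV⟩, ← hz', ← hw, h]
      exact congrArg Subtype.val this
    · right
      have : (⟨z, hzV⟩ : V) = xv := by
        rw [← hpoint' ⟨z, hzV⟩, ← hz', ← hw, h]
      exact congrArg Subtype.val this
  have key := dimfun_bot_eq b g hb δ' cov
  have hbot : δ' ⊥ = δ s := by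
    show δ (point (PrimeSpectrum.comap mk ⊥)).1 = δ s
    have : PrimeSpectrum.comap mk ⊥ = hV.primeIdealOf ⟨s, hs⟩ := by
      apply PrimeSpectrum.ext
      show (⊥ : Ideal (Γ(S, V) ⧸ ps)).comap mk = ps
      rw [← RingHom.ker_eq_comap_bot, hker]
    rw [this, hpoint']
  have hbb : δ' b = δ t := by
    show δ (point (PrimeSpectrum.comap mk b)).1 = δ t
    have : PrimeSpectrum.comap mk b = hV.primeIdealOf ⟨t, ht⟩ := by
      apply PrimeSpectrum.ext
      show (pt.map mk).comap mk = pt
      rw [Ideal.comap_map_of_surjective mk hmk, ← RingHom.ker_eq_comap_bot, hker]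
      exact sup_eq_left.2 hle
    rw [this, hpoint']
  rw [hbot, hbb] at key
  exact key

end Groth.Agent.Lib.lead.DimFunChart
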