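import Mathlib
import Groth.Prelude.Def_Cyc
import Groth.Agent.Lib.lead.DimFunChart
import Groth.Agent.Lib.lead.ResTrdegBridge
import Groth.Agent.Lib.lead.NonDomainDim
import Groth.Agent.Lib.lead.DimFormulaEq
import Groth.Agent.Lib.Helper24.Cat.UCScheme

set_option autoImplicit false
universe u
open scoped Cardinal
open AlgebraicGeometry CategoryTheory Groth.Agent.Lib.Helper7 Groth.Agent.Lib.Helper24

namespace Groth.Agent.Lib.lead.DimFunPullback

theorem main {X S : Scheme.{u}} (f : X ⟶ S)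
    [LocallyOfFiniteType f] (δ : ↥S → ℤ) (hS : Cyc.IsSetup S δ) (δX : ↥X → ℤ)
    (hδ : Cyc.DeltaCompat f δX δ) : Cyc.IsDimFun X δX := by
  obtain ⟨hN, hUC, hdim⟩ := hS
  haveI := hN
  intro x y hxy hne
  obtain ⟨_, ⟨V, hV : IsAffineOpen V, rfl⟩, hfyV, -⟩ :=
    (S.isBasis_affineOpens).exists_subset_of_mem_open (Set.mem_univ (f y)) isOpen_univ
  obtain ⟨_, ⟨U, hU : IsAffineOpen U, rfl⟩, hyU, hUV⟩ :=
    (X.isBasis_affineOpens).exists_subset_of_mem_open (show y ∈ (f ⁻¹ᵁ V : Set X) from hfyV)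
      (f ⁻¹ᵁ V).isOpen
  have e : U ≤ f ⁻¹ᵁ V := hUV
  have hxU : x ∈ U := hxy.mem_open U.isOpen hyU
  have hfxV : f x ∈ V := e hxU
  have hfyV' : f y ∈ V := e hyU
  haveI : IsNoetherianRing Γ(S, V) := IsLocallyNoetherian.component_noetherian ⟨V, hV⟩
  have hA : CAlg.IsUniversallyCatenary Γ(S, V) := UCScheme.uc_sections S hUC ⟨V, hV⟩
  letI : Algebra Γ(S, V) Γ(X, U) := (f.appLE V U e).hom.toAlgebra
  have halg : algebraMap Γ(S, V) Γ(X, U) = (f.appLE V U e).hom := rfl
  haveI : Algebra.FiniteType Γ(S, V) Γ(X, U) := f.finiteType_appLE hV hU e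
  set ps : Ideal Γ(S, V) := (hV.primeIdealOf ⟨f x, hfxV⟩).asIdeal with hps
  set pt : Ideal Γ(S, V) := (hV.primeIdealOf ⟨f y, hfyV'⟩).asIdeal with hpt
  set Px : Ideal Γ(X, U) := (hU.primeIdealOf ⟨x, hxU⟩).asIdeal with hPx
  set Py : Ideal Γ(X, U) := (hU.primeIdealOf ⟨y, hyU⟩).asIdeal with hPy
  haveI : ps.IsPrime := (hV.primeIdealOf ⟨f x, hfxV⟩).isPrime
  haveI : pt.IsPrime := (hV.primeIdealOf ⟨f y, hfyV'⟩).isPrime
  haveI : Px.IsPrime := (hU.primeIdealOf ⟨x, hxU⟩).isPrime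
  haveI : Py.IsPrime := (hU.primeIdealOf ⟨y, hyU⟩).isPrime
  haveI : Px.LiesOver ps := ResTrdegBridge.liesOver_primeIdealOf f x hV hU e hxU hfxV halg
  haveI : Py.LiesOver pt := ResTrdegBridge.liesOver_primeIdealOf f y hV hU e hyU hfyV' halg
  have hfsp : f x ⤳ f y := hxy.map f.continuous
  have hple : ps ≤ pt := (AffPts.primeIdealOf_le_iff hV ⟨f x, hfxV⟩ ⟨f y, hfyV'⟩).2 hfsp
  have hPle : Px ≤ Py := (AffPts.primeIdealOf_le_iff hU ⟨x, hxU⟩ ⟨y, hyU⟩).2 hxy
  have hPne : Px ≠ Py := by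
    intro heq
    have h1 : hU.primeIdealOf ⟨x, hxU⟩ = hU.primeIdealOf ⟨y, hyU⟩ := PrimeSpectrum.ext heq
    exact hne (congrArg Subtype.val (AffPts.primeIdealOf_injective hU h1))
  -- the quotient domains
  haveI : Algebra.FiniteType Γ(S, V) (Γ(S, V) ⧸ ps) :=
    Algebra.FiniteType.of_surjective (Ideal.Quotient.mkₐ Γ(S, V) ps) Ideal.Quotient.mk_surjective
  have hR : CAlg.IsUniversallyCatenary (Γ(S, V) ⧸ ps) :=
    DimFormulaEq.univCat_of_finiteType Γ(S, V) hA (Γ(S, V) ⧸ ps)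
  haveI : Algebra.FiniteType (Γ(S, V) ⧸ ps) (Γ(X, U) ⧸ Px) := NonDomainDim.finiteType_quotient ps Px
  have hpbar : (pt.map (Ideal.Quotient.mk ps)).IsPrime :=
    Ideal.map_isPrime_of_surjective Ideal.Quotient.mk_surjective (by rwa [Ideal.mk_ker])
  have hqbar : (Py.map (Ideal.Quotient.mk Px)).IsPrime :=
    Ideal.map_isPrime_of_surjective Ideal.Quotient.mk_surjective (by rwa [Ideal.mk_ker])
  haveI := NonDomainDim.liesOver_map_mk ps pt Px Py hple hPle
  have formula := DimFormulaEq.dim_eq (Γ(S, V) ⧸ ps) hR (Γ(X, U) ⧸ Px)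
    (pt.map (Ideal.Quotient.mk ps)) (Py.map (Ideal.Quotient.mk Px))
  rw [NonDomainDim.trdeg_doubleQuot ps pt Px Py hple hPle] at formula
  obtain ⟨nx, hnx, hδx⟩ := hδ x
  obtain ⟨ny, hny, hδy⟩ := hδ y
  rw [ResTrdegBridge.trdeg_residueField_eq f x hV hU e hxU hfxV halg ps Px hps hPx] at hnx
  rw [ResTrdegBridge.trdeg_residueField_eq f y hV hU e hyU hfyV' halg pt Py hpt hPy] at hny
  rw [hnx, hny] at formula
  haveI : IsNoetherianRing Γ(X, U) := Algebra.FiniteType.isNoetherianRing Γ(S, V) Γ(X, U)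
  obtain ⟨h, hh⟩ := ENat.ne_top_iff_exists.mp
    (Ideal.height_ne_top (I := Py.map (Ideal.Quotient.mk Px)) (Ideal.IsPrime.ne_top hqbar))
  obtain ⟨g, hg⟩ := ENat.ne_top_iff_exists.mp
    (Ideal.height_ne_top (I := pt.map (Ideal.Quotient.mk ps)) (Ideal.IsPrime.ne_top hpbar))
  rw [← hh, ← hg] at formula
  have hnat : h + ny = g + nx := by
    have : ((h + ny : ℕ) : Cardinal.{u}) = ((g + nx : ℕ) : Cardinal.{u}) := by
      simpa using formula
    exact_mod_cast this
  have hδS : δ (f x) = δ (f y) + g :=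
    DimFunChart.delta_eq_add_height δ hdim hV (f x) (f y) hfxV hfyV' hfsp g hg.symm
  have hdiff : δX x = δX y + h := by
    rw [hδx, hδy, hδS]
    have : (h : ℤ) + ny = g + nx := by exact_mod_cast hnat
    linarith
  -- h ≥ 1
  have hqne : Py.map (Ideal.Quotient.mk Px) ≠ ⊥ := by
    intro hbot
    apply hPne
    apply le_antisymm hPle
    intro b hb
    have : Ideal.Quotient.mk Px b ∈ Py.map (Ideal.Quotient.mk Px) := Ideal.mem_map_of_mem _ hb
    rw [hbot, Ideal.mem_bot, Ideal.Quotient.eq_zero_iff_mem] at this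
    exact this
  have hpos : 1 ≤ h := by
    rcases Nat.eq_zero_or_pos h with h0 | h0
    · exfalso
      rw [h0] at hh
      have : (Py.map (Ideal.Quotient.mk Px)).height = 0 := by rw [← hh]; rfl
      rw [Ideal.height_eq_zero_iff_eq_bot] at this
      exact hqne this
    · exact h0
  refine ⟨by rw [hdiff]; have : (1 : ℤ) ≤ h := by exact_mod_cast hpos
             linarith, fun himm => ?_⟩
  -- immediate specialization: h = 1
  have hle1 : (Py.map (Ideal.Quotient.mk Px)).height ≤ 1 := by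
    have := (Ideal.height_le_iff (p := Py.map (Ideal.Quotient.mk Px)) (n := 1)).2 ?_
    · exact_mod_cast this
    intro w hw hwlt
    suffices hwb : w = ⊥ by
      rw [hwb, Ideal.height_bot]; norm_num
    -- the point of `w`
    obtain ⟨z, hz⟩ := AffPts.primeIdealOf_surjective hU
      ⟨w.comap (Ideal.Quotient.mk Px), inferInstance⟩
    have hz' : (hU.primeIdealOf z).asIdeal = w.comap (Ideal.Quotient.mk Px) := by rw [hz]
    have h1 : Px ≤ (hU.primeIdealOf z).asIdeal := by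
      rw [hz']
      have : RingHom.ker (Ideal.Quotient.mk Px) ≤ w.comap (Ideal.Quotient.mk Px) :=
        Ideal.ker_le_comap _
      rwa [Ideal.mk_ker] at this
    have h2 : (hU.primeIdealOf z).asIdeal ≤ Py := by
      rw [hz']
      have := Ideal.comap_mono (f := Ideal.Quotient.mk Px) hwlt.le
      rw [Ideal.comap_map_of_surjective _ Ideal.Quotient.mk_surjective,
        ← RingHom.ker_eq_comap_bot, Ideal.mk_ker, sup_eq_left.2 hPle] at this
      exact this
    have hxz : x ⤳ z.1 := (AffPts.primeIdealOf_le_iff hU ⟨x, hxU⟩ z).1 h1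
    have hzy : z.1 ⤳ y := (AffPts.primeIdealOf_le_iff hU z ⟨y, hyU⟩).1 h2
    have hw_eq : w = (w.comap (Ideal.Quotient.mk Px)).map (Ideal.Quotient.mk Px) :=
      (Ideal.map_comap_of_surjective _ Ideal.Quotient.mk_surjective w).symm
    rcases himm z.1 hxz hzy with hzx | hzy'
    · have : z = ⟨x, hxU⟩ := Subtype.ext hzx
      rw [this] at hz'
      rw [hw_eq, ← hz']
      exact Ideal.map_quotient_self Px
    · exfalso
      have : z = ⟨y, hyU⟩ := Subtype.ext hzy'
      rw [this] at hz'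
      have : w = Py.map (Ideal.Quotient.mk Px) := by rw [hw_eq, ← hz']
      exact hwlt.ne this
  have hh1 : h = 1 := by
    rw [← hh] at hle1
    have : h ≤ 1 := by exact_mod_cast hle1
    omega
  rw [hdiff, hh1]
  norm_num

end Groth.Agent.Lib.lead.DimFunPullback

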