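import Mathlib
import Groth.Agent.Lib.Helper7.ClosedPointDim
import Groth.Agent.Lib.Helper3.AlgSpLocalDim

set_option autoImplicit false
universe u
open CategoryTheory CategoryTheory.Limits AlgebraicGeometry

namespace Groth.Agent.Lib.lead.AffLocalDim

open Groth.Agent.Lib.Helper7

section Order

variable {k : Type u} [Field k] (A : Type u) [CommRing A] [Algebra k A] [Algebra.FiniteType k A]

include k in
/-- Chains from `p` up to a maximal ideal realise the coheight: `ht p + coht p ≤ ht m`. -/
theorem height_add_le_of_le_maximal (m : PrimeSpectrum A) (hm : m.asIdeal.IsMaximal) :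
    ∀ (n : ℕ) (p : PrimeSpectrum A), p ≤ m → (n : ℕ∞) ≤ Order.coheight p →
      Order.height p + n ≤ Order.height m := by
  intro n
  induction n with
  | zero =>
    intro p hpm _
    simpa using Order.height_mono hpm
  | succ n ih =>
    intro p hpm hn
    have hne : p ≠ m := by
      rintro rfl
      have h0 : Order.coheight p = 0 := Order.coheight_eq_zero.2 (PrimeSpectrum.isMax_iff.2 hm)
      rw [h0] at hn
      simp at hn
    obtain ⟨q, hpq, hqm⟩ := AffChain.exists_covBy_le (k := k) A (lt_of_le_of_ne hpm hne)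
    have hstep := AffChain.coheight_covBy (k := k) A hpq
    have hq : (n : ℕ∞) ≤ Order.coheight q := by
      rw [← hstep] at hn
      have : ((n : ℕ∞) + 1) ≤ Order.coheight q + 1 := by exact_mod_cast hn
      exact (ENat.add_le_add_iff_right (by simp)).1 this
    have h1 := ih q hqm hq
    have h2 := Order.height_add_one_le hpq.lt
    calc Order.height p + ((n + 1 : ℕ) : ℕ∞) = (Order.height p + 1) + n := by
          push_cast; ring
      _ ≤ Order.height q + n := by gcongr
      _ ≤ Order.height m := h1

include k in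
theorem coheight_eq_nat (Q : PrimeSpectrum A) : ∃ n : ℕ, Order.coheight Q = n := by
  haveI := Q.isPrime
  obtain ⟨n, -, h2, -⟩ := Groth.Agent.S2680.result k (A ⧸ Q.asIdeal)
  rw [AffChain.ringKrullDim_quotient_eq_coheight] at h2
  exact ⟨n, by exact_mod_cast h2⟩

include k in
theorem coheight_add_height_mono_aux : ∀ (n : ℕ) (Q p : PrimeSpectrum A), Q ≤ p →
    Order.coheight Q ≤ n →
    Order.coheight Q + Order.height Q ≤ Order.coheight p + Order.height p := by
  intro n
  induction n with
  | zero =>
    intro Q p hQp h0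
    have hmax : IsMax Q := Order.coheight_eq_zero.1 (by simpa using h0)
    have : Q = p := le_antisymm hQp (hmax hQp)
    rw [this]
  | succ n ih =>
    intro Q p hQp hn
    rcases eq_or_lt_of_le hQp with h | h
    · rw [h]
    · obtain ⟨q, hQq, hqp⟩ := AffChain.exists_covBy_le (k := k) A h
      have hstep := AffChain.coheight_covBy (k := k) A hQq
      have hq : Order.coheight q ≤ n := by
        rw [← hstep] at hn
        have : Order.coheight q + 1 ≤ (n : ℕ∞) + 1 := by exact_mod_cast hn
        exact (ENat.add_le_add_iff_right (by simp)).1 this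
      have h1 := ih q p hqp hq
      have h2 := Order.height_add_one_le hQq.lt
      calc Order.coheight Q + Order.height Q = Order.coheight q + (Order.height Q + 1) := by
            rw [← hstep]; ring
        _ ≤ Order.coheight q + Order.height q := by gcongr
        _ ≤ _ := h1

include k in
/-- `coht + ht` is monotone on the spectrum of an algebra of finite type over a field. -/
theorem coheight_add_height_mono {Q p : PrimeSpectrum A} (h : Q ≤ p) :
    Order.coheight Q + Order.height Q ≤ Order.coheight p + Order.height p := by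
  obtain ⟨n, hn⟩ := coheight_eq_nat (k := k) A Q
  exact coheight_add_height_mono_aux (k := k) A n Q p h hn.le

end Order


section Main

variable {k : Type u} [Field k] (A : Type u) [CommRing A] [Algebra k A] [Algebra.FiniteType k A]

include k in
theorem exists_avoid (p : PrimeSpectrum A) :
    ∃ g : A, g ∉ p.asIdeal ∧ ∀ Q ∈ minimalPrimes A, g ∉ Q → Q ≤ p.asIdeal := by
  haveI : IsNoetherianRing A := Algebra.FiniteType.isNoetherianRing k A
  classical
  have hfin : (minimalPrimes A).Finite := minimalPrimes.finite_of_isNoetherianRing A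
  let T : Finset (Ideal A) := hfin.toFinset.filter (fun Q => ¬ Q ≤ p.asIdeal)
  have hnot : ¬ (T.inf id ≤ p.asIdeal) := by
    intro hle
    obtain ⟨Q, hQT, hQp⟩ := (Ideal.IsPrime.inf_le' p.isPrime).1 hle
    exact (Finset.mem_filter.1 hQT).2 hQp
  obtain ⟨g, hgT, hgp⟩ := SetLike.not_le_iff_exists.1 hnot
  refine ⟨g, hgp, fun Q hQ hgQ => ?_⟩
  by_contra hQp
  have hQT : Q ∈ T := Finset.mem_filter.2 ⟨hfin.mem_toFinset.2 hQ, hQp⟩
  exact hgQ ((Finset.inf_le hQT : T.inf id ≤ id Q) hgT)

include k in
theorem exists_maximal_ge (p : PrimeSpectrum A) (g : A) (hg : g ∉ p.asIdeal) :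
    ∃ m : PrimeSpectrum A, m.asIdeal.IsMaximal ∧ p ≤ m ∧ g ∉ m.asIdeal := by
  haveI : IsJacobsonRing A := isJacobsonRing_of_finiteType (A := k) (B := A)
  have hj : p.asIdeal.jacobson = p.asIdeal := IsJacobsonRing.out inferInstance p.isPrime.isRadical
  have : g ∉ p.asIdeal.jacobson := by rwa [hj]
  rw [Ideal.jacobson, Ideal.mem_sInf] at this
  push Not at this
  obtain ⟨m, ⟨hpm, hm⟩, hgm⟩ := this
  exact ⟨⟨m, hm.isPrime⟩, hm, hpm, hgm⟩

theorem dim_opens (V : TopologicalSpace.Opens (PrimeSpectrum A)) :
    topologicalKrullDim (V : Set (PrimeSpectrum A)) =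
      ⨆ y : V, ((Order.height y.1 : ℕ∞) : WithBot ℕ∞) := by
  have := Groth.Agent.Lib.Helper3.topologicalKrullDim_opens_eq_iSup_stalk
    (Spec (CommRingCat.of A)) V
  refine this.trans ?_
  refine iSup_congr fun y => ?_
  have h1 := ringKrullDim_stalk_eq_coheight (X := Spec (CommRingCat.of A)) y.1
  have h2 := idealHeight_eq_coheight (CommRingCat.of A) y.1
  have h3 := PrimeSpectrum.height_eq_orderHeight (R := A) y.1
  exact h1.trans (congrArg (fun t : ℕ∞ => (t : WithBot ℕ∞)) (h2.symm.trans h3))

include k in
/-- The local dimension of `Spec A` at `p` is `ht p + dim A/p` for `A` of finite type over a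
field. -/
theorem localDim_eq (p : PrimeSpectrum A) :
    FlatMor.localDim (PrimeSpectrum A) p =
      ((Order.height p + Order.coheight p : ℕ∞) : WithBot ℕ∞) := by
  unfold FlatMor.localDim
  apply le_antisymm
  · obtain ⟨g, hgp, hg⟩ := exists_avoid (k := k) A p
    refine (iInf_le _ ⟨PrimeSpectrum.basicOpen g, hgp⟩).trans ?_
    rw [dim_opens]
    refine iSup_le fun y => ?_
    obtain ⟨Q, hQy, hQmin, hQ⟩ := AffDim.exists_isMin_coheight_eq (k := k) A y.1
    have hgQ : g ∉ Q.asIdeal := fun h => y.2 (hQy h)
    have hQp : Q ≤ p :=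
      hg Q.asIdeal (by rw [← PrimeSpectrum.isMin_iff]; exact hQmin) hgQ
    have h1 := coheight_add_height_mono (k := k) A hQp
    have : Order.height y.1 ≤ Order.height p + Order.coheight p :=
      calc Order.height y.1 ≤ Order.coheight y.1 + Order.height y.1 := le_add_self
        _ = Order.coheight Q := hQ.symm
        _ ≤ Order.coheight Q + Order.height Q := le_self_add
        _ ≤ Order.coheight p + Order.height p := h1
        _ = _ := add_comm _ _
    exact_mod_cast this
  · refine le_iInf fun V => ?_
    obtain ⟨g, hgp, hgV⟩ : ∃ g : A, g ∉ p.asIdeal ∧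
        (PrimeSpectrum.basicOpen g : Set (PrimeSpectrum A)) ⊆ V.1 := by
      obtain ⟨_, ⟨g, rfl⟩, hpg, hgV⟩ :=
        PrimeSpectrum.isTopologicalBasis_basic_opens.exists_subset_of_mem_open V.2 V.1.2
      exact ⟨g, hpg, hgV⟩
    obtain ⟨m, hm, hpm, hgm⟩ := exists_maximal_ge (k := k) A p g hgp
    obtain ⟨n, hn⟩ := coheight_eq_nat (k := k) A p
    have h1 := height_add_le_of_le_maximal (k := k) A m hm n p hpm hn.ge
    rw [dim_opens]
    refine le_trans ?_ (le_iSup _ ⟨m, hgV hgm⟩)
    rw [hn]
    exact_mod_cast h1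

end Main


section Final

variable {k S : Type u} [Field k] [CommRing S] [Algebra k S] [Algebra.FiniteType k S]

theorem coheight_eq_of_trdeg (p : Ideal S) [p.IsPrime] (r : ℕ)
    (hr : Algebra.trdeg k p.ResidueField = r) :
    Order.coheight (⟨p, inferInstance⟩ : PrimeSpectrum S) = r := by
  haveI : IsScalarTower k (S ⧸ p) p.ResidueField := by
    apply IsScalarTower.of_algebraMap_eq
    intro c
    rw [IsScalarTower.algebraMap_apply k S p.ResidueField,
      IsScalarTower.algebraMap_apply k S (S ⧸ p),
      ← IsScalarTower.algebraMap_apply S (S ⧸ p) p.ResidueField]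
  have hinj : Function.Injective (algebraMap (S ⧸ p) p.ResidueField) :=
    IsFractionRing.injective _ _
  haveI : Algebra.IsAlgebraic (S ⧸ p) p.ResidueField :=
    IsLocalization.isAlgebraic _ (nonZeroDivisors (S ⧸ p))
  obtain ⟨n, h1, h2, -⟩ := ClosedPtDim.exists_nat_trdeg_eq k (S ⧸ p) p.ResidueField hinj
  have hnr : n = r := by
    have : (n : Cardinal) = r := h1.symm.trans hr
    exact_mod_cast this
  have h3 := AffChain.ringKrullDim_quotient_eq_coheight (A := S) ⟨p, inferInstance⟩
  change ringKrullDim (S ⧸ p) = _ at h3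
  rw [h2, hnr] at h3
  exact_mod_cast h3.symm

theorem main (p : Ideal S) [p.IsPrime] (r : ℕ) (hr : Algebra.trdeg k p.ResidueField = r) :
    FlatMor.localDim (PrimeSpectrum S) ⟨p, inferInstance⟩ =
      ringKrullDim (Localization.AtPrime p) + (r : WithBot ℕ∞) := by
  rw [localDim_eq (k := k) S ⟨p, inferInstance⟩, coheight_eq_of_trdeg p r hr,
    IsLocalization.AtPrime.ringKrullDim_eq_height p,
    ← PrimeSpectrum.height_eq_orderHeight (⟨p, inferInstance⟩ : PrimeSpectrum S)]
  push_cast
  rfl

end Final

end Groth.Agent.Lib.lead.AffLocalDim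

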