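import Mathlib
import Groth.Prelude.Def_PolLaw

namespace Groth.Agent.Lib.lead.PolLawProd

universe u
open scoped TensorProduct Polynomial

section idem

theorem idem_zero_or_one {A : Type*} [CommRing A] [ConnectedSpace (PrimeSpectrum A)] (e : A)
    (he : IsIdempotentElem e) : e = 0 ∨ e = 1 := by
  have hcl : IsClopen (PrimeSpectrum.basicOpen e : Set (PrimeSpectrum A)) :=
    PrimeSpectrum.isClopen_iff.mpr ⟨e, he, rfl⟩
  rcases isClopen_iff.mp hcl with h | h
  · left
    apply PrimeSpectrum.basicOpen_injOn_isIdempotentElem he IsIdempotentElem.zero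
    apply TopologicalSpace.Opens.ext
    rw [h, PrimeSpectrum.basicOpen_zero]; rfl
  · right
    apply PrimeSpectrum.basicOpen_injOn_isIdempotentElem he IsIdempotentElem.one
    apply TopologicalSpace.Opens.ext
    rw [h, PrimeSpectrum.basicOpen_one]; rfl

theorem nontrivial_of_conn {A : Type*} [CommRing A] [ConnectedSpace (PrimeSpectrum A)] : Nontrivial A := by
  obtain ⟨x⟩ := (inferInstance : Nonempty (PrimeSpectrum A))
  exact ⟨⟨0, 1, fun h => x.isPrime.ne_top (by rw [Ideal.eq_top_iff_one, ← h]; exact zero_mem _)⟩⟩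

open Polynomial in
theorem aeval_eq_comp {A : Type*} [CommRing A] (p : A[X]) (Q : A[X][X]) :
    Polynomial.aeval Q p = (p.map (C : A →+* A[X])).comp Q := by
  rw [Polynomial.comp, Polynomial.eval₂_map, Polynomial.aeval_def]
  rfl

open Polynomial in
theorem poly_lemma {A : Type*} [CommRing A] [ConnectedSpace (PrimeSpectrum A)] (p : A[X])
    (hmul : Polynomial.aeval (C X * X : A[X][X]) p
      = Polynomial.aeval (C X : A[X][X]) p * Polynomial.aeval (X : A[X][X]) p)
    (hone : Polynomial.aeval (1 : A) p = 1) : ∃ k : ℕ, p = X ^ k := by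
  haveI := nontrivial_of_conn (A := A)
  have hcoef : ∀ i j, p.coeff i * p.coeff j = if i = j then p.coeff j else 0 := by
    intro i j
    rw [aeval_eq_comp, aeval_eq_comp, aeval_eq_comp, comp_X, comp_C, eval_map, eval₂_C_X] at hmul
    have h := congrArg (fun P : A[X][X] => (P.coeff j).coeff i) hmul
    simp only [comp_C_mul_X_coeff, coeff_map, coeff_C_mul, coeff_mul_C] at h
    rw [coeff_X_pow] at h
    rw [← h]
    split_ifs <;> simp
  have hidem : ∀ j, IsIdempotentElem (p.coeff j) := fun j => by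
    have := hcoef j j
    simpa [IsIdempotentElem] using this
  have hsum : ∑ k ∈ Finset.range (p.natDegree + 1), p.coeff k = 1 := by
    rw [← hone, Polynomial.coe_aeval_eq_eval, Polynomial.eval_eq_sum_range]
    simp
  have hex : ∃ k, p.coeff k = 1 := by
    by_contra hcon
    push Not at hcon
    have : ∀ k, p.coeff k = 0 := fun k => (idem_zero_or_one _ (hidem k)).resolve_right (hcon k)
    simp [this] at hsum
  obtain ⟨k, hk⟩ := hex
  refine ⟨k, ?_⟩
  ext j
  rw [coeff_X_pow]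
  split_ifs with hjk
  · rw [hjk, hk]
  · have := hcoef j k
    rw [hk, mul_one, if_neg hjk] at this
    exact this

end idem

section homog

variable {A : Type u} [CommRing A] {B : Type u} [CommRing B] [Algebra A B]

theorem smul_eq_tmul_mul (S : Type u) [CommSemiring S] [Algebra A S] (s : S) (x : S ⊗[A] B) :
    s • x = (s ⊗ₜ[A] (1 : B)) * x := by
  rw [Algebra.smul_def, Algebra.TensorProduct.algebraMap_apply]
  rfl

open Polynomial in
theorem mult_homog [ConnectedSpace (PrimeSpectrum A)] (G : B →ₚₗ[A] A) (hG : PolLaw.IsMult G) :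
    ∃ k : ℕ, PolLaw.IsHomog G k := by
  set z := G.toFun' A[X] ((X : A[X]) ⊗ₜ[A] (1 : B)) with hz
  set p : A[X] := Algebra.TensorProduct.rid A A A[X] z with hp
  have hzp : z = p ⊗ₜ[A] (1 : A) := by
    rw [hp, ← Algebra.TensorProduct.rid_symm_apply (R := A) (S := A), AlgEquiv.symm_apply_apply]
  have hq : ∀ (S : Type u) [CommSemiring S] [Algebra A S] (s : S),
      G.toFun' S (s ⊗ₜ[A] (1 : B)) = (Polynomial.aeval s p) ⊗ₜ[A] (1 : A) := by
    intro S _ _ s
    have := PolynomialLaw.isCompat_apply' (f := G) (Polynomial.aeval s : A[X] →ₐ[A] S)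
      ((X : A[X]) ⊗ₜ[A] (1 : B))
    rw [LinearMap.rTensor_tmul, ← hz, hzp, LinearMap.rTensor_tmul] at this
    simpa using this.symm
  have hmul : Polynomial.aeval (C X * X : A[X][X]) p
      = Polynomial.aeval (C X : A[X][X]) p * Polynomial.aeval (X : A[X][X]) p := by
    have h1 := hq A[X][X] (C X * X)
    have h2 := hq A[X][X] (C X)
    have h3 := hq A[X][X] X
    have : ((C X * X : A[X][X]) ⊗ₜ[A] (1 : B))
        = ((C X : A[X][X]) ⊗ₜ[A] (1 : B)) * ((X : A[X][X]) ⊗ₜ[A] (1 : B)) := by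
      rw [Algebra.TensorProduct.tmul_mul_tmul, mul_one]
    rw [this, (hG _).2, h2, h3, Algebra.TensorProduct.tmul_mul_tmul, mul_one] at h1
    have := congrArg (Algebra.TensorProduct.rid A A A[X][X]) h1
    simpa using this.symm
  have hone : Polynomial.aeval (1 : A) p = 1 := by
    have h1 := hq A 1
    rw [← Algebra.TensorProduct.one_def, (hG _).1, Algebra.TensorProduct.one_def] at h1
    have := congrArg (Algebra.TensorProduct.rid A A A) h1
    simpa using this.symm
  obtain ⟨k, hk⟩ := poly_lemma p hmul hone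
  refine ⟨k, ?_⟩
  intro S _ _ s x
  rw [smul_eq_tmul_mul, (hG _).2, hq, hk, smul_eq_tmul_mul]
  simp

end homog

section prod

variable {A : Type u} [CommRing A] {B₁ : Type u} [CommRing B₁] [Algebra A B₁]
    {B₂ : Type u} [CommRing B₂] [Algebra A B₂]

variable (A B₁ B₂) in
noncomputable abbrev E (S : Type u) [CommSemiring S] [Algebra A S] :
    S ⊗[A] (B₁ × B₂) ≃ₐ[S] (S ⊗[A] B₁) × (S ⊗[A] B₂) :=
  Algebra.TensorProduct.prodRight A S S B₁ B₂

theorem E_fst (S : Type u) [CommSemiring S] [Algebra A S] (x : S ⊗[A] (B₁ × B₂)) :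
    (E A B₁ B₂ S x).1 = LinearMap.lTensor S (LinearMap.fst A B₁ B₂) x := by
  induction x using TensorProduct.induction_on with
  | zero => simp
  | tmul s b => rfl
  | add x y hx hy => rw [map_add, Prod.fst_add, hx, hy, map_add]

theorem E_snd (S : Type u) [CommSemiring S] [Algebra A S] (x : S ⊗[A] (B₁ × B₂)) :
    (E A B₁ B₂ S x).2 = LinearMap.lTensor S (LinearMap.snd A B₁ B₂) x := by
  induction x using TensorProduct.induction_on with
  | zero => simp
  | tmul s b => rfl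
  | add x y hx hy => rw [map_add, Prod.snd_add, hx, hy, map_add]

theorem E_rTensor {S S' : Type u} [CommSemiring S] [Algebra A S] [CommSemiring S'] [Algebra A S']
    (φ : S →ₐ[A] S') (x : S ⊗[A] (B₁ × B₂)) :
    E A B₁ B₂ S' (φ.toLinearMap.rTensor _ x)
      = (φ.toLinearMap.rTensor _ (E A B₁ B₂ S x).1, φ.toLinearMap.rTensor _ (E A B₁ B₂ S x).2) := by
  induction x using TensorProduct.induction_on with
  | zero => simp only [map_zero]; rfl
  | tmul s b => rfl
  | add x y hx hy =>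
    rw [map_add, map_add, hx, hy, map_add, Prod.fst_add, Prod.snd_add, map_add, map_add]
    rfl

theorem symm_rTensor {S S' : Type u} [CommSemiring S] [Algebra A S] [CommSemiring S'] [Algebra A S']
    (φ : S →ₐ[A] S') (a : S ⊗[A] B₁) (b : S ⊗[A] B₂) :
    φ.toLinearMap.rTensor _ ((E A B₁ B₂ S).symm (a, b))
      = (E A B₁ B₂ S').symm (φ.toLinearMap.rTensor _ a, φ.toLinearMap.rTensor _ b) := by
  apply (E A B₁ B₂ S').injective
  rw [AlgEquiv.apply_symm_apply, E_rTensor, AlgEquiv.apply_symm_apply]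

theorem rTensor_one {B : Type u} [CommRing B] [Algebra A B]
    {S S' : Type u} [CommSemiring S] [Algebra A S] [CommSemiring S'] [Algebra A S']
    (φ : S →ₐ[A] S') : φ.toLinearMap.rTensor B (1 : S ⊗[A] B) = 1 := by
  rw [Algebra.TensorProduct.one_def, LinearMap.rTensor_tmul, AlgHom.toLinearMap_apply, map_one]
  rfl

noncomputable def law1 (F : (B₁ × B₂) →ₚₗ[A] A) : B₁ →ₚₗ[A] A where
  toFun' S _ _ := fun x1 => F.toFun' S ((E A B₁ B₂ S).symm (x1, 1))
  isCompat' {S} _ _ {S'} _ _ φ := by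
    funext x1
    simp only [Function.comp_apply]
    rw [PolynomialLaw.isCompat_apply', symm_rTensor, rTensor_one]

noncomputable def law2 (F : (B₁ × B₂) →ₚₗ[A] A) : B₂ →ₚₗ[A] A where
  toFun' S _ _ := fun x2 => F.toFun' S ((E A B₁ B₂ S).symm (1, x2))
  isCompat' {S} _ _ {S'} _ _ φ := by
    funext x2
    simp only [Function.comp_apply]
    rw [PolynomialLaw.isCompat_apply', symm_rTensor, rTensor_one]

theorem law1_apply (F : (B₁ × B₂) →ₚₗ[A] A) (S : Type u) [CommSemiring S] [Algebra A S]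
    (x1 : S ⊗[A] B₁) : (law1 F).toFun' S x1 = F.toFun' S ((E A B₁ B₂ S).symm (x1, 1)) := rfl

theorem law2_apply (F : (B₁ × B₂) →ₚₗ[A] A) (S : Type u) [CommSemiring S] [Algebra A S]
    (x2 : S ⊗[A] B₂) : (law2 F).toFun' S x2 = F.toFun' S ((E A B₁ B₂ S).symm (1, x2)) := rfl

theorem law1_mult (F : (B₁ × B₂) →ₚₗ[A] A) (hF : PolLaw.IsMult F) : PolLaw.IsMult (law1 F) := by
  intro S _ _
  refine ⟨?_, fun x y => ?_⟩
  · rw [law1_apply, Prod.mk_one_one, map_one, (hF S).1]
  · rw [law1_apply, law1_apply, law1_apply, ← (hF S).2, ← map_mul, Prod.mk_mul_mk, one_mul]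

theorem law2_mult (F : (B₁ × B₂) →ₚₗ[A] A) (hF : PolLaw.IsMult F) : PolLaw.IsMult (law2 F) := by
  intro S _ _
  refine ⟨?_, fun x y => ?_⟩
  · rw [law2_apply, Prod.mk_one_one, map_one, (hF S).1]
  · rw [law2_apply, law2_apply, law2_apply, ← (hF S).2, ← map_mul, Prod.mk_mul_mk, one_mul]

theorem factor (F : (B₁ × B₂) →ₚₗ[A] A) (hF : PolLaw.IsMult F)
    (S : Type u) [CommSemiring S] [Algebra A S] (x : S ⊗[A] (B₁ × B₂)) :
    F.toFun' S x = (law1 F).toFun' S (LinearMap.lTensor S (LinearMap.fst A B₁ B₂) x) *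
      (law2 F).toFun' S (LinearMap.lTensor S (LinearMap.snd A B₁ B₂) x) := by
  rw [law1_apply, law2_apply, ← (hF S).2, ← map_mul, Prod.mk_mul_mk, one_mul, mul_one,
    ← E_fst, ← E_snd, Prod.mk.eta, AlgEquiv.symm_apply_apply]

open Polynomial in
theorem X_pow_smul_inj [Nontrivial A] {a b : ℕ}
    (h : ((X : A[X]) ^ a) • (1 : A[X] ⊗[A] A) = ((X : A[X]) ^ b) • (1 : A[X] ⊗[A] A)) : a = b := by
  have := congrArg (Algebra.TensorProduct.rid A A[X] A[X]) h
  rw [map_smul, map_smul, map_one, smul_eq_mul, smul_eq_mul, mul_one, mul_one] at this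
  have h2 := congrArg Polynomial.natDegree this
  rwa [Polynomial.natDegree_X_pow, Polynomial.natDegree_X_pow] at h2

open Polynomial in
/-- the degrees of a factorisation are read off at `(X, 1)` and `(1, X)` -/
theorem deg_read (F : (B₁ × B₂) →ₚₗ[A] A) {e₁ e₂ : ℕ} (G₁ : PolLaw.MulLaw A B₁ A e₁)
    (G₂ : PolLaw.MulLaw A B₂ A e₂)
    (h : ∀ (S : Type u) [CommSemiring S] [Algebra A S] (x : S ⊗[A] (B₁ × B₂)),
          F.toFun' S x = G₁.law.toFun' S (LinearMap.lTensor S (LinearMap.fst A B₁ B₂) x) *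
            G₂.law.toFun' S (LinearMap.lTensor S (LinearMap.snd A B₁ B₂) x)) :
    F.toFun' A[X] ((E A B₁ B₂ A[X]).symm ((X : A[X]) • 1, 1)) = ((X : A[X]) ^ e₁) • 1 ∧
    F.toFun' A[X] ((E A B₁ B₂ A[X]).symm (1, (X : A[X]) • 1)) = ((X : A[X]) ^ e₂) • 1 := by
  constructor
  · rw [h, ← E_fst, ← E_snd, AlgEquiv.apply_symm_apply, G₁.homog, (G₁.mult _).1, (G₂.mult _).1,
      mul_one]
  · rw [h, ← E_fst, ← E_snd, AlgEquiv.apply_symm_apply, G₂.homog, (G₁.mult _).1, (G₂.mult _).1,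
      one_mul]

open Polynomial in
theorem main [ConnectedSpace (PrimeSpectrum A)] {d : ℕ} (F : PolLaw.MulLaw A (B₁ × B₂) A d) :
    ∃ d₁ d₂ : ℕ, d₁ + d₂ = d ∧
      (∃ (F₁ : PolLaw.MulLaw A B₁ A d₁) (F₂ : PolLaw.MulLaw A B₂ A d₂),
        ∀ (S : Type u) [CommSemiring S] [Algebra A S] (x : S ⊗[A] (B₁ × B₂)),
          F.law.toFun' S x = F₁.law.toFun' S (LinearMap.lTensor S (LinearMap.fst A B₁ B₂) x) *
            F₂.law.toFun' S (LinearMap.lTensor S (LinearMap.snd A B₁ B₂) x)) ∧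
      ∀ (e₁ e₂ : ℕ) (G₁ : PolLaw.MulLaw A B₁ A e₁) (G₂ : PolLaw.MulLaw A B₂ A e₂),
        (∀ (S : Type u) [CommSemiring S] [Algebra A S] (x : S ⊗[A] (B₁ × B₂)),
          F.law.toFun' S x = G₁.law.toFun' S (LinearMap.lTensor S (LinearMap.fst A B₁ B₂) x) *
            G₂.law.toFun' S (LinearMap.lTensor S (LinearMap.snd A B₁ B₂) x)) → e₁ = d₁ ∧ e₂ = d₂ := by
  haveI := nontrivial_of_conn (A := A)
  obtain ⟨d₁, h1⟩ := mult_homog (law1 F.law) (law1_mult F.law F.mult)
  obtain ⟨d₂, h2⟩ := mult_homog (law2 F.law) (law2_mult F.law F.mult)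
  let F₁ : PolLaw.MulLaw A B₁ A d₁ := ⟨law1 F.law, h1, law1_mult F.law F.mult⟩
  let F₂ : PolLaw.MulLaw A B₂ A d₂ := ⟨law2 F.law, h2, law2_mult F.law F.mult⟩
  have hfac : ∀ (S : Type u) [CommSemiring S] [Algebra A S] (x : S ⊗[A] (B₁ × B₂)),
          F.law.toFun' S x = F₁.law.toFun' S (LinearMap.lTensor S (LinearMap.fst A B₁ B₂) x) *
            F₂.law.toFun' S (LinearMap.lTensor S (LinearMap.snd A B₁ B₂) x) :=
    fun S _ _ x => factor F.law F.mult S x
  have hread := deg_read F.law F₁ F₂ hfac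
  refine ⟨d₁, d₂, ?_, ⟨F₁, F₂, hfac⟩, ?_⟩
  · -- F (X • 1) = X ^ d • 1
    have hX : F.law.toFun' A[X] ((X : A[X]) • 1) = ((X : A[X]) ^ d) • 1 := by
      rw [F.homog, (F.mult _).1]
    have hsplit : ((X : A[X]) • (1 : A[X] ⊗[A] (B₁ × B₂)))
        = (E A B₁ B₂ A[X]).symm ((X : A[X]) • 1, 1) * (E A B₁ B₂ A[X]).symm (1, (X : A[X]) • 1) := by
      rw [← map_mul, Prod.mk_mul_mk, one_mul, mul_one]
      apply (E A B₁ B₂ A[X]).injective
      rw [AlgEquiv.apply_symm_apply, map_smul, map_one]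
      rfl
    rw [hsplit, (F.mult _).2, hread.1, hread.2, smul_mul_smul_comm, mul_one, ← pow_add] at hX
    exact X_pow_smul_inj hX
  · intro e₁ e₂ G₁ G₂ hG
    have hread' := deg_read F.law G₁ G₂ hG
    exact ⟨X_pow_smul_inj (hread'.1.symm.trans hread.1), X_pow_smul_inj (hread'.2.symm.trans hread.2)⟩

end prod

end Groth.Agent.Lib.lead.PolLawProd
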