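import Mathlib
import Groth.Agent.Lib.lead.FibreDimComp
import Groth.Agent.Lib.lead.FibreDimBCLocal
import Groth.Agent.Lib.lead.FlatEquidimGen
import Groth.Agent.Lib.lead.GenFiniteGen
import Groth.Agent.Lib.Helper18.Chev.SchemeBound
import Groth.Agent.Lib.lead.FibreCompDimOne
import Groth.Prelude.Def_EGA43

set_option autoImplicit false
set_option linter.style.haveILetI false
universe u
open CategoryTheory CategoryTheory.Limits AlgebraicGeometry Topology TopologicalSpace Order

namespace Groth.Agent.Lib.lead.EquidimBC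

open Groth.Agent.Lib.lead Groth.Agent.Lib.Helper7 Groth.Agent.Lib.Helper24 Groth.Agent.Lib.Helper18

section maxpt

variable {X Y Y' P : Scheme.{u}} (f : X ⟶ Y) (g : Y' ⟶ Y) (p₁ : P ⟶ X) (p₂ : P ⟶ Y')
  (hsq : IsPullback p₁ p₂ f g)

include hsq in
/-- the map of fibres over `η` induced by `p₂` is flat -/
theorem flat_fibMap (η : Y) : Flat (FibreDimComp.fibMap p₂ g η) := by
  have sqA := FibreDimComp.isPullback_fibMap p₂ g η
  have big := sqA.paste_horiz hsq
  let ψ : (p₂ ≫ g).fiber η ⟶ f.fiber η :=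
    pullback.lift ((p₂ ≫ g).fiberι η ≫ p₁)
      (FibreDimComp.fibMap p₂ g η ≫ g.fiberToSpecResidueField η) (by
        rw [Category.assoc (FibreDimComp.fibMap p₂ g η), ← g.fiber_fac η]
        exact big.w)
  have hψ1 : ψ ≫ f.fiberι η = (p₂ ≫ g).fiberι η ≫ p₁ := pullback.lift_fst _ _ _
  have hψ2 : ψ ≫ f.fiberToSpecResidueField η =
      FibreDimComp.fibMap p₂ g η ≫ g.fiberToSpecResidueField η := pullback.lift_snd _ _ _
  have s : IsPullback (ψ ≫ f.fiberι η) (FibreDimComp.fibMap p₂ g η) f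
      (g.fiberToSpecResidueField η ≫ Y.fromSpecResidueField η) := by
    rw [hψ1, ← g.fiber_fac η]
    exact big
  have t : IsPullback (f.fiberι η) (f.fiberToSpecResidueField η) f (Y.fromSpecResidueField η) :=
    IsPullback.of_hasPullback f (Y.fromSpecResidueField η)
  have key := IsPullback.of_right s hψ2 t
  haveI : Flat (f.fiberToSpecResidueField η) := inferInstance
  exact MorphismProperty.of_isPullback key inferInstance

include hsq in
/-- a maximal point of `P` lying over a maximal point of `Y` maps to a maximal point of `Y'` -/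
theorem snd_maximal_of_maximal (ζ' : P) (hmax : ∀ b : P, b ⤳ ζ' → b = ζ') (η : Y)
    (hfη : f (p₁ ζ') = η) (hη : ∀ b : Y, b ⤳ η → b = η) :
    ∀ η'' : Y', η'' ⤳ p₂ ζ' → η'' = p₂ ζ' := by
  intro η'' hη''
  have hcomm : g (p₂ ζ') = η := by
    rw [← hfη, ← Scheme.Hom.comp_apply, ← hsq.w, Scheme.Hom.comp_apply]
  have hgη'' : g η'' = η := hη _ (by rw [← hcomm]; exact hη''.map g.continuous)
  obtain ⟨a', ha'⟩ := FibreDim.exists_fibre_point g (p₂ ζ') η hcomm
  obtain ⟨a'', ha''⟩ := FibreDim.exists_fibre_point g η'' η hgη''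
  obtain ⟨c', hc'⟩ := FibreDim.exists_fibre_point (p₂ ≫ g) ζ' η
    (by rw [Scheme.Hom.comp_apply]; exact hcomm)
  have hφc' : FibreDimComp.fibMap p₂ g η c' = a' := by
    apply (g.fiberι η).isEmbedding.injective
    rw [← Scheme.Hom.comp_apply, FibreDimComp.fibMap_fiberι, Scheme.Hom.comp_apply, hc', ha']
  have hspec : a'' ⤳ a' :=
    (g.fiberι η).isEmbedding.isInducing.specializes_iff.1 (by rw [ha'', ha']; exact hη'')
  haveI := flat_fibMap f g p₁ p₂ hsq η
  obtain ⟨c'', hc'', hφc''⟩ := Flat.generalizingMap (FibreDimComp.fibMap p₂ g η)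
    (show a'' ⤳ FibreDimComp.fibMap p₂ g η c' by rw [hφc']; exact hspec)
  have h1 : (p₂ ≫ g).fiberι η c'' ⤳ ζ' := by
    have := hc''.map ((p₂ ≫ g).fiberι η).continuous
    rwa [hc'] at this
  have h2 := hmax _ h1
  have h3 : c'' = c' :=
    ((p₂ ≫ g).fiberι η).isEmbedding.injective (by rw [h2, hc'])
  rw [← ha'', ← hφc'', h3, hφc', ha']

end maxpt

section shrink

/-- in a locally Noetherian scheme, every point has arbitrarily small open neighbourhoods all of
whose maximal points specialize to it -/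
theorem exists_open_maximal_specializes (P : Scheme.{u}) [IsLocallyNoetherian P] (U' : P.Opens)
    (x' : P) (hx' : x' ∈ U') :
    ∃ U'' : P.Opens, U'' ≤ U' ∧ x' ∈ U'' ∧
      ∀ ζ ∈ U'', (∀ b : P, b ⤳ ζ → b = ζ) → ζ ⤳ x' := by
  obtain ⟨A, hA, hxA, hAU⟩ : ∃ A : P.Opens, IsAffineOpen A ∧ x' ∈ A ∧ A ≤ U' :=
    (Opens.isBasis_iff_nbhd.mp P.isBasis_affineOpens) hx'
  haveI : IsNoetherianRing Γ(P, A) := IsLocallyNoetherian.component_noetherian ⟨A, hA⟩
  haveI : NoetherianSpace A.toScheme := noetherianSpace_of_isAffineOpen A hA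
  have hfin : (irreducibleComponents A.toScheme).Finite :=
    NoetherianSpace.finite_irreducibleComponents
  have hfin2 : Set.Finite {a : A.toScheme |
      closure ({a} : Set A.toScheme) ∈ irreducibleComponents A.toScheme} := by
    apply Set.Finite.of_finite_image (f := fun a : A.toScheme => closure ({a} : Set A.toScheme))
    · apply hfin.subset
      rintro _ ⟨a, ha, rfl⟩
      exact ha
    · intro a _ b _ hab
      exact (inseparable_iff_closure_eq.2 hab).eq
  set Ms : Set P := {ζ : P | ζ ∈ A ∧ (∀ b : P, b ⤳ ζ → b = ζ) ∧ ¬ ζ ⤳ x'} with hMs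
  have hMsfin : Ms.Finite := by
    apply (hfin2.image (fun a : A.toScheme => A.ι a)).subset
    rintro ζ ⟨hζA, hζmax, -⟩
    obtain ⟨a, rfl⟩ : ζ ∈ Set.range A.ι := by rw [Scheme.Opens.range_ι]; exact hζA
    refine ⟨a, ?_, rfl⟩
    apply FlatEquidimGen.closure_singleton_mem_irreducibleComponents
    intro z hz
    have h1 : A.ι z ⤳ A.ι a := hz.map A.ι.continuous
    exact A.ι.isOpenEmbedding.injective (hζmax _ h1)
  have hC : IsClosed (⋃ ζ ∈ Ms, closure ({ζ} : Set P)) :=
    hMsfin.isClosed_biUnion fun _ _ => isClosed_closure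
  refine ⟨A ⊓ ⟨(⋃ ζ ∈ Ms, closure ({ζ} : Set P))ᶜ, hC.isOpen_compl⟩,
    inf_le_left.trans hAU, ⟨hxA, ?_⟩, ?_⟩
  · show x' ∉ ⋃ ζ ∈ Ms, closure ({ζ} : Set P)
    simp only [Set.mem_iUnion, not_exists]
    intro ζ hζ hx
    exact hζ.2.2 (specializes_iff_mem_closure.2 hx)
  · rintro ζ ⟨hζA, hζC⟩ hζmax
    by_contra hne
    apply hζC
    simp only [Set.mem_iUnion]
    exact ⟨ζ, ⟨hζA, hζmax, hne⟩, subset_closure rfl⟩

end shrink

section main

variable {X Y : Scheme.{u}}

theorem maximal_image_of_dominates (f : X ⟶ Y) (U : X.Opens)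
    (h1 : ∀ Z ∈ irreducibleComponents (↥U : Type u),
      ∃ W ∈ irreducibleComponents (Y : Type u), closure ((U.ι ≫ f).base '' Z) = W)
    (ζ : X) (hζU : ζ ∈ U) (hζmax : ∀ b : X, b ⤳ ζ → b = ζ) : ∀ b : Y, b ⤳ f ζ → b = f ζ := by
  obtain ⟨a, rfl⟩ : ζ ∈ Set.range U.ι := by rw [Scheme.Opens.range_ι]; exact hζU
  have hcomp : closure ({a} : Set U.toScheme) ∈ irreducibleComponents U.toScheme := by
    apply FlatEquidimGen.closure_singleton_mem_irreducibleComponents
    intro z hz
    have h1 : U.ι z ⤳ U.ι a := hz.map U.ι.continuous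
    exact U.ι.isOpenEmbedding.injective (hζmax _ h1)
  obtain ⟨W, hW, hcl⟩ := h1 _ hcomp
  have hWeq : closure ({f (U.ι a)} : Set Y) = W := by
    rw [← hcl]
    apply subset_antisymm
    · apply closure_mono
      rw [Set.singleton_subset_iff]
      exact ⟨a, subset_closure rfl, rfl⟩
    · apply closure_minimal _ isClosed_closure
      have h3 := image_closure_subset_closure_image (f := (U.ι ≫ f).base) (s := {a})
        (U.ι ≫ f).continuous
      rw [Set.image_singleton] at h3
      exact h3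
  exact GenFiniteGen.maximal_of_mem_irreducibleComponents (by rw [hWeq]; exact hW)

theorem fibreDimAt_eq_of_fibre_equidim {X S : Scheme.{u}} (f : X ⟶ S) [LocallyOfFiniteType f]
    (d : ℕ) (x : X)
    (h : ∀ T ∈ irreducibleComponents ↥(f.fiber (f x)), topologicalKrullDim T = d) :
    FlatMor.fibreDimAt f x = d := by
  letI := FibreTd.fibreOver f (f x)
  haveI : LocallyOfFiniteType ((f.fiber (f x)) ↘ Spec (CommRingCat.of (S.residueField (f x)))) :=
    inferInstanceAs (LocallyOfFiniteType (f.fiberToSpecResidueField (f x)))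
  unfold FlatMor.fibreDimAt
  exact FlatEquidimGen.localDim_eq_of_equidim (k := S.residueField (f x)) (X := f.fiber (f x)) d
    h _

set_option backward.isDefEq.respectTransparency.types false in
theorem S2594 {X Y Y' : Scheme.{u}} (f : X ⟶ Y) [LocallyOfFiniteType f] (g : Y' ⟶ Y) [Flat g]
    [IsLocallyNoetherian Y']
    (x : X) (h : EGA43.IsEquidimAt f x) (x' : ↥(pullback f g))
    (hx' : (pullback.fst f g).base x' = x) :
    EGA43.IsEquidimAt (pullback.snd f g) x' := by
  obtain ⟨e, U, hxU, h1, h2⟩ := h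
  replace h1 : ∀ Z ∈ irreducibleComponents U.toScheme, ∃ W ∈ irreducibleComponents Y,
      f x ∈ W ∧ closure ((U.ι ≫ f) '' Z) = W := h1
  replace h2 : ∀ v : U.toScheme, ∀ Z ∈ irreducibleComponents ((U.ι ≫ f).fiber ((U.ι ≫ f) v)),
      topologicalKrullDim Z = e := h2
  have hsq : IsPullback (pullback.fst f g) (pullback.snd f g) f g := IsPullback.of_hasPullback f g
  haveI : LocallyOfFiniteType (pullback.snd f g) := MorphismProperty.pullback_snd _ _ inferInstance
  haveI : IsLocallyNoetherian (pullback f g) :=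
    LocallyOfFiniteType.isLocallyNoetherian (pullback.snd f g)
  haveI : Flat (pullback.fst f g) := inferInstance
  have hx'U : x' ∈ (pullback.fst f g) ⁻¹ᵁ U := by
    show (pullback.fst f g) x' ∈ U
    rw [hx']; exact hxU
  obtain ⟨U'', hU''le, hx'U'', hmaxspec⟩ :=
    exists_open_maximal_specializes (pullback f g) ((pullback.fst f g) ⁻¹ᵁ U) x' hx'U
  refine ⟨e, U'', hx'U'', ?_, ?_⟩
  · show ∀ Z ∈ irreducibleComponents U''.toScheme, ∃ W ∈ irreducibleComponents Y',
      (pullback.snd f g) x' ∈ W ∧ closure ((U''.ι ≫ pullback.snd f g) '' Z) = W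
    intro Z hZ
    obtain ⟨z, hz⟩ := QuasiSober.sober hZ.1 (isClosed_of_mem_irreducibleComponents Z hZ)
    have hzmax : ∀ b : U''.toScheme, b ⤳ z → b = z :=
      GenFiniteGen.maximal_of_mem_irreducibleComponents (by rw [hz.def]; exact hZ)
    have hζ'U'' : U''.ι z ∈ U'' := by
      have : U''.ι z ∈ Set.range U''.ι := ⟨z, rfl⟩
      rwa [Scheme.Opens.range_ι] at this
    have hζ'max : ∀ b : ↥(pullback f g), b ⤳ U''.ι z → b = U''.ι z := by
      intro b hb
      have hbU : b ∈ U'' := hb.mem_open U''.isOpen hζ'U''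
      obtain ⟨b₀, rfl⟩ : b ∈ Set.range U''.ι := by rw [Scheme.Opens.range_ι]; exact hbU
      have : b₀ ⤳ z := U''.ι.isOpenEmbedding.isInducing.specializes_iff.1 hb
      rw [hzmax b₀ this]
    have hζmax : ∀ b : X, b ⤳ (pullback.fst f g) (U''.ι z) → b = (pullback.fst f g) (U''.ι z) := by
      intro b hb
      obtain ⟨b', hb', rfl⟩ := Flat.generalizingMap (pullback.fst f g) hb
      rw [hζ'max b' hb']
    have hζU : (pullback.fst f g) (U''.ι z) ∈ U := hU''le hζ'U''
    have hηmax := maximal_image_of_dominates f U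
      (fun Z hZ => by obtain ⟨W, hW, -, hcl⟩ := h1 Z hZ; exact ⟨W, hW, hcl⟩) _ hζU hζmax
    have hη'max := snd_maximal_of_maximal f g (pullback.fst f g) (pullback.snd f g) hsq
      (U''.ι z) hζ'max _ rfl hηmax
    refine ⟨closure {(pullback.snd f g) (U''.ι z)},
      FlatEquidimGen.closure_singleton_mem_irreducibleComponents _ hη'max, ?_, ?_⟩
    · have := hmaxspec (U''.ι z) hζ'U'' hζ'max
      exact (this.map (pullback.snd f g).continuous).mem_closure
    · rw [← hz.def]
      apply subset_antisymm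
      · apply closure_minimal _ isClosed_closure
        have h3 := image_closure_subset_closure_image (f := (U''.ι ≫ pullback.snd f g).base)
          (s := {z}) (U''.ι ≫ pullback.snd f g).continuous
        rw [Set.image_singleton] at h3
        exact h3
      · apply closure_mono
        rw [Set.singleton_subset_iff]
        exact ⟨z, subset_closure rfl, rfl⟩
  · show ∀ u : U''.toScheme, ∀ Z ∈ irreducibleComponents
      ((U''.ι ≫ pullback.snd f g).fiber ((U''.ι ≫ pullback.snd f g) u)), topologicalKrullDim Z = e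
    intro u Z hZ
    obtain ⟨ζ, hζ⟩ := QuasiSober.sober hZ.1 (isClosed_of_mem_irreducibleComponents Z hZ)
    have hy : (U''.ι ≫ pullback.snd f g)
        ((U''.ι ≫ pullback.snd f g).fiberι ((U''.ι ≫ pullback.snd f g) u) ζ) =
        (U''.ι ≫ pullback.snd f g) u := by
      have : (U''.ι ≫ pullback.snd f g).fiberι ((U''.ι ≫ pullback.snd f g) u) ζ ∈
          Set.range ((U''.ι ≫ pullback.snd f g).fiberι ((U''.ι ≫ pullback.snd f g) u)) := ⟨ζ, rfl⟩
      rw [(U''.ι ≫ pullback.snd f g).range_fiberι] at this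
      exact this
    rw [FibreCompDimOne.dim_component_aux (U''.ι ≫ pullback.snd f g) _ _ hy Z hZ ζ hζ rfl]
    set w := (U''.ι ≫ pullback.snd f g).fiberι ((U''.ι ≫ pullback.snd f g) u) ζ with hw
    have hwU'' : U''.ι w ∈ U'' := by
      have : U''.ι w ∈ Set.range U''.ι := ⟨w, rfl⟩
      rwa [Scheme.Opens.range_ι] at this
    have e1 : FlatMor.fibreDimAt (pullback.snd f g) (U''.ι w) =
        FlatMor.fibreDimAt (U''.ι ≫ pullback.snd f g) w :=
      Chev.fibreDimAt_eq_of_openImmersion_square (U''.ι ≫ pullback.snd f g) (𝟙 Y') U''.ι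
        (pullback.snd f g) (Category.comp_id _) w
    have e2 := FibreDimBCLocal.fibreDimAt_baseChange f g (pullback.fst f g) (pullback.snd f g)
      hsq (U''.ι w)
    have hvU : (pullback.fst f g) (U''.ι w) ∈ U := hU''le hwU''
    obtain ⟨v, hv⟩ : (pullback.fst f g) (U''.ι w) ∈ Set.range U.ι := by
      rw [Scheme.Opens.range_ι]; exact hvU
    have e3 : FlatMor.fibreDimAt f (U.ι v) = FlatMor.fibreDimAt (U.ι ≫ f) v :=
      Chev.fibreDimAt_eq_of_openImmersion_square (U.ι ≫ f) (𝟙 Y) U.ι f (Category.comp_id _) v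
    have e4 : FlatMor.fibreDimAt (U.ι ≫ f) v = e :=
      fibreDimAt_eq_of_fibre_equidim (U.ι ≫ f) e v (h2 v)
    rw [← e1, e2, ← hv, e3, e4]

end main

end Groth.Agent.Lib.lead.EquidimBC
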