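import Mathlib
import Groth.Agent.Lib.lead.FibreDimComp
import Groth.Agent.Lib.lead.FibreDimBCLocal
import Groth.Agent.Lib.lead.QFRelDim
import Groth.Agent.Lib.lead.AffLocalDim
import Groth.Agent.Lib.Helper3.FinFib
import Groth.Agent.Lib.Helper18.Chev.SchemeBound
import Groth.Agent.Lib.Helper7.NoetherNormInt
import Groth.Prelude.Def_Flat

set_option autoImplicit false
set_option linter.style.haveILetI false
universe u
open CategoryTheory CategoryTheory.Limits AlgebraicGeometry Topology TopologicalSpace

namespace Groth.Agent.Lib.lead.SmoothRelDim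

open Groth.Agent.Lib.lead Groth.Agent.Lib.Helper18 Groth.Agent.Lib.Helper3 Groth.Agent.Lib.Helper7

theorem localDim_mvPolynomial (k : Type u) [Field k] (n : ℕ)
    (p : PrimeSpectrum (MvPolynomial (Fin n) k)) :
    FlatMor.localDim (PrimeSpectrum (MvPolynomial (Fin n) k)) p = (n : WithBot ℕ∞) := by
  rw [AffLocalDim.localDim_eq (k := k) (MvPolynomial (Fin n) k) p]
  have hdim : ringKrullDim (MvPolynomial (Fin n) k) = n :=
    NNInt.ringKrullDim_mvPolynomial_fin k n
  have hk : Order.krullDim (PrimeSpectrum (MvPolynomial (Fin n) k)) = n := hdim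
  have h1 : ((Order.height p + Order.coheight p : ℕ∞) : WithBot ℕ∞) ≤ n := by
    rw [← hk, Order.krullDim_eq_iSup_height_add_coheight_of_nonempty]
    exact_mod_cast le_iSup (fun a : PrimeSpectrum (MvPolynomial (Fin n) k) =>
      Order.height a + Order.coheight a) p
  have hbot : (⊥ : PrimeSpectrum (MvPolynomial (Fin n) k)) ≤ p := bot_le
  have h2 := AffLocalDim.coheight_add_height_mono (k := k) (MvPolynomial (Fin n) k) hbot
  have h3 : ((Order.coheight (⊥ : PrimeSpectrum (MvPolynomial (Fin n) k)) : ℕ∞) : WithBot ℕ∞) = n := by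
    rw [Order.coheight_bot_eq_krullDim, hk]
  rw [Order.height_bot, add_zero] at h2
  apply le_antisymm h1
  rw [← h3, add_comm]
  exact_mod_cast h2

theorem fibreDimAt_over_field {W : Scheme.{u}} {K : CommRingCat.{u}} (hK : IsField K)
    (p : W ⟶ Spec K) [LocallyOfFiniteType p] (w : W) :
    FlatMor.fibreDimAt p w = FlatMor.localDim W w := by
  unfold FlatMor.fibreDimAt
  let φ : K ⟶ (Spec K).residueField (p w) := Spec.preimage ((Spec K).fromSpecResidueField (p w))
  have hφ : Spec.map φ = (Spec K).fromSpecResidueField (p w) := Spec.map_preimage _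
  have hc : IsPullback (p.fiberι (p w)) (p.fiberToSpecResidueField (p w)) p (Spec.map φ) := by
    rw [hφ]; exact IsPullback.of_hasPullback _ _
  have hL : IsField ((Spec K).residueField (p w)) := Field.toIsField _
  rw [FibreDimBCLocal.localDim_pullback_field hK hL p φ _ _ hc (p.asFiber w), p.fiberι_asFiber]

theorem lft_SpecMap_C (A : Type u) [CommRing A] (n : ℕ) :
    LocallyOfFiniteType (Spec.map (CommRingCat.ofHom
      (algebraMap A (MvPolynomial (Fin n) A)))) := by
  rw [HasRingHomProperty.Spec_iff (P := @LocallyOfFiniteType)]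
  show (algebraMap A (MvPolynomial (Fin n) A)).FiniteType
  rw [RingHom.finiteType_algebraMap]
  infer_instance

attribute [local instance] MvPolynomial.algebraMvPolynomial in
theorem fibreDimAt_affineSpace (A : Type u) [CommRing A] (n : ℕ)
    (z : ↥(Spec (CommRingCat.of (MvPolynomial (Fin n) A)))) :
    FlatMor.fibreDimAt (Spec.map (CommRingCat.ofHom
      (algebraMap A (MvPolynomial (Fin n) A)))) z = (n : WithBot ℕ∞) := by
  haveI := lft_SpecMap_C A n
  set f := Spec.map (CommRingCat.ofHom (algebraMap A (MvPolynomial (Fin n) A))) with hf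
  let K : CommRingCat.{u} := (Spec (CommRingCat.of A)).residueField (f z)
  let ψ : CommRingCat.of A ⟶ K :=
    Spec.preimage ((Spec (CommRingCat.of A)).fromSpecResidueField (f z))
  have hψ : Spec.map ψ = (Spec (CommRingCat.of A)).fromSpecResidueField (f z) :=
    Spec.map_preimage _
  letI : Algebra A K := ψ.hom.toAlgebra
  have hpo := CommRingCat.isPushout_of_isPushout A K (MvPolynomial (Fin n) A)
    (MvPolynomial (Fin n) K)
  have hpb := (isPullback_SpecMap_of_isPushout _ _ _ _ hpo).flip
  have hψ' : CommRingCat.ofHom (algebraMap A K) = ψ := rfl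
  rw [hψ'] at hpb
  haveI := lft_SpecMap_C K n
  -- a point of Spec K[x] over z
  let t : ↥(Spec K) := Classical.arbitrary _
  have ht : f z = Spec.map ψ t := by
    rw [hψ, Scheme.fromSpecResidueField_apply]
  obtain ⟨z', hz', -⟩ := Scheme.exists_preimage_of_isPullback hpb z t ht
  rw [← hz', ← FibreDimBCLocal.fibreDimAt_baseChange f _ _ _ hpb z',
    fibreDimAt_over_field (Field.toIsField K) _ z']
  exact localDim_mvPolynomial K n z'

theorem fibreDimAt_of_isStandardSmoothOfRelativeDimension {A B : Type u} [CommRing A] [CommRing B]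
    (φ : A →+* B) (n : ℕ) (hφ : φ.IsStandardSmoothOfRelativeDimension n)
    (w : ↥(Spec (CommRingCat.of B))) :
    FlatMor.fibreDimAt (Spec.map (CommRingCat.ofHom φ)) w = (n : WithBot ℕ∞) := by
  obtain ⟨g, hg, hge⟩ := RingHom.IsStandardSmoothOfRelativeDimension.exists_etale_mvPolynomial hφ
  have e : CommRingCat.ofHom φ =
      CommRingCat.ofHom (algebraMap A (MvPolynomial (Fin n) A)) ≫ CommRingCat.ofHom g := by
    rw [← CommRingCat.ofHom_comp, MvPolynomial.algebraMap_eq, hg]
  haveI hE : Etale (Spec.map (CommRingCat.ofHom g)) :=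
    (HasRingHomProperty.Spec_iff (P := @Etale)).2 hge
  haveI := lft_SpecMap_C A n
  haveI : LocallyOfFiniteType (Spec.map (CommRingCat.ofHom g)) := inferInstance
  haveI : Flat (Spec.map (CommRingCat.ofHom g)) := inferInstance
  haveI := Groth.Agent.Lib.Helper3.locallyQuasiFinite_of_etale (Spec.map (CommRingCat.ofHom g))
  rw [e, Spec.map_comp,
    (FibreDimComp.S9354 (Spec.map (CommRingCat.ofHom g))
      (Spec.map (CommRingCat.ofHom (algebraMap A (MvPolynomial (Fin n) A)))) w).2
      (Flat.stalkMap _ w), fibreDimAt_affineSpace,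
    (QFRelDim.quasiFiniteAt_iff_fibreDimAt_eq_zero _ w).1 (Scheme.Hom.quasiFiniteAt _ w), zero_add]

theorem S2768 (n : ℕ) {X Y : Scheme.{u}} (f : X ⟶ Y)
    [SmoothOfRelativeDimension n f] (x : X) :
    FlatMor.fibreDimAt f x = (n : WithBot ℕ∞) := by
  obtain ⟨U, hU, V, hV, hxV, e, hφ⟩ :=
    SmoothOfRelativeDimension.exists_isStandardSmoothOfRelativeDimension (n := n) (f := f) x
  haveI : Smooth f := SmoothOfRelativeDimension.smooth n f
  haveI : LocallyOfFiniteType f := inferInstance
  have hxr : x ∈ Set.range hV.fromSpec := by rw [hV.range_fromSpec]; exact hxV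
  obtain ⟨w, rfl⟩ := hxr
  have comm := IsAffineOpen.SpecMap_appLE_fromSpec f hU hV e
  have hfp : (f.appLE U V e).hom.FinitePresentation :=
    HasRingHomProperty.appLE (P := @LocallyOfFinitePresentation) f inferInstance ⟨U, hU⟩ ⟨V, hV⟩ e
  haveI : LocallyOfFiniteType (Spec.map (f.appLE U V e)) := by
    rw [HasRingHomProperty.Spec_iff (P := @LocallyOfFiniteType)]
    exact RingHom.FiniteType.of_finitePresentation hfp
  rw [Chev.fibreDimAt_eq_of_openImmersion_square _ hU.fromSpec hV.fromSpec f comm w]
  exact fibreDimAt_of_isStandardSmoothOfRelativeDimension (f.appLE U V e).hom n hφ w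

end Groth.Agent.Lib.lead.SmoothRelDim
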