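import Mathlib
import Groth.Prelude.Def_PolLaw
import Groth.Agent.S13175

/-! Multiplicative polynomial laws: base-change calculus over `S[X]` and the reducedness of the image
(lead). Reusable: `poly_const`, `bc`, `compat`, `ιS`, `evS`, `τS`, `Φ`, `stepA`, `main`. -/

namespace Groth.Agent.Lib.lead.PolLawBC

universe u
open scoped TensorProduct

section poly
open Polynomial

theorem comp_negX_negX {D : Type*} [CommRing D] (P : D[X]) : (P.comp (-X)).comp (-X) = P := by
  rw [comp_assoc, neg_comp, X_comp, neg_neg, comp_X]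

theorem poly_const {R : Type*} [CommRing R] [IsReduced R] (G : R[X]) (c : R)
    (h : G * G.comp (-X) = C (c ^ 2)) (h0 : G.eval 0 = c) : G = C c := by
  have key : ∀ (𝔭 : Ideal R), 𝔭.IsPrime → G.map (Ideal.Quotient.mk 𝔭) = C (Ideal.Quotient.mk 𝔭 c) := by
    intro 𝔭 h𝔭
    set q := Ideal.Quotient.mk 𝔭 with hq
    have hmap : G.map q * (G.map q).comp (-X) = C (q c ^ 2) := by
      have := congrArg (Polynomial.map q) h
      rw [Polynomial.map_mul, Polynomial.map_comp, Polynomial.map_neg, Polynomial.map_X,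
        Polynomial.map_C, map_pow] at this
      exact this
    have hc0 : (G.map q).coeff 0 = q c := by
      rw [Polynomial.coeff_map, Polynomial.coeff_zero_eq_eval_zero, h0]
    by_cases hc : q c = 0
    · rw [hc, zero_pow (by norm_num), map_zero] at hmap
      rw [hc, map_zero]
      rcases mul_eq_zero.mp hmap with h1 | h1
      · exact h1
      · rw [← comp_negX_negX (G.map q), h1, zero_comp]
    · have hne : G.map q * (G.map q).comp (-X) ≠ 0 := by
        rw [hmap]
        exact C_ne_zero.mpr (pow_ne_zero _ hc)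
      have hdeg := congrArg natDegree hmap
      rw [natDegree_mul (left_ne_zero_of_mul hne) (right_ne_zero_of_mul hne), natDegree_C] at hdeg
      have h1 : (G.map q).natDegree = 0 := by omega
      rw [eq_C_of_natDegree_eq_zero h1, hc0]
  ext n
  have hnil : (G - C c).coeff n ∈ nilradical R := by
    rw [nilradical_eq_sInf, Ideal.mem_sInf]
    intro 𝔭 h𝔭
    have := key 𝔭 h𝔭
    rw [← Ideal.Quotient.eq_zero_iff_mem]
    have h2 : (G - C c).map (Ideal.Quotient.mk 𝔭) = 0 := by
      rw [Polynomial.map_sub, this, Polynomial.map_C, sub_self]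
    have := congrArg (fun P => P.coeff n) h2
    simpa only [Polynomial.coeff_map, Polynomial.coeff_zero] using this
  have := (mem_nilradical.mp hnil).eq_zero
  rw [coeff_sub, sub_eq_zero] at this
  exact this

end poly

section law
open scoped Polynomial

variable {A : Type u} [CommRing A] {B : Type u} [CommRing B] [Algebra A B]
    {C : Type u} [CommRing C] [Algebra A C]

/-- base change of an algebra map along `⊗ M` -/
noncomputable abbrev bc (M : Type u) [CommRing M] [Algebra A M] {S1 S2 : Type u} [CommRing S1] [Algebra A S1]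
    [CommRing S2] [Algebra A S2] (φ : S1 →ₐ[A] S2) : S1 ⊗[A] M →ₐ[A] S2 ⊗[A] M :=
  Algebra.TensorProduct.map φ (AlgHom.id A M)

theorem compat (F : B →ₚₗ[A] C) {S1 S2 : Type u} [CommRing S1] [Algebra A S1]
    [CommRing S2] [Algebra A S2] (φ : S1 →ₐ[A] S2) (z : S1 ⊗[A] B) :
    F.toFun' S2 (bc B φ z) = bc C φ (F.toFun' S1 z) := by
  have := PolynomialLaw.isCompat_apply' (f := F) φ z
  rw [Groth.Agent.S13175.rTensor_eq_map, Groth.Agent.S13175.rTensor_eq_map] at this
  exact this.symm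

variable (S : Type u) [CommRing S] [Algebra A S]

noncomputable def ιS : S →ₐ[A] S[X] := IsScalarTower.toAlgHom A S S[X]
noncomputable def evS (a : S) : S[X] →ₐ[A] S := (Polynomial.aeval a : S[X] →ₐ[S] S).restrictScalars A
noncomputable def τS : S[X] →ₐ[A] S[X] :=
  (Polynomial.aeval (-Polynomial.X) : S[X] →ₐ[S] S[X]).restrictScalars A

theorem ιS_apply (s : S) : ιS (A := A) S s = Polynomial.C s := rfl
theorem evS_apply (a : S) (P : S[X]) : evS (A := A) S a P = P.eval a := by
  show Polynomial.aeval a P = _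
  rw [Polynomial.coe_aeval_eq_eval]
theorem τS_apply (P : S[X]) : τS (A := A) S P = P.comp (-Polynomial.X) := by
  show Polynomial.aeval (-Polynomial.X) P = _
  rw [Polynomial.aeval_def, Polynomial.comp, Polynomial.algebraMap_eq]

variable (C) in
noncomputable def Φ : S[X] ⊗[A] C →ₐ[A] (S ⊗[A] C)[X] :=
  Algebra.TensorProduct.productMap
    (Polynomial.mapAlgHom (Algebra.TensorProduct.includeLeft : S →ₐ[A] S ⊗[A] C))
    ((IsScalarTower.toAlgHom A (S ⊗[A] C) (S ⊗[A] C)[X]).comp
      (Algebra.TensorProduct.includeRight : C →ₐ[A] S ⊗[A] C))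

theorem Φ_tmul (P : S[X]) (c : C) :
    Φ C S (P ⊗ₜ[A] c) = P.map (Algebra.TensorProduct.includeLeft : S →ₐ[A] S ⊗[A] C).toRingHom
      * Polynomial.C ((1 : S) ⊗ₜ[A] c) := by
  unfold Φ
  rw [Algebra.TensorProduct.productMap_apply_tmul]
  rfl

theorem Φ_eval (a : S) (z : S[X] ⊗[A] C) :
    (Φ C S z).eval (a ⊗ₜ[A] (1 : C)) = bc C (evS (A := A) S a) z := by
  induction z using TensorProduct.induction_on with
  | zero => simp
  | tmul P c =>
    rw [Φ_tmul, Polynomial.eval_mul, Polynomial.eval_C]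
    show _ = (evS (A := A) S a P) ⊗ₜ[A] c
    rw [evS_apply]
    have : (P.map (Algebra.TensorProduct.includeLeft : S →ₐ[A] S ⊗[A] C).toRingHom).eval (a ⊗ₜ[A] (1 : C))
        = (P.eval a) ⊗ₜ[A] (1 : C) := by
      rw [Polynomial.eval_map]
      exact Polynomial.eval₂_at_apply _ a
    rw [this, Algebra.TensorProduct.tmul_mul_tmul, mul_one, one_mul]
  | add x y hx hy => rw [map_add, Polynomial.eval_add, hx, hy, map_add]

theorem Φ_τ (z : S[X] ⊗[A] C) :
    Φ C S (bc C (τS (A := A) S) z) = (Φ C S z).comp (-Polynomial.X) := by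
  induction z using TensorProduct.induction_on with
  | zero => simp
  | tmul P c =>
    show Φ C S ((τS (A := A) S P) ⊗ₜ[A] c) = _
    rw [Φ_tmul, Φ_tmul, τS_apply, Polynomial.map_comp, Polynomial.map_neg, Polynomial.map_X,
      Polynomial.mul_comp, Polynomial.C_comp]
  | add x y hx hy => rw [map_add, map_add, hx, hy, map_add, Polynomial.add_comp]

theorem Φ_ι (r : S ⊗[A] C) : Φ C S (bc C (ιS (A := A) S) r) = Polynomial.C r := by
  induction r using TensorProduct.induction_on with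
  | zero => simp
  | tmul s c =>
    show Φ C S ((ιS (A := A) S s) ⊗ₜ[A] c) = _
    rw [Φ_tmul, ιS_apply, Polynomial.map_C, ← Polynomial.C_mul]
    congr 1
    show (s ⊗ₜ[A] (1 : C)) * ((1 : S) ⊗ₜ[A] c) = _
    rw [Algebra.TensorProduct.tmul_mul_tmul, mul_one, one_mul]
  | add x y hx hy => rw [map_add, map_add, hx, hy, Polynomial.C_add]

end law

section main
open scoped Polynomial

variable {A : Type u} [CommRing A] {B : Type u} [CommRing B] [Algebra A B]
    {C : Type u} [CommRing C] [Algebra A C]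

variable (S : Type u) [CommRing S] [Algebra A S]

theorem bc_τ_ι (z : S ⊗[A] B) :
    bc B (τS (A := A) S) (bc B (ιS (A := A) S) z) = bc B (ιS (A := A) S) z := by
  induction z using TensorProduct.induction_on with
  | zero => simp
  | tmul s b =>
    show (τS (A := A) S (ιS (A := A) S s)) ⊗ₜ[A] b = (ιS (A := A) S s) ⊗ₜ[A] b
    rw [τS_apply, ιS_apply, Polynomial.C_comp]
  | add x y hx hy => rw [map_add, map_add, hx, hy]

theorem bc_ev_ι (a : S) (z : S ⊗[A] B) :
    bc B (evS (A := A) S a) (bc B (ιS (A := A) S) z) = z := by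
  induction z using TensorProduct.induction_on with
  | zero => simp
  | tmul s b =>
    show (evS (A := A) S a (ιS (A := A) S s)) ⊗ₜ[A] b = s ⊗ₜ[A] b
    rw [evS_apply, ιS_apply, Polynomial.eval_C]
  | add x y hx hy => rw [map_add, map_add, hx, hy]

theorem bc_τ_T : bc B (τS (A := A) S) ((Polynomial.X : S[X]) ⊗ₜ[A] (1 : B))
    = - ((Polynomial.X : S[X]) ⊗ₜ[A] (1 : B)) := by
  show (τS (A := A) S Polynomial.X) ⊗ₜ[A] (1 : B) = _
  rw [τS_apply, Polynomial.X_comp, TensorProduct.neg_tmul]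

theorem bc_ev_T (a : S) : bc B (evS (A := A) S a) ((Polynomial.X : S[X]) ⊗ₜ[A] (1 : B))
    = a ⊗ₜ[A] (1 : B) := by
  show (evS (A := A) S a Polynomial.X) ⊗ₜ[A] (1 : B) = _
  rw [evS_apply, Polynomial.eval_X]

theorem stepA {d : ℕ} (F : PolLaw.MulLaw A B C d) [IsReduced (S ⊗[A] C)]
    (x y0 : S ⊗[A] B)
    (H : ∀ z z' : S[X] ⊗[A] B,
      F.law.toFun' S[X] (z + z' * (bc B (ιS (A := A) S) y0) ^ 2) = F.law.toFun' S[X] z) :
    F.law.toFun' S (x + y0) = F.law.toFun' S x := by
  have hmul := (F.mult S[X]).2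
  have hT1 : bc B (τS (A := A) S) (bc B (ιS (A := A) S) x + (Polynomial.X : S[X]) ⊗ₜ[A] (1 : B) * bc B (ιS (A := A) S) y0)
      = bc B (ιS (A := A) S) x - (Polynomial.X : S[X]) ⊗ₜ[A] (1 : B) * bc B (ιS (A := A) S) y0 := by
    rw [map_add, map_mul, bc_τ_ι, bc_τ_ι, bc_τ_T]
    ring
  have hgτ : bc C (τS (A := A) S) (F.law.toFun' S[X]
      (bc B (ιS (A := A) S) x + (Polynomial.X : S[X]) ⊗ₜ[A] (1 : B) * bc B (ιS (A := A) S) y0))
      = F.law.toFun' S[X]
        (bc B (ιS (A := A) S) x - (Polynomial.X : S[X]) ⊗ₜ[A] (1 : B) * bc B (ιS (A := A) S) y0) := by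
    rw [← compat, hT1]
  have hFx' : F.law.toFun' S[X] (bc B (ιS (A := A) S) x) = bc C (ιS (A := A) S) (F.law.toFun' S x) :=
    compat F.law _ x
  have hprod : F.law.toFun' S[X]
      (bc B (ιS (A := A) S) x + (Polynomial.X : S[X]) ⊗ₜ[A] (1 : B) * bc B (ιS (A := A) S) y0)
      * bc C (τS (A := A) S) (F.law.toFun' S[X]
      (bc B (ιS (A := A) S) x + (Polynomial.X : S[X]) ⊗ₜ[A] (1 : B) * bc B (ιS (A := A) S) y0))
      = (bc C (ιS (A := A) S) (F.law.toFun' S x)) ^ 2 := by
    rw [hgτ, ← hmul]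
    have e : (bc B (ιS (A := A) S) x + (Polynomial.X : S[X]) ⊗ₜ[A] (1 : B) * bc B (ιS (A := A) S) y0)
        * (bc B (ιS (A := A) S) x - (Polynomial.X : S[X]) ⊗ₜ[A] (1 : B) * bc B (ιS (A := A) S) y0)
        = bc B (ιS (A := A) S) x * bc B (ιS (A := A) S) x
          + (-((Polynomial.X : S[X]) ⊗ₜ[A] (1 : B)) ^ 2) * (bc B (ιS (A := A) S) y0) ^ 2 := by ring
    rw [e, H, hmul, hFx', sq]
  have hG : Φ C S (F.law.toFun' S[X]
      (bc B (ιS (A := A) S) x + (Polynomial.X : S[X]) ⊗ₜ[A] (1 : B) * bc B (ιS (A := A) S) y0))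
      = Polynomial.C (F.law.toFun' S x) := by
    apply poly_const
    · rw [← Φ_τ, ← map_mul, hprod, map_pow, Φ_ι, ← Polynomial.C_pow]
    · have := Φ_eval (C := C) S (0 : S) (F.law.toFun' S[X]
        (bc B (ιS (A := A) S) x + (Polynomial.X : S[X]) ⊗ₜ[A] (1 : B) * bc B (ιS (A := A) S) y0))
      rw [TensorProduct.zero_tmul] at this
      rw [this, ← compat, map_add, map_mul, bc_ev_ι, bc_ev_ι, bc_ev_T, TensorProduct.zero_tmul,
        zero_mul, add_zero]
  have := Φ_eval (C := C) S (1 : S) (F.law.toFun' S[X]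
        (bc B (ιS (A := A) S) x + (Polynomial.X : S[X]) ⊗ₜ[A] (1 : B) * bc B (ιS (A := A) S) y0))
  rw [hG, Polynomial.eval_C, ← compat, map_add, map_mul, bc_ev_ι, bc_ev_ι, bc_ev_T,
    ← Algebra.TensorProduct.one_def, one_mul] at this
  exact this.symm

theorem main [IsReduced C] {d : ℕ} (F : PolLaw.MulLaw A B C d) :
    IsReduced (PolLaw.image F.law) := by
  show IsReduced (B ⧸ PolLaw.ker F.law)
  rw [← Ideal.isRadical_iff_quotient_reduced, Ideal.isRadical_iff_pow_one_lt 2 (by norm_num)]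
  intro b hb
  show ∀ (S : Type u) [CommSemiring S] [Algebra A S] (x w : S ⊗[A] B),
    F.law.toFun' S (x + w * (1 ⊗ₜ[A] b)) = F.law.toFun' S x
  intro S _ _ x w
  let _ : CommRing S :=
    { (inferInstance : CommSemiring S), Module.addCommMonoidToAddCommGroup A (M := S) with }
  obtain ⟨n, ψ, p, q, rfl, rfl⟩ := Groth.Agent.S13175.exists_lift_pair x w
  haveI : IsReduced (MvPolynomial (Fin n) A ⊗[A] C) := by
    let e1 := Algebra.TensorProduct.comm A (MvPolynomial (Fin n) A) C
    let e2 := MvPolynomial.algebraTensorAlgEquiv (σ := Fin n) A C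
    exact isReduced_of_injective
      ((e2.toRingEquiv.toRingHom).comp (e1.toRingEquiv.toRingHom))
      (fun a b h => e1.injective (e2.injective h))
  have key := stepA (MvPolynomial (Fin n) A) F p (q * ((1 : MvPolynomial (Fin n) A) ⊗ₜ[A] b)) (by
    intro z z'
    have hb' := hb (MvPolynomial (Fin n) A)[X] z
      (z' * (bc B (ιS (A := A) (MvPolynomial (Fin n) A)) q) ^ 2)
    rw [← hb']
    congr 2
    rw [map_mul, mul_pow, mul_assoc]
    congr 2
    show ((ιS (A := A) (MvPolynomial (Fin n) A) 1) ⊗ₜ[A] b) ^ 2 = _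
    rw [map_one, Algebra.TensorProduct.tmul_pow, one_pow])
  have h1 := compat F.law ψ (p + q * ((1 : MvPolynomial (Fin n) A) ⊗ₜ[A] b))
  have h2 := compat F.law ψ p
  rw [key, ← h2] at h1
  rw [Groth.Agent.S13175.rTensor_eq_map, Groth.Agent.S13175.rTensor_eq_map]
  rw [← h1, map_add, map_mul]
  congr 3
  show _ = (ψ 1) ⊗ₜ[A] b
  rw [map_one]
end main

end Groth.Agent.Lib.lead.PolLawBC
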