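import Mathlib
import Groth.Prelude.Def_PolLaw
import Groth.Agent.Lib.lead.PolLawBC

namespace Groth.Agent.Lib.lead.PolLawKerBC
open Groth.Agent.Lib.lead.PolLawBC

universe u
open scoped TensorProduct Polynomial

section
variable {A : Type u} [CommRing A] {B : Type u} [CommRing B] [Algebra A B]
    {C : Type u} [CommRing C] [Algebra A C]

theorem mem_kerBC_iff (F : B →ₚₗ[A] C) (A' : Type u) [CommRing A'] [Algebra A A'] (b' : A' ⊗[A] B) :
    b' ∈ PolLaw.kerBC F A' ↔
      ∀ (R : Type u) [CommRing R] [Algebra A R] (ρ : A' →ₐ[A] R) (x w : R ⊗[A] B),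
        F.toFun' R (x + w * Algebra.TensorProduct.map ρ (AlgHom.id A B) b') = F.toFun' R x := by
  constructor
  · intro h R _ _ ρ x w
    letI : Algebra A' R := ρ.toRingHom.toAlgebra
    haveI : IsScalarTower A A' R := IsScalarTower.of_algebraMap_eq (fun a => (ρ.commutes a).symm)
    have e : IsScalarTower.toAlgHom A A' R = ρ := AlgHom.ext (fun _ => rfl)
    have := h R x w
    rw [e] at this
    exact this
  · intro h R _ _ _ _ x w
    let _ : CommRing R :=
      { (inferInstance : CommSemiring R), Module.addCommMonoidToAddCommGroup A (M := R) with }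
    exact h R (IsScalarTower.toAlgHom A A' R) x w

theorem mem_ker_iff (F : B →ₚₗ[A] C) (b : B) :
    b ∈ PolLaw.ker F ↔
      ∀ (R : Type u) [CommRing R] [Algebra A R] (x w : R ⊗[A] B),
        F.toFun' R (x + w * ((1 : R) ⊗ₜ[A] b)) = F.toFun' R x := by
  constructor
  · intro h R _ _ x w
    exact h R x w
  · intro h R _ _ x w
    let _ : CommRing R :=
      { (inferInstance : CommSemiring R), Module.addCommMonoidToAddCommGroup A (M := R) with }
    exact h R x w

variable (S : Type u) [CommRing S] [Algebra A S]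

noncomputable def σS (q : S[X]) : S[X] →ₐ[A] S[X] :=
  (Polynomial.aeval q : S[X] →ₐ[S] S[X]).restrictScalars A

theorem σS_apply (q P : S[X]) : σS (A := A) S q P = P.comp q := by
  show Polynomial.aeval q P = _
  rw [Polynomial.aeval_def, Polynomial.comp, Polynomial.algebraMap_eq]

theorem Φ_σ (q : S[X]) (z : S[X] ⊗[A] C) :
    Φ C S (bc C (σS (A := A) S q) z) = (Φ C S z).comp
      (q.map (Algebra.TensorProduct.includeLeft : S →ₐ[A] S ⊗[A] C).toRingHom) := by
  induction z using TensorProduct.induction_on with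
  | zero => simp
  | tmul P c =>
    show Φ C S ((σS (A := A) S q P) ⊗ₜ[A] c) = _
    rw [Φ_tmul, Φ_tmul, σS_apply, Polynomial.map_comp, Polynomial.mul_comp, Polynomial.C_comp]
  | add x y hx hy => rw [map_add, map_add, hx, hy, map_add, Polynomial.add_comp]

theorem bc_σ_ι (q : S[X]) (z : S ⊗[A] B) :
    bc B (σS (A := A) S q) (bc B (ιS (A := A) S) z) = bc B (ιS (A := A) S) z := by
  induction z using TensorProduct.induction_on with
  | zero => simp
  | tmul s b =>
    show (σS (A := A) S q (ιS (A := A) S s)) ⊗ₜ[A] b = (ιS (A := A) S s) ⊗ₜ[A] b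
    rw [σS_apply, ιS_apply, Polynomial.C_comp]
  | add x y hx hy => rw [map_add, map_add, hx, hy]

theorem bc_σ_T (q : S[X]) : bc B (σS (A := A) S q) ((Polynomial.X : S[X]) ⊗ₜ[A] (1 : B))
    = q ⊗ₜ[A] (1 : B) := by
  show (σS (A := A) S q Polynomial.X) ⊗ₜ[A] (1 : B) = _
  rw [σS_apply, Polynomial.X_comp]

end

section div
variable {A : Type u} [CommRing A] {B : Type u} [CommRing B] [Algebra A B]

theorem T_mem_nonZeroDivisors (R : Type u) [CommRing R] [Algebra A R] :
    ((Polynomial.X : R[X]) ⊗ₜ[A] (1 : A)) ∈ nonZeroDivisors (R[X] ⊗[A] A) := by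
  rw [mem_nonZeroDivisors_iff_right]
  intro z hz
  have e := Algebra.TensorProduct.rid A A R[X]
  apply (Algebra.TensorProduct.rid A A R[X]).injective
  rw [map_zero]
  have h2 := congrArg (Algebra.TensorProduct.rid A A R[X]) hz
  rw [map_mul, map_zero, Algebra.TensorProduct.rid_tmul, one_smul] at h2
  exact (Polynomial.X_mem_nonzeroDivisors (R := R)) |> fun h =>
    (mem_nonZeroDivisors_iff_right.mp h) _ h2

theorem div_lemma (F : B →ₚₗ[A] A) (c : A[X] ⊗[A] B)
    (h : ∀ (R : Type u) [CommRing R] [Algebra A R] (ρ : A[X] →ₐ[A] R) (x w : R ⊗[A] B),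
      F.toFun' R (x + w * Algebra.TensorProduct.map ρ (AlgHom.id A B)
        (((Polynomial.X : A[X]) ⊗ₜ[A] (1 : B)) * c)) = F.toFun' R x) :
    ∀ (R : Type u) [CommRing R] [Algebra A R] (ρ : A[X] →ₐ[A] R) (x w : R ⊗[A] B),
      F.toFun' R (x + w * Algebra.TensorProduct.map ρ (AlgHom.id A B) c) = F.toFun' R x := by
  intro R _ _ ρ x w
  -- first level: R[T]
  let ρ1 : A[X] →ₐ[A] R[X] := Polynomial.mapAlgHom (Algebra.ofId A R)
  have hρ1X : ρ1 Polynomial.X = Polynomial.X := by
    show Polynomial.map _ Polynomial.X = _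
    rw [Polynomial.map_X]
  have hev : (evS (A := A) R (ρ Polynomial.X)).comp ρ1 = ρ := by
    apply Polynomial.algHom_ext
    rw [AlgHom.comp_apply, hρ1X, evS_apply, Polynomial.eval_X]
  set y1 : R[X] ⊗[A] B := Algebra.TensorProduct.map ρ1 (AlgHom.id A B) c with hy1
  have hy1ev : bc B (evS (A := A) R (ρ Polynomial.X)) y1 = Algebra.TensorProduct.map ρ (AlgHom.id A B) c := by
    rw [hy1]
    show ((Algebra.TensorProduct.map (evS (A := A) R (ρ Polynomial.X)) (AlgHom.id A B)).comp
      (Algebra.TensorProduct.map ρ1 (AlgHom.id A B))) c = _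
    rw [← Algebra.TensorProduct.map_comp, hev]
    rfl
  set x1 := bc B (ιS (A := A) R) x with hx1
  set w1 := bc B (ιS (A := A) R) w with hw1
  -- claim at level R[T]
  have claim : F.toFun' R[X] (x1 + w1 * y1) = F.toFun' R[X] x1 := by
    -- second level R[T][λ]
    let ι1 := ιS (A := A) R[X]
    let ρ2 : A[X] →ₐ[A] R[X][X] := ι1.comp ρ1
    have hρ2X : ρ2 Polynomial.X = Polynomial.C Polynomial.X := by
      show ι1 (ρ1 Polynomial.X) = _
      rw [hρ1X]; rfl
    have hmapρ2 : Algebra.TensorProduct.map ρ2 (AlgHom.id A B) c = bc B ι1 y1 := by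
      rw [hy1]
      show _ = ((Algebra.TensorProduct.map ι1 (AlgHom.id A B)).comp
        (Algebra.TensorProduct.map ρ1 (AlgHom.id A B))) c
      rw [← Algebra.TensorProduct.map_comp]
      rfl
    set Z : R[X][X] ⊗[A] B := bc B ι1 x1 + ((Polynomial.X : R[X][X]) ⊗ₜ[A] (1 : B)) * bc B ι1 (w1 * y1) with hZ
    have hσZ : bc B (σS (A := A) R[X] (Polynomial.C Polynomial.X * Polynomial.X)) Z
        = bc B ι1 x1 + (((Polynomial.X : R[X][X]) ⊗ₜ[A] (1 : B)) * bc B ι1 w1) *
          Algebra.TensorProduct.map ρ2 (AlgHom.id A B) (((Polynomial.X : A[X]) ⊗ₜ[A] (1 : B)) * c) := by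
      rw [hZ, map_add, map_mul, bc_σ_ι, bc_σ_ι, bc_σ_T, map_mul (Algebra.TensorProduct.map ρ2 (AlgHom.id A B)),
        hmapρ2, map_mul (bc B ι1)]
      have e1 : Algebra.TensorProduct.map ρ2 (AlgHom.id A B) ((Polynomial.X : A[X]) ⊗ₜ[A] (1 : B))
          = (Polynomial.C Polynomial.X : R[X][X]) ⊗ₜ[A] (1 : B) := by
        show (ρ2 Polynomial.X) ⊗ₜ[A] (1 : B) = _
        rw [hρ2X]
      have e2 : ((Polynomial.C Polynomial.X * Polynomial.X : R[X][X]) ⊗ₜ[A] (1 : B))
          = ((Polynomial.C Polynomial.X : R[X][X]) ⊗ₜ[A] (1 : B)) * ((Polynomial.X : R[X][X]) ⊗ₜ[A] (1 : B)) := by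
        rw [Algebra.TensorProduct.tmul_mul_tmul, mul_one]
      rw [e1, e2]
      ring
    have hF1 : F.toFun' R[X][X] (bc B (σS (A := A) R[X] (Polynomial.C Polynomial.X * Polynomial.X)) Z)
        = bc A ι1 (F.toFun' R[X] x1) := by
      rw [hσZ, h R[X][X] ρ2, compat]
    rw [compat] at hF1
    have hG := congrArg (Φ A R[X]) hF1
    rw [Φ_σ, Φ_ι] at hG
    -- G.comp (C t * X) = C g0
    have hq : ((Polynomial.C Polynomial.X * Polynomial.X : R[X][X]).map
        (Algebra.TensorProduct.includeLeft : R[X] →ₐ[A] R[X] ⊗[A] A).toRingHom)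
        = Polynomial.C ((Polynomial.X : R[X]) ⊗ₜ[A] (1 : A)) * Polynomial.X := by
      rw [Polynomial.map_mul, Polynomial.map_C, Polynomial.map_X]
      rfl
    rw [hq] at hG
    have hGc : Φ A R[X] (F.toFun' R[X][X] Z) = Polynomial.C (F.toFun' R[X] x1) := by
      have h0 : (Φ A R[X] (F.toFun' R[X][X] Z) - Polynomial.C (F.toFun' R[X] x1)).comp
          (Polynomial.C ((Polynomial.X : R[X]) ⊗ₜ[A] (1 : A)) * Polynomial.X) = 0 := by
        rw [Polynomial.sub_comp, hG, Polynomial.C_comp, sub_self]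
      have := (Polynomial.comp_C_mul_X_eq_zero_iff (T_mem_nonZeroDivisors (A := A) R)).mp h0
      exact sub_eq_zero.mp this
    have hev1 := Φ_eval (C := A) R[X] (1 : R[X]) (F.toFun' R[X][X] Z)
    rw [hGc, Polynomial.eval_C, ← compat, hZ, map_add, map_mul, bc_ev_ι, bc_ev_ι, bc_ev_T,
      ← Algebra.TensorProduct.one_def, one_mul] at hev1
    exact hev1.symm
  have h3 := congrArg (bc A (evS (A := A) R (ρ Polynomial.X))) claim
  rw [← compat, ← compat, map_add, map_mul, hy1ev, hx1, hw1, bc_ev_ι, bc_ev_ι] at h3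
  exact h3
end div

section poly
variable {A : Type u} [CommRing A] {B : Type u} [CommRing B] [Algebra A B]

/-- `divX` as an `A`-linear map -/
noncomputable def divXlin : A[X] →ₗ[A] A[X] where
  toFun := Polynomial.divX
  map_add' _ _ := Polynomial.divX_add
  map_smul' a p := by
    show Polynomial.divX (a • p) = a • Polynomial.divX p
    rw [Polynomial.smul_eq_C_mul, Polynomial.divX_C_mul, Polynomial.smul_eq_C_mul]

/-- the shift on `A[X] ⊗ B` -/
noncomputable def Dsh : A[X] ⊗[A] B →ₗ[A] A[X] ⊗[A] B := (divXlin (A := A)).rTensor B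

/-- constant term `A[X] ⊗ B → B` -/
noncomputable def κ : A[X] ⊗[A] B →ₐ[A] B :=
  (Algebra.TensorProduct.lid A B).toAlgHom.comp
    (Algebra.TensorProduct.map (Polynomial.aeval (0 : A) : A[X] →ₐ[A] A) (AlgHom.id A B))

theorem κ_tmul (P : A[X]) (b : B) : κ (A := A) (B := B) (P ⊗ₜ[A] b) = P.coeff 0 • b := by
  show (Algebra.TensorProduct.lid A B) ((Polynomial.aeval (0 : A) P) ⊗ₜ[A] b) = _
  rw [Algebra.TensorProduct.lid_tmul, Polynomial.coe_aeval_eq_eval, Polynomial.coeff_zero_eq_eval_zero]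

theorem decomp (z : A[X] ⊗[A] B) :
    z = ((Polynomial.X : A[X]) ⊗ₜ[A] (1 : B)) * Dsh (A := A) (B := B) z
      + (1 : A[X]) ⊗ₜ[A] κ (A := A) (B := B) z := by
  induction z using TensorProduct.induction_on with
  | zero => simp
  | tmul P b =>
    show _ = ((Polynomial.X : A[X]) ⊗ₜ[A] (1 : B)) * ((Polynomial.divX P) ⊗ₜ[A] b) + _
    rw [κ_tmul, Algebra.TensorProduct.tmul_mul_tmul, one_mul, TensorProduct.tmul_smul,
      TensorProduct.smul_tmul', ← TensorProduct.add_tmul]
    congr 1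
    rw [Algebra.smul_def, mul_one, Polynomial.algebraMap_eq, Polynomial.X_mul_divX_add]
  | add x y hx hy =>
    rw [map_add, map_add, TensorProduct.tmul_add, mul_add]
    nth_rewrite 1 [hx, hy]
    abel

theorem Dsh_iterate_eventually (z : A[X] ⊗[A] B) :
    ∃ n : ℕ, ∀ m, n ≤ m → (Dsh (A := A) (B := B))^[m] z = 0 := by
  induction z using TensorProduct.induction_on with
  | zero => exact ⟨0, fun m _ => by simp⟩
  | tmul P b =>
    refine ⟨P.natDegree + 1, fun m hm => ?_⟩
    have h1 : ∀ k : ℕ, (Dsh (A := A) (B := B))^[k] (P ⊗ₜ[A] b) = (Polynomial.divX^[k] P) ⊗ₜ[A] b := by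
      intro k
      induction k with
      | zero => rfl
      | succ k ih =>
        rw [Function.iterate_succ_apply', ih, Function.iterate_succ_apply']
        rfl
    rw [h1]
    have h2 : Polynomial.divX^[m] P = 0 := by
      ext j
      have : ∀ k : ℕ, ∀ Q : A[X], ∀ j, (Polynomial.divX^[k] Q).coeff j = Q.coeff (j + k) := by
        intro k
        induction k with
        | zero => intro Q j; rfl
        | succ k ih =>
          intro Q j
          rw [Function.iterate_succ_apply', Polynomial.coeff_divX, ih]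
          congr 1
          omega
      rw [this, Polynomial.coeff_zero]
      apply Polynomial.coeff_eq_zero_of_natDegree_lt
      omega
    rw [h2, TensorProduct.zero_tmul]
  | add x y hx hy =>
    obtain ⟨n1, h1⟩ := hx
    obtain ⟨n2, h2⟩ := hy
    refine ⟨max n1 n2, fun m hm => ?_⟩
    have : ∀ k : ℕ, ∀ a b : A[X] ⊗[A] B, (Dsh (A := A) (B := B))^[k] (a + b)
        = (Dsh (A := A) (B := B))^[k] a + (Dsh (A := A) (B := B))^[k] b := by
      intro k a b
      rw [← Module.End.pow_apply, map_add, Module.End.pow_apply, Module.End.pow_apply]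
    rw [this, h1 m (le_trans (le_max_left _ _) hm), h2 m (le_trans (le_max_right _ _) hm), add_zero]

end poly

section mainthm
variable {A : Type u} [CommRing A] {B : Type u} [CommRing B] [Algebra A B]

theorem map_le_kerBC (F : B →ₚₗ[A] A) :
    (PolLaw.ker F).map (Algebra.TensorProduct.includeRight : B →ₐ[A] A[X] ⊗[A] B) ≤ PolLaw.kerBC F A[X] := by
  rw [Ideal.map_le_iff_le_comap]
  intro b hb
  rw [Ideal.mem_comap, mem_kerBC_iff]
  intro R _ _ ρ x w
  have : Algebra.TensorProduct.map ρ (AlgHom.id A B) (Algebra.TensorProduct.includeRight b)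
      = (1 : R) ⊗ₜ[A] b := by
    show (ρ 1) ⊗ₜ[A] b = _
    rw [map_one]
  rw [this]
  exact hb R x w

theorem map_spec_eq (R : Type u) [CommRing R] [Algebra A R] (z : A[X] ⊗[A] B) :
    Algebra.TensorProduct.map ((Algebra.ofId A R).comp (Polynomial.aeval (0 : A) : A[X] →ₐ[A] A))
      (AlgHom.id A B) z = (1 : R) ⊗ₜ[A] κ (A := A) (B := B) z := by
  induction z using TensorProduct.induction_on with
  | zero => simp
  | tmul P b =>
    rw [κ_tmul]
    show ((Algebra.ofId A R) (Polynomial.aeval (0 : A) P)) ⊗ₜ[A] b = _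
    rw [Polynomial.coe_aeval_eq_eval, ← Polynomial.coeff_zero_eq_eval_zero, TensorProduct.tmul_smul,
      TensorProduct.smul_tmul', Algebra.smul_def, mul_one]
    rfl
  | add x y hx hy => rw [map_add, map_add, hx, hy, TensorProduct.tmul_add]

theorem κ_mem_ker (F : B →ₚₗ[A] A) (z : A[X] ⊗[A] B) (hz : z ∈ PolLaw.kerBC F A[X]) :
    κ (A := A) (B := B) z ∈ PolLaw.ker F := by
  rw [mem_ker_iff]
  intro R _ _ x w
  rw [mem_kerBC_iff] at hz
  have := hz R ((Algebra.ofId A R).comp (Polynomial.aeval (0 : A) : A[X] →ₐ[A] A)) x w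
  rw [map_spec_eq] at this
  exact this

theorem kerBC_le_map (F : B →ₚₗ[A] A) :
    PolLaw.kerBC F A[X] ≤ (PolLaw.ker F).map (Algebra.TensorProduct.includeRight : B →ₐ[A] A[X] ⊗[A] B) := by
  have key : ∀ n : ℕ, ∀ z : A[X] ⊗[A] B, (Dsh (A := A) (B := B))^[n] z = 0 → z ∈ PolLaw.kerBC F A[X] →
      z ∈ (PolLaw.ker F).map (Algebra.TensorProduct.includeRight : B →ₐ[A] A[X] ⊗[A] B) := by
    intro n
    induction n with
    | zero =>
      intro z hz _
      rw [Function.iterate_zero, id] at hz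
      rw [hz]; exact Ideal.zero_mem _
    | succ n ih =>
      intro z hz hzk
      rw [Function.iterate_succ_apply] at hz
      have hκ := κ_mem_ker F z hzk
      have hκ' : (1 : A[X]) ⊗ₜ[A] κ (A := A) (B := B) z ∈
          (PolLaw.ker F).map (Algebra.TensorProduct.includeRight : B →ₐ[A] A[X] ⊗[A] B) :=
        Ideal.mem_map_of_mem _ hκ
      have hXD : ((Polynomial.X : A[X]) ⊗ₜ[A] (1 : B)) * Dsh (A := A) (B := B) z ∈ PolLaw.kerBC F A[X] := by
        have e : ((Polynomial.X : A[X]) ⊗ₜ[A] (1 : B)) * Dsh (A := A) (B := B) z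
            = z - (1 : A[X]) ⊗ₜ[A] κ (A := A) (B := B) z := by
          nth_rewrite 2 [decomp z]
          abel
        rw [e]
        exact Ideal.sub_mem _ hzk (map_le_kerBC F hκ')
      have hD : Dsh (A := A) (B := B) z ∈ PolLaw.kerBC F A[X] := by
        rw [mem_kerBC_iff] at hXD ⊢
        exact div_lemma F _ hXD
      have := ih _ hz hD
      rw [decomp z]
      exact Ideal.add_mem _ (Ideal.mul_mem_left _ _ this) hκ'
  intro z hz
  obtain ⟨n, hn⟩ := Dsh_iterate_eventually (A := A) (B := B) z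
  exact key n z (hn n le_rfl) hz

theorem main {d : ℕ} (F : PolLaw.MulLaw A B A d) :
    (PolLaw.ker F.law).map (Algebra.TensorProduct.includeRight : B →ₐ[A] Polynomial A ⊗[A] B) =
      PolLaw.kerBC F.law (Polynomial A) :=
  le_antisymm (map_le_kerBC F.law) (kerBC_le_map F.law)

end mainthm
end Groth.Agent.Lib.lead.PolLawKerBC
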