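import Mathlib
import Groth.Prelude.Def_PolLaw
import Groth.Agent.Lib.lead.PolLawKerBC

namespace Groth.Agent.Lib.lead.PolLawUniv
open Groth.Agent.Lib.lead.PolLawBC Groth.Agent.Lib.lead.PolLawKerBC

universe u
open scoped TensorProduct Polynomial

section coords
variable {A : Type u} [CommRing A] {B : Type u} [CommRing B] [Algebra A B]

theorem exists_coords {n : ℕ} (e : Fin n → B) (he : Submodule.span A (Set.range e) = ⊤)
    (R : Type u) [CommRing R] [Algebra A R] (x : R ⊗[A] B) :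
    ∃ r : Fin n → R, x = ∑ i, r i ⊗ₜ[A] e i := by
  induction x using TensorProduct.induction_on with
  | zero => exact ⟨0, by simp⟩
  | tmul s b =>
    have hb : b ∈ Submodule.span A (Set.range e) := by rw [he]; trivial
    obtain ⟨c, rfl⟩ := (Submodule.mem_span_range_iff_exists_fun A).mp hb
    refine ⟨fun i => c i • s, ?_⟩
    rw [TensorProduct.tmul_sum]
    refine Finset.sum_congr rfl (fun i _ => ?_)
    rw [TensorProduct.tmul_smul, TensorProduct.smul_tmul']
  | add x y hx hy =>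
    obtain ⟨r, rfl⟩ := hx
    obtain ⟨s, rfl⟩ := hy
    refine ⟨r + s, ?_⟩
    rw [← Finset.sum_add_distrib]
    refine Finset.sum_congr rfl (fun i _ => ?_)
    rw [Pi.add_apply, TensorProduct.add_tmul]

variable (A1 : Type u) [CommRing A1] [Algebra A A1]

/-- the universal test ring over `A1` for pairs `(x, w)` -/
abbrev U (n : ℕ) := MvPolynomial (Fin n ⊕ Fin n) A1

noncomputable def ρu (n : ℕ) : A1 →ₐ[A] U A1 n := IsScalarTower.toAlgHom A A1 (U A1 n)

theorem ρu_apply (n : ℕ) (a : A1) : ρu (A := A) A1 n a = MvPolynomial.C a := rfl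

noncomputable def xu {n : ℕ} (e : Fin n → B) : U A1 n ⊗[A] B :=
  ∑ i, (MvPolynomial.X (Sum.inl i) : U A1 n) ⊗ₜ[A] e i

noncomputable def wu {n : ℕ} (e : Fin n → B) : U A1 n ⊗[A] B :=
  ∑ i, (MvPolynomial.X (Sum.inr i) : U A1 n) ⊗ₜ[A] e i

/-- the classifying map of `(ρ, r, s)` -/
noncomputable def ψu {n : ℕ} {R : Type u} [CommRing R] [Algebra A R] (ρ : A1 →ₐ[A] R)
    (r s : Fin n → R) : U A1 n →ₐ[A] R :=
  { MvPolynomial.eval₂Hom (ρ : A1 →+* R) (Sum.elim r s) with
    commutes' := fun a => by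
      show MvPolynomial.eval₂Hom (ρ : A1 →+* R) (Sum.elim r s) (algebraMap A (MvPolynomial (Fin n ⊕ Fin n) A1) a) = _
      rw [MvPolynomial.algebraMap_apply, MvPolynomial.eval₂Hom_C]
      exact ρ.commutes a }

theorem ψu_X {n : ℕ} {R : Type u} [CommRing R] [Algebra A R] (ρ : A1 →ₐ[A] R)
    (r s : Fin n → R) (j : Fin n ⊕ Fin n) : ψu A1 ρ r s (MvPolynomial.X j) = Sum.elim r s j := by
  show MvPolynomial.eval₂Hom (ρ : A1 →+* R) (Sum.elim r s) (MvPolynomial.X j) = _
  rw [MvPolynomial.eval₂Hom_X']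

theorem ψu_comp_ρu {n : ℕ} {R : Type u} [CommRing R] [Algebra A R] (ρ : A1 →ₐ[A] R)
    (r s : Fin n → R) : (ψu A1 ρ r s).comp (ρu (A := A) A1 n) = ρ := by
  ext a
  show MvPolynomial.eval₂Hom (ρ : A1 →+* R) (Sum.elim r s) (MvPolynomial.C a) = _
  rw [MvPolynomial.eval₂Hom_C]
  rfl

theorem exists_univ {n : ℕ} (e : Fin n → B) (he : Submodule.span A (Set.range e) = ⊤)
    (R : Type u) [CommRing R] [Algebra A R] (ρ : A1 →ₐ[A] R) (x w : R ⊗[A] B) :
    ∃ ψ : U A1 n →ₐ[A] R, ψ.comp (ρu (A := A) A1 n) = ρ ∧ bc B ψ (xu A1 e) = x ∧ bc B ψ (wu A1 e) = w := by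
  obtain ⟨r, rfl⟩ := exists_coords e he R x
  obtain ⟨s, rfl⟩ := exists_coords e he R w
  refine ⟨ψu A1 ρ r s, ψu_comp_ρu A1 ρ r s, ?_, ?_⟩
  · unfold xu
    rw [map_sum]
    refine Finset.sum_congr rfl (fun i _ => ?_)
    show (ψu A1 ρ r s (MvPolynomial.X (Sum.inl i))) ⊗ₜ[A] e i = _
    rw [ψu_X]; rfl
  · unfold wu
    rw [map_sum]
    refine Finset.sum_congr rfl (fun i _ => ?_)
    show (ψu A1 ρ r s (MvPolynomial.X (Sum.inr i))) ⊗ₜ[A] e i = _
    rw [ψu_X]; rfl

/-- membership in `kerBC` can be tested on the universal pair -/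
theorem mem_kerBC_iff_univ {C : Type u} [CommRing C] [Algebra A C] (F : B →ₚₗ[A] C)
    {n : ℕ} (e : Fin n → B) (he : Submodule.span A (Set.range e) = ⊤) (b1 : A1 ⊗[A] B) :
    b1 ∈ PolLaw.kerBC F A1 ↔
      F.toFun' (U A1 n) (xu A1 e + wu A1 e * Algebra.TensorProduct.map (ρu (A := A) A1 n) (AlgHom.id A B) b1)
        = F.toFun' (U A1 n) (xu A1 e) := by
  rw [mem_kerBC_iff]
  constructor
  · intro h
    exact h (U A1 n) (ρu (A := A) A1 n) _ _
  · intro h R _ _ ρ x w
    obtain ⟨ψ, hψ, rfl, rfl⟩ := exists_univ A1 e he R ρ x w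
    have h2 := congrArg (bc C ψ) h
    rw [← compat, ← compat, map_add, map_mul] at h2
    have e3 : bc B ψ (Algebra.TensorProduct.map (ρu (A := A) A1 n) (AlgHom.id A B) b1)
        = Algebra.TensorProduct.map ρ (AlgHom.id A B) b1 := by
      show ((Algebra.TensorProduct.map ψ (AlgHom.id A B)).comp
        (Algebra.TensorProduct.map (ρu (A := A) A1 n) (AlgHom.id A B))) b1 = _
      rw [← Algebra.TensorProduct.map_comp, hψ]
      rfl
    rw [e3] at h2
    exact h2

end coords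

section scaling
variable {A : Type u} [CommRing A] {B : Type u} [CommRing B] [Algebra A B]
    {C : Type u} [CommRing C] [Algebra A C]

theorem map_le_kerBC' (F : B →ₚₗ[A] C) (A' : Type u) [CommRing A'] [Algebra A A'] :
    (PolLaw.ker F).map (Algebra.TensorProduct.includeRight : B →ₐ[A] A' ⊗[A] B) ≤ PolLaw.kerBC F A' := by
  rw [Ideal.map_le_iff_le_comap]
  intro b hb
  rw [Ideal.mem_comap, mem_kerBC_iff]
  intro R _ _ ρ x w
  have : Algebra.TensorProduct.map ρ (AlgHom.id A B) (Algebra.TensorProduct.includeRight b)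
      = (1 : R) ⊗ₜ[A] b := by
    show (ρ 1) ⊗ₜ[A] b = _
    rw [map_one]
  rw [this]
  exact hb R x w

theorem poly_eval_smul {R' : Type u} [CommRing R'] [Algebra A R'] (D : R'[X]) (m : A)
    (h : m • D = 0) : D.eval (algebraMap A R' m) = D.eval 0 := by
  have hQ : m • D.divX = 0 := by
    have : (m • D).divX = m • D.divX := by
      ext j
      rw [Polynomial.coeff_divX, Polynomial.coeff_smul, Polynomial.coeff_smul, Polynomial.coeff_divX]
    rw [← this, h, Polynomial.divX_zero]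
  have hD := Polynomial.X_mul_divX_add D
  have key : ∀ t : R', D.eval t = t * D.divX.eval t + D.coeff 0 := by
    intro t
    conv_lhs => rw [← hD]
    rw [Polynomial.eval_add, Polynomial.eval_mul, Polynomial.eval_X, Polynomial.eval_C]
  have : algebraMap A R' m * Polynomial.eval (algebraMap A R' m) D.divX = 0 := by
    have h2 := congrArg (Polynomial.eval (algebraMap A R' m)) hQ
    rw [Algebra.smul_def, Polynomial.algebraMap_apply, Polynomial.eval_mul, Polynomial.eval_C,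
      Polynomial.eval_zero] at h2
    exact h2
  rw [key, key 0, this, zero_mul]

theorem smul_mem_ker_of_kill (F : B →ₚₗ[A] C) (b : B) (m : A)
    (h : ∀ (R : Type u) [CommRing R] [Algebra A R] (x w : R ⊗[A] B),
      m • (F.toFun' R (x + w * ((1 : R) ⊗ₜ[A] b)) - F.toFun' R x) = 0) :
    m • b ∈ PolLaw.ker F := by
  rw [mem_ker_iff]
  intro R _ _ x w
  set Z : R[X] ⊗[A] B := bc B (ιS (A := A) R) x
    + (((Polynomial.X : R[X]) ⊗ₜ[A] (1 : B)) * bc B (ιS (A := A) R) w) * ((1 : R[X]) ⊗ₜ[A] b) with hZ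
  set D : (R ⊗[A] C)[X] := Φ C R (F.toFun' R[X] Z) - Polynomial.C (F.toFun' R x) with hD
  have hmD : m • D = 0 := by
    have h1 := h R[X] (bc B (ιS (A := A) R) x) (((Polynomial.X : R[X]) ⊗ₜ[A] (1 : B)) * bc B (ιS (A := A) R) w)
    rw [compat, ← hZ] at h1
    have h2 := congrArg (Φ C R) h1
    rw [map_smul, map_sub, Φ_ι, map_zero] at h2
    exact h2
  have hev := poly_eval_smul D m hmD
  have e0 : D.eval 0 = 0 := by
    rw [hD, Polynomial.eval_sub, Polynomial.eval_C]
    have := Φ_eval (C := C) R (0 : R) (F.toFun' R[X] Z)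
    rw [TensorProduct.zero_tmul] at this
    rw [this, ← compat, hZ, map_add, map_mul, map_mul, bc_ev_ι, bc_ev_ι, bc_ev_T, TensorProduct.zero_tmul,
      zero_mul, zero_mul, add_zero, sub_self]
  have e1 : D.eval (algebraMap A (R ⊗[A] C) m)
      = F.toFun' R (x + w * ((1 : R) ⊗ₜ[A] (m • b))) - F.toFun' R x := by
    rw [hD, Polynomial.eval_sub, Polynomial.eval_C]
    have hm : algebraMap A (R ⊗[A] C) m = (algebraMap A R m) ⊗ₜ[A] (1 : C) := rfl
    rw [hm, Φ_eval, ← compat, hZ, map_add, map_mul, map_mul, bc_ev_ι, bc_ev_ι, bc_ev_T]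
    congr 3
    have : bc B (evS (A := A) R (algebraMap A R m)) ((1 : R[X]) ⊗ₜ[A] b) = (1 : R) ⊗ₜ[A] b := by
      show (evS (A := A) R (algebraMap A R m) 1) ⊗ₜ[A] b = _
      rw [map_one]
    rw [this, mul_comm ((algebraMap A R m) ⊗ₜ[A] (1 : B)) w, mul_assoc, Algebra.TensorProduct.tmul_mul_tmul,
      mul_one, one_mul, TensorProduct.tmul_smul, Algebra.algebraMap_eq_smul_one, TensorProduct.smul_tmul']
  rw [hev, e0] at e1
  exact (sub_eq_zero.mp e1.symm)

end scaling

section loc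
variable {A : Type u} [CommRing A] {B : Type u} [CommRing B] [Algebra A B]

theorem exists_smul_eq_one_tmul (M : Submonoid A) (A' : Type u) [CommRing A'] [Algebra A A']
    [IsLocalization M A'] (b' : A' ⊗[A] B) : ∃ (m : M) (b : B), (m : A) • b' = (1 : A') ⊗ₜ[A] b := by
  induction b' using TensorProduct.induction_on with
  | zero => exact ⟨1, 0, by simp⟩
  | tmul a' b =>
    obtain ⟨⟨a, m⟩, ham⟩ := IsLocalization.surj M a'
    refine ⟨m, a • b, ?_⟩
    rw [TensorProduct.smul_tmul', TensorProduct.tmul_smul, TensorProduct.smul_tmul', Algebra.smul_def,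
      Algebra.smul_def, mul_one, mul_comm]
    simp only at ham
    rw [ham]
  | add x y hx hy =>
    obtain ⟨m1, b1, h1⟩ := hx
    obtain ⟨m2, b2, h2⟩ := hy
    refine ⟨m1 * m2, (m2 : A) • b1 + (m1 : A) • b2, ?_⟩
    rw [smul_add, Submonoid.coe_mul, TensorProduct.tmul_add, TensorProduct.tmul_smul, TensorProduct.tmul_smul,
      ← h1, ← h2, smul_smul, smul_smul, mul_comm (m1 : A) (m2 : A)]

theorem rid_bc {S1 S2 : Type u} [CommRing S1] [Algebra A S1] [CommRing S2] [Algebra A S2]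
    (θ : S1 →ₐ[A] S2) (z : S1 ⊗[A] A) :
    Algebra.TensorProduct.rid A A S2 (bc A θ z) = θ (Algebra.TensorProduct.rid A A S1 z) := by
  induction z using TensorProduct.induction_on with
  | zero => simp
  | tmul s a =>
    show Algebra.TensorProduct.rid A A S2 ((θ s) ⊗ₜ[A] a) = _
    rw [Algebra.TensorProduct.rid_tmul, Algebra.TensorProduct.rid_tmul, map_smul]
  | add x y hx hy => rw [map_add, map_add, hx, hy, map_add, map_add]

theorem exists_smul_eq_zero_of_map_eq_zero (M : Submonoid A) (A' : Type u) [CommRing A'] [Algebra A A']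
    [IsLocalization M A'] {σ : Type*} (P : MvPolynomial σ A)
    (h : MvPolynomial.map (algebraMap A A') P = 0) : ∃ m : M, (m : A) • P = 0 := by
  classical
  have hc : ∀ d, ∃ m : M, (m : A) * P.coeff d = 0 := by
    intro d
    apply (IsLocalization.map_eq_zero_iff M A' _).mp
    have := congrArg (MvPolynomial.coeff d) h
    rw [MvPolynomial.coeff_map, MvPolynomial.coeff_zero] at this
    exact this
  choose md hmd using hc
  refine ⟨∏ d ∈ P.support, md d, ?_⟩
  ext d
  rw [MvPolynomial.coeff_smul, MvPolynomial.coeff_zero, smul_eq_mul]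
  by_cases hd : d ∈ P.support
  · rw [Submonoid.coe_finset_prod, ← Finset.mul_prod_erase _ _ hd, mul_comm (md d : A), mul_assoc, hmd,
      mul_zero]
  · rw [MvPolynomial.notMem_support_iff.mp hd, mul_zero]

theorem main_loc [Module.Finite A B] (F : B →ₚₗ[A] A) (M : Submonoid A) (A' : Type u) [CommRing A']
    [Algebra A A'] [IsLocalization M A'] :
    (PolLaw.ker F).map (Algebra.TensorProduct.includeRight : B →ₐ[A] A' ⊗[A] B) = PolLaw.kerBC F A' := by
  apply le_antisymm (map_le_kerBC' F A')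
  intro b' hb'
  obtain ⟨n, e, he⟩ := Module.Finite.exists_fin (R := A) (M := B)
  obtain ⟨m, b, hmb⟩ := exists_smul_eq_one_tmul M A' b'
  have h1 : (1 : A') ⊗ₜ[A] b ∈ PolLaw.kerBC F A' := by
    rw [← hmb]
    exact Submodule.smul_of_tower_mem _ _ hb'
  -- universal defect
  let θ : U A n →ₐ[A] U A' n := MvPolynomial.mapAlgHom (Algebra.ofId A A')
  set Δ : U A n ⊗[A] A := F.toFun' (U A n) (xu A e + wu A e * ((1 : U A n) ⊗ₜ[A] b))
    - F.toFun' (U A n) (xu A e) with hΔ
  have hθΔ : bc A θ Δ = 0 := by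
    rw [hΔ, map_sub, ← compat, ← compat, map_add, map_mul]
    have e1 : bc B θ ((1 : U A n) ⊗ₜ[A] b) = Algebra.TensorProduct.map (ρu (A := A) A' n) (AlgHom.id A B)
        ((1 : A') ⊗ₜ[A] b) := by
      show (θ 1) ⊗ₜ[A] b = (ρu (A := A) A' n 1) ⊗ₜ[A] b
      rw [map_one, map_one]
    rw [e1, (mem_kerBC_iff F A' _).mp h1, sub_self]
  obtain ⟨m2, hm2⟩ : ∃ m2 : M, (m2 : A) • Δ = 0 := by
    have hP : MvPolynomial.map (algebraMap A A') (Algebra.TensorProduct.rid A A (U A n) Δ) = 0 := by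
      have := rid_bc θ Δ
      rw [hθΔ, map_zero] at this
      exact this.symm
    obtain ⟨m2, hm2⟩ := exists_smul_eq_zero_of_map_eq_zero M A' _ hP
    refine ⟨m2, ?_⟩
    apply (Algebra.TensorProduct.rid A A (U A n)).injective
    rw [map_smul, hm2, map_zero]
  have hkill : ∀ (R : Type u) [CommRing R] [Algebra A R] (x w : R ⊗[A] B),
      (m2 : A) • (F.toFun' R (x + w * ((1 : R) ⊗ₜ[A] b)) - F.toFun' R x) = 0 := by
    intro R _ _ x w
    obtain ⟨ψ, -, rfl, rfl⟩ := exists_univ A e he R (Algebra.ofId A R) x w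
    have h3 := congrArg (bc A ψ) hm2
    rw [map_smul, hΔ, map_sub, ← compat, ← compat, map_add, map_mul, map_zero] at h3
    have e1 : bc B ψ ((1 : U A n) ⊗ₜ[A] b) = (1 : R) ⊗ₜ[A] b := by
      show (ψ 1) ⊗ₜ[A] b = _
      rw [map_one]
    rw [e1] at h3
    exact h3
  have hker := smul_mem_ker_of_kill F b (m2 : A) hkill
  -- conclude
  have h4 : ((m2 : A) * (m : A)) • b' ∈
      (PolLaw.ker F).map (Algebra.TensorProduct.includeRight : B →ₐ[A] A' ⊗[A] B) := by
    rw [mul_smul, hmb, ← TensorProduct.tmul_smul]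
    exact Ideal.mem_map_of_mem _ hker
  obtain ⟨u, hu⟩ := IsLocalization.map_units A' (m2 * m)
  have h5 : b' = (((u⁻¹ : A'ˣ) : A') ⊗ₜ[A] (1 : B)) * (((m2 : A) * (m : A)) • b') := by
    have e2 : ((m2 : A) * (m : A)) • b' = (((u : A'ˣ) : A') ⊗ₜ[A] (1 : B)) * b' := by
      rw [hu, Submonoid.coe_mul, Algebra.smul_def]
      rfl
    rw [e2, ← mul_assoc, Algebra.TensorProduct.tmul_mul_tmul, Units.inv_mul, mul_one,
      ← Algebra.TensorProduct.one_def, one_mul]
  rw [h5]
  exact Ideal.mul_mem_left _ _ h4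

end loc
end Groth.Agent.Lib.lead.PolLawUniv
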