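import Mathlib
import Groth.Prelude.Def_PolLaw
import Groth.Agent.Lib.lead.PolLawKerBC
import Groth.Agent.S13175

namespace Groth.Agent.Lib.lead.PolLawQuot
open Groth.Agent.Lib.lead.PolLawBC Groth.Agent.Lib.lead.PolLawKerBC

universe u
open scoped TensorProduct Polynomial

section quot
variable {A : Type u} [CommRing A] {B : Type u} [CommRing B] [Algebra A B]
    {B' : Type u} [CommRing B'] [Algebra A B'] {C : Type u} [CommRing C] [Algebra A C]
    (π : B →ₐ[A] B') (hπ : Function.Surjective π) (F : B →ₚₗ[A] C)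
    (hF : ∀ k : B, π k = 0 → k ∈ PolLaw.ker F)

include hF hπ in
theorem well_def (S : Type u) [CommSemiring S] [Algebra A S] (x1 x2 : S ⊗[A] B)
    (h : π.toLinearMap.lTensor S x1 = π.toLinearMap.lTensor S x2) :
    F.toFun' S x1 = F.toFun' S x2 := by
  let _ : CommRing S :=
    { (inferInstance : CommSemiring S), Module.addCommMonoidToAddCommGroup A (M := S) with }
  have hex : Function.Exact ((LinearMap.ker π.toLinearMap).subtype.lTensor S) (π.toLinearMap.lTensor S) :=
    lTensor_exact S (LinearMap.exact_subtype_ker_map π.toLinearMap) hπ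
  have hmem : π.toLinearMap.lTensor S (x1 - x2) = 0 := by rw [map_sub, h, sub_self]
  obtain ⟨y, hy⟩ := (hex (x1 - x2)).mp hmem
  have key : ∀ (y : S ⊗[A] (LinearMap.ker π.toLinearMap)) (x : S ⊗[A] B),
      F.toFun' S (x + (LinearMap.ker π.toLinearMap).subtype.lTensor S y) = F.toFun' S x := by
    intro y
    induction y using TensorProduct.induction_on with
    | zero => intro x; simp
    | tmul s k =>
      intro x
      have hk : (k : B) ∈ PolLaw.ker F := hF k k.2
      have := hk S x (s ⊗ₜ[A] (1 : B))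
      rw [Algebra.TensorProduct.tmul_mul_tmul, mul_one, one_mul] at this
      exact this
    | add y1 y2 h1 h2 =>
      intro x
      rw [map_add, ← add_assoc, h2, h1]
  have := key y x2
  rw [hy, add_sub_cancel] at this
  exact this

/-- the law induced on the quotient `B'` -/
noncomputable def quotLaw : B' →ₚₗ[A] C where
  toFun' S _ _ := fun x' =>
    F.toFun' S (Classical.choose (LinearMap.lTensor_surjective S (g := π.toLinearMap) hπ x'))
  isCompat' {S} _ _ {S'} _ _ φ := by
    funext x'
    simp only [Function.comp_apply]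
    have h1 := Classical.choose_spec (LinearMap.lTensor_surjective S (g := π.toLinearMap) hπ x')
    have h2 := Classical.choose_spec (LinearMap.lTensor_surjective S' (g := π.toLinearMap) hπ
      (φ.toLinearMap.rTensor B' x'))
    rw [PolynomialLaw.isCompat_apply']
    apply well_def π hπ F hF S'
    rw [h2]
    conv_rhs => rw [← h1]
    rw [← LinearMap.comp_apply, ← LinearMap.comp_apply, LinearMap.lTensor_comp_rTensor,
      LinearMap.rTensor_comp_lTensor]

theorem quotLaw_apply (S : Type u) [CommSemiring S] [Algebra A S] (x : S ⊗[A] B) :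
    (quotLaw π hπ F hF).toFun' S (π.toLinearMap.lTensor S x) = F.toFun' S x := by
  apply well_def π hπ F hF S
  exact Classical.choose_spec (LinearMap.lTensor_surjective S (g := π.toLinearMap) hπ
    (π.toLinearMap.lTensor S x))

end quot

section mul
variable {A : Type u} [CommRing A] {B : Type u} [CommRing B] [Algebra A B]
    {B' : Type u} [CommRing B'] [Algebra A B'] {C : Type u} [CommRing C] [Algebra A C]
    (π : B →ₐ[A] B') (hπ : Function.Surjective π) {d : ℕ} (F : PolLaw.MulLaw A B C d)
    (hF : ∀ k : B, π k = 0 → k ∈ PolLaw.ker F.law)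

/-- the multiplicative law induced on the quotient -/
noncomputable def quotMulLaw : PolLaw.MulLaw A B' C d where
  law := quotLaw π hπ F.law hF
  homog S _ _ s x' := by
    obtain ⟨x, rfl⟩ := LinearMap.lTensor_surjective S (g := π.toLinearMap) hπ x'
    have : s • π.toLinearMap.lTensor S x = π.toLinearMap.lTensor S (s • x) := by
      rw [PolLaw.lTensor_algHom_apply, PolLaw.lTensor_algHom_apply, map_smul]
    rw [this, quotLaw_apply, quotLaw_apply, F.homog]
  mult S _ _ := by
    refine ⟨?_, fun x' y' => ?_⟩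
    · have : (1 : S ⊗[A] B') = π.toLinearMap.lTensor S 1 := by
        rw [PolLaw.lTensor_algHom_apply, map_one]
      rw [this, quotLaw_apply, (F.mult S).1]
    · obtain ⟨x, rfl⟩ := LinearMap.lTensor_surjective S (g := π.toLinearMap) hπ x'
      obtain ⟨y, rfl⟩ := LinearMap.lTensor_surjective S (g := π.toLinearMap) hπ y'
      have : π.toLinearMap.lTensor S x * π.toLinearMap.lTensor S y = π.toLinearMap.lTensor S (x * y) := by
        rw [PolLaw.lTensor_algHom_apply, PolLaw.lTensor_algHom_apply, PolLaw.lTensor_algHom_apply, map_mul]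
      rw [this, quotLaw_apply, quotLaw_apply, quotLaw_apply, (F.mult S).2]

end mul

section surj
variable {A : Type u} [CommRing A] {B : Type u} [CommRing B] [Algebra A B]
    {B' : Type u} [CommRing B'] [Algebra A B'] {C : Type u} [CommRing C] [Algebra A C]
    {C' : Type u} [CommRing C'] [Algebra A C']

theorem postcomp_apply (g : C →ₐ[A] C') (F : B →ₚₗ[A] C) (S : Type u) [CommSemiring S] [Algebra A S]
    (x : S ⊗[A] B) :
    (PolLaw.postcomp g.toLinearMap F).toFun' S x = g.toLinearMap.lTensor S (F.toFun' S x) := rfl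

theorem precomp_apply (F : B' →ₚₗ[A] C) (g : B →ₐ[A] B') (S : Type u) [CommSemiring S] [Algebra A S]
    (x : S ⊗[A] B) :
    (PolLaw.precomp F g.toLinearMap).toFun' S x = F.toFun' S (g.toLinearMap.lTensor S x) := rfl

theorem main_surj {d : ℕ} (γ : PolLaw.MulLaw A B C d) (γ' : PolLaw.MulLaw A B' C' d)
    (hγ' : PolLaw.IsGammaD γ')
    (π : B →ₐ[A] B') (hπ : Function.Surjective π) (φ : C →ₐ[A] C')
    (hφ : PolLaw.postcomp φ.toLinearMap γ.law = (γ'.precomp π).law) :
    Function.Surjective φ := by
  -- the image algebra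
  let q : C →ₐ[A] C ⧸ RingHom.ker φ := Ideal.Quotient.mkₐ A (RingHom.ker φ)
  let φb : C ⧸ RingHom.ker φ →ₐ[A] C' := Ideal.kerLiftAlg φ
  have hφb : Function.Injective φb := Ideal.kerLiftAlg_injective φ
  have hφbq : φb.comp q = φ := AlgHom.ext (fun c => rfl)
  let γb : PolLaw.MulLaw A B (C ⧸ RingHom.ker φ) d := γ.postcomp q
  have hγb : ∀ (S : Type u) [CommSemiring S] [Algebra A S] (x : S ⊗[A] B),
      φb.toLinearMap.lTensor S (γb.law.toFun' S x) = γ'.law.toFun' S (π.toLinearMap.lTensor S x) := by
    intro S _ _ x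
    show φb.toLinearMap.lTensor S (q.toLinearMap.lTensor S (γ.law.toFun' S x)) = _
    rw [← LinearMap.comp_apply, ← LinearMap.lTensor_comp, ← AlgHom.comp_toLinearMap, hφbq,
      ← postcomp_apply, hφ]
    rfl
  have hker : ∀ k : B, π k = 0 → k ∈ PolLaw.ker γb.law := by
    intro k hk
    rw [mem_ker_iff]
    intro S _ _ x w
    obtain ⟨n, ψ, p, r, rfl, rfl⟩ := Groth.Agent.S13175.exists_lift_pair x w
    have hinj : Function.Injective (φb.toLinearMap.lTensor (MvPolynomial (Fin n) A)) :=
      Module.Flat.lTensor_preserves_injective_linearMap _ hφb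
    have h0 : γb.law.toFun' (MvPolynomial (Fin n) A) (p + r * ((1 : MvPolynomial (Fin n) A) ⊗ₜ[A] k))
        = γb.law.toFun' (MvPolynomial (Fin n) A) p := by
      apply hinj
      rw [hγb, hγb, map_add]
      congr 1
      rw [PolLaw.lTensor_algHom_apply, PolLaw.lTensor_algHom_apply, map_mul]
      have : Algebra.TensorProduct.map (AlgHom.id (MvPolynomial (Fin n) A) (MvPolynomial (Fin n) A)) π
          ((1 : MvPolynomial (Fin n) A) ⊗ₜ[A] k) = 0 := by
        show (1 : MvPolynomial (Fin n) A) ⊗ₜ[A] (π k) = 0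
        rw [hk, TensorProduct.tmul_zero]
      rw [this, mul_zero, add_zero]
    have h1 := compat γb.law ψ (p + r * ((1 : MvPolynomial (Fin n) A) ⊗ₜ[A] k))
    have h2 := compat γb.law ψ p
    rw [h0, ← h2] at h1
    rw [Groth.Agent.S13175.rTensor_eq_map, Groth.Agent.S13175.rTensor_eq_map]
    rw [← h1, map_add, map_mul]
    congr 3
    show _ = (ψ 1) ⊗ₜ[A] k
    rw [map_one]
  let G : PolLaw.MulLaw A B' (C ⧸ RingHom.ker φ) d := quotMulLaw π hπ γb hker
  obtain ⟨f, hf, -⟩ := hγ' (C ⧸ RingHom.ker φ) G
  have hcomp : PolLaw.postcomp (φb.comp f).toLinearMap γ'.law = γ'.law := by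
    ext S _ _ x'
    obtain ⟨x, rfl⟩ := LinearMap.lTensor_surjective S (g := π.toLinearMap) hπ x'
    rw [postcomp_apply, AlgHom.comp_toLinearMap, LinearMap.lTensor_comp, LinearMap.comp_apply,
      ← postcomp_apply, hf]
    show φb.toLinearMap.lTensor S ((quotLaw π hπ γb.law hker).toFun' S (π.toLinearMap.lTensor S x)) = _
    rw [quotLaw_apply, hγb]
  have hid : PolLaw.postcomp (AlgHom.id A C').toLinearMap γ'.law = γ'.law := by
    ext S _ _ x'
    rw [postcomp_apply]
    show (LinearMap.id : C' →ₗ[A] C').lTensor S _ = _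
    rw [LinearMap.lTensor_id, LinearMap.id_apply]
  obtain ⟨g, -, hguniq⟩ := hγ' C' γ'
  have e : φb.comp f = AlgHom.id A C' := (hguniq _ hcomp).trans (hguniq _ hid).symm
  intro c'
  obtain ⟨c, hc⟩ := Ideal.Quotient.mk_surjective (f c')
  refine ⟨c, ?_⟩
  have := congrArg (fun h => h c') e
  simp only [AlgHom.comp_apply, AlgHom.id_apply] at this
  rw [← this, ← hc]
  rfl
end surj
end Groth.Agent.Lib.lead.PolLawQuot
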