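import Mathlib
import Groth.Agent.Lib.lead.FibreDimTarget

set_option autoImplicit false
universe u
open CategoryTheory CategoryTheory.Limits AlgebraicGeometry Topology

namespace Groth.Agent.Lib.lead.FibreDimProper

theorem S0403 {X S : Scheme.{u}} (f : X ⟶ S) [IsProper f] (c : WithBot ℕ∞) :
    IsOpen {s : S | topologicalKrullDim (f.fiber s) ≤ c} := by
  have hcl : IsClosedMap f.base := f.isClosedMap
  induction c using WithBot.recBotCoe with
  | bot =>
    -- empty fibres: complement of the (closed) range
    have : {s : S | topologicalKrullDim (f.fiber s) ≤ ⊥} = (Set.range f)ᶜ := by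
      ext s
      simp only [Set.mem_setOf_eq, le_bot_iff, Set.mem_compl_iff, Set.mem_range]
      unfold topologicalKrullDim
      rw [Order.krullDim_eq_bot_iff]
      constructor
      · rintro h ⟨x, rfl⟩
        have hx : (f.asFiber x) ∈ closure ({f.asFiber x} : Set (f.fiber (f x))) := subset_closure rfl
        exact h.false ⟨closure {f.asFiber x}, isIrreducible_singleton.closure, isClosed_closure⟩
      · intro h
        refine ⟨fun Z => ?_⟩
        obtain ⟨w, -⟩ := Z.isIrreducible.nonempty
        apply h
        refine ⟨f.fiberι s w, ?_⟩
        have : f.fiberι s w ∈ Set.range (f.fiberι s) := ⟨w, rfl⟩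
        rw [f.range_fiberι] at this
        exact this
    rw [this]
    exact hcl.isClosed_range.isOpen_compl
  | coe c =>
    induction c using ENat.recTopCoe with
    | top =>
      convert isOpen_univ
      ext s
      simp only [Set.mem_setOf_eq, Set.mem_univ, iff_true]
      exact le_top
    | coe n =>
      have h1 := FibreDimTarget.S3387 f hcl (n + 1)
      convert h1.isOpen_compl using 1
      ext s
      simp only [Set.mem_setOf_eq, Set.mem_compl_iff, not_le]
      have : ((n + 1 : ℕ) : WithBot ℕ∞) = (n : WithBot ℕ∞) + 1 := by push_cast; rfl
      rw [this, ENat.WithBot.lt_add_one_iff]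
      rfl


end Groth.Agent.Lib.lead.FibreDimProper
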