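import Mathlib

/-!
# A ring is the filtered colimit of its finitely generated subrings
-/

set_option autoImplicit false
set_option linter.style.haveILetI false
universe u
open CategoryTheory CategoryTheory.Limits AlgebraicGeometry Opposite TopologicalSpace

namespace Groth.Agent.Lib.lead.HensK

section union

variable (B : Type u) [CommRing B]
  {ι : Type u} [Preorder ι] [IsDirected ι (· ≤ ·)] [Nonempty ι]
  (T : ι → Subring B) (hT : Monotone T) (hcov : ∀ b : B, ∃ i, b ∈ T i)

/-- the diagram of the subrings in `CommRingCat` -/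
noncomputable def diag : ι ⥤ CommRingCat.{u} where
  obj i := CommRingCat.of (T i)
  map {i j} h := CommRingCat.ofHom (Subring.inclusion (hT (leOfHom h)))
  map_id i := by ext x; rfl
  map_comp f g := by ext x; rfl

noncomputable def cocone : Cocone (diag B T hT) where
  pt := CommRingCat.of B
  ι := { app := fun i => CommRingCat.ofHom (T i).subtype
         naturality := fun i j h => by ext x; rfl }

variable {B T hT}

lemma cocone_app_eq (t : Cocone (diag B T hT)) {i j : ι} (h : i ≤ j) (x : T i) :
    (t.ι.app j).hom (Subring.inclusion (hT h) x) = (t.ι.app i).hom x := by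
  have := t.w (homOfLE h)
  rw [← this]
  rfl

lemma cocone_app_eq' (t : Cocone (diag B T hT)) {i j : ι} (b : B) (hi : b ∈ T i)
    (hj : b ∈ T j) : (t.ι.app i).hom ⟨b, hi⟩ = (t.ι.app j).hom ⟨b, hj⟩ := by
  obtain ⟨k, hik, hjk⟩ := exists_ge_ge i j
  rw [← cocone_app_eq t hik, ← cocone_app_eq t hjk]
  rfl

/-- the descent map -/
noncomputable def descFun (hcov : ∀ b : B, ∃ i, b ∈ T i) (t : Cocone (diag B T hT)) (b : B) :
    t.pt :=
  (t.ι.app (Classical.choose (hcov b))).hom ⟨b, Classical.choose_spec (hcov b)⟩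

lemma descFun_eq (t : Cocone (diag B T hT)) (i : ι) (b : B) (hb : b ∈ T i) :
    descFun hcov t b = (t.ι.app i).hom ⟨b, hb⟩ :=
  cocone_app_eq' t b _ hb

noncomputable def descHom (t : Cocone (diag B T hT)) : B →+* t.pt where
  toFun := descFun hcov t
  map_one' := by
    obtain ⟨i⟩ := ‹Nonempty ι›
    rw [descFun_eq hcov t i 1 (one_mem _)]
    exact map_one (t.ι.app i).hom
  map_zero' := by
    obtain ⟨i⟩ := ‹Nonempty ι›
    rw [descFun_eq hcov t i 0 (zero_mem _)]
    exact map_zero (t.ι.app i).hom
  map_mul' a b := by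
    obtain ⟨i, hi⟩ := hcov a
    obtain ⟨j, hj⟩ := hcov b
    obtain ⟨k, hik, hjk⟩ := exists_ge_ge i j
    have ha : a ∈ T k := hT hik hi
    have hb : b ∈ T k := hT hjk hj
    rw [descFun_eq hcov t k a ha, descFun_eq hcov t k b hb,
      descFun_eq hcov t k (a * b) (mul_mem ha hb), ← map_mul]
    rfl
  map_add' a b := by
    obtain ⟨i, hi⟩ := hcov a
    obtain ⟨j, hj⟩ := hcov b
    obtain ⟨k, hik, hjk⟩ := exists_ge_ge i j
    have ha : a ∈ T k := hT hik hi
    have hb : b ∈ T k := hT hjk hj
    rw [descFun_eq hcov t k a ha, descFun_eq hcov t k b hb,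
      descFun_eq hcov t k (a + b) (add_mem ha hb), ← map_add]
    rfl

noncomputable def isColimitCocone : IsColimit (cocone B T hT) where
  desc t := CommRingCat.ofHom (descHom hcov t)
  fac t i := by
    apply CommRingCat.hom_ext
    apply RingHom.ext
    intro (x : T i)
    show descFun hcov t (x : B) = (t.ι.app i).hom x
    rw [descFun_eq hcov t i _ x.2]
  uniq t m hm := by
    apply CommRingCat.hom_ext
    apply RingHom.ext
    intro (b : B)
    obtain ⟨i, hb⟩ := hcov b
    show m.hom b = descFun hcov t b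
    have := hm i
    rw [descFun_eq hcov t i b hb, ← this]
    rfl

end union

section fg

variable (A : Type u) [CommRing A]

/-- the subring generated by a finite set -/
def fgSub (s : Finset A) : Subring A := Subring.closure (s : Set A)

lemma fgSub_mono : Monotone (fgSub A) := fun _ _ h =>
  Subring.closure_mono (Finset.coe_subset.mpr h)

lemma fgSub_cov (b : A) : ∃ s : Finset A, b ∈ fgSub A s :=
  ⟨{b}, Subring.subset_closure (by simp)⟩

lemma mem_fgSub {s : Finset A} {a : A} (ha : a ∈ s) : a ∈ fgSub A s :=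
  Subring.subset_closure (Finset.mem_coe.mpr ha)

instance isNoetherianRing_fgSub (s : Finset A) : IsNoetherianRing (fgSub A s) := by
  have h2 : (Algebra.adjoin ℤ (s : Set A)).FG := Subalgebra.fg_adjoin_finset s
  haveI : Algebra.FiniteType ℤ (Algebra.adjoin ℤ (s : Set A)) :=
    (Subalgebra.fg_iff_finiteType _).mp h2
  have h3 : IsNoetherianRing (Algebra.adjoin ℤ (s : Set A)) :=
    Algebra.FiniteType.isNoetherianRing ℤ _
  rw [Algebra.adjoin_int] at h3
  exact h3

/-- the diagram of spectra of finitely generated subrings -/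
noncomputable def fgDiag : (Finset A)ᵒᵖ ⥤ Scheme.{u} :=
  (diag A (fgSub A) (fgSub_mono A)).op ⋙ Scheme.Spec

noncomputable def fgCone : Cone (fgDiag A) :=
  Scheme.Spec.mapCone (cocone A (fgSub A) (fgSub_mono A)).op

noncomputable def fgIsLimit : IsLimit (fgCone A) :=
  isLimitOfPreserves Scheme.Spec (isColimitCocone (fgSub_cov A)).op

lemma fgDiag_obj (s : (Finset A)ᵒᵖ) :
    (fgDiag A).obj s = Spec (CommRingCat.of (fgSub A s.unop)) := rfl

lemma fgCone_pt : (fgCone A).pt = Spec (CommRingCat.of A) := rfl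

lemma fgCone_π_app (s : (Finset A)ᵒᵖ) :
    (fgCone A).π.app s = Spec.map (CommRingCat.ofHom (fgSub A s.unop).subtype) := rfl

lemma fgDiag_map {s t : (Finset A)ᵒᵖ} (a : s ⟶ t) :
    (fgDiag A).map a = Spec.map (CommRingCat.ofHom
      (Subring.inclusion (fgSub_mono A (leOfHom a.unop)))) := rfl

instance fgDiag_isAffine (s : (Finset A)ᵒᵖ) : IsAffine ((fgDiag A).obj s) := by
  rw [fgDiag_obj]; infer_instance

instance fgDiag_isAffineHom (s t : (Finset A)ᵒᵖ) (a : s ⟶ t) : IsAffineHom ((fgDiag A).map a) :=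
  inferInstance

instance : IsCofiltered (Finset A)ᵒᵖ := inferInstance

end fg

end Groth.Agent.Lib.lead.HensK
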