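import Mathlib

/-!
# Descent of relatively clopen subsets along cofiltered limits of qcqs schemes
-/

set_option autoImplicit false
set_option linter.style.haveILetI false
universe u
open CategoryTheory CategoryTheory.Limits AlgebraicGeometry Opposite TopologicalSpace

namespace Groth.Agent.Lib.lead.HensK

/-- Let `X = lim Xᵢ` be a cofiltered limit of qcqs schemes with affine transition maps, `Z₀ ⊆ X_{i₀}`
closed with preimage `Z ⊆ X`.  Every relatively clopen subset `V` of `Z` is the preimage of a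
relatively clopen subset of the preimage of `Z₀` at some stage. -/
theorem exists_descend_relClopen {I : Type u} [SmallCategory I] [IsCofiltered I]
    (D : I ⥤ Scheme.{u}) (c : Cone D) (hc : IsLimit c)
    [∀ {i j} (f : i ⟶ j), IsAffineHom (D.map f)]
    [∀ i, CompactSpace (D.obj i)] [∀ i, QuasiSeparatedSpace (D.obj i)]
    (i₀ : I) (Z₀ : Set (D.obj i₀)) (hZ₀ : IsClosed Z₀)
    (V : Set c.pt) (hVZ : V ⊆ c.π.app i₀ ⁻¹' Z₀) (hV : IsClosed V)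
    (hW : IsClosed ((c.π.app i₀ ⁻¹' Z₀) \ V)) :
    ∃ (j : I) (φ : j ⟶ i₀) (Vj : Set (D.obj j)), Vj ⊆ D.map φ ⁻¹' Z₀ ∧ IsClosed Vj ∧
      IsClosed ((D.map φ ⁻¹' Z₀) \ Vj) ∧ c.π.app j ⁻¹' Vj = V := by
  classical
  haveI : CompactSpace c.pt := Scheme.compactSpace_of_isLimit D c hc
  haveI : ∀ i, IsAffineHom (c.π.app i) := fun i => isAffineHom_π_app D c hc i
  haveI : QuasiSeparatedSpace c.pt := quasiSeparatedSpace_of_quasiSeparated (c.π.app i₀)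
  have hcw : ∀ {i j : I} (a : i ⟶ j) (x : c.pt), D.map a (c.π.app i x) = c.π.app j x := by
    intro i j a x
    rw [← Scheme.Hom.comp_apply, c.w]
  -- separate `V` and `W` by quasi-compact opens
  obtain ⟨O, hOc, hOo, hWO, hOV⟩ := PrespectralSpace.exists_isCompact_and_isOpen_between
    (X := c.pt) (@IsClosed.isCompact c.pt _ _ _ hW) hV.isOpen_compl (fun x hx => hx.2)
  obtain ⟨O', hO'c, hO'o, hOO', hO'W⟩ := PrespectralSpace.exists_isCompact_and_isOpen_between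
    (X := c.pt) (@IsClosed.isCompact c.pt _ _ _ hOo.isClosed_compl) hW.isOpen_compl
    (fun x hx hxW => hx (hWO hxW))
  obtain ⟨i₁, P₁, hP₁c, hP₁⟩ := exists_preimage_eq D c hc ⟨O, hOo⟩ hOc
  obtain ⟨i₂, P₂, hP₂c, hP₂⟩ := exists_preimage_eq D c hc ⟨O', hO'o⟩ hO'c
  have hP₁' : ∀ x : c.pt, c.π.app i₁ x ∈ P₁ ↔ x ∈ O := fun x => by
    have : x ∈ c.π.app i₁ ⁻¹ᵁ P₁ ↔ x ∈ (⟨O, hOo⟩ : c.pt.Opens) := by rw [hP₁]
    exact this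
  have hP₂' : ∀ x : c.pt, c.π.app i₂ x ∈ P₂ ↔ x ∈ O' := fun x => by
    have : x ∈ c.π.app i₂ ⁻¹ᵁ P₂ ↔ x ∈ (⟨O', hO'o⟩ : c.pt.Opens) := by rw [hP₂]
    exact this
  -- a common stage
  let j₀' := IsCofiltered.min i₀ i₁
  let j₀ := IsCofiltered.min j₀' i₂
  let a₀ : j₀ ⟶ i₀ := IsCofiltered.minToLeft j₀' i₂ ≫ IsCofiltered.minToLeft i₀ i₁
  let a₁ : j₀ ⟶ i₁ := IsCofiltered.minToLeft j₀' i₂ ≫ IsCofiltered.minToRight i₀ i₁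
  let a₂ : j₀ ⟶ i₂ := IsCofiltered.minToRight j₀' i₂
  let Q₁ : (D.obj j₀).Opens := D.map a₁ ⁻¹ᵁ P₁
  let Q₂ : (D.obj j₀).Opens := D.map a₂ ⁻¹ᵁ P₂
  have hQ₁c : IsCompact (Q₁ : Set (D.obj j₀)) :=
    QuasiCompact.isCompact_preimage (f := D.map a₁) _ P₁.2 hP₁c
  have hQ₂c : IsCompact (Q₂ : Set (D.obj j₀)) :=
    QuasiCompact.isCompact_preimage (f := D.map a₂) _ P₂.2 hP₂c
  have hQ₁ : ∀ x : c.pt, c.π.app j₀ x ∈ Q₁ ↔ x ∈ O := fun x => by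
    rw [← hP₁', ← hcw a₁]; rfl
  have hQ₂ : ∀ x : c.pt, c.π.app j₀ x ∈ Q₂ ↔ x ∈ O' := fun x => by
    rw [← hP₂', ← hcw a₂]; rfl
  let ZZ : (D.obj j₀).Opens := ⟨(D.map a₀ ⁻¹' Z₀)ᶜ,
    (hZ₀.preimage (D.map a₀).continuous).isOpen_compl⟩
  have hZZ : ∀ x : c.pt, c.π.app j₀ x ∈ ZZ ↔ x ∉ c.π.app i₀ ⁻¹' Z₀ := fun x => by
    change ¬ (D.map a₀ (c.π.app j₀ x) ∈ Z₀) ↔ _
    rw [hcw a₀]; rfl
  have h1 : c.π.app j₀ ⁻¹ᵁ (⊤ : (D.obj j₀).Opens) ≤ c.π.app j₀ ⁻¹ᵁ (Q₁ ⊔ Q₂) := by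
    intro x _
    change c.π.app j₀ x ∈ Q₁ ⊔ Q₂
    by_cases hx : x ∈ O
    · exact Or.inl ((hQ₁ x).mpr hx)
    · exact Or.inr ((hQ₂ x).mpr (hOO' hx))
  have h2 : c.π.app j₀ ⁻¹ᵁ (Q₁ ⊓ Q₂) ≤ c.π.app j₀ ⁻¹ᵁ ZZ := by
    intro x hx
    have hx1 : x ∈ O := (hQ₁ x).mp hx.1
    have hx2 : x ∈ O' := (hQ₂ x).mp hx.2
    change c.π.app j₀ x ∈ ZZ
    rw [hZZ]
    intro hxZ
    by_cases hxV : x ∈ V
    · exact hOV hx1 hxV
    · exact hO'W hx2 ⟨hxZ, hxV⟩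
  obtain ⟨j₁, b₁, hb₁⟩ := exists_map_preimage_le_map_preimage D c hc
    (U := (⊤ : (D.obj j₀).Opens)) (V := Q₁ ⊔ Q₂) isCompact_univ h1
  obtain ⟨j₂, b₂, hb₂⟩ := exists_map_preimage_le_map_preimage D c hc
    (U := Q₁ ⊓ Q₂) (V := ZZ)
    (QuasiSeparatedSpace.inter_isCompact _ _ Q₁.2 hQ₁c Q₂.2 hQ₂c) h2
  obtain ⟨k, f, g, hfg⟩ := IsCofiltered.cospan b₁ b₂
  let φ₀ : k ⟶ j₀ := f ≫ b₁
  let φ : k ⟶ i₀ := φ₀ ≫ a₀
  let R₁ : Set (D.obj k) := D.map φ₀ ⁻¹' Q₁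
  let R₂ : Set (D.obj k) := D.map φ₀ ⁻¹' Q₂
  have hR₁o : IsOpen R₁ := Q₁.2.preimage (D.map φ₀).continuous
  have hR₂o : IsOpen R₂ := Q₂.2.preimage (D.map φ₀).continuous
  have hmapφ₀ : ∀ y : D.obj k, D.map φ₀ y = D.map b₁ (D.map f y) := fun y => by
    rw [← Scheme.Hom.comp_apply, ← D.map_comp]
  have hmapφ₀' : ∀ y : D.obj k, D.map φ₀ y = D.map b₂ (D.map g y) := fun y => by
    rw [← Scheme.Hom.comp_apply, ← D.map_comp, ← hfg]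
  have hmapφ : ∀ y : D.obj k, D.map φ y = D.map a₀ (D.map φ₀ y) := fun y => by
    rw [← Scheme.Hom.comp_apply, ← D.map_comp]
  have hA : ∀ y : D.obj k, y ∈ R₁ ∨ y ∈ R₂ := by
    intro y
    have := hb₁ (show D.map f y ∈ D.map b₁ ⁻¹ᵁ (⊤ : (D.obj j₀).Opens) from trivial)
    change D.map b₁ (D.map f y) ∈ Q₁ ⊔ Q₂ at this
    rw [← hmapφ₀] at this
    exact this
  have hB : ∀ y : D.obj k, y ∈ R₁ → y ∈ R₂ → y ∉ D.map φ ⁻¹' Z₀ := by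
    intro y hy1 hy2
    have hy : D.map g y ∈ D.map b₂ ⁻¹ᵁ (Q₁ ⊓ Q₂) := by
      change D.map b₂ (D.map g y) ∈ Q₁ ⊓ Q₂
      rw [← hmapφ₀']
      exact ⟨hy1, hy2⟩
    have := hb₂ hy
    change D.map b₂ (D.map g y) ∈ ZZ at this
    rw [← hmapφ₀'] at this
    intro hyZ
    apply this
    change D.map a₀ (D.map φ₀ y) ∈ Z₀
    rw [← hmapφ]
    exact hyZ
  have hZk : IsClosed (D.map φ ⁻¹' Z₀) := hZ₀.preimage (D.map φ).continuous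
  refine ⟨k, φ, (D.map φ ⁻¹' Z₀) \ R₁, Set.sdiff_subset, ?_, ?_, ?_⟩
  · rw [Set.sdiff_eq]
    exact hZk.inter hR₁o.isClosed_compl
  · have : (D.map φ ⁻¹' Z₀) \ ((D.map φ ⁻¹' Z₀) \ R₁) = (D.map φ ⁻¹' Z₀) ∩ R₂ᶜ := by
      ext y
      constructor
      · rintro ⟨hyZ, hy⟩
        refine ⟨hyZ, fun hy2 => ?_⟩
        have hy1 : y ∈ R₁ := by
          by_contra hy1
          exact hy ⟨hyZ, hy1⟩
        exact hB y hy1 hy2 hyZ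
      · rintro ⟨hyZ, hy2⟩
        refine ⟨hyZ, fun hy => ?_⟩
        rcases hA y with h | h
        · exact hy.2 h
        · exact hy2 h
    rw [this]
    exact hZk.inter hR₂o.isClosed_compl
  · ext x
    have e1 : c.π.app k x ∈ D.map φ ⁻¹' Z₀ ↔ x ∈ c.π.app i₀ ⁻¹' Z₀ := by
      change D.map φ (c.π.app k x) ∈ Z₀ ↔ _
      rw [hcw φ]; rfl
    have e2 : c.π.app k x ∈ R₁ ↔ x ∈ O := by
      change D.map φ₀ (c.π.app k x) ∈ Q₁ ↔ _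
      rw [hcw φ₀]; exact hQ₁ x
    change (c.π.app k x ∈ D.map φ ⁻¹' Z₀ ∧ ¬ c.π.app k x ∈ R₁) ↔ _
    rw [e1, e2]
    constructor
    · rintro ⟨hxZ, hxO⟩
      by_contra hxV
      exact hxO (hWO ⟨hxZ, hxV⟩)
    · intro hxV
      exact ⟨hVZ hxV, fun hxO => hOV hxO hxV⟩

/-- Pointwise form of `exists_descend_relClopen`, robust against definitional unfolding of the
cone point. -/
theorem exists_descend_relClopen' {I : Type u} [SmallCategory I] [IsCofiltered I]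
    (D : I ⥤ Scheme.{u}) (c : Cone D) (hc : IsLimit c)
    [∀ {i j} (f : i ⟶ j), IsAffineHom (D.map f)]
    [∀ i, CompactSpace (D.obj i)] [∀ i, QuasiSeparatedSpace (D.obj i)]
    (i₀ : I) (Z₀ : Set (D.obj i₀)) (hZ₀ : IsClosed Z₀)
    (Z : Set c.pt) (hZ : ∀ x : c.pt, x ∈ Z ↔ c.π.app i₀ x ∈ Z₀)
    (V : Set c.pt) (hVZ : V ⊆ Z) (hV : IsClosed V) (hW : IsClosed (Z \ V)) :
    ∃ (j : I) (φ : j ⟶ i₀) (Vj : Set (D.obj j)), Vj ⊆ D.map φ ⁻¹' Z₀ ∧ IsClosed Vj ∧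
      IsClosed ((D.map φ ⁻¹' Z₀) \ Vj) ∧ ∀ x : c.pt, c.π.app j x ∈ Vj ↔ x ∈ V := by
  have hZe : Z = c.π.app i₀ ⁻¹' Z₀ := Set.ext hZ
  subst hZe
  obtain ⟨j, φ, Vj, h1, h2, h3, h4⟩ := exists_descend_relClopen D c hc i₀ Z₀ hZ₀ V hVZ hV hW
  refine ⟨j, φ, Vj, h1, h2, h3, fun x => ?_⟩
  rw [← h4]; rfl

end Groth.Agent.Lib.lead.HensK
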