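import Mathlib
import Groth.Agent.Lib.lead.HensKA
import Groth.Agent.Lib.lead.LimProper
import Groth.Agent.Lib.Helper22.LimBaseChange
import Groth.Agent.S0591

/-!
# Lemma K, abstract limit steps: proper models and descent of relatively clopen subsets
-/

set_option autoImplicit false
set_option linter.style.haveILetI false
universe u
open CategoryTheory CategoryTheory.Limits AlgebraicGeometry Opposite TopologicalSpace

namespace Groth.Agent.Lib.lead.HensK

open Groth.Agent.Lib.Helper22 Groth.Agent.Lib.Helper13.LimDescend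

section abstract

variable {J : Type u} [SmallCategory J] [IsCofiltered J] (D : J ⥤ Scheme.{u}) (c : Cone D)
  (hc : IsLimit c)

include hc in
/-- A proper finitely presented scheme over a cofiltered limit of qcqs schemes with affine
transition maps is the base change of a proper scheme over some stage. -/
theorem exists_proper_model [∀ (i j : J) (f : i ⟶ j), IsAffineHom (D.map f)]
    [∀ i, CompactSpace (D.obj i)] [∀ i, QuasiSeparatedSpace (D.obj i)]
    {X : Scheme.{u}} (f : X ⟶ c.pt) [IsProper f] [LocallyOfFinitePresentation f] :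
    ∃ (j : J) (Y : Scheme.{u}) (h : Y ⟶ D.obj j) (g : X ⟶ Y),
      IsProper h ∧ IsPullback g f h (c.π.app j) := by
  obtain ⟨i, Xi, fi, g, hfp, hqc, hqs, hpb⟩ := Groth.Agent.S0591.result D c hc X f
  haveI := hfp
  haveI := hqc
  haveI := hqs
  haveI : CompactSpace Xi := QuasiCompact.compactSpace_of_compactSpace fi
  haveI : QuasiSeparatedSpace Xi := quasiSeparatedSpace_of_quasiSeparated fi
  have hprop : IsProper (pullback.fst (c.π.app i) fi) := by
    have h1 : hpb.flip.isoPullback.inv ≫ f = pullback.fst (c.π.app i) fi :=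
      IsPullback.isoPullback_inv_fst _
    rw [← h1]; infer_instance
  obtain ⟨j, ψ, hj⟩ := Groth.Agent.Lib.lead.LimProper.core_isProper D c hc i fi hprop
  have hcomm : (f ≫ c.π.app j) ≫ D.map ψ = g ≫ fi :=
    (Category.assoc _ _ _).trans ((congrArg (f ≫ ·) (c.w ψ)).trans hpb.w.symm)
  let g₀ : X ⟶ pullback (D.map ψ) fi := pullback.lift (f ≫ c.π.app j) g hcomm
  have hg₀1 : g₀ ≫ pullback.fst (D.map ψ) fi = f ≫ c.π.app j := pullback.lift_fst _ _ _
  have hg₀2 : g₀ ≫ pullback.snd (D.map ψ) fi = g := pullback.lift_snd _ _ _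
  refine ⟨j, pullback (D.map ψ) fi, pullback.fst (D.map ψ) fi, g₀, hj, ?_⟩
  have hbig : IsPullback (g₀ ≫ pullback.snd (D.map ψ) fi) f fi (c.π.app j ≫ D.map ψ) := by
    have e1 : c.π.app j ≫ D.map ψ = c.π.app i := c.w ψ
    rw [hg₀2, e1]; exact hpb
  exact IsPullback.of_right hbig hg₀1 (IsPullback.of_hasPullback (D.map ψ) fi).flip

/-- A model over a stage can be pulled back to any later stage. -/
theorem model_pullback {j j₀ : J} (θ : j₀ ⟶ j) {X Y : Scheme.{u}} (f : X ⟶ c.pt)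
    (h : Y ⟶ D.obj j) (g : X ⟶ Y) (hpb : IsPullback g f h (c.π.app j)) :
    ∃ g₀ : X ⟶ pullback (D.map θ) h, IsPullback g₀ f (pullback.fst (D.map θ) h) (c.π.app j₀) := by
  have hcomm : (f ≫ c.π.app j₀) ≫ D.map θ = g ≫ h :=
    (Category.assoc _ _ _).trans ((congrArg (f ≫ ·) (c.w θ)).trans hpb.w.symm)
  let g₀ : X ⟶ pullback (D.map θ) h := pullback.lift (f ≫ c.π.app j₀) g hcomm
  have hg₀1 : g₀ ≫ pullback.fst (D.map θ) h = f ≫ c.π.app j₀ := pullback.lift_fst _ _ _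
  have hg₀2 : g₀ ≫ pullback.snd (D.map θ) h = g := pullback.lift_snd _ _ _
  refine ⟨g₀, ?_⟩
  have hbig : IsPullback (g₀ ≫ pullback.snd (D.map θ) h) f h (c.π.app j₀ ≫ D.map θ) := by
    have e1 : c.π.app j₀ ≫ D.map θ = c.π.app j := c.w θ
    rw [hg₀2, e1]; exact hpb
  exact IsPullback.of_right hbig hg₀1 (IsPullback.of_hasPullback (D.map θ) h).flip

include hc in
/-- Relatively clopen subsets descend along a base-change limit. -/
theorem exists_descend_relClopen_bc [∀ (i j : J) (f : i ⟶ j), IsAffineHom (D.map f)]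
    (j₀ : J) {X Y₀ : Scheme.{u}} [CompactSpace Y₀] [QuasiSeparatedSpace Y₀]
    (f : X ⟶ c.pt) (h₀ : Y₀ ⟶ D.obj j₀) (g₀ : X ⟶ Y₀)
    (hpb : IsPullback g₀ f h₀ (c.π.app j₀)) (Z₀ : Set Y₀) (hZ₀ : IsClosed Z₀)
    (V : Set X) (hVZ : V ⊆ g₀ ⁻¹' Z₀) (hV : IsClosed V) (hW : IsClosed (g₀ ⁻¹' Z₀ \ V)) :
    ∃ (k : Over j₀) (gk : X ⟶ pullback (D.map k.hom) h₀)
      (Vk : Set ↥(pullback (D.map k.hom) h₀)),
      gk ≫ pullback.fst (D.map k.hom) h₀ = f ≫ c.π.app k.left ∧
      gk ≫ pullback.snd (D.map k.hom) h₀ = g₀ ∧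
      Vk ⊆ (pullback.snd (D.map k.hom) h₀) ⁻¹' Z₀ ∧ IsClosed Vk ∧
      IsClosed ((pullback.snd (D.map k.hom) h₀) ⁻¹' Z₀ \ Vk) ∧ gk ⁻¹' Vk = V := by
  let E := bcDiag D j₀ h₀
  let eC := bcCone D c j₀ h₀
  have hE : IsLimit eC := bcIsLimit D hc j₀ h₀
  haveI : ∀ {k k' : Over j₀} (φ : k ⟶ k'), IsAffineHom (E.map φ) := fun φ => inferInstance
  haveI : ∀ k : Over j₀, CompactSpace (E.obj k) := fun k => inferInstance
  haveI : ∀ k : Over j₀, QuasiSeparatedSpace (E.obj k) := fun k => by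
    haveI : IsAffineHom (pullback.snd (D.map k.hom) h₀) :=
      MorphismProperty.pullback_snd (P := @IsAffineHom) _ _ inferInstance
    exact quasiSeparatedSpace_of_quasiSeparated (pullback.snd (D.map k.hom) h₀)
  let P : Scheme.{u} := pullback (c.π.app j₀) h₀
  let e : X ≅ P := hpb.flip.isoPullback
  have he1 : e.hom ≫ pullback.fst (c.π.app j₀) h₀ = f := IsPullback.isoPullback_hom_fst _
  have he2 : e.hom ≫ pullback.snd (c.π.app j₀) h₀ = g₀ := IsPullback.isoPullback_hom_snd _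
  have he4 : e.inv ≫ g₀ = pullback.snd (c.π.app j₀) h₀ := IsPullback.isoPullback_inv_snd _
  let top : Over j₀ := Over.mk (𝟙 j₀)
  let πk : ∀ k : Over j₀, P ⟶ pullback (D.map k.hom) h₀ := fun k => eC.π.app k
  let sndk : ∀ k : Over j₀, pullback (D.map k.hom) h₀ ⟶ Y₀ := fun k =>
    pullback.snd (D.map k.hom) h₀
  have hπ1 : ∀ k : Over j₀, πk k ≫ pullback.fst (D.map k.hom) h₀ =
      pullback.fst (c.π.app j₀) h₀ ≫ c.π.app k.left := fun k => bcCone_π_fst D c j₀ h₀ k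
  have hπ2 : ∀ k : Over j₀, πk k ≫ sndk k = pullback.snd (c.π.app j₀) h₀ :=
    fun k => bcCone_π_snd D c j₀ h₀ k
  let Z₀' : Set ↥(pullback (D.map top.hom) h₀) := (sndk top) ⁻¹' Z₀
  have hZ₀' : IsClosed Z₀' := hZ₀.preimage (sndk top).continuous
  have hπsnd : ∀ (k : Over j₀) (y : P), sndk k (πk k y) = g₀ (e.inv y) := by
    intro k y
    rw [← Scheme.Hom.comp_apply, hπ2, ← he4, Scheme.Hom.comp_apply]
  obtain ⟨k, φ, Vk, hVk1, hVk2, hVk3, hVk4⟩ := exists_descend_relClopen' E eC hE top Z₀' hZ₀'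
    (e.inv ⁻¹' (g₀ ⁻¹' Z₀) : Set P)
    (fun y => by
      change g₀ (e.inv y) ∈ Z₀ ↔ sndk top (πk top y) ∈ Z₀
      rw [hπsnd])
    (e.inv ⁻¹' V : Set P) (Set.preimage_mono hVZ) (hV.preimage e.inv.continuous)
    (by
      have := hW.preimage e.inv.continuous
      rw [Set.preimage_sdiff] at this
      exact this)
  have hmap : E.map φ ⁻¹' Z₀' = (sndk k) ⁻¹' Z₀ := by
    ext y
    let mφ : pullback (D.map k.hom) h₀ ⟶ pullback (D.map top.hom) h₀ := E.map φ
    have h1 : mφ ≫ sndk top = sndk k := bcDiag_map_snd D j₀ h₀ φ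
    change sndk top (mφ y) ∈ Z₀ ↔ sndk k y ∈ Z₀
    rw [← Scheme.Hom.comp_apply, h1]
  rw [hmap] at hVk1 hVk3
  refine ⟨k, e.hom ≫ πk k, Vk, ?_, ?_, hVk1, hVk2, hVk3, ?_⟩
  · rw [Category.assoc, hπ1, ← Category.assoc, he1]
  · rw [Category.assoc]
    exact (congrArg (e.hom ≫ ·) (hπ2 k)).trans he2
  · ext x
    have h1 : πk k (e.hom x) ∈ Vk ↔ e.hom x ∈ (e.inv ⁻¹' V : Set P) := hVk4 (e.hom x)
    have h2 : e.inv (e.hom x) = x := by
      rw [← Scheme.Hom.comp_apply, e.hom_inv_id]; rfl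
    change πk k (e.hom x) ∈ Vk ↔ x ∈ V
    rw [h1]
    change e.inv (e.hom x) ∈ V ↔ x ∈ V
    rw [h2]

end abstract

end Groth.Agent.Lib.lead.HensK
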