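import Mathlib
import Groth.Agent.Lib.lead.IrredFibresTop
import Groth.Agent.Lib.Helper18.FibreTd

set_option autoImplicit false
set_option linter.style.haveILetI false
universe u
open CategoryTheory CategoryTheory.Limits AlgebraicGeometry Topology TopologicalSpace

namespace Groth.Agent.Lib.lead.IrredFibresSub

open Groth.Agent.Lib.Helper18 Groth.Agent.Lib.Helper21

variable {X Y Zs : Scheme.{u}} (f : X ⟶ Y) (ι : Zs ⟶ X)

theorem comp_fiberι_mem (y : Y) (w : (ι ≫ f).fiber y) :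
    ι ((ι ≫ f).fiberι y w) ∈ f ⁻¹' {y} := by
  have : (ι ≫ f).fiberι y w ∈ Set.range ((ι ≫ f).fiberι y) := ⟨w, rfl⟩
  rw [(ι ≫ f).range_fiberι] at this
  exact this

/-- The comparison map from the fibre of `ι ≫ f` to the set-theoretic fibre of `f`. -/
noncomputable def fibreMap (y : Y) : (ι ≫ f).fiber y → ↥(f ⁻¹' {y}) :=
  fun w => ⟨ι ((ι ≫ f).fiberι y w), comp_fiberι_mem f ι y w⟩

theorem fibreMap_isEmbedding [IsClosedImmersion ι] (y : Y) : IsEmbedding (fibreMap f ι y) := by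
  have h1 : IsEmbedding (fun w : (ι ≫ f).fiber y => ι ((ι ≫ f).fiberι y w)) :=
    ι.isClosedEmbedding.isEmbedding.comp ((ι ≫ f).fiberι y).isEmbedding
  exact h1.codRestrict _ _

theorem fibreMap_range_subset (y : Y) :
    Set.range (fibreMap f ι y) ⊆ Subtype.val ⁻¹' (Set.range ι) := by
  rintro _ ⟨w, rfl⟩
  exact ⟨_, rfl⟩

theorem fibreMap_surjective (y : Y) (hsub : f ⁻¹' {y} ⊆ Set.range ι) :
    Function.Surjective (fibreMap f ι y) := by
  rintro ⟨x, hx⟩
  obtain ⟨z, rfl⟩ := hsub hx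
  have hz : z ∈ Set.range ((ι ≫ f).fiberι y) := by
    rw [(ι ≫ f).range_fiberι]
    exact hx
  obtain ⟨w, rfl⟩ := hz
  exact ⟨w, rfl⟩

/-- If the fibre of `f` is not contained in `Z`, the fibre of `f|_Z` has smaller dimension. -/
theorem dim_fibre_add_one_le [IsClosedImmersion ι] (y : Y) [IrreducibleSpace ↥(f ⁻¹' {y})]
    (hns : ¬ f ⁻¹' {y} ⊆ Set.range ι) :
    topologicalKrullDim ↥((ι ≫ f).fiber y) + 1 ≤ topologicalKrullDim ↥(f ⁻¹' {y}) := by
  refine IrredFibresTop.dim_add_one_le_of_isInducing (fibreMap f ι y)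
    (fibreMap_isEmbedding f ι y).isInducing ?_
  intro h
  apply hns
  intro x hx
  have hcl : IsClosed (Subtype.val ⁻¹' (Set.range ι) : Set ↥(f ⁻¹' {y})) :=
    ι.isClosedEmbedding.isClosed_range.preimage continuous_subtype_val
  have h2 : closure (Set.range (fibreMap f ι y)) ⊆ Subtype.val ⁻¹' (Set.range ι) :=
    hcl.closure_subset_iff.2 (fibreMap_range_subset f ι y)
  rw [h] at h2
  exact h2 (Set.mem_univ (⟨x, hx⟩ : ↥(f ⁻¹' {y})))

/-- If the fibre of `f` lies in `Z`, it is the fibre of `f|_Z`. -/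
noncomputable def fibreHomeo [IsClosedImmersion ι] (y : Y) (hsub : f ⁻¹' {y} ⊆ Set.range ι) :
    (ι ≫ f).fiber y ≃ₜ ↥(f ⁻¹' {y}) :=
  (Equiv.ofBijective (fibreMap f ι y)
    ⟨(fibreMap_isEmbedding f ι y).injective, fibreMap_surjective f ι y hsub⟩).toHomeomorphOfIsInducing
    (fibreMap_isEmbedding f ι y).isInducing

theorem fibreDimAt_le_dim [LocallyOfFiniteType f] (x : X) :
    FlatMor.fibreDimAt f x ≤ topologicalKrullDim ↥(f.fiber (f x)) :=
  TopDim.localDim_le _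

/-- If the whole (irreducible) fibre of `f` through `ι z` lies in `Z`, then the local fibre dimension
of `f|_Z` at `z` is the dimension of that fibre. -/
theorem fibreDimAt_eq_of_subset [IsClosedImmersion ι] [LocallyOfFiniteType (ι ≫ f)] (z : Zs)
    (hsub : f ⁻¹' {(ι ≫ f) z} ⊆ Set.range ι) (hirr : IsIrreducible (f ⁻¹' {(ι ≫ f) z})) :
    FlatMor.fibreDimAt (ι ≫ f) z = topologicalKrullDim ↥(f ⁻¹' {(ι ≫ f) z}) := by
  haveI : IrreducibleSpace ↥(f ⁻¹' {(ι ≫ f) z}) := Subtype.irreducibleSpace hirr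
  let h := fibreHomeo f ι ((ι ≫ f) z) hsub
  haveI : IrreducibleSpace ↥((ι ≫ f).fiber ((ι ≫ f) z)) :=
    IrredFibresTop.irreducibleSpace_of_homeomorph h.symm
  letI := FibreTd.fibreOver (ι ≫ f) ((ι ≫ f) z)
  haveI : LocallyOfFiniteType (((ι ≫ f).fiber ((ι ≫ f) z)) ↘
      Spec (CommRingCat.of (Y.residueField ((ι ≫ f) z)))) :=
    inferInstanceAs (LocallyOfFiniteType ((ι ≫ f).fiberToSpecResidueField ((ι ≫ f) z)))
  unfold FlatMor.fibreDimAt
  rw [IrredFibresTop.localDim_eq_dim (Y.residueField ((ι ≫ f) z))]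
  exact IsHomeomorph.topologicalKrullDim_eq _ h.isHomeomorph

end Groth.Agent.Lib.lead.IrredFibresSub
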