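import Groth.Agent.Lib.lead.FormalB

/-!
# Formal functions, layer C (lead): induction on the number of generators of the ideal
-/

set_option backward.isDefEq.respectTransparency.types false
set_option autoImplicit false
universe u
open CategoryTheory CategoryTheory.Limits AlgebraicGeometry Opposite Abelian

noncomputable section

namespace Groth.Agent.Lib.Lead.FormalC

open Formal Groth.Agent.Lib.Helper23.FQuot Groth.Agent.Lib.Lead.FormalA Groth.Agent.Lib.Lead.FormalB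

variable {A : Type u} [CommRing A] [IsNoetherianRing A] {X : Scheme.{u}}
  [X.Over (Spec (CommRingCat.of A))] [IsNoetherian X]

variable (A X) in
/-- the statement proved by induction on the ideal. -/
def Good (I : Ideal A) : Prop :=
  ∀ M : X.Modules, Coh.IsCoh M → ∀ p : ℕ, PropA A I M p ∧ PropB A I M p

theorem fg (J : Ideal A) : J.FG := (isNoetherianRing_iff_ideal_fg A).1 inferInstance J

theorem pow_sup_pow_le (I₁ I₂ : Ideal A) (n : ℕ) : I₁ ^ n ⊔ I₂ ^ n ≤ (I₁ ⊔ I₂) ^ n :=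
  sup_le (Ideal.pow_right_mono le_sup_left n) (Ideal.pow_right_mono le_sup_right n)

variable (hfin : ∀ F : X.Modules, Coh.IsCoh F → ∀ p, Module.Finite A (Coh.HH X F p))

include hfin in
theorem propA_sup (I₁ I₂ : Ideal A) (h₁ : Good A X I₁) (h₂ : Good A X I₂) (M : X.Modules)
    (hM : Coh.IsCoh M) (p : ℕ) : PropA A (I₁ ⊔ I₂) M p := by
  intro n
  obtain ⟨k, hk⟩ := (h₁ M hM p).1 n
  have hq₁ : IsQuot (I₁ ^ k) (modPowπ I₁ k M) := isQuot_modPowπ I₁ k M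
  have hM₁ : Coh.IsCoh (modPow I₁ k M) := isCoh_of_isQuot (fg _) _ hM hq₁
  haveI : Module.Finite A (Coh.HH X (modPow I₁ k M) p) := hfin _ hM₁ p
  obtain ⟨c, hc⟩ := Ideal.exists_pow_inf_eq_pow_smul I₂
    (LinearMap.range (Canon.HHlin A (modPowπ I₁ k M) p))
  obtain ⟨m, hm⟩ := (h₂ _ hM₁ p).1 (n + c)
  have hq₂ : IsQuot (I₂ ^ m) (modPowπ I₂ m (modPow I₁ k M)) := isQuot_modPowπ I₂ m _
  refine ⟨k + m, fun {P} f hf => ?_⟩
  have hq₁₂ := IsQuot.comp_sup hq₁ hq₂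
  refine (ker_HHlin_le_of_le Ideal.sup_pow_add_le_pow_sup_pow hq₁₂ hf p).trans ?_
  intro x hx
  rw [LinearMap.mem_ker, ← HHlin_comp_apply] at hx
  have hx1 : Canon.HHlin A (modPowπ I₁ k M) p x ∈
      I₂ ^ (n + c) • (⊤ : Submodule A (Coh.HH X (modPow I₁ k M) p)) := hm _ hq₂ hx
  have hx2 : Canon.HHlin A (modPowπ I₁ k M) p x ∈
      I₂ ^ (n + c) • (⊤ : Submodule A (Coh.HH X (modPow I₁ k M) p)) ⊓
        LinearMap.range (Canon.HHlin A (modPowπ I₁ k M) p) := ⟨hx1, ⟨x, rfl⟩⟩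
  rw [hc (n + c) (Nat.le_add_left c n), Nat.add_sub_cancel] at hx2
  have hx3 : Canon.HHlin A (modPowπ I₁ k M) p x ∈
      I₂ ^ n • LinearMap.range (Canon.HHlin A (modPowπ I₁ k M) p) :=
    Submodule.smul_mono le_rfl inf_le_right hx2
  rw [LinearMap.range_eq_map, ← Submodule.map_smul''] at hx3
  obtain ⟨y, hy, hyx⟩ := hx3
  have hxy : x - y ∈ LinearMap.ker (Canon.HHlin A (modPowπ I₁ k M) p) := by
    rw [LinearMap.mem_ker, map_sub, hyx, sub_self]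
  have h4 : x - y ∈ I₁ ^ n • (⊤ : Submodule A (Coh.HH X M p)) := hk _ hq₁ hxy
  have h5 : x = (x - y) + y := by abel
  rw [h5]
  exact Submodule.add_mem _
    (Submodule.smul_mono_left (Ideal.pow_right_mono le_sup_left n) h4)
    (Submodule.smul_mono_left (Ideal.pow_right_mono le_sup_right n) hy)

include hfin in
theorem propB_sup (I₁ I₂ : Ideal A) (h₁ : Good A X I₁) (h₂ : Good A X I₂) (M : X.Modules)
    (hM : Coh.IsCoh M) (p : ℕ) : PropB A (I₁ ⊔ I₂) M p := by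
  intro n
  obtain ⟨k, hnk, hk⟩ := (h₁ M hM p).2 n
  have hq₁ : IsQuot (I₁ ^ k) (modPowπ I₁ k M) := isQuot_modPowπ I₁ k M
  have hq₀ : IsQuot (I₁ ^ n) (modPowπ I₁ n M) := isQuot_modPowπ I₁ n M
  have hM₁ : Coh.IsCoh (modPow I₁ k M) := isCoh_of_isQuot (fg _) _ hM hq₁
  obtain ⟨m, hnm, hm⟩ := (h₂ _ hM₁ p).2 n
  have hq₁₂ : IsQuot (I₂ ^ m) (modPowπ I₂ m (modPow I₁ k M)) := isQuot_modPowπ I₂ m _
  have hq₁₀ : IsQuot (I₂ ^ n) (modPowπ I₂ n (modPow I₁ k M)) := isQuot_modPowπ I₂ n _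
  have hq₀₀ : IsQuot (I₂ ^ n) (modPowπ I₂ n (modPow I₁ n M)) := isQuot_modPowπ I₂ n _
  refine ⟨k + m, by omega, fun {P P'} f f' t hf hf' ht => ?_⟩
  haveI := hf'.epi
  obtain ⟨τ, hτ⟩ := IsQuot.exists_trans (Ideal.pow_le_pow_right hnk) hq₀ hq₁
  obtain ⟨σ, hσ⟩ := IsQuot.exists_trans (Ideal.pow_le_pow_right hnm) hq₁₀ hq₁₂
  obtain ⟨τ', hτ'⟩ := IsQuot.exists_map hq₁₀ hq₀₀ τ
  obtain ⟨s, hs⟩ := IsQuot.exists_trans Ideal.sup_pow_add_le_pow_sup_pow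
    (IsQuot.comp_sup hq₁ hq₁₂) hf'
  obtain ⟨r, hr⟩ := IsQuot.exists_trans (pow_sup_pow_le I₁ I₂ n) hf (IsQuot.comp_sup hq₀ hq₀₀)
  have ht' : t = s ≫ σ ≫ τ' ≫ r := by
    rw [← cancel_epi f', ht]
    calc f = (modPowπ I₁ n M ≫ modPowπ I₂ n _) ≫ r := hr.symm
      _ = ((modPowπ I₁ k M ≫ τ) ≫ modPowπ I₂ n _) ≫ r := by rw [hτ]
      _ = (modPowπ I₁ k M ≫ (τ ≫ modPowπ I₂ n _)) ≫ r := by simp only [Category.assoc]
      _ = (modPowπ I₁ k M ≫ (modPowπ I₂ n _ ≫ τ')) ≫ r := by rw [hτ']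
      _ = (modPowπ I₁ k M ≫ ((modPowπ I₂ m _ ≫ σ) ≫ τ')) ≫ r := by rw [hσ]
      _ = ((modPowπ I₁ k M ≫ modPowπ I₂ m _) ≫ σ ≫ τ') ≫ r := by simp only [Category.assoc]
      _ = ((f' ≫ s) ≫ σ ≫ τ') ≫ r := by rw [hs]
      _ = f' ≫ s ≫ σ ≫ τ' ≫ r := by simp only [Category.assoc]
  rintro _ ⟨z, rfl⟩
  obtain ⟨y, hy⟩ := hm _ _ σ hq₁₀ hq₁₂ hσ ⟨Canon.HHlin A s p z, rfl⟩
  obtain ⟨x, hx⟩ := hk _ _ τ hq₀ hq₁ hτ ⟨y, rfl⟩
  refine ⟨x, ?_⟩
  have e1 : Canon.HHlin A t p z =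
      Canon.HHlin A (τ' ≫ r) p (Canon.HHlin A σ p (Canon.HHlin A s p z)) := by
    rw [HHlin_comp_apply, HHlin_comp_apply, ht']
  have e2 : Canon.HHlin A (τ' ≫ r) p (Canon.HHlin A (modPowπ I₂ n (modPow I₁ k M)) p y) =
      Canon.HHlin A (modPowπ I₂ n (modPow I₁ n M) ≫ r) p (Canon.HHlin A τ p y) := by
    rw [HHlin_comp_apply, HHlin_comp_apply, ← Category.assoc, hτ', Category.assoc]
  have e3 : Canon.HHlin A (modPowπ I₂ n (modPow I₁ n M) ≫ r) p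
      (Canon.HHlin A (modPowπ I₁ n M) p x) = Canon.HHlin A f p x := by
    rw [HHlin_comp_apply, ← Category.assoc, hr]
  rw [e1, ← hy, e2, ← hx, e3]

include hfin in
theorem good_sup (I₁ I₂ : Ideal A) (h₁ : Good A X I₁) (h₂ : Good A X I₂) : Good A X (I₁ ⊔ I₂) :=
  fun M hM p => ⟨propA_sup hfin I₁ I₂ h₁ h₂ M hM p, propB_sup hfin I₁ I₂ h₁ h₂ M hM p⟩

include hfin in
theorem good_singleton (a : A) : Good A X (Ideal.span {a}) :=
  fun M hM p => ⟨propA_principal M a hM p, propB_principal M a hfin hM p⟩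

include hfin in
theorem good (I : Ideal A) : Good A X I := by
  have hI := fg I
  induction I, hI using Submodule.fg_induction with
  | singleton a => exact good_singleton hfin a
  | sup J₁ J₂ _ _ ih₁ ih₂ => exact good_sup hfin J₁ J₂ ih₁ ih₂

end Groth.Agent.Lib.Lead.FormalC
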