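import Mathlib
import Groth.Agent.Lib.Helper2.LocalCrit
import Groth.Agent.Lib.Helper2.NilpFree2
import Groth.Agent.Lib.Helper2.PowCrit

set_option autoImplicit false
set_option linter.style.haveILetI false
set_option linter.unusedSectionVars false
universe u
open TensorProduct

namespace Groth.Agent.Lib.lead.ValFlatA

/-- `Tor₁(N, -)` is `f`-power torsion, in elementary terms. -/
def TorsCond (C : Type u) [CommRing C] (N : Type u) [AddCommGroup N] [Module C N] (f : C) : Prop :=
  ∀ (Q' Q : Type u) [AddCommGroup Q'] [Module C Q'] [AddCommGroup Q] [Module C Q]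
    (j : Q' →ₗ[C] Q), Function.Injective j → ∀ x : N ⊗[C] Q', j.lTensor N x = 0 →
      ∃ a : ℕ, f ^ a • x = 0

section Tors

variable {C : Type u} [CommRing C] {N : Type u} [AddCommGroup N] [Module C N] (f : C)

/-- flatness after inverting `f` gives the torsion condition. -/
theorem torsCond_of_flat_localized
    [Module.Flat C (LocalizedModule (Submonoid.powers f) N)] : TorsCond C N f := by
  intro Q' Q _ _ _ _ j hj x hx
  let g : N →ₗ[C] LocalizedModule (Submonoid.powers f) N :=
    LocalizedModule.mkLinearMap (Submonoid.powers f) N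
  haveI : IsLocalizedModule (Submonoid.powers f) (AlgebraTensorModule.rTensor C Q' g) :=
    inferInstance
  have h1 : (j.lTensor (LocalizedModule (Submonoid.powers f) N)) (g.rTensor Q' x) = 0 := by
    have : (j.lTensor _).comp (g.rTensor Q') = (g.rTensor Q).comp (j.lTensor N) := by
      rw [LinearMap.lTensor_comp_rTensor, LinearMap.rTensor_comp_lTensor]
    have h2 := congrArg (fun φ => φ x) this
    simp only [LinearMap.comp_apply] at h2
    rw [h2, hx, map_zero]
  have h3 : g.rTensor Q' x = 0 :=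
    (Module.Flat.lTensor_preserves_injective_linearMap j hj) (by rw [h1, map_zero])
  have h4 : (AlgebraTensorModule.rTensor C Q' g) x = 0 := h3
  obtain ⟨⟨s, a, rfl⟩, hs⟩ := (IsLocalizedModule.eq_zero_iff (Submonoid.powers f)
    (AlgebraTensorModule.rTensor C Q' g)).mp h4
  exact ⟨a, hs⟩

end Tors

open Groth.Agent.Lib.Helper2 in
/-- nilpotent local criterion. -/
theorem flat_of_nilpotent {R : Type u} [CommRing R] [IsNoetherianRing R] {M : Type u}
    [AddCommGroup M] [Module R M] (I : Ideal R) (n : ℕ) (hn : 0 < n) (hI : I ^ n = ⊥)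
    [Module.Flat (R ⧸ I) ((R ⧸ I) ⊗[R] M)]
    (ha : Function.Injective (I.subtype.lTensor M)) : Module.Flat R M := by
  rw [Module.Flat.iff_lTensor_injective']
  intro J
  exact LocalCrit.injective_of_pow_le I (LocalCrit.injective_of_le I ha) n hn J (hI ▸ bot_le)

open Groth.Agent.Lib.Helper2 in
/-- Artinian descent of flatness along an injective ring map. -/
theorem flat_of_injective_of_nilpotent {A₀ A' : Type u} [CommRing A₀] [CommRing A'] [Algebra A₀ A']
    (hinj : Function.Injective (algebraMap A₀ A')) (𝔫 : Ideal A₀) [h𝔫 : 𝔫.IsMaximal]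
    (hn : IsNilpotent 𝔫) (N : Type u) [AddCommGroup N] [Module A₀ N]
    [Module.Flat A' (A' ⊗[A₀] N)] : Module.Flat A₀ N := by
  letI : Field (A₀ ⧸ 𝔫) := Ideal.Quotient.field 𝔫
  have hfree : Module.Free (A₀ ⧸ 𝔫) ((A₀ ⧸ 𝔫) ⊗[A₀] N) := Module.Free.of_divisionRing _ _
  obtain ⟨R₀, hR₀⟩ := NilpFree2.exists_ideal_forall_free_iff N 𝔫 hn hfree
  have h1 : R₀.map (algebraMap A₀ A') = ⊥ := (hR₀ A').2.mp inferInstance
  have h2 : R₀ = ⊥ := by
    rw [eq_bot_iff]
    intro r hr
    have h3 : algebraMap A₀ A' r ∈ R₀.map (algebraMap A₀ A') := Ideal.mem_map_of_mem _ hr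
    rw [h1, Ideal.mem_bot] at h3
    rw [Ideal.mem_bot]
    exact hinj (by rw [h3, map_zero])
  have h3 : Module.Flat A₀ (A₀ ⊗[A₀] N) := (hR₀ A₀).2.mpr (by rw [h2, Ideal.map_bot])
  exact Module.Flat.of_linearEquiv (TensorProduct.lid A₀ N).symm

section SqZero

variable {C : Type u} [CommRing C] [IsNoetherianRing C] (f : C) (hf : f ∈ nonZeroDivisors C)
  (K : Ideal C) (hK : K * K = ⊥) (N : Type u) [AddCommGroup N] [Module C N]

include hf hK in
/-- `f` acts injectively on `K ⊗ N` when `K² = 0`, `f` is a nonzerodivisor and `N/KN` is flat over `C/K`. -/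
theorem smul_injective_tensor_of_sq_zero [Module.Flat (C ⧸ K) ((C ⧸ K) ⊗[C] N)]
    (w : K ⊗[C] N) (hw : f • w = 0) : w = 0 := by
  have htors : Module.IsTorsionBySet C K (K : Set C) := by
    intro x a
    apply Subtype.ext
    have : (a : C) * (x : C) ∈ K * K := Ideal.mul_mem_mul a.2 x.2
    rw [hK, Ideal.mem_bot] at this
    simpa using this
  letI : Module (C ⧸ K) K := Module.IsTorsionBySet.module htors
  haveI : IsScalarTower C (C ⧸ K) K := Module.IsTorsionBySet.isScalarTower htors
  let φ : K →ₗ[C ⧸ K] K := LinearMap.lsmul (C ⧸ K) K (Ideal.Quotient.mk K f)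
  have hφ : ∀ k : K, φ k = f • k := by
    intro k
    change (Ideal.Quotient.mk K f) • k = f • k
    rw [← Ideal.Quotient.algebraMap_eq, algebraMap_smul]
  have hφinj : Function.Injective φ := by
    rw [injective_iff_map_eq_zero]
    intro k hk
    rw [hφ] at hk
    apply Subtype.ext
    have h1 : f * (k : C) = 0 := by
      have := congrArg Subtype.val hk
      simpa using this
    exact (mem_nonZeroDivisors_iff.mp hf).1 _ h1
  have hflat : Function.Injective (φ.rTensor ((C ⧸ K) ⊗[C] N)) :=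
    Module.Flat.rTensor_preserves_injective_linearMap φ hφinj
  let e : K ⊗[C ⧸ K] ((C ⧸ K) ⊗[C] N) ≃ₗ[C ⧸ K] K ⊗[C] N :=
    AlgebraTensorModule.cancelBaseChange C (C ⧸ K) (C ⧸ K) K N
  have hsm : ∀ z : K ⊗[C ⧸ K] ((C ⧸ K) ⊗[C] N),
      φ.rTensor ((C ⧸ K) ⊗[C] N) z = (Ideal.Quotient.mk K f) • z := by
    intro z
    induction z using TensorProduct.induction_on with
    | zero => simp
    | add a b ha hb => rw [map_add, ha, hb, smul_add]
    | tmul k p =>
      rw [LinearMap.rTensor_tmul, TensorProduct.smul_tmul']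
      rfl
  have h1 : (Ideal.Quotient.mk K f) • w = 0 := by
    rw [← Ideal.Quotient.algebraMap_eq, algebraMap_smul]; exact hw
  have h2 : φ.rTensor ((C ⧸ K) ⊗[C] N) (e.symm w) = 0 := by
    rw [hsm, ← map_smul, h1, map_zero]
  have h3 : e.symm w = 0 := hflat (by rw [h2, map_zero])
  simpa using congrArg e h3

include hf hK in
/-- square-zero case of the key lemma. -/
theorem flat_of_sq_zero (hT : TorsCond C N f) [Module.Flat (C ⧸ K) ((C ⧸ K) ⊗[C] N)] :
    Module.Flat C N := by
  refine flat_of_nilpotent K 2 (by norm_num) (by rw [pow_two, hK]) ?_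
  rw [injective_iff_map_eq_zero]
  intro x hx
  obtain ⟨a, ha⟩ := hT K C K.subtype Subtype.val_injective x hx
  -- `f` acts injectively on `N ⊗ K`
  have key : ∀ z : N ⊗[C] K, f • z = 0 → z = 0 := by
    intro z hz
    have h1 : f • (TensorProduct.comm C N K z) = 0 := by rw [← map_smul, hz, map_zero]
    have h2 := smul_injective_tensor_of_sq_zero f hf K hK N _ h1
    simpa using congrArg (TensorProduct.comm C N K).symm h2
  induction a with
  | zero => simpa using ha
  | succ a ih =>
    apply ih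
    apply key
    rw [← mul_smul, ← pow_succ']
    exact ha

end SqZero

section Transfer

variable {C : Type u} [CommRing C] (f : C) (N : Type u) [AddCommGroup N] [Module C N]

/-- the torsion condition passes to base changes. -/
theorem torsCond_baseChange (hT : TorsCond C N f) (C' : Type u) [CommRing C'] [Algebra C C'] :
    TorsCond C' (C' ⊗[C] N) (algebraMap C C' f) := by
  intro Q' Q _ _ _ _ j hj x hx
  letI : Module C Q' := Module.compHom Q' (algebraMap C C')
  letI : Module C Q := Module.compHom Q (algebraMap C C')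
  haveI : IsScalarTower C C' Q' := IsScalarTower.of_algebraMap_smul fun _ _ => rfl
  haveI : IsScalarTower C C' Q := IsScalarTower.of_algebraMap_smul fun _ _ => rfl
  -- `(C' ⊗ N) ⊗[C'] Q ≃ N ⊗[C] Q`
  let α : ∀ (Y : Type u) [AddCommGroup Y] [Module C' Y] [Module C Y] [IsScalarTower C C' Y],
      (C' ⊗[C] N) ⊗[C'] Y ≃ₗ[C'] Y ⊗[C] N := fun Y _ _ _ _ =>
    (TensorProduct.comm C' (C' ⊗[C] N) Y) ≪≫ₗ AlgebraTensorModule.cancelBaseChange C C' C' Y N
  have hnat : ∀ z : (C' ⊗[C] N) ⊗[C'] Q',
      α Q (j.lTensor (C' ⊗[C] N) z) = (j.restrictScalars C).rTensor N (α Q' z) := by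
    intro z
    induction z using TensorProduct.induction_on with
    | zero => simp
    | add a b ha hb => simp only [map_add, ha, hb]
    | tmul p q =>
      induction p using TensorProduct.induction_on with
      | zero => simp
      | add a b ha hb => simp only [TensorProduct.add_tmul, map_add, ha, hb]
      | tmul c n => simp [α]
  have h1 : (j.restrictScalars C).rTensor N (α Q' x) = 0 := by rw [← hnat, hx, map_zero]
  -- move to `N ⊗ Q'`
  have h2 : (j.restrictScalars C).lTensor N (TensorProduct.comm C Q' N (α Q' x)) = 0 := by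
    have := congrArg (TensorProduct.comm C Q N) h1
    rw [map_zero] at this
    rw [← this]
    generalize α Q' x = y
    induction y using TensorProduct.induction_on with
    | zero => simp
    | add a b ha hb => simp only [map_add, ha, hb]
    | tmul q n => simp
  obtain ⟨a, ha⟩ := hT Q' Q (j.restrictScalars C) hj _ h2
  refine ⟨a, ?_⟩
  have h3 : f ^ a • (α Q' x) = 0 := by
    have := congrArg (TensorProduct.comm C Q' N).symm ha
    simpa using this
  have h4 : (algebraMap C C' f) ^ a • (α Q' x) = 0 := by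
    rw [← map_pow, algebraMap_smul]; exact h3
  have h5 : α Q' ((algebraMap C C' f) ^ a • x) = 0 := by rw [map_smul, h4]
  simpa using congrArg (α Q').symm h5

end Transfer

section BC

/-- flatness of `N/IN` over `C/I` passes to quotients of `C/K` by the image of `I`. -/
theorem flat_doubleQuot {C : Type u} [CommRing C] (I K : Ideal C) (N : Type u) [AddCommGroup N]
    [Module C N] [Module.Flat (C ⧸ I) ((C ⧸ I) ⊗[C] N)] :
    Module.Flat ((C ⧸ K) ⧸ I.map (Ideal.Quotient.mk K))
      (((C ⧸ K) ⧸ I.map (Ideal.Quotient.mk K)) ⊗[C ⧸ K] ((C ⧸ K) ⊗[C] N)) := by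
  set D := (C ⧸ K) ⧸ I.map (Ideal.Quotient.mk K) with hD
  let ψ : C ⧸ I →+* D := Ideal.Quotient.lift I
    ((Ideal.Quotient.mk (I.map (Ideal.Quotient.mk K))).comp (Ideal.Quotient.mk K)) (by
      intro a ha
      rw [RingHom.comp_apply, Ideal.Quotient.eq_zero_iff_mem]
      exact Ideal.mem_map_of_mem _ ha)
  letI : Algebra (C ⧸ I) D := ψ.toAlgebra
  haveI : IsScalarTower C (C ⧸ I) D := IsScalarTower.of_algebraMap_eq (fun x => rfl)
  let e1 : D ⊗[C ⧸ K] ((C ⧸ K) ⊗[C] N) ≃ₗ[D] D ⊗[C] N :=
    AlgebraTensorModule.cancelBaseChange C (C ⧸ K) D D N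
  let e2 : D ⊗[C ⧸ I] ((C ⧸ I) ⊗[C] N) ≃ₗ[D] D ⊗[C] N :=
    AlgebraTensorModule.cancelBaseChange C (C ⧸ I) D D N
  haveI : Module.Flat D (D ⊗[C ⧸ I] ((C ⧸ I) ⊗[C] N)) := inferInstance
  exact Module.Flat.of_linearEquiv (e1 ≪≫ₗ e2.symm)

end BC

/-- **Key lemma.** `C` Noetherian, `f` a nonzerodivisor, `I` a nilpotent ideal, `Tor₁(N, -)` is
`f`-power torsion and `N/IN` is flat over `C/I`: then `N` is flat over `C`. -/
theorem flat_of_nilpotent_of_torsCond : ∀ (n : ℕ) (C : Type u) [CommRing C] [IsNoetherianRing C]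
    (f : C) (_ : f ∈ nonZeroDivisors C) (I : Ideal C) (_ : I ^ (n + 1) = ⊥) (N : Type u)
    [AddCommGroup N] [Module C N] (_ : TorsCond C N f) [Module.Flat (C ⧸ I) ((C ⧸ I) ⊗[C] N)],
    Module.Flat C N := by
  intro n
  induction n with
  | zero =>
    intro C _ _ f hf I hI N _ _ hT _
    have hI' : I = ⊥ := by simpa using hI
    exact flat_of_sq_zero f hf I (by rw [hI', Ideal.bot_mul]) N hT
  | succ n ih =>
    intro C _ _ f hf I hI N _ _ hT _
    -- the `f`-saturation of `I^(n+1)`
    let K : Ideal C :=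
      { carrier := {c | ∃ a : ℕ, f ^ a * c ∈ I ^ (n + 1)}
        add_mem' := by
          rintro c c' ⟨a, ha⟩ ⟨a', ha'⟩
          refine ⟨a + a', ?_⟩
          have : f ^ (a + a') * (c + c') = f ^ a' * (f ^ a * c) + f ^ a * (f ^ a' * c') := by ring
          rw [this]
          exact add_mem (Ideal.mul_mem_left _ _ ha) (Ideal.mul_mem_left _ _ ha')
        zero_mem' := ⟨0, by simp⟩
        smul_mem' := by
          rintro r c ⟨a, ha⟩
          refine ⟨a, ?_⟩
          rw [smul_eq_mul, mul_left_comm]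
          exact Ideal.mul_mem_left _ _ ha }
    have hKmem : ∀ c, c ∈ K ↔ ∃ a : ℕ, f ^ a * c ∈ I ^ (n + 1) := fun c => Iff.rfl
    have hfpow : ∀ a : ℕ, ∀ c : C, f ^ a * c = 0 → c = 0 := by
      intro a c hc
      exact (mem_nonZeroDivisors_iff.mp (pow_mem hf a)).1 _ hc
    have hKK : K * K = ⊥ := by
      rw [eq_bot_iff, Ideal.mul_le]
      rintro c ⟨a, ha⟩ c' ⟨a', ha'⟩
      rw [Ideal.mem_bot]
      apply hfpow (a + a')
      have h1 : (f ^ a * c) * (f ^ a' * c') ∈ I ^ (n + 1) * I ^ (n + 1) := Ideal.mul_mem_mul ha ha'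
      have h2 : I ^ (n + 1) * I ^ (n + 1) ≤ I ^ (n + 1 + 1) := by
        rw [← pow_add]
        exact Ideal.pow_le_pow_right (by omega)
      have h3 := h2 h1
      rw [hI, Ideal.mem_bot] at h3
      rw [pow_add]
      linear_combination h3
    have hIK : I ^ (n + 1) ≤ K := fun c hc => ⟨0, by simpa using hc⟩
    have hfbar : Ideal.Quotient.mk K f ∈ nonZeroDivisors (C ⧸ K) := by
      have key : ∀ x : C ⧸ K, Ideal.Quotient.mk K f * x = 0 → x = 0 := by
        intro x hx
        obtain ⟨c, rfl⟩ := Ideal.Quotient.mk_surjective x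
        rw [← map_mul, Ideal.Quotient.eq_zero_iff_mem] at hx
        obtain ⟨a, ha⟩ := hx
        rw [Ideal.Quotient.eq_zero_iff_mem]
        refine ⟨a + 1, ?_⟩
        have : f ^ (a + 1) * c = f ^ a * (f * c) := by ring
        rw [this]
        exact ha
      rw [mem_nonZeroDivisors_iff]
      exact ⟨key, fun x hx => key x (by rw [mul_comm]; exact hx)⟩
    have hIbar : (I.map (Ideal.Quotient.mk K)) ^ (n + 1) = ⊥ := by
      rw [← Ideal.map_pow, eq_bot_iff]
      rw [Ideal.map_le_iff_le_comap]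
      intro c hc
      rw [Ideal.mem_comap, Ideal.mem_bot, Ideal.Quotient.eq_zero_iff_mem]
      exact hIK hc
    have hTbar : TorsCond (C ⧸ K) ((C ⧸ K) ⊗[C] N) (Ideal.Quotient.mk K f) :=
      torsCond_baseChange f N hT (C ⧸ K)
    haveI := flat_doubleQuot I K N
    haveI : Module.Flat (C ⧸ K) ((C ⧸ K) ⊗[C] N) :=
      ih (C ⧸ K) (Ideal.Quotient.mk K f) hfbar (I.map (Ideal.Quotient.mk K)) hIbar
        ((C ⧸ K) ⊗[C] N) hTbar
    exact flat_of_sq_zero f hf K hKK N hT

end Groth.Agent.Lib.lead.ValFlatA
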