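import Mathlib
import Groth.Agent.Lib.lead.ValFlatA
import Groth.Agent.Lib.Helper13.DvrDominate
import Groth.Agent.Lib.Helper7.FlatIdealComplete
import Groth.Agent.Lib.Helper21.FlatDescW

set_option autoImplicit false
set_option linter.style.haveILetI false
set_option linter.unusedSectionVars false
universe u
open TensorProduct

namespace Groth.Agent.Lib.lead.ValFlatB

open Groth.Agent.Lib.lead.ValFlatA

/-- a discrete valuation ring dominating `C/P`, for a non-maximal prime `P` of a Noetherian local
ring. -/
theorem exists_dvr_ker_eq (C : Type u) [CommRing C] [IsLocalRing C] [IsNoetherianRing C]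
    (P : Ideal C) [P.IsPrime] (hP : P ≠ IsLocalRing.maximalIdeal C) :
    ∃ (R : Type u) (_ : CommRing R) (_ : IsDomain R) (_ : IsDiscreteValuationRing R)
      (φ : C →+* R), IsLocalHom φ ∧ RingHom.ker φ = P := by
  let L := FractionRing (C ⧸ P)
  haveI : IsLocalRing (C ⧸ P) :=
    IsLocalRing.of_surjective' (Ideal.Quotient.mk P) Ideal.Quotient.mk_surjective
  have hD : ¬ IsField (C ⧸ P) := by
    intro hf
    exact hP (IsLocalRing.eq_maximalIdeal (Ideal.Quotient.maximal_of_isField P hf))
  have hT : Subfield.closure (Set.range (algebraMap (C ⧸ P) L) ∪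
      ((∅ : Finset L) : Set L)) = ⊤ := by
    rw [Finset.coe_empty, Set.union_empty]
    exact IsFractionRing.closure_range_algebraMap (C ⧸ P) L
  obtain ⟨R, hDVR, hDR, hlt⟩ := Groth.Agent.Lib.Helper13.Dvr.exists_dvr_dominating (C ⧸ P) hD
    (L := L) (IsFractionRing.injective (C ⧸ P) L) ∅ hT
  let φ₀ : (C ⧸ P) →+* R := (algebraMap (C ⧸ P) L).codRestrict R hDR
  let φ : C →+* R := φ₀.comp (Ideal.Quotient.mk P)
  refine ⟨R, inferInstance, inferInstance, hDVR, φ, ?_, ?_⟩
  · constructor
    intro c hc
    by_contra hnu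
    have hc' : c ∈ IsLocalRing.maximalIdeal C := (IsLocalRing.mem_maximalIdeal c).mpr hnu
    have h3 : Ideal.Quotient.mk P c ∈ IsLocalRing.maximalIdeal (C ⧸ P) := by
      rw [← IsLocalRing.map_maximalIdeal_of_surjective (Ideal.Quotient.mk P)
        Ideal.Quotient.mk_surjective]
      exact Ideal.mem_map_of_mem _ hc'
    have h4 := (R.valuation_lt_one_iff (φ c)).mpr (hlt _ h3)
    exact (IsLocalRing.mem_maximalIdeal _).mp h4 hc
  · ext c
    rw [RingHom.mem_ker]
    constructor
    · intro h
      have h1 : algebraMap (C ⧸ P) L (Ideal.Quotient.mk P c) = 0 := by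
        have h0 : ((φ c : R) : L) = ((0 : R) : L) := by rw [h]
        exact h0
      rw [map_eq_zero_iff _ (IsFractionRing.injective (C ⧸ P) L),
        Ideal.Quotient.eq_zero_iff_mem] at h1
      exact h1
    · intro h
      apply Subtype.ext
      change algebraMap (C ⧸ P) L (Ideal.Quotient.mk P c) = 0
      rw [Ideal.Quotient.eq_zero_iff_mem.mpr h, map_zero]

open Groth.Agent.Lib.Helper7.FlatIdealComplete in
/-- the flatness property holds modulo the contraction of `𝔪_R^n`, for a discrete valuation ring
`R` over `C` on which the module becomes flat. -/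
theorem flatProp_comap_pow (C S : Type u) [CommRing C] [IsLocalRing C] [IsNoetherianRing C]
    [CommRing S] [Algebra C S] [IsNoetherianRing S]
    (M' : Type u) [AddCommGroup M'] [Module S M'] [Module C M'] [IsScalarTower C S M']
    [Module.Finite S M']
    (R : Type u) [CommRing R] [IsDomain R] [IsDiscreteValuationRing R] [Algebra C R]
    [IsLocalHom (algebraMap C R)] [Module.Flat R (R ⊗[C] M')] (n : ℕ) (hn : 0 < n) :
    FlatProp C S M' ((IsLocalRing.maximalIdeal R ^ n).comap (algebraMap C R)) := by
  intro Q _ hQ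
  set J : Ideal C := (IsLocalRing.maximalIdeal R ^ n).comap (algebraMap C R) with hJ
  let A' := R ⧸ IsLocalRing.maximalIdeal R ^ n
  let ψ : C ⧸ J →+* A' := Ideal.quotientMap (IsLocalRing.maximalIdeal R ^ n) (algebraMap C R) le_rfl
  letI : Algebra (C ⧸ J) A' := ψ.toAlgebra
  haveI : IsScalarTower C (C ⧸ J) A' := IsScalarTower.of_algebraMap_eq (fun x => rfl)
  have hinj : Function.Injective (algebraMap (C ⧸ J) A') := Ideal.quotientMap_injective
  have hmC : ∀ c ∈ IsLocalRing.maximalIdeal C, algebraMap C R c ∈ IsLocalRing.maximalIdeal R := by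
    intro c hc
    rw [IsLocalRing.mem_maximalIdeal, mem_nonunits_iff] at hc ⊢
    exact fun hu => hc (isUnit_of_map_unit (algebraMap C R) c hu)
  have hJle : J ≤ IsLocalRing.maximalIdeal C := by
    intro c hc
    rw [IsLocalRing.mem_maximalIdeal, mem_nonunits_iff]
    intro hu
    have h1 : algebraMap C R c ∈ IsLocalRing.maximalIdeal R ^ n := hc
    have h2 : algebraMap C R c ∈ IsLocalRing.maximalIdeal R :=
      Ideal.pow_le_self (Nat.pos_iff_ne_zero.mp hn) h1
    exact (IsLocalRing.mem_maximalIdeal _).mp h2 (hu.map _)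
  have hpow : IsLocalRing.maximalIdeal C ^ n ≤ J := by
    rw [hJ, ← Ideal.map_le_iff_le_comap, Ideal.map_pow]
    apply Ideal.pow_right_mono
    rw [Ideal.map_le_iff_le_comap]
    exact hmC
  let 𝔫 : Ideal (C ⧸ J) := (IsLocalRing.maximalIdeal C).map (Ideal.Quotient.mk J)
  haveI h𝔫 : 𝔫.IsMaximal := by
    rcases Ideal.map_eq_top_or_isMaximal_of_surjective (Ideal.Quotient.mk J)
      Ideal.Quotient.mk_surjective (IsLocalRing.maximalIdeal.isMaximal C) with h | h
    · exfalso
      have h1 : (1 : C ⧸ J) ∈ (IsLocalRing.maximalIdeal C).map (Ideal.Quotient.mk J) := by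
        rw [h]; trivial
      obtain ⟨c, hc, hc1⟩ := (Ideal.mem_map_iff_of_surjective (Ideal.Quotient.mk J)
        Ideal.Quotient.mk_surjective).mp h1
      have h2 : c - 1 ∈ J := by
        rw [← Ideal.Quotient.eq_zero_iff_mem, map_sub, hc1, map_one, sub_self]
      have h3 : (1 : C) ∈ IsLocalRing.maximalIdeal C := by
        have := sub_mem hc (hJle h2)
        simpa using this
      exact (IsLocalRing.maximalIdeal.isMaximal C).ne_top
        ((Ideal.eq_top_iff_one _).mpr h3)
    · exact h
  have hnil : IsNilpotent 𝔫 := by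
    refine ⟨n, ?_⟩
    rw [Ideal.zero_eq_bot, ← Ideal.map_pow, eq_bot_iff, Ideal.map_le_iff_le_comap]
    intro c hc
    rw [Ideal.mem_comap, Ideal.mem_bot, Ideal.Quotient.eq_zero_iff_mem]
    exact hpow hc
  -- flatness over `A'`
  haveI h1 : Module.Flat A' (A' ⊗[C] M') :=
    Module.Flat.of_linearEquiv (AlgebraTensorModule.cancelBaseChange C R A' A' M').symm
  haveI h2 : Module.Flat A' (A' ⊗[C] LocalizedModule Q.primeCompl M') :=
    Groth.Agent.Lib.Helper21.FlatDesc.flat_baseChange_of_isLocalizedModule (A := C) (B := S)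
      (F := M') Q.primeCompl (LocalizedModule.mkLinearMap Q.primeCompl M')
  haveI h3 : Module.Flat A' (A' ⊗[C ⧸ J] ((C ⧸ J) ⊗[C] LocalizedModule Q.primeCompl M')) :=
    Module.Flat.of_linearEquiv (AlgebraTensorModule.cancelBaseChange C (C ⧸ J) A' A'
      (LocalizedModule Q.primeCompl M'))
  exact flat_of_injective_of_nilpotent hinj 𝔫 hnil _

open Groth.Agent.Lib.Helper7.FlatIdealComplete in
/-- the smallest flattening ideal lies in the kernel of `C → R`. -/
theorem le_ker_of_forall (C S : Type u) [CommRing C] [IsLocalRing C] [IsNoetherianRing C]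
    [CommRing S] [Algebra C S] [IsNoetherianRing S]
    (M' : Type u) [AddCommGroup M'] [Module S M'] [Module C M'] [IsScalarTower C S M']
    [Module.Finite S M']
    (R : Type u) [CommRing R] [IsDomain R] [IsDiscreteValuationRing R] [Algebra C R]
    [IsLocalHom (algebraMap C R)] [Module.Flat R (R ⊗[C] M')] (I : Ideal C)
    (hmin : ∀ J : Ideal C, FlatProp C S M' J → I ≤ J) :
    I ≤ RingHom.ker (algebraMap C R) := by
  intro c hc
  rw [RingHom.mem_ker]
  have h1 : algebraMap C R c ∈ ⨅ n : ℕ, IsLocalRing.maximalIdeal R ^ n := by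
    rw [Ideal.mem_iInf]
    intro n
    rcases Nat.eq_zero_or_pos n with rfl | hn
    · rw [pow_zero, Ideal.one_eq_top]; trivial
    · exact hmin _ (flatProp_comap_pow C S M' R n hn) hc
  rw [Ideal.iInf_pow_eq_bot_of_isLocalRing _ Ideal.IsPrime.ne_top'] at h1
  exact h1

section Tors

variable {C : Type u} [CommRing C] (f : C)

/-- the torsion condition is invariant under isomorphisms. -/
theorem torsCond_of_linearEquiv {N N' : Type u} [AddCommGroup N] [Module C N] [AddCommGroup N']
    [Module C N'] (e : N ≃ₗ[C] N') (hT : TorsCond C N f) : TorsCond C N' f := by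
  intro Q' Q _ _ _ _ j hj x hx
  have h1 : j.lTensor N ((e.symm.toLinearMap.rTensor Q') x) = 0 := by
    have h2 : (j.lTensor N) ∘ₗ (e.symm.toLinearMap.rTensor Q') =
        (e.symm.toLinearMap.rTensor Q) ∘ₗ (j.lTensor N') := by
      rw [LinearMap.lTensor_comp_rTensor, LinearMap.rTensor_comp_lTensor]
    have h3 := congrArg (fun φ => φ x) h2
    simp only [LinearMap.comp_apply] at h3
    rw [h3, hx, map_zero]
  obtain ⟨a, ha⟩ := hT Q' Q j hj _ h1
  refine ⟨a, ?_⟩
  have h4 : (e.symm.toLinearMap.rTensor Q') (f ^ a • x) = 0 := by rw [map_smul, ha]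
  have h5 : Function.Injective (e.symm.toLinearMap.rTensor Q') := by
    have : (e.symm.toLinearMap.rTensor Q') = (TensorProduct.congr e.symm (LinearEquiv.refl C Q')) := by
      ext; simp
    rw [this]
    exact (TensorProduct.congr e.symm (LinearEquiv.refl C Q')).injective
  exact h5 (by rw [h4, map_zero])

/-- the torsion condition passes to localizations with respect to a second ring. -/
theorem torsCond_of_isLocalizedModule {S : Type u} [CommRing S] [Algebra C S]
    {M' X : Type u} [AddCommGroup M'] [Module S M'] [Module C M'] [IsScalarTower C S M']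
    [AddCommGroup X] [Module S X] [Module C X] [IsScalarTower C S X]
    (T : Submonoid S) (g : M' →ₗ[S] X) [IsLocalizedModule T g]
    (hT : TorsCond C M' f) : TorsCond C X f := by
  intro Q' Q _ _ _ _ j hj x hx
  haveI : IsLocalizedModule T (AlgebraTensorModule.rTensor C Q' g) := inferInstance
  haveI : IsLocalizedModule T (AlgebraTensorModule.rTensor C Q g) := inferInstance
  obtain ⟨⟨y, t⟩, hy⟩ := IsLocalizedModule.surj T (AlgebraTensorModule.rTensor C Q' g) x
  -- `hy : t • x = (g ⊗ 1) y`
  have hcomm : ∀ z : M' ⊗[C] Q', (AlgebraTensorModule.rTensor C Q g) (j.lTensor M' z) =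
      (AlgebraTensorModule.lTensor S X j) ((AlgebraTensorModule.rTensor C Q' g) z) := by
    intro z
    induction z using TensorProduct.induction_on with
    | zero => simp
    | add a b ha hb => simp only [map_add, ha, hb]
    | tmul m q => simp
  have hy' : (t : S) • x = (AlgebraTensorModule.rTensor C Q' g) y := hy
  have h1 : (AlgebraTensorModule.rTensor C Q g) (j.lTensor M' y) = 0 := by
    rw [hcomm, ← hy', map_smul]
    have : (AlgebraTensorModule.lTensor S X j) x = j.lTensor X x := rfl
    rw [this, hx, smul_zero]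
  obtain ⟨t', ht'⟩ := (IsLocalizedModule.eq_zero_iff T (AlgebraTensorModule.rTensor C Q g)).mp h1
  have ht'' : (t' : S) • (j.lTensor M' y) = 0 := ht'
  have h2 : j.lTensor M' ((t' : S) • y) = 0 := by
    have : j.lTensor M' ((t' : S) • y) = (AlgebraTensorModule.lTensor S M' j) ((t' : S) • y) := rfl
    rw [this, map_smul]
    exact ht''
  obtain ⟨a, ha⟩ := hT Q' Q j hj _ h2
  refine ⟨a, ?_⟩
  have h3 : ((t' : S) * (t : S)) • (f ^ a • x) = 0 := by
    rw [smul_comm, mul_smul, hy', ← algebraMap_smul S (f ^ a), ← map_smul, ← map_smul,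
      algebraMap_smul, ha, map_zero]
  have h5 := IsLocalizedModule.smul_injective (AlgebraTensorModule.rTensor C Q' g) (t' * t)
  apply h5
  change ((t' : S) * (t : S)) • (f ^ a • x) = (t' * t) • (0 : X ⊗[C] Q')
  rw [h3, smul_zero]

end Tors

/-- faithfully flat descent of flatness of a module over a base. -/
theorem flat_of_flat_tensor_of_faithfullyFlat (R A T N : Type u) [CommRing R] [CommRing A]
    [Algebra R A] [AddCommGroup T] [Module A T] [Module R T] [IsScalarTower R A T]
    [AddCommGroup N] [Module A N] [Module R N] [IsScalarTower R A N]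
    [Module.FaithfullyFlat A T] [Module.Flat R (T ⊗[A] N)] : Module.Flat R N := by
  rw [Module.Flat.iff_lTensor_preserves_injective_linearMap]
  intro Q' Q _ _ _ _ ι hι
  let u : N ⊗[R] Q' →ₗ[A] N ⊗[R] Q := AlgebraTensorModule.lTensor A N ι
  have hu : Function.Injective (u.lTensor T) ↔ Function.Injective u :=
    Module.FaithfullyFlat.lTensor_injective_iff_injective A T u
  show Function.Injective u
  rw [← hu]
  let α : ∀ (Y : Type u) [AddCommGroup Y] [Module R Y],
      T ⊗[A] (N ⊗[R] Y) ≃ₗ[A] (T ⊗[A] N) ⊗[R] Y := fun Y _ _ =>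
    (AlgebraTensorModule.assoc R A A T N Y).symm
  have hcomm : ∀ z, α Q (u.lTensor T z) = ι.lTensor (T ⊗[A] N) (α Q' z) := by
    intro z
    induction z using TensorProduct.induction_on with
    | zero => simp
    | add a b ha hb => simp only [map_add, ha, hb]
    | tmul b x =>
      induction x using TensorProduct.induction_on with
      | zero => simp
      | add a c ha hc => simp only [tmul_add, map_add, ha, hc]
      | tmul a n => simp [α, u]
  have hinj : Function.Injective (ι.lTensor (T ⊗[A] N)) :=
    Module.Flat.lTensor_preserves_injective_linearMap ι hι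
  intro a b hab
  apply (α Q').injective
  apply hinj
  rw [← hcomm, ← hcomm, hab]

end Groth.Agent.Lib.lead.ValFlatB
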