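import Mathlib
import Groth.Agent.Lib.lead.ValFlatA
import Groth.Agent.Lib.lead.ValFlatB

set_option autoImplicit false
set_option linter.style.haveILetI false
set_option linter.unusedSectionVars false
universe u
open TensorProduct

namespace Groth.Agent.Lib.lead.ValFlatC

open Groth.Agent.Lib.lead.ValFlatA Groth.Agent.Lib.lead.ValFlatB
open Groth.Agent.Lib.Helper7.FlatIdealComplete

/-- the image of a nonzerodivisor under a flat ring map is a nonzerodivisor. -/
theorem algebraMap_mem_nonZeroDivisors_of_flat {A C : Type u} [CommRing A] [CommRing C]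
    [Algebra A C] [Module.Flat A C] (f : A) (hf : f ∈ nonZeroDivisors A) :
    algebraMap A C f ∈ nonZeroDivisors C := by
  have h1 : Function.Injective (LinearMap.lsmul A A f) := by
    intro a b hab
    have h2 : f * (a - b) = 0 := by
      have : f * a = f * b := hab
      rw [mul_sub, this, sub_self]
    exact sub_eq_zero.mp ((mem_nonZeroDivisors_iff.mp hf).1 _ h2)
  have h2 := Module.Flat.lTensor_preserves_injective_linearMap (M := C) _ h1
  have key : ∀ c : C, algebraMap A C f * c = 0 → c = 0 := by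
    intro c hc
    have h3 : (LinearMap.lsmul A A f).lTensor C (c ⊗ₜ[A] (1 : A)) = 0 := by
      rw [LinearMap.lTensor_tmul]
      change c ⊗ₜ[A] (f • (1 : A)) = 0
      rw [← TensorProduct.smul_tmul, Algebra.smul_def, hc, TensorProduct.zero_tmul]
    have h4 : c ⊗ₜ[A] (1 : A) = 0 := h2 (by rw [h3, map_zero])
    have := congrArg (TensorProduct.rid A C) h4
    simpa using this
  rw [mem_nonZeroDivisors_iff]
  exact ⟨key, fun x hx => key x (by rw [mul_comm]; exact hx)⟩

section Vloc

variable (A C S₀ S : Type u) [CommRing A] [IsLocalRing A] [IsNoetherianRing A]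
  [CommRing C] [IsLocalRing C] [IsNoetherianRing C]
  [IsAdicComplete (IsLocalRing.maximalIdeal C) C]
  [Algebra A C] [Module.FaithfullyFlat A C]
  [CommRing S₀] [IsLocalRing S₀] [Algebra A S₀] [IsLocalHom (algebraMap A S₀)]
  [CommRing S] [IsNoetherianRing S] [Algebra A S] [Algebra C S] [Algebra S₀ S]
  [IsScalarTower A C S] [IsScalarTower A S₀ S] [Algebra.IsPushout A C S₀ S]
  (N : Type u) [AddCommGroup N] [Module A N] [Module S₀ N] [IsScalarTower A S₀ N]
  [Module.Finite S₀ N]

include A in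
/-- Step 3: the smallest flattening ideal is nilpotent. -/
theorem exists_nilpotent_flatProp
    (hdvr : ∀ (R : Type u) [CommRing R] [IsDomain R] [IsDiscreteValuationRing R] [Algebra A R]
      [IsLocalHom (algebraMap A R)], Module.Flat R (R ⊗[A] N)) :
    ∃ (I : Ideal C) (n : ℕ), I ^ (n + 1) = ⊥ ∧ FlatProp C S (S ⊗[S₀] N) I := by
  obtain ⟨I, hIm, hIflat, hImin⟩ := main C S (S ⊗[S₀] N)
  have hprime : ∀ P : Ideal C, P.IsPrime → I ≤ P := by
    intro P hPp
    by_cases hP : P = IsLocalRing.maximalIdeal C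
    · rw [hP]; exact hIm
    · obtain ⟨R, _, _, _, φ, hloc, hker⟩ := exists_dvr_ker_eq C P hP
      letI : Algebra C R := φ.toAlgebra
      letI : Algebra A R := (φ.comp (algebraMap A C)).toAlgebra
      haveI : IsScalarTower A C R := IsScalarTower.of_algebraMap_eq (fun x => rfl)
      haveI : IsLocalHom (algebraMap C R) := hloc
      haveI : IsLocalHom (algebraMap A R) := by
        change IsLocalHom (φ.comp (algebraMap A C))
        exact RingHom.isLocalHom_comp _ _
      haveI := hdvr R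
      -- `R ⊗[C] (S ⊗[S₀] N) ≃ R ⊗[C] (C ⊗[A] N) ≃ R ⊗[A] N`
      let e0 : S ⊗[S₀] N ≃ₗ[C] C ⊗[A] N := Algebra.IsPushout.cancelBaseChange A C S₀ S N
      let e1 : R ⊗[C] (S ⊗[S₀] N) ≃ₗ[R] R ⊗[C] (C ⊗[A] N) :=
        AlgebraTensorModule.congr (LinearEquiv.refl R R) e0
      let e2 : R ⊗[C] (C ⊗[A] N) ≃ₗ[R] R ⊗[A] N :=
        AlgebraTensorModule.cancelBaseChange A C R R N
      haveI : Module.Flat R (R ⊗[C] (S ⊗[S₀] N)) := Module.Flat.of_linearEquiv (e1 ≪≫ₗ e2)
      have := le_ker_of_forall C S (S ⊗[S₀] N) R I hImin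
      change I ≤ RingHom.ker φ at this
      rwa [hker] at this
  have hnil : I ≤ nilradical C := by
    rw [nilradical_eq_sInf]
    exact le_sInf fun P hP => hprime P hP
  have h1 : IsNilpotent (nilradical C) := IsNoetherianRing.isNilpotent_nilradical C
  obtain ⟨n, hn⟩ := h1
  refine ⟨I, n, ?_, hIflat⟩
  rw [eq_bot_iff, ← Ideal.zero_eq_bot, ← hn]
  exact (Ideal.pow_le_pow_right (Nat.le_succ n)).trans (Ideal.pow_right_mono hnil n)

include C S S₀ in
/-- **Valuative criterion, local form.** -/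
theorem vloc
    (hmax : IsLocalRing.maximalIdeal C = (IsLocalRing.maximalIdeal A).map (algebraMap A C))
    (f : A) (hf : f ∈ nonZeroDivisors A) (hT : TorsCond A N f)
    (hdvr : ∀ (R : Type u) [CommRing R] [IsDomain R] [IsDiscreteValuationRing R] [Algebra A R]
      [IsLocalHom (algebraMap A R)], Module.Flat R (R ⊗[A] N)) : Module.Flat A N := by
  obtain ⟨I, n, hIn, hIflat⟩ := exists_nilpotent_flatProp A C S₀ S N hdvr
  -- `S₀ → S` is faithfully flat
  haveI hsymm : Algebra.IsPushout A S₀ C S := Algebra.IsPushout.symm inferInstance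
  haveI hff : Module.FaithfullyFlat S₀ S :=
    Module.FaithfullyFlat.of_linearEquiv S₀ (S₀ ⊗[A] C)
      (Algebra.IsPushout.equiv A S₀ C S).toLinearEquiv.symm
  obtain ⟨Q₀, hQ₀p, hQ₀⟩ :=
    Ideal.exists_isPrime_liesOver_of_faithfullyFlat (B := S) (IsLocalRing.maximalIdeal S₀)
  -- `Q₀` lies over the maximal ideal of `C`
  have hQ₀C : Q₀.comap (algebraMap C S) = IsLocalRing.maximalIdeal C := by
    symm
    apply (IsLocalRing.maximalIdeal.isMaximal C).eq_of_le (Ideal.comap_ne_top _ hQ₀p.ne_top)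
    rw [hmax, Ideal.map_le_iff_le_comap]
    intro a ha
    rw [Ideal.mem_comap, Ideal.mem_comap, ← IsScalarTower.algebraMap_apply,
      IsScalarTower.algebraMap_apply A S₀ S, ← Ideal.mem_comap]
    have hover : IsLocalRing.maximalIdeal S₀ = Q₀.comap (algebraMap S₀ S) := hQ₀.over
    rw [← hover]
    rw [IsLocalRing.mem_maximalIdeal, mem_nonunits_iff] at ha ⊢
    exact fun hu => ha (isUnit_of_map_unit (algebraMap A S₀) a hu)
  set X := LocalizedModule Q₀.primeCompl (S ⊗[S₀] N) with hX
  haveI hflatI : Module.Flat (C ⧸ I) ((C ⧸ I) ⊗[C] X) := hIflat Q₀ hQ₀C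
  -- the torsion condition
  have hf' : algebraMap A C f ∈ nonZeroDivisors C := algebraMap_mem_nonZeroDivisors_of_flat f hf
  have hT1 : TorsCond C (C ⊗[A] N) (algebraMap A C f) := torsCond_baseChange f N hT C
  have hT2 : TorsCond C (S ⊗[S₀] N) (algebraMap A C f) :=
    torsCond_of_linearEquiv _ (Algebra.IsPushout.cancelBaseChange A C S₀ S N).symm hT1
  have hT3 : TorsCond C X (algebraMap A C f) :=
    torsCond_of_isLocalizedModule _ Q₀.primeCompl
      (LocalizedModule.mkLinearMap Q₀.primeCompl (S ⊗[S₀] N)) hT2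
  haveI hXC : Module.Flat C X :=
    flat_of_nilpotent_of_torsCond n C (algebraMap A C f) hf' I hIn X hT3
  haveI hXA : Module.Flat A X := Module.Flat.trans A C X
  -- descend along `S₀ → S_{Q₀}`
  let T := Localization.AtPrime Q₀
  haveI : Module.Flat S₀ S := inferInstance
  haveI : Module.Flat S₀ T := Module.Flat.trans S₀ S T
  haveI : IsLocalHom (algebraMap S₀ T) := by
    constructor
    intro s hs
    by_contra hnu
    have h1 : s ∈ IsLocalRing.maximalIdeal S₀ := (IsLocalRing.mem_maximalIdeal s).mpr hnu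
    have hover : IsLocalRing.maximalIdeal S₀ = Q₀.comap (algebraMap S₀ S) := hQ₀.over
    rw [hover, Ideal.mem_comap] at h1
    have h2 : algebraMap S T (algebraMap S₀ S s) ∈ IsLocalRing.maximalIdeal T :=
      (IsLocalization.AtPrime.to_map_mem_maximal_iff T Q₀ _).2 h1
    rw [← IsScalarTower.algebraMap_apply] at h2
    exact (IsLocalRing.mem_maximalIdeal _).mp h2 hs
  haveI : Module.FaithfullyFlat S₀ T := Module.FaithfullyFlat.of_flat_of_isLocalHom
  let e1 : T ⊗[S] (S ⊗[S₀] N) ≃ₗ[T] X :=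
    (IsLocalizedModule.isBaseChange Q₀.primeCompl T
      (LocalizedModule.mkLinearMap Q₀.primeCompl (S ⊗[S₀] N))).equiv
  let e2 : T ⊗[S] (S ⊗[S₀] N) ≃ₗ[T] T ⊗[S₀] N :=
    AlgebraTensorModule.cancelBaseChange S₀ S T T N
  let e : X ≃ₗ[A] T ⊗[S₀] N := ((e1.symm ≪≫ₗ e2).restrictScalars S).restrictScalars A
  haveI : Module.Flat A (T ⊗[S₀] N) := Module.Flat.of_linearEquiv e.symm
  exact flat_of_flat_tensor_of_faithfullyFlat A S₀ T N

end Vloc

end Groth.Agent.Lib.lead.ValFlatC
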