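import Mathlib
import Groth.Agent.Lib.lead.ValFlatA
import Groth.Agent.Lib.lead.ValFlatB
import Groth.Agent.Lib.Helper21.FlatOpen
import Groth.Agent.Lib.Helper21.RedFlat

set_option autoImplicit false
set_option linter.style.haveILetI false
set_option linter.unusedSectionVars false
universe u
open TensorProduct

namespace Groth.Agent.Lib.lead.ValFlatD

open Groth.Agent.Lib.lead.ValFlatA Groth.Agent.Lib.lead.ValFlatB

section Setup

variable {A B : Type u} [CommRing A] [CommRing B] [Algebra A B]
  (M : Type u) [AddCommGroup M] [Module B M] [Module A M] [IsScalarTower A B M]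

/-- the algebra structure of `B_q` over `A_p`. -/
@[reducible] noncomputable def locAlgebra (p : Ideal A) [p.IsPrime] (q : Ideal B) [q.IsPrime]
    (hpq : p = q.comap (algebraMap A B)) :
    Algebra (Localization.AtPrime p) (Localization.AtPrime q) :=
  (Localization.localRingHom p q (algebraMap A B) hpq).toAlgebra

theorem locAlgebra_tower (p : Ideal A) [p.IsPrime] (q : Ideal B) [q.IsPrime]
    (hpq : p = q.comap (algebraMap A B)) :
    letI := locAlgebra p q hpq
    IsScalarTower A (Localization.AtPrime p) (Localization.AtPrime q) := by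
  letI := locAlgebra p q hpq
  refine IsScalarTower.of_algebraMap_eq (fun x => ?_)
  rw [RingHom.algebraMap_toAlgebra, Localization.localRingHom_to_map,
    ← IsScalarTower.algebraMap_apply]

/-- the module structure of `M_q` over `A_p`. -/
@[reducible] noncomputable def locModule (p : Ideal A) [p.IsPrime] (q : Ideal B) [q.IsPrime]
    (hpq : p = q.comap (algebraMap A B)) :
    Module (Localization.AtPrime p) (LocalizedModule q.primeCompl M) :=
  Module.compHom _ (Localization.localRingHom p q (algebraMap A B) hpq)

theorem locModule_tower (p : Ideal A) [p.IsPrime] (q : Ideal B) [q.IsPrime]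
    (hpq : p = q.comap (algebraMap A B)) :
    letI := locAlgebra p q hpq
    letI := locModule M p q hpq
    IsScalarTower (Localization.AtPrime p) (Localization.AtPrime q)
      (LocalizedModule q.primeCompl M) := by
  letI := locAlgebra p q hpq
  letI := locModule M p q hpq
  exact IsScalarTower.of_algebraMap_smul (fun _ _ => rfl)

theorem locModule_tower' (p : Ideal A) [p.IsPrime] (q : Ideal B) [q.IsPrime]
    (hpq : p = q.comap (algebraMap A B)) :
    letI := locModule M p q hpq
    IsScalarTower A (Localization.AtPrime p) (LocalizedModule q.primeCompl M) := by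
  letI := locAlgebra p q hpq
  letI := locModule M p q hpq
  haveI := locAlgebra_tower p q hpq
  haveI := locModule_tower M p q hpq
  refine IsScalarTower.of_algebraMap_smul (fun a x => ?_)
  rw [← algebraMap_smul (Localization.AtPrime q) (algebraMap A (Localization.AtPrime p) a) x,
    ← IsScalarTower.algebraMap_apply, algebraMap_smul]

/-- over a reduced ring, `M_q` is flat whenever `q` lies over a minimal prime. -/
theorem flat_localized_of_comap_mem_minimalPrimes [IsReduced A] (q : Ideal B) [q.IsPrime]
    (hq : q.comap (algebraMap A B) ∈ minimalPrimes A) :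
    Module.Flat A (LocalizedModule q.primeCompl M) := by
  set p := q.comap (algebraMap A B) with hp
  haveI : p.IsPrime := hq.1.1
  letI := locModule M p q rfl
  haveI := locModule_tower' M p q rfl
  haveI : Ring.KrullDimLE 0 (Localization.AtPrime p) := .of_isLocalization _ hq _
  letI : Field (Localization.AtPrime p) := Ring.KrullDimLE.isField_of_isReduced.toField
  haveI : Module.Flat (Localization.AtPrime p) (LocalizedModule q.primeCompl M) := inferInstance
  exact Module.Flat.trans A (Localization.AtPrime p) _

/-- generic flatness over a reduced Noetherian base, with a nonzerodivisor. -/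
theorem exists_nzd_forall_flat [IsReduced A] [IsNoetherianRing A] [Algebra.FiniteType A B]
    [Module.Finite B M] :
    ∃ f ∈ nonZeroDivisors A, ∀ (q' : Ideal B) [q'.IsPrime], algebraMap A B f ∉ q' →
      Module.Flat A (LocalizedModule q'.primeCompl M) := by
  classical
  have hopen := Groth.Agent.Lib.Helper21.FlatOpen.isOpen_flatLocus (A := A) (B := B) M
  set U := {q : PrimeSpectrum B | Module.Flat A (LocalizedModule q.asIdeal.primeCompl M)} with hU
  obtain ⟨𝔞, h𝔞⟩ := (PrimeSpectrum.isClosed_iff_zeroLocus_ideal Uᶜ).mp hopen.isClosed_compl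
  set 𝔟 := 𝔞.comap (algebraMap A B) with h𝔟
  have hnot : ∀ p' ∈ minimalPrimes A, ¬ 𝔟 ≤ p' := by
    intro p' hp' hle
    have hmin : p' ∈ 𝔟.minimalPrimes :=
      ⟨⟨hp'.1.1, hle⟩, fun y hy hyp => hp'.2 ⟨hy.1, bot_le⟩ hyp⟩
    obtain ⟨q', hq'p, hq'le, hq'c⟩ :=
      Ideal.exists_comap_eq_of_mem_minimalPrimes (algebraMap A B) p' hmin
    have h1 : (⟨q', hq'p⟩ : PrimeSpectrum B) ∈ Uᶜ := by
      rw [h𝔞, PrimeSpectrum.mem_zeroLocus]; exact hq'le
    apply h1
    change Module.Flat A (LocalizedModule q'.primeCompl M)
    exact flat_localized_of_comap_mem_minimalPrimes M q' (hq'c ▸ hp')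
  have hfin := minimalPrimes.finite_of_isNoetherianRing A
  obtain ⟨f, hf𝔟, hfnot⟩ : ∃ f ∈ 𝔟, ∀ p' ∈ minimalPrimes A, f ∉ p' := by
    by_contra hcon
    push_neg at hcon
    have hsub : (𝔟 : Set A) ⊆ ⋃ p' ∈ (hfin.toFinset : Set (Ideal A)), ((id p' : Ideal A) : Set A) := by
      intro f hf
      obtain ⟨p', hp', hfp'⟩ := hcon f hf
      simp only [Set.mem_iUnion]
      exact ⟨p', by simpa using hp', hfp'⟩
    rw [Ideal.subset_union_prime (⊥ : Ideal A) ⊥ (fun i hi _ _ => by
      have : i ∈ minimalPrimes A := by simpa using hi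
      exact this.1.1)] at hsub
    obtain ⟨p', hp', hle⟩ := hsub
    exact hnot p' (by simpa using hp') hle
  refine ⟨f, ?_, ?_⟩
  · have key : ∀ g : A, f * g = 0 → g = 0 := by
      intro g hg
      apply Groth.Agent.Lib.Helper21.RedFlat.eq_zero_of_forall_mem_minimalPrimes
      intro p' hp'
      haveI := hp'.1.1
      have : f * g ∈ p' := by rw [hg]; exact zero_mem _
      exact (Ideal.IsPrime.mem_or_mem ‹_› this).resolve_left (hfnot p' hp')
    rw [mem_nonZeroDivisors_iff]
    exact ⟨key, fun x hx => key x (by rw [mul_comm]; exact hx)⟩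
  · intro q' _ hfq'
    have h1 : (⟨q', inferInstance⟩ : PrimeSpectrum B) ∉ Uᶜ := by
      rw [h𝔞, PrimeSpectrum.mem_zeroLocus]
      intro hle
      exact hfq' (hle hf𝔟)
    rw [Set.notMem_compl_iff] at h1
    exact h1

/-- if `M_q'` is flat for all primes `q'` of `B` not containing `f`, then `Tor₁(M, -)` is
`f`-power torsion. -/
theorem torsCond_of_forall_flat (f : A)
    (H : ∀ (q' : Ideal B) [q'.IsPrime], algebraMap A B f ∉ q' →
      Module.Flat A (LocalizedModule q'.primeCompl M)) : TorsCond A M f := by
  intro Q' Q _ _ _ _ j hj x hx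
  let 𝔠 : Ideal B := LinearMap.ker (LinearMap.toSpanSingleton B (M ⊗[A] Q') x)
  have h𝔠 : ∀ b : B, b ∈ 𝔠 ↔ b • x = 0 := by
    intro b
    rw [LinearMap.mem_ker, LinearMap.toSpanSingleton_apply]
  have hrad : algebraMap A B f ∈ 𝔠.radical := by
    rw [Ideal.radical_eq_sInf, Ideal.mem_sInf]
    rintro q' ⟨hle, hq'p⟩
    by_contra hfq'
    haveI := H q' hfq'
    let g : M →ₗ[B] LocalizedModule q'.primeCompl M := LocalizedModule.mkLinearMap q'.primeCompl M
    haveI : IsLocalizedModule q'.primeCompl (AlgebraTensorModule.rTensor A Q' g) := inferInstance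
    have h1 : j.lTensor (LocalizedModule q'.primeCompl M)
        ((AlgebraTensorModule.rTensor A Q' g) x) = 0 := by
      have hc : (j.lTensor (LocalizedModule q'.primeCompl M)) ∘ₗ ((g.restrictScalars A).rTensor Q') =
          ((g.restrictScalars A).rTensor Q) ∘ₗ (j.lTensor M) := by
        rw [LinearMap.lTensor_comp_rTensor, LinearMap.rTensor_comp_lTensor]
      have h3 := congrArg (fun φ => φ x) hc
      simp only [LinearMap.comp_apply] at h3
      have h4 : (AlgebraTensorModule.rTensor A Q' g) x = ((g.restrictScalars A).rTensor Q') x := rfl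
      rw [h4, h3, hx, map_zero]
    have h2 : (AlgebraTensorModule.rTensor A Q' g) x = 0 :=
      (Module.Flat.lTensor_preserves_injective_linearMap j hj) (by rw [h1, map_zero])
    obtain ⟨t, ht⟩ := (IsLocalizedModule.eq_zero_iff q'.primeCompl
      (AlgebraTensorModule.rTensor A Q' g)).mp h2
    have ht' : (t : B) • x = 0 := ht
    exact t.2 (hle ((h𝔠 _).mpr ht'))
  obtain ⟨a, ha⟩ := hrad
  refine ⟨a, ?_⟩
  have := (h𝔠 _).mp ha
  rwa [← map_pow, algebraMap_smul] at this

end Setup

end Groth.Agent.Lib.lead.ValFlatD
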