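import Mathlib
import Groth.Agent.Lib.Helper5.ComplKaehler
import Groth.Prelude.Def_SGA1

set_option autoImplicit false
universe u
open IsLocalRing TensorProduct

namespace Groth.Agent.Lib.lead.CompleteQF

/-- quasi-finite local algebra over a complete Noetherian local ring is finite. -/
theorem finite_of_quasiFinite_of_complete (A B : Type u) [CommRing A] [CommRing B] [Algebra A B]
    [IsNoetherianRing A] [IsLocalRing A] [IsAdicComplete (maximalIdeal A) A]
    [IsNoetherianRing B] [IsLocalRing B] [IsLocalHom (algebraMap A B)] [Algebra.QuasiFinite A B] :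
    Module.Finite A B := by
  have hle : ∀ n : ℕ, ((maximalIdeal A) ^ n • (⊤ : Submodule A B)) ≤
      ((maximalIdeal B) ^ n).restrictScalars A := by
    intro n
    rw [Submodule.smul_le]
    intro r hr b _
    change r • b ∈ (maximalIdeal B) ^ n
    rw [Algebra.smul_def]
    refine Ideal.mul_mem_right _ _ ?_
    have h1 : algebraMap A B r ∈ (Ideal.map (algebraMap A B) (maximalIdeal A)) ^ n := by
      rw [← Ideal.map_pow]
      exact Ideal.mem_map_of_mem _ hr
    refine Ideal.pow_right_mono ?_ n h1
    exact ((IsLocalRing.local_hom_TFAE (algebraMap A B)).out 0 2).mp ‹_›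
  have : IsHausdorff (maximalIdeal A) B := by
    refine ⟨fun x hx => ?_⟩
    have : x ∈ (⨅ n : ℕ, (maximalIdeal B) ^ n : Ideal B) := by
      rw [Ideal.mem_iInf]
      intro n
      have := hx n
      rw [SModEq.zero] at this
      exact hle n this
    rw [Ideal.iInf_pow_eq_bot_of_isLocalRing _ (maximalIdeal.isMaximal B).ne_top] at this
    simpa using this
  apply Groth.Agent.Lib.Helper5.ComplKaehler.finite_of_finite_quotient (maximalIdeal A)
  let k := A ⧸ maximalIdeal A
  let _ : Field k := Ideal.Quotient.field _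
  have : Algebra.QuasiFinite k (k ⊗[A] B) := inferInstance
  have : Module.Finite k (k ⊗[A] B) := Module.Finite.of_quasiFinite
  have : Module.Finite A (k ⊗[A] B) := Module.Finite.trans k _
  exact Module.Finite.equiv (TensorProduct.quotTensorEquivQuotSMul B (maximalIdeal A))


open AlgebraicGeometry CategoryTheory CategoryTheory.Limits

/-- the local scheme at a quasi-finite point of the closed fibre is finite over the base -/
theorem isFinite_fromSpecStalk_comp (A : Type u) [CommRing A]
    [IsNoetherianRing A] [IsLocalRing A] [IsAdicComplete (IsLocalRing.maximalIdeal A) A]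
    {S' : Scheme.{u}} (g : S' ⟶ Spec (CommRingCat.of A)) [LocallyOfFiniteType g]
    (s' : S') (hs' : g.base s' = IsLocalRing.closedPoint A)
    (hq : g.QuasiFiniteAt s') :
    IsFinite (S'.fromSpecStalk s' ≫ g) := by
  have : IsLocallyNoetherian S' := LocallyOfFiniteType.isLocallyNoetherian g
  let φ : CommRingCat.of A ⟶ S'.presheaf.stalk s' := Spec.preimage (S'.fromSpecStalk s' ≫ g)
  have hφ : Spec.map φ = S'.fromSpecStalk s' ≫ g := Spec.map_preimage _
  have hlq : LocallyQuasiFinite (Spec.map φ) := by
    rw [hφ]; exact Scheme.Hom.quasiFiniteAt_iff.mp hq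
  have hqf : φ.hom.QuasiFinite := (HasRingHomProperty.Spec_iff (P := @LocallyQuasiFinite)).mp hlq
  have hloc : IsLocalHom φ.hom := by
    have h1 : (Spec.map φ) (IsLocalRing.closedPoint _) = IsLocalRing.closedPoint A := by
      rw [hφ, Scheme.Hom.comp_apply, Scheme.fromSpecStalk_closedPoint]; exact hs'
    refine ((IsLocalRing.local_hom_TFAE φ.hom).out 0 4).mpr ?_
    have := congrArg PrimeSpectrum.asIdeal h1
    rw [Spec.map_apply] at this
    exact this
  algebraize [φ.hom]
  have : Algebra.QuasiFinite A (S'.presheaf.stalk s') := RingHom.quasiFinite_algebraMap.mp hqf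
  have hfin : Module.Finite A (S'.presheaf.stalk s') := finite_of_quasiFinite_of_complete A _
  have : φ.hom.Finite := RingHom.finite_algebraMap.mpr hfin
  rw [← hφ]
  exact (IsFinite.SpecMap_iff φ).mpr this


theorem S5114 (A : Type u) [CommRing A]
    [IsNoetherianRing A] [IsLocalRing A] [IsAdicComplete (IsLocalRing.maximalIdeal A) A]
    {S' : Scheme.{u}} (g : S' ⟶ Spec (CommRingCat.of A)) [LocallyOfFiniteType g] [QuasiCompact g]
    [Surjective g]
    (hfin : (g.base ⁻¹' {IsLocalRing.closedPoint A}).Finite)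
    (hsp : ∀ t : S', ∃ s' : S', g.base s' = IsLocalRing.closedPoint A ∧ t ⤳ s') :
    SGA1.UnivSubmersive g := by
  intro X' Y' i₁ i₂ f' sq
  change Topology.IsQuotientMap f'.base
  have hsurj : Surjective f' := MorphismProperty.of_isPullback sq.flip ‹Surjective g›
  rw [Topology.isQuotientMap_iff_isClosed]
  refine ⟨hsurj.surj, fun Z => ⟨fun h => h.preimage f'.continuous, fun hZ => ?_⟩⟩
  have hq : ∀ s' : S', g.base s' = IsLocalRing.closedPoint A → g.QuasiFiniteAt s' := by
    intro s' hs'
    have hfin' : (g ⁻¹' {g s'}).Finite := by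
      have : (g s') = IsLocalRing.closedPoint A := hs'
      rw [this]; exact hfin
    have : Finite (g.fiber (g s')) := (g.fiberHomeo (g s')).finite_iff.mpr hfin'
    exact Scheme.Hom.quasiFiniteAt_iff_isOpen_singleton_asFiber.mpr (isOpen_discrete _)
  have hfinm : ∀ s' : S', g.base s' = IsLocalRing.closedPoint A →
      IsFinite (S'.fromSpecStalk s' ≫ g) := fun s' hs' =>
    isFinite_fromSpecStalk_comp A g s' hs' (hq s' hs')
  have key : Z = ⋃ s' ∈ (g.base ⁻¹' {IsLocalRing.closedPoint A}),
      (pullback.snd (S'.fromSpecStalk s') i₁ ≫ f').base ''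
        ((pullback.snd (S'.fromSpecStalk s') i₁ ≫ f').base ⁻¹' Z) := by
    apply Set.Subset.antisymm
    · intro z hz
      obtain ⟨x', rfl⟩ := hsurj.surj z
      obtain ⟨s', hs', hspec⟩ := hsp (i₁ x')
      have hmem : i₁ x' ∈ Set.range (S'.fromSpecStalk s') := by
        rw [Scheme.range_fromSpecStalk]; exact hspec
      obtain ⟨t, ht⟩ := hmem
      obtain ⟨w, hw1, hw2⟩ := Scheme.Pullback.exists_preimage_pullback
        (f := S'.fromSpecStalk s') (g := i₁) t x' ht
      refine Set.mem_iUnion₂.mpr ⟨s', hs', w, ?_, ?_⟩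
      · change (pullback.snd (S'.fromSpecStalk s') i₁ ≫ f') w ∈ Z
        rw [Scheme.Hom.comp_apply, hw2]; exact hz
      · change (pullback.snd (S'.fromSpecStalk s') i₁ ≫ f') w = _
        rw [Scheme.Hom.comp_apply, hw2]
    · intro z hz
      obtain ⟨s', -, w, hw, rfl⟩ := Set.mem_iUnion₂.mp hz
      exact hw
  rw [key]
  refine hfin.isClosed_biUnion fun s' hs' => ?_
  have hpb : IsPullback (pullback.fst (S'.fromSpecStalk s') i₁)
      (pullback.snd (S'.fromSpecStalk s') i₁ ≫ f') (S'.fromSpecStalk s' ≫ g) i₂ :=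
    (IsPullback.of_hasPullback (S'.fromSpecStalk s') i₁).paste_vert sq.flip
  have : IsFinite (pullback.snd (S'.fromSpecStalk s') i₁ ≫ f') :=
    MorphismProperty.of_isPullback hpb (hfinm s' hs')
  refine (pullback.snd (S'.fromSpecStalk s') i₁ ≫ f').isClosedMap _ ?_
  have : (pullback.snd (S'.fromSpecStalk s') i₁ ≫ f').base ⁻¹' Z =
      (pullback.snd (S'.fromSpecStalk s') i₁).base ⁻¹' (f'.base ⁻¹' Z) := rfl
  rw [this]
  exact hZ.preimage (pullback.snd (S'.fromSpecStalk s') i₁).continuous

end Groth.Agent.Lib.lead.CompleteQF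

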