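import Mathlib
import Groth.Agent.Lib.lead.VarFibreDimSum
import Groth.Agent.Lib.lead.GenFiniteCore

set_option autoImplicit false
set_option linter.style.haveILetI false
universe u
open CategoryTheory CategoryTheory.Limits AlgebraicGeometry Topology TopologicalSpace

namespace Groth.Agent.Lib.lead.DimFibreStrata

open Groth.Agent.Lib.Helper7 Groth.Agent.Lib.Helper18 Groth.Agent.Lib.Helper24 Groth.Agent.Lib.lead

attribute [local instance] Curv2.stalkAlgebra Curv2.resAlgebra

theorem dim_mono_of_subset {T : Type*} [TopologicalSpace T] {A B : Set T} (h : A ⊆ B) :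
    topologicalKrullDim ↥A ≤ topologicalKrullDim ↥B :=
  (IsInducing.topologicalKrullDim_le (f := Set.inclusion h)
    (IsEmbedding.inclusion h).isInducing)

section

variable (k : Type u) [Field k] {C X : Scheme.{u}} [C.Over (Spec (CommRingCat.of k))]
  [X.Over (Spec (CommRingCat.of k))]
  [LocallyOfFiniteType (C ↘ Spec (CommRingCat.of k))]
  [LocallyOfFiniteType (X ↘ Spec (CommRingCat.of k))]
  (π : C ⟶ X) (hf : π ≫ (X ↘ Spec (CommRingCat.of k)) = C ↘ Spec (CommRingCat.of k))

include hf in
/-- Claim 1 -/
theorem claim1 [LocallyOfFiniteType π] (n j : ℕ) (hC : topologicalKrullDim C ≤ n) (x : X)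
    (hx : (j : WithBot ℕ∞) ≤ topologicalKrullDim (π.fiber x)) :
    ∃ m : ℕ, topologicalKrullDim ↥(closure ({x} : Set X)) = m ∧ m + j ≤ n := by
  obtain ⟨c, hcx, hc⟩ := (FibreDimTarget.le_dim_fibre_iff π x j).1 hx
  obtain ⟨c', hc'1, hc'2, -, hc'4⟩ := FibreDim.exists_max_tr π c
  have hadd := VarFibreDimSum.dim_closure_eq_add k π hf c'
  obtain ⟨m, -, hm⟩ := VarDim.exists_nat_dim_closure_eq k X x
  refine ⟨m, hm, ?_⟩
  rw [hc'1, hcx, hm] at hadd
  have h1 : topologicalKrullDim ↥(closure ({c'} : Set C)) ≤ n :=
    (VarFibreDimSum.dim_closure_le _).trans hC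
  rw [hadd] at h1
  have h2 : (j : WithBot ℕ∞) ≤ ((FibreDim.tr π c' : ℕ) : WithBot ℕ∞) := by
    rw [hc'4]; exact hc
  have h3 : j ≤ FibreDim.tr π c' := by exact_mod_cast h2
  have h4 : m + FibreDim.tr π c' ≤ n := by exact_mod_cast h1
  omega

end

theorem S14480 (k : Type u) [Field k] (C X : Scheme.{u})
    (q : X ⟶ Spec (CommRingCat.of k)) (π : C ⟶ X)
    [LocallyOfFiniteType q] [CompactSpace X] [LocallyOfFiniteType π] [CompactSpace C] (n : ℕ) :
    topologicalKrullDim C ≤ n ↔
      ∀ j : ℕ, topologicalKrullDim (closure {x : X | (j : WithBot ℕ∞) ≤ topologicalKrullDim (π.fiber x)}) +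
        (j : WithBot ℕ∞) ≤ n := by
  letI : X.Over (Spec (CommRingCat.of k)) := ⟨q⟩
  letI : C.Over (Spec (CommRingCat.of k)) := ⟨π ≫ q⟩
  haveI : LocallyOfFiniteType (X ↘ Spec (CommRingCat.of k)) := ‹LocallyOfFiniteType q›
  haveI : LocallyOfFiniteType (C ↘ Spec (CommRingCat.of k)) :=
    inferInstanceAs (LocallyOfFiniteType (π ≫ q))
  have hf : π ≫ (X ↘ Spec (CommRingCat.of k)) = C ↘ Spec (CommRingCat.of k) := rfl
  haveI : IsLocallyNoetherian C :=
    LocallyOfFiniteType.isLocallyNoetherian (C ↘ Spec (CommRingCat.of k))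
  haveI : IsNoetherian C := {}
  haveI : IsLocallyNoetherian X :=
    LocallyOfFiniteType.isLocallyNoetherian (X ↘ Spec (CommRingCat.of k))
  haveI : IsNoetherian X := {}
  constructor
  · intro hC j
    set B : Set X := {x : X | (j : WithBot ℕ∞) ≤ topologicalKrullDim (π.fiber x)} with hB
    by_cases hBe : B = ∅
    · rw [hBe, closure_empty]
      have : topologicalKrullDim ↥(∅ : Set X) = ⊥ := by
        rw [topologicalKrullDim, Order.krullDim_eq_bot_iff]
        exact ⟨fun Z => by
          obtain ⟨z, -⟩ := Z.isIrreducible.nonempty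
          exact z.2⟩
      rw [this, WithBot.bot_add]
      exact bot_le
    · obtain ⟨x₀, hx₀⟩ := Set.nonempty_iff_ne_empty.2 hBe
      obtain ⟨m₀, -, hm₀⟩ := claim1 k π hf n j hC x₀ hx₀
      have hjn : j ≤ n := by omega
      have hbound : topologicalKrullDim ↥(closure B) ≤ ((n - j : ℕ) : WithBot ℕ∞) := by
        apply TopDimComp.topologicalKrullDim_le_of_forall_component
        intro W hW
        haveI : QuasiSober ↥(closure B) :=
          (isClosed_closure.isClosedEmbedding_subtypeVal).quasiSober
        obtain ⟨w, hw⟩ := QuasiSober.sober hW.1 (isClosed_of_mem_irreducibleComponents W hW)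
        set A : Set C := {c : C | (j : WithBot ℕ∞) ≤ FlatMor.fibreDimAt π c} with hA
        have hAcl : IsClosed A := FibreDimTarget.isClosed_setOf_le_fibreDimAt π j
        have hBA : B = π '' A := by
          ext y
          simp only [hB, hA, Set.mem_ofPred_eq, Set.mem_image]
          rw [FibreDimTarget.le_dim_fibre_iff]
          constructor
          · rintro ⟨x, hx, h⟩; exact ⟨x, h, hx⟩
          · rintro ⟨x, h, hx⟩; exact ⟨x, hx, h⟩
        obtain ⟨c, hcA, hc⟩ := GenFiniteCore.exists_specializes_of_mem_closure_image π A hAcl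
          w.1 (by rw [← hBA]; exact w.2)
        have hxB : π c ∈ B := by rw [hBA]; exact ⟨c, hcA, rfl⟩
        obtain ⟨m, hm, hmn⟩ := claim1 k π hf n j hC (π c) hxB
        have hsub : ∀ w' ∈ W, (w' : X) ∈ closure ({π c} : Set X) := by
          intro w' hw'
          rw [← hw.def] at hw'
          have h1 : w ⤳ w' := specializes_iff_mem_closure.2 hw'
          have h2 : (w : X) ⤳ (w' : X) := h1.map continuous_subtype_val
          exact (hc.trans h2).mem_closure
        let φ : ↥W → ↥(closure ({π c} : Set X)) := fun w' => ⟨(w'.1 : X), hsub w'.1 w'.2⟩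
        have hφ : IsInducing φ := by
          have h1 : IsInducing (fun w' : ↥W => ((w'.1 : ↥(closure B)) : X)) :=
            IsInducing.subtypeVal.comp IsInducing.subtypeVal
          have hcont : Continuous φ :=
            (continuous_subtype_val.comp continuous_subtype_val).subtype_mk _
          exact IsInducing.of_comp hcont continuous_subtype_val h1
        have := hφ.topologicalKrullDim_le
        rw [hm] at this
        refine this.trans ?_
        have : m ≤ n - j := by omega
        exact_mod_cast this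
      calc topologicalKrullDim ↥(closure B) + (j : WithBot ℕ∞)
          ≤ ((n - j : ℕ) : WithBot ℕ∞) + (j : WithBot ℕ∞) := by gcongr
        _ = (n : WithBot ℕ∞) := by
          have : n - j + j = n := by omega
          exact_mod_cast this
  · intro H
    apply TopDimComp.topologicalKrullDim_le_of_forall_component
    intro W hW
    obtain ⟨c, hc⟩ := QuasiSober.sober hW.1 (isClosed_of_mem_irreducibleComponents W hW)
    rw [← hc.def, VarFibreDimSum.dim_closure_eq_add k π hf c]
    set j := FibreDim.tr π c with hj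
    have hxB : π c ∈ {x : X | (j : WithBot ℕ∞) ≤ topologicalKrullDim (π.fiber x)} := by
      show (j : WithBot ℕ∞) ≤ topologicalKrullDim (π.fiber (π c))
      rw [FibreDimTarget.le_dim_fibre_iff]
      exact ⟨c, rfl, FibreDim.tr_le_fibreDimAt π (specializes_rfl) rfl⟩
    have h1 : topologicalKrullDim ↥(closure ({π c} : Set X)) ≤
        topologicalKrullDim ↥(closure {x : X | (j : WithBot ℕ∞) ≤ topologicalKrullDim (π.fiber x)}) :=
      dim_mono_of_subset (closure_mono (Set.singleton_subset_iff.2 hxB))
    calc topologicalKrullDim ↥(closure ({π c} : Set X)) + (j : WithBot ℕ∞)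
        ≤ topologicalKrullDim ↥(closure {x : X | (j : WithBot ℕ∞) ≤ topologicalKrullDim (π.fiber x)})
          + (j : WithBot ℕ∞) := by gcongr
      _ ≤ n := H j


end Groth.Agent.Lib.lead.DimFibreStrata
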