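import Mathlib
import Groth.Agent.Lib.lead.GenFiniteGen
import Groth.Agent.Lib.lead.QFCodimOne
import Groth.Agent.Lib.Helper24.FibreDim.Scheme

set_option autoImplicit false
universe u
open CategoryTheory CategoryTheory.Limits AlgebraicGeometry Topology

namespace Groth.Agent.Lib.lead.GenFiniteTFAE

open Groth.Agent.Lib.Helper24 Groth.Agent.Lib.Helper18

variable {X Y : Scheme.{u}}

/-- Finiteness of the residue field extension is equivalent to vanishing of the residue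
transcendence degree (morphisms locally of finite type). -/
theorem finite_iff_tr_eq_zero (f : X ⟶ Y) [LocallyOfFiniteType f] (x : X) :
    (letI := (f.residueFieldMap x).hom.toAlgebra;
      Module.Finite (Y.residueField (f x)) (X.residueField x)) ↔ FibreDim.tr f x = 0 := by
  letI := (f.residueFieldMap x).hom.toAlgebra
  have hspec := FibreDim.tr_spec f x
  constructor
  · intro h
    haveI : Module.Finite (Y.residueField (f x)) (X.residueField x) := h
    have h0 : Algebra.trdeg (Y.residueField (f x)) (X.residueField x) = 0 :=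
      _root_.trdeg_eq_zero
    rw [h0] at hspec
    exact_mod_cast hspec.symm
  · intro h
    rw [h, Nat.cast_zero] at hspec
    have halg : Algebra.IsAlgebraic (Y.residueField (f x)) (X.residueField x) :=
      _root_.trdeg_eq_zero_iff.1 hspec
    haveI : Algebra.IsIntegral (Y.residueField (f x)) (X.residueField x) :=
      Algebra.IsAlgebraic.isIntegral
    have hint : (f.residueFieldMap x).hom.IsIntegral := Algebra.IsIntegral.isIntegral
    exact GenFin.finite_of_essFiniteType_of_isAlgebraic _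
      (GenFin.essFiniteType_residueFieldMap f x) hint

theorem tr_eq_zero_of_quasiFiniteAt (f : X ⟶ Y) [LocallyOfFiniteType f] (x : X)
    (hq : f.QuasiFiniteAt x) : FibreDim.tr f x = 0 := by
  have h0 := QFCodimOne.trdeg_eq_zero_of_quasiFiniteAt f x hq
  have hspec := FibreDim.tr_spec f x
  rw [h0] at hspec
  exact_mod_cast hspec.symm

theorem quasiFiniteAt_of_resLE (f : X ⟶ Y) (U : X.Opens) (V : Y.Opens) (e : U ≤ f ⁻¹ᵁ V)
    (x : U.toScheme) : (f.resLE V U e).QuasiFiniteAt x ↔ f.QuasiFiniteAt (U.ι x) := by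
  rw [← Scheme.Hom.quasiFiniteAt_comp_iff_of_isOpenImmersion (f := U.ι) (g := f),
    ← Scheme.Hom.resLE_comp_ι f e, Scheme.Hom.quasiFiniteAt_comp_iff]

theorem exists_resLE_iso (f : X ⟶ Y) (U₀ : X.Opens) (V₀ : Y.Opens) (e₀ : U₀ ≤ f ⁻¹ᵁ V₀)
    (V₂ : V₀.toScheme.Opens) :
    ∃ (e : U₀.ι ''ᵁ ((f.resLE V₀ U₀ e₀) ⁻¹ᵁ V₂) ≤ f ⁻¹ᵁ (V₀.ι ''ᵁ V₂)),
      Nonempty (Arrow.mk ((f.resLE V₀ U₀ e₀) ∣_ V₂) ≅
        Arrow.mk (f.resLE (V₀.ι ''ᵁ V₂) (U₀.ι ''ᵁ ((f.resLE V₀ U₀ e₀) ⁻¹ᵁ V₂)) e)) := by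
  have e : U₀.ι ''ᵁ ((f.resLE V₀ U₀ e₀) ⁻¹ᵁ V₂) ≤ f ⁻¹ᵁ (V₀.ι ''ᵁ V₂) :=
    (Scheme.Hom.le_resLE_preimage_iff f e₀ V₂ _).1 le_rfl
  refine ⟨e, ⟨Arrow.isoMk (U₀.ι.isoImage _) (V₀.ι.isoImage V₂) ?_⟩⟩
  simp [← cancel_mono (V₀.ι ''ᵁ V₂).ι]

section Integral

variable [IsIntegral X] [IsIntegral Y] (f : X ⟶ Y) [IsDominant f] [LocallyOfFiniteType f]

theorem map_generic : f (genericPoint X) = genericPoint Y :=
  GenFin.map_genericPoint_of_dense f f.denseRange

theorem generic_maximal (y : Y) (hy : y ⤳ genericPoint Y) : y = genericPoint Y :=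
  (Specializes.antisymm hy (genericPoint_specializes y)).eq

omit [IsIntegral Y] [IsDominant f] in
/-- A ⇔ C. -/
theorem tr_zero_iff_fibre (η : Y) (hη : f (genericPoint X) = η) :
    FibreDim.tr f (genericPoint X) = 0 ↔ ∀ x : X, f x = η → x = genericPoint X := by
  constructor
  · intro h x hx
    by_contra hne
    have hle : x ≤ genericPoint X := genericPoint_specializes x
    have hlt : x < genericPoint X := by
      refine lt_of_le_not_ge hle ?_
      intro hge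
      have h2 : x ⤳ genericPoint X := hge
      exact hne (Specializes.antisymm h2 (genericPoint_specializes x)).eq
    have := FibreDim.tr_lt_of_lt f hlt (hx.trans hη.symm)
    omega
  · intro h
    obtain ⟨x₀, -, hfx₀, htr⟩ := FibreDim.exists_le_tr_zero f (genericPoint X)
    rw [h x₀ (hfx₀.trans hη)] at htr
    exact htr

omit [IsIntegral Y] [IsDominant f] in
theorem quasiFiniteAt_generic_of_fibre (η : Y)
    (hC : ∀ x : X, f x = η → x = genericPoint X) (hη : f (genericPoint X) = η) :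
    f.QuasiFiniteAt (genericPoint X) := by
  apply GenFiniteCore.quasiFiniteAt_of_finite_fibre
  refine (Set.finite_singleton (genericPoint X)).subset ?_
  intro x hx
  exact hC x ((show f x = f (genericPoint X) from hx).trans hη)

/-- C ⇒ B. -/
theorem B_of_fibre (hC : ∀ x : X, f x = genericPoint Y → x = genericPoint X) :
    ∃ (U : X.Opens) (V : Y.Opens) (hUV : U ≤ f ⁻¹ᵁ V), IsAffineOpen U ∧ IsAffineOpen V ∧
      Nonempty ↥U ∧ IsFinite (f.resLE V U hUV) := by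
  have hgen := map_generic f
  have hq := quasiFiniteAt_generic_of_fibre f _ hC hgen
  obtain ⟨V₀, hV₀, U₀, hU₀, e₀, hξU₀⟩ := FibreDim.exists_chart f (genericPoint X)
  haveI : IsAffine V₀.toScheme := hV₀
  haveI : IsAffine U₀.toScheme := hU₀
  let g := f.resLE V₀ U₀ e₀
  let ξ₀ : U₀.toScheme := ⟨genericPoint X, hξU₀⟩
  let η₀ : V₀.toScheme := ⟨f (genericPoint X), e₀ hξU₀⟩
  have hgι : ∀ b : U₀.toScheme, V₀.ι (g b) = f (U₀.ι b) := by
    intro b
    rw [← Scheme.Hom.comp_apply, ← Scheme.Hom.comp_apply, Scheme.Hom.resLE_comp_ι]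
  have hη₀ : ∀ y : V₀.toScheme, y ⤳ η₀ → y = η₀ := by
    intro y hy
    apply Subtype.ext
    have h1 : V₀.ι y ⤳ f (genericPoint X) := hy.map continuous_subtype_val
    rw [hgen] at h1
    exact (generic_maximal _ h1).trans hgen.symm
  have hqf : ∀ b : U₀.toScheme, g b = η₀ → g.QuasiFiniteAt b := by
    intro b hb
    rw [quasiFiniteAt_of_resLE]
    have h1 : f (U₀.ι b) = genericPoint Y := by
      rw [← hgι, hb]
      exact hgen
    rw [hC _ h1]
    exact hq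
  obtain ⟨V₁, hηV₁, hV₁⟩ := GenFiniteSep.main g η₀ hη₀ hqf
  obtain ⟨V₂, hV₂, hηV₂, hV₂₁⟩ : ∃ V₂ : V₀.toScheme.Opens, IsAffineOpen V₂ ∧ η₀ ∈ V₂ ∧ V₂ ≤ V₁ := by
    obtain ⟨_, ⟨V₂, hV₂ : IsAffineOpen V₂, rfl⟩, hηV₂, hV₂₁⟩ :=
      (V₀ : Scheme.{u}).isBasis_affineOpens.exists_subset_of_mem_open hηV₁ V₁.isOpen
    exact ⟨V₂, hV₂, hηV₂, hV₂₁⟩
  have hV₂fin : IsFinite (g ∣_ V₂) := GenFiniteSep.isFinite_morphismRestrict_of_le g hV₂₁ hV₁
  obtain ⟨e, ⟨iso⟩⟩ := exists_resLE_iso f U₀ V₀ e₀ V₂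
  haveI : MorphismProperty.RespectsIso @IsFinite.{u} :=
    MorphismProperty.IsStableUnderBaseChange.respectsIso
  refine ⟨_, _, e, ?_, hV₂.image_of_isOpenImmersion V₀.ι, ?_,
    (MorphismProperty.arrow_mk_iso_iff @IsFinite iso).1 hV₂fin⟩
  · haveI : IsAffineHom g := isAffineHom_of_isAffine g
    exact (hV₂.preimage g).image_of_isOpenImmersion U₀.ι
  · have hg : g ξ₀ = η₀ := by
      apply Subtype.ext
      exact hgι ξ₀
    exact ⟨⟨genericPoint X, ξ₀, (show g ξ₀ ∈ V₂ by rw [hg]; exact hηV₂), rfl⟩⟩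

omit [IsIntegral X] [IsIntegral Y] [IsDominant f] in
/-- B ⇒ quasi-finite at points of `U`. -/
theorem quasiFiniteAt_of_B (U : X.Opens) (V : Y.Opens) (hUV : U ≤ f ⁻¹ᵁ V)
    (hfin : IsFinite (f.resLE V U hUV)) (x : X) (hx : x ∈ U) : f.QuasiFiniteAt x := by
  have := (quasiFiniteAt_of_resLE f U V hUV ⟨x, hx⟩).1 ((f.resLE V U hUV).quasiFiniteAt _)
  exact this

omit [IsIntegral Y] [IsDominant f] in
theorem generic_mem_of_nonempty (U : X.Opens) (hU : Nonempty ↥U) : genericPoint X ∈ U := by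
  obtain ⟨⟨x, hx⟩⟩ := hU
  exact (genericPoint_specializes x).mem_open U.isOpen hx

omit [IsIntegral X] [IsIntegral Y] [IsDominant f] [LocallyOfFiniteType f] in
/-- D ⇒ B. -/
theorem B_of_D (V : Y.Opens) (hV : IsAffineOpen V) (hfin : IsFinite (f ∣_ V)) :
    ∃ (hUV : f ⁻¹ᵁ V ≤ f ⁻¹ᵁ V), IsAffineOpen (f ⁻¹ᵁ V) ∧ IsFinite (f.resLE V (f ⁻¹ᵁ V) hUV) := by
  refine ⟨le_rfl, ?_, ?_⟩
  · haveI : IsAffine V.toScheme := hV
    exact isAffine_of_isAffineHom (f ∣_ V)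
  · rw [Scheme.Hom.resLE_eq_morphismRestrict]
    exact hfin

omit [IsIntegral Y] [IsDominant f] [LocallyOfFiniteType f] in
/-- B ⇒ D in the separated case. -/
theorem D_of_B_of_isSeparated [IsSeparated f] (U : X.Opens) (V : Y.Opens) (hUV : U ≤ f ⁻¹ᵁ V)
    (hne : Nonempty ↥U) (hfin : IsFinite (f.resLE V U hUV)) : IsFinite (f ∣_ V) := by
  have hξU := generic_mem_of_nonempty U hne
  haveI : Nonempty ↥(f ⁻¹ᵁ V) := ⟨⟨genericPoint X, hUV hξU⟩⟩
  haveI : Nonempty (f ⁻¹ᵁ V).toScheme := ⟨⟨genericPoint X, hUV hξU⟩⟩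
  haveI : IsIntegral (f ⁻¹ᵁ V).toScheme := isIntegral_of_isOpenImmersion (f ⁻¹ᵁ V).ι
  let h : U.toScheme ⟶ (f ⁻¹ᵁ V).toScheme := X.homOfLE hUV
  have hcomp : f.resLE V U hUV = h ≫ f ∣_ V := rfl
  haveI : IsFinite (h ≫ f ∣_ V) := hcomp ▸ hfin
  haveI : IsFinite h := IsFinite.of_comp h (f ∣_ V)
  have hcl : IsClosed (Set.range h) := h.isClosedMap.isClosed_range
  have hop : IsOpen (Set.range h) := h.isOpenEmbedding.isOpen_range
  have hne' : (Set.range h).Nonempty := ⟨h ⟨genericPoint X, hξU⟩, ⟨_, rfl⟩⟩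
  have huniv : Set.range h = Set.univ := IsClopen.eq_univ ⟨hcl, hop⟩ hne'
  have hle : f ⁻¹ᵁ V ≤ U := by
    intro x hx
    have : (⟨x, hx⟩ : (f ⁻¹ᵁ V).toScheme) ∈ Set.range h := by rw [huniv]; trivial
    obtain ⟨a, ha⟩ := this
    have h1 : (h a).1 = a.1 := X.homOfLE_apply hUV a
    rw [ha] at h1
    have h2 : x = a.1 := h1
    rw [h2]
    exact a.2
  have hU : U = f ⁻¹ᵁ V := le_antisymm hUV hle
  subst hU
  rw [← Scheme.Hom.resLE_eq_morphismRestrict]
  exact hfin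

end Integral

theorem S9702 {X Y : Scheme.{u}} [IsIntegral X] [IsIntegral Y] (f : X ⟶ Y)
    [IsDominant f] [LocallyOfFiniteType f] :
    let ξ := genericPoint ↥X
    let A := letI := (f.residueFieldMap ξ).hom.toAlgebra
      Module.Finite (Y.residueField (f.base ξ)) (X.residueField ξ)
    let B := ∃ (U : X.Opens) (V : Y.Opens) (hUV : U ≤ f ⁻¹ᵁ V), IsAffineOpen U ∧ IsAffineOpen V ∧
      Nonempty ↥U ∧ IsFinite (f.resLE V U hUV)
    let C := ∀ x : X, f.base x = genericPoint ↥Y → x = ξ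
    let D := ∃ V : Y.Opens, IsAffineOpen V ∧ Nonempty ↥V ∧ IsFinite (f ∣_ V)
    (A ↔ B) ∧ (A ↔ C) ∧ (IsSeparated f ∨ QuasiCompact f → (A ↔ D)) := by
  intro ξ A B C D
  have hgen : f ξ = genericPoint Y := map_generic f
  have hA : A ↔ FibreDim.tr f ξ = 0 := finite_iff_tr_eq_zero f ξ
  have hAC : A ↔ C := hA.trans (tr_zero_iff_fibre f _ hgen)
  have hBA : B → A := by
    rintro ⟨U, V, hUV, hU, hV, hne, hfin⟩
    rw [hA]
    exact tr_eq_zero_of_quasiFiniteAt f ξ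
      (quasiFiniteAt_of_B f U V hUV hfin ξ (generic_mem_of_nonempty U hne))
  have hAB : A ↔ B := ⟨fun h => B_of_fibre f (hAC.1 h), hBA⟩
  refine ⟨hAB, hAC, ?_⟩
  intro hsq
  constructor
  · intro hA'
    rcases hsq with hs | hq
    · obtain ⟨U, V, hUV, hU, hV, hne, hfin⟩ := hAB.1 hA'
      exact ⟨V, hV, ⟨⟨f ξ, hUV (generic_mem_of_nonempty U hne)⟩⟩,
        D_of_B_of_isSeparated f U V hUV hne hfin⟩
    · have hC : ∀ x : X, f x = genericPoint Y → x = ξ := hAC.1 hA'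
      have hfinfib : (f ⁻¹' {genericPoint Y}).Finite := by
        refine (Set.finite_singleton ξ).subset ?_
        intro x hx
        exact hC x hx
      obtain ⟨V, hV, hηV, hfin⟩ := GenFiniteGen.core f (genericPoint Y) generic_maximal hfinfib
        (fun x x' hx hx' hne => absurd ((hC x hx).trans (hC x' hx').symm) hne)
      exact ⟨V, hV, ⟨⟨_, hηV⟩⟩, hfin⟩
  · rintro ⟨V, hV, hne, hfin⟩
    obtain ⟨hUV, hU, hfin'⟩ := B_of_D f V hV hfin
    have hηV : genericPoint Y ∈ V := generic_mem_of_nonempty V hne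
    refine hBA ⟨f ⁻¹ᵁ V, V, hUV, hU, hV, ⟨⟨ξ, ?_⟩⟩, hfin'⟩
    show f ξ ∈ V
    rw [hgen]
    exact hηV


end Groth.Agent.Lib.lead.GenFiniteTFAE
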