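import Mathlib
import Groth.Agent.Lib.Helper5.StalkBCH
import Groth.Agent.Lib.Helper21.FibreBC
import Groth.Prelude.Def_Curv2

set_option autoImplicit false
set_option linter.style.haveILetI false
set_option linter.unusedSectionVars false
universe u
open CategoryTheory CategoryTheory.Limits AlgebraicGeometry TensorProduct Topology IsLocalRing

namespace Groth.Agent.Lib.lead.FibreStalkAlg

variable {X Y : Scheme.{u}}

open Groth.Agent.Lib.Helper21.FibreBC in
attribute [local instance] fibOver

/-- general form: the local ring of the fibre is the quotient of the local ring of `X` by the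
extension of the maximal ideal of the base, compatibly with the residue field structure. -/
theorem exists_ringEquiv_aux (f : X ⟶ Y) (y : Y) (z : f.fiber y) (x : X)
    (hx : f.fiberι y z = x) :
    ∃ e : (X.presheaf.stalk x ⧸
        (maximalIdeal (Y.presheaf.stalk (f x))).map (f.stalkMap x).hom) ≃+*
      (f.fiber y).presheaf.stalk z,
      ∀ (hy' : f x = y) (a : Y.presheaf.stalk (f x)),
        e (Ideal.Quotient.mk _ ((f.stalkMap x).hom a)) =
          Curv2.stalkMap (Y.residueField y) (f.fiber y) z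
            ((Y.residueFieldCongr hy').hom ((Y.residue (f x)).hom a)) := by
  subst hx
  set ι := f.fiberι y with hι
  have hy : f (ι z) = y := by
    have : ι z ∈ Set.range ι := ⟨z, rfl⟩
    rw [hι, Scheme.Hom.range_fiberι] at this
    exact this
  set φ : Y.presheaf.stalk (f (ι z)) ⟶ X.presheaf.stalk (ι z) := f.stalkMap (ι z) with hφ
  set θ : X.presheaf.stalk (ι z) ⟶ (f.fiber y).presheaf.stalk z := ι.stalkMap z with hθ
  set I : Ideal (X.presheaf.stalk (ι z)) :=
    (maximalIdeal (Y.presheaf.stalk (f (ι z)))).map φ.hom with hI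
  have K : Spec.map θ ≫ X.fromSpecStalk (ι z) = (f.fiber y).fromSpecStalk z ≫ ι :=
    Scheme.SpecMap_stalkMap_fromSpecStalk (f := ι) (x := z)
  have K2 : Spec.map φ ≫ Y.fromSpecStalk (f (ι z)) = X.fromSpecStalk (ι z) ≫ f :=
    Scheme.SpecMap_stalkMap_fromSpecStalk (f := f) (x := ι z)
  have hcongr : Spec.map (Y.residueFieldCongr hy).hom ≫ Y.fromSpecResidueField (f (ι z)) =
      Y.fromSpecResidueField y := Scheme.residueFieldCongr_fromSpecResidueField hy
  have hsurj : Function.Surjective θ.hom := ι.stalkMap_surjective z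
  let ρ : Y.residueField (f (ι z)) ⟶ (f.fiber y).presheaf.stalk z :=
    Spec.preimage ((f.fiber y).fromSpecStalk z ≫ f.fiberToSpecResidueField y ≫
      Spec.map (Y.residueFieldCongr hy).hom)
  have hb : φ ≫ θ = Y.residue (f (ι z)) ≫ ρ := by
    apply Spec.map_injective
    haveI : Mono (Y.fromSpecStalk (f (ι z))) := inferInstance
    rw [← cancel_mono (Y.fromSpecStalk (f (ι z)))]
    rw [Spec.map_comp, Category.assoc, K2, ← Category.assoc, K, Category.assoc]
    have hfac : ι ≫ f = f.fiberToSpecResidueField y ≫ Y.fromSpecResidueField y :=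
      f.fiber_fac y
    rw [hfac, ← hcongr]
    rw [Spec.map_comp, Spec.map_preimage]
    simp only [Category.assoc, Scheme.fromSpecResidueField]
  have hkill : I ≤ RingHom.ker θ.hom := by
    rw [hI, Ideal.map_le_iff_le_comap]
    intro a ha
    rw [Ideal.mem_comap, RingHom.mem_ker]
    have h1 : θ.hom (φ.hom a) = ρ.hom ((Y.residue (f (ι z))).hom a) :=
      congrArg (fun k => k.hom a) hb
    rw [h1]
    have h2 : (Y.residue (f (ι z))).hom a = 0 := by
      change IsLocalRing.residue _ a = 0
      rw [IsLocalRing.residue_eq_zero_iff]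
      exact ha
    rw [h2, map_zero]
  haveI : IsLocalHom φ.hom := inferInstanceAs (IsLocalHom (f.stalkMap (ι z)).hom)
  have hIle : I ≤ maximalIdeal (X.presheaf.stalk (ι z)) :=
    IsLocalRing.map_maximalIdeal_le φ.hom
  haveI : Nontrivial (X.presheaf.stalk (ι z) ⧸ I) :=
    Ideal.Quotient.nontrivial_iff.2 (fun h => (maximalIdeal.isMaximal _).ne_top
      (top_le_iff.mp (h ▸ hIle)))
  haveI : IsLocalRing (X.presheaf.stalk (ι z) ⧸ I) :=
    IsLocalRing.of_surjective' (Ideal.Quotient.mk I) Ideal.Quotient.mk_surjective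
  let q : X.presheaf.stalk (ι z) ⟶ CommRingCat.of (X.presheaf.stalk (ι z) ⧸ I) :=
    CommRingCat.ofHom (Ideal.Quotient.mk I)
  haveI : IsLocalHom q.hom :=
    IsLocalHom.of_surjective (Ideal.Quotient.mk I) Ideal.Quotient.mk_surjective
  let τ : Y.residueField (f (ι z)) ⟶ CommRingCat.of (X.presheaf.stalk (ι z) ⧸ I) :=
    CommRingCat.ofHom (Ideal.quotientMap I φ.hom
      (Ideal.map_le_iff_le_comap.1 (le_of_eq hI.symm)))
  have hτ : Y.residue (f (ι z)) ≫ τ = φ ≫ q := by
    ext a
    rfl
  have hcompat : (Spec.map q ≫ X.fromSpecStalk (ι z)) ≫ f =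
      (Spec.map τ ≫ Spec.map (Y.residueFieldCongr hy).inv) ≫ Y.fromSpecResidueField y := by
    rw [← hcongr]
    simp only [Category.assoc]
    rw [← Spec.map_comp_assoc (Y.residueFieldCongr hy).hom, Iso.hom_inv_id, Spec.map_id,
      Category.id_comp]
    rw [Scheme.fromSpecResidueField, ← Spec.map_comp_assoc, hτ, Spec.map_comp_assoc, K2]
  let h : Spec (CommRingCat.of (X.presheaf.stalk (ι z) ⧸ I)) ⟶ f.fiber y :=
    pullback.lift (Spec.map q ≫ X.fromSpecStalk (ι z))
      (Spec.map τ ≫ Spec.map (Y.residueFieldCongr hy).inv) hcompat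
  have hh : h ≫ ι = Spec.map q ≫ X.fromSpecStalk (ι z) := pullback.lift_fst _ _ _
  have hz : h (closedPoint (X.presheaf.stalk (ι z) ⧸ I)) = z := by
    apply ι.isEmbedding.injective
    have h1 := congrArg (fun k => k.base (closedPoint (X.presheaf.stalk (ι z) ⧸ I))) hh
    simp only [Scheme.Hom.comp_base, TopCat.comp_app] at h1
    rw [h1]
    have h2 : (Spec.map q) (closedPoint (X.presheaf.stalk (ι z) ⧸ I)) =
        closedPoint (X.presheaf.stalk (ι z)) := Spec_closedPoint
    rw [h2, Scheme.fromSpecStalk_closedPoint]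
  let σ : (f.fiber y).presheaf.stalk z ⟶ CommRingCat.of (X.presheaf.stalk (ι z) ⧸ I) :=
    (f.fiber y).presheaf.stalkSpecializes (specializes_of_eq hz) ≫ Scheme.stalkClosedPointTo h
  have hσ : Spec.map σ ≫ (f.fiber y).fromSpecStalk z = h := by
    rw [Spec.map_comp, Category.assoc, Scheme.SpecMap_stalkSpecializes_fromSpecStalk,
      Scheme.Spec_stalkClosedPointTo_fromSpecStalk]
  have hθσ : θ ≫ σ = q := by
    apply Spec.map_injective
    rw [← cancel_mono (X.fromSpecStalk (ι z))]
    rw [Spec.map_comp, Category.assoc, K, ← Category.assoc, hσ, hh]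
  have hker : RingHom.ker θ.hom = I := by
    apply le_antisymm _ hkill
    intro b hb'
    rw [RingHom.mem_ker] at hb'
    have h1 : σ.hom (θ.hom b) = q.hom b := congrArg (fun k => k.hom b) hθσ
    rw [hb', map_zero] at h1
    exact Ideal.Quotient.eq_zero_iff_mem.1 h1.symm
  refine ⟨(Ideal.quotEquivOfEq hker.symm).trans (RingHom.quotientKerEquivOfSurjective hsurj), ?_⟩
  intro hy' a
  have hρ : ρ = (Y.residueFieldCongr hy).hom ≫
      CommRingCat.ofHom (Curv2.stalkMap (Y.residueField y) (f.fiber y) z) := by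
    apply Spec.map_injective
    rw [Spec.map_preimage, Spec.map_comp]
    have h0 := Groth.Agent.Lib.Helper5.StalkBC.fromSpecStalk_comp_over (Y.residueField y)
      (f.fiber y) z
    rw [← Category.assoc]
    exact congrArg (· ≫ Spec.map (Y.residueFieldCongr hy).hom) h0
  have h1 : θ.hom (φ.hom a) = ρ.hom ((Y.residue (f (ι z))).hom a) :=
    congrArg (fun k => k.hom a) hb
  show θ.hom (φ.hom a) = _
  rw [h1, hρ]
  rfl

/-- x-primary version -/
theorem exists_ringEquiv (f : X ⟶ Y) (x : X) :
    ∃ e : (X.presheaf.stalk x ⧸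
        (maximalIdeal (Y.presheaf.stalk (f x))).map (f.stalkMap x).hom) ≃+*
      (f.fiber (f x)).presheaf.stalk (f.asFiber x),
      ∀ (a : Y.presheaf.stalk (f x)),
        e (Ideal.Quotient.mk _ ((f.stalkMap x).hom a)) =
          Curv2.stalkMap (Y.residueField (f x)) (f.fiber (f x)) (f.asFiber x)
            ((Y.residue (f x)).hom a) := by
  obtain ⟨e, he⟩ := exists_ringEquiv_aux f (f x) (f.asFiber x) x (f.fiberι_asFiber x)
  refine ⟨e, fun a => ?_⟩
  have := he rfl a
  rw [this, Scheme.residueFieldCongr_refl]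
  rfl

theorem geomRegular_of_ringEquiv {k S S₁ : Type u} [Field k] [CommRing S] [CommRing S₁]
    [Algebra k S] [Algebra k S₁] (e : S ≃+* S₁)
    (he : ∀ a, e (algebraMap k S a) = algebraMap k S₁ a)
    (h : CAlg.IsGeometricallyRegular k S) : CAlg.IsGeometricallyRegular k S₁ := by
  intro k' _ _ hfin
  have := h k' hfin
  let e' : S ≃ₐ[k] S₁ := { e with commutes' := he }
  exact IsRegularRing.of_ringEquiv
    (Algebra.TensorProduct.congr (AlgEquiv.refl : k' ≃ₐ[k] k') e').toRingEquiv

attribute [local instance] Curv2.stalkAlgebra in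
/-- geometric regularity of the fibre ring `O_{X,x}/𝔪_y O_{X,x}` is geometric regularity of the
local ring of the fibre scheme. -/
theorem geomRegular_iff (f : X ⟶ Y) (x : X) :
    letI φ := (f.stalkMap x).hom
    letI 𝔪 := IsLocalRing.maximalIdeal ↑(Y.presheaf.stalk (f.base x))
    letI : Algebra (IsLocalRing.ResidueField ↑(Y.presheaf.stalk (f.base x)))
        (↑(X.presheaf.stalk x) ⧸ 𝔪.map φ) :=
      (Ideal.quotientMap (𝔪.map φ) φ Ideal.le_comap_map).toAlgebra
    CAlg.IsGeometricallyRegular (IsLocalRing.ResidueField ↑(Y.presheaf.stalk (f.base x)))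
        (↑(X.presheaf.stalk x) ⧸ 𝔪.map φ) ↔
      CAlg.IsGeometricallyRegular (Y.residueField (f x))
        ((f.fiber (f x)).presheaf.stalk (f.asFiber x)) := by
  letI φ := (f.stalkMap x).hom
  letI 𝔪 := IsLocalRing.maximalIdeal ↑(Y.presheaf.stalk (f.base x))
  letI alg : Algebra (IsLocalRing.ResidueField ↑(Y.presheaf.stalk (f.base x)))
      (↑(X.presheaf.stalk x) ⧸ 𝔪.map φ) :=
    (Ideal.quotientMap (𝔪.map φ) φ Ideal.le_comap_map).toAlgebra
  obtain ⟨e, he⟩ := exists_ringEquiv f x
  have hcomm : ∀ a : IsLocalRing.ResidueField ↑(Y.presheaf.stalk (f.base x)),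
      e (algebraMap _ (↑(X.presheaf.stalk x) ⧸ 𝔪.map φ) a) =
        Curv2.stalkMap (Y.residueField (f x)) (f.fiber (f x)) (f.asFiber x) a := by
    intro a
    obtain ⟨a, rfl⟩ := IsLocalRing.residue_surjective a
    exact he a
  constructor
  · intro h
    exact @geomRegular_of_ringEquiv (IsLocalRing.ResidueField ↑(Y.presheaf.stalk (f.base x)))
      _ _ _ _ _ alg (Curv2.stalkAlgebra (Y.residueField (f x)) (f.fiber (f x)) (f.asFiber x))
      e hcomm h
  · intro h
    refine @geomRegular_of_ringEquiv (IsLocalRing.ResidueField ↑(Y.presheaf.stalk (f.base x)))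
      _ _ _ _ _ (Curv2.stalkAlgebra (Y.residueField (f x)) (f.fiber (f x)) (f.asFiber x)) alg
      e.symm ?_ h
    intro a
    rw [RingEquiv.symm_apply_eq]
    exact (hcomm a).symm

end Groth.Agent.Lib.lead.FibreStalkAlg
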