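import Mathlib
import Groth.Prelude.Def_Found
import Groth.Agent.Lib.Helper25.RedLocC
import Groth.Agent.Lib.Helper25.GenRedAlg2

/-!
# Openness of the geometrically reduced locus of the fibres: algebra, part A

Basic permanence properties of helper25's predicate `RedLoc.FR A B p` ("for every field `L` over
`A` with kernel `p`, `L ⊗[A] B` is reduced"): passage to localizations of `B`, and passage between
`A` and a localization of `A`.
-/

set_option autoImplicit false
set_option linter.style.haveILetI false
set_option linter.unusedSectionVars false
universe u
open TensorProduct IsLocalRing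

namespace Groth.Agent.Lib.lead.GROpen

open Groth.Agent.Lib.Helper25.RedLoc

section LocB

variable (A L B : Type u) [CommRing A] [CommRing L] [CommRing B] [Algebra A L] [Algebra A B]

/-- `L ⊗[A] B'` is reduced if `L ⊗[A] B` is and `B'` is a localization of `B`. -/
theorem isReduced_tensor_of_isLocalization (M : Submonoid B) (B' : Type u) [CommRing B']
    [Algebra A B'] [Algebra B B'] [IsScalarTower A B B'] [IsLocalization M B']
    [IsReduced (L ⊗[A] B)] : IsReduced (L ⊗[A] B') := by
  letI : Algebra (L ⊗[A] B) (L ⊗[A] B') :=
    (Algebra.TensorProduct.map (AlgHom.id A L) (IsScalarTower.toAlgHom A B B')).toAlgebra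
  haveI : IsScalarTower L (L ⊗[A] B) (L ⊗[A] B') :=
    .of_algebraMap_eq <| by intro; simp [RingHom.algebraMap_toAlgebra]
  haveI := IsLocalization.tensorProduct_tensorProduct_right A L M B'
    (by ext; simp [RingHom.algebraMap_toAlgebra])
  exact isReduced_localizationPreserves
    (M.map (Algebra.TensorProduct.includeRight (R := A) (A := L))) _ inferInstance

variable {A B}

/-- `FR` passes to localizations of the algebra. -/
theorem FR.of_isLocalization (M : Submonoid B) (B' : Type u) [CommRing B']
    [Algebra A B'] [Algebra B B'] [IsScalarTower A B B'] [IsLocalization M B'] {p : Ideal A}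
    (h : FR A B p) : FR A B' p := by
  intro L _ _ hL
  haveI := h L hL
  exact isReduced_tensor_of_isLocalization A L B M B'

end LocB

section LocA

variable {A : Type u} [CommRing A] (S : Submonoid A) (A' : Type u) [CommRing A'] [Algebra A A']
  [IsLocalization S A'] (C : Type u) [CommRing C] [Algebra A C] [Algebra A' C]
  [IsScalarTower A A' C]

/-- from `A` to a localization of `A`. -/
theorem FR.to_localization {p : Ideal A} [hp : p.IsPrime] (hd : Disjoint (S : Set A) (p : Set A))
    (h : FR A C p) : FR A' C (p.map (algebraMap A A')) := by
  intro L _ _ hL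
  letI : Algebra A L := ((algebraMap A' L).comp (algebraMap A A')).toAlgebra
  haveI : IsScalarTower A A' L := IsScalarTower.of_algebraMap_eq (fun _ => rfl)
  have hker : RingHom.ker (algebraMap A L) = p := by
    rw [IsScalarTower.algebraMap_eq A A' L, ← RingHom.comap_ker, hL]
    exact IsLocalization.under_map_of_isPrime_disjoint S A' hp hd
  haveI := h L hker
  let e := IsLocalization.algebraTensorEquiv S A' L C
  exact isReduced_of_injective e.toRingEquiv.toRingHom e.injective

include S in
/-- from a localization of `A` back to `A`. -/
theorem FR.of_localization (p' : Ideal A') (h : FR A' C p') :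
    FR A C (p'.comap (algebraMap A A')) := by
  intro L _ _ hL
  have hunits : ∀ s : S, IsUnit (algebraMap A L s) := by
    intro s
    rw [isUnit_iff_ne_zero]
    intro h0
    have h1 : (s : A) ∈ RingHom.ker (algebraMap A L) := RingHom.mem_ker.2 h0
    rw [hL, Ideal.mem_comap] at h1
    have h2 : p' = ⊤ := Ideal.eq_top_of_isUnit_mem _ h1 (IsLocalization.map_units A' s)
    have h3 : (1 : A) ∈ RingHom.ker (algebraMap A L) := by
      rw [hL, h2]; trivial
    rw [RingHom.mem_ker, map_one] at h3
    exact one_ne_zero h3
  letI : Algebra A' L := (IsLocalization.lift (M := S) (S := A') hunits).toAlgebra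
  haveI : IsScalarTower A A' L := IsScalarTower.of_algebraMap_eq (fun a =>
    (IsLocalization.lift_eq (M := S) (S := A') hunits a).symm)
  have hker : RingHom.ker (algebraMap A' L) = p' := by
    have h1 : (RingHom.ker (algebraMap A' L)).comap (algebraMap A A') =
        p'.comap (algebraMap A A') := by
      rw [RingHom.comap_ker, ← IsScalarTower.algebraMap_eq A A' L, hL]
    rw [← IsLocalization.map_under S A' (RingHom.ker (algebraMap A' L)), Ideal.under, h1,
      ← Ideal.under, IsLocalization.map_under S A' p']
  haveI := h L hker
  let e := IsLocalization.algebraTensorEquiv S A' L C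
  exact isReduced_of_injective e.symm.toRingEquiv.toRingHom e.symm.injective

end LocA

end Groth.Agent.Lib.lead.GROpen
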