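import Mathlib
import Groth.Prelude.Def_Found
import Groth.Agent.Lib.lead.GROpenA
import Groth.Agent.Lib.Helper22.GeomRed

/-!
# Openness of the geometrically reduced locus of the fibres: algebra, part C

The relation between `FR R S I` for a maximal ideal `I` and geometric reducedness of the
`R ⧸ I`-algebra `S ⧸ I S`; transfer of `FR` along algebra isomorphisms.
-/

set_option autoImplicit false
set_option linter.style.haveILetI false
set_option linter.unusedSectionVars false
universe u
open TensorProduct IsLocalRing

namespace Groth.Agent.Lib.lead.GROpen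

open Groth.Agent.Lib.Helper25.RedLoc

section Equiv

variable {A : Type u} [CommRing A] {C C' : Type u} [CommRing C] [CommRing C'] [Algebra A C]
  [Algebra A C']

/-- `FR` is invariant under isomorphisms of algebras. -/
theorem FR.of_algEquiv (e : C ≃ₐ[A] C') {p : Ideal A} (h : FR A C p) : FR A C' p := by
  intro L _ _ hL
  haveI := h L hL
  let e' := Algebra.TensorProduct.congr (AlgEquiv.refl : L ≃ₐ[A] L) e.symm
  exact isReduced_of_injective e'.toRingEquiv.toRingHom e'.injective

end Equiv

section GeomRed

/-- geometric reducedness is invariant under ring isomorphisms compatible with the algebra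
structures. -/
theorem isGeometricallyReduced_of_ringEquiv {k S S₁ : Type u} [Field k] [CommRing S]
    [CommRing S₁] [Algebra k S] [Algebra k S₁] (e : S ≃+* S₁)
    (he : ∀ a, e (algebraMap k S a) = algebraMap k S₁ a)
    (h : Algebra.IsGeometricallyReduced k S) : Algebra.IsGeometricallyReduced k S₁ := by
  let e' : S ≃ₐ[k] S₁ := { e with commutes' := he }
  exact Algebra.IsGeometricallyReduced.of_injective e'.symm.toAlgHom e'.symm.injective

variable (R S : Type u) [CommRing R] [CommRing S] [Algebra R S] (I : Ideal R) [hI : I.IsMaximal]

set_option maxHeartbeats 800000 in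
set_option synthInstance.maxHeartbeats 100000 in
/-- `FR` at a maximal ideal is geometric reducedness of the quotient. -/
theorem FR_iff_isGeometricallyReduced_quotient :
    letI := Ideal.Quotient.field I
    FR R S I ↔ Algebra.IsGeometricallyReduced (R ⧸ I) (S ⧸ I.map (algebraMap R S)) := by
  letI := Ideal.Quotient.field I
  have key : ∀ (L : Type u) [Field L] [Algebra R L] [Algebra (R ⧸ I) L]
      [IsScalarTower R (R ⧸ I) L],
      IsReduced (L ⊗[R ⧸ I] (S ⧸ I.map (algebraMap R S))) ↔ IsReduced (L ⊗[R] S) := by
    intro L _ _ _ _
    let e1 := Algebra.TensorProduct.congr (AlgEquiv.refl : L ≃ₐ[R ⧸ I] L)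
      (Algebra.TensorProduct.quotIdealMapEquivQuotTensor S I)
    let e2 := Algebra.TensorProduct.cancelBaseChange R (R ⧸ I) (R ⧸ I) L S
    let e := e1.trans e2
    constructor
    · intro h
      exact isReduced_of_injective e.symm.toRingEquiv.toRingHom e.symm.injective
    · intro h
      exact isReduced_of_injective e.toRingEquiv.toRingHom e.injective
  constructor
  · intro h
    rw [Algebra.isGeometricallyReduced_field_iff]
    rw [key (AlgebraicClosure (R ⧸ I))]
    apply h
    rw [IsScalarTower.algebraMap_eq R (R ⧸ I) (AlgebraicClosure (R ⧸ I)), ← RingHom.comap_ker,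
      (RingHom.injective_iff_ker_eq_bot _).1
        (algebraMap (R ⧸ I) (AlgebraicClosure (R ⧸ I))).injective,
      ← RingHom.ker_eq_comap_bot]
    exact Ideal.mk_ker
  · intro h L _ _ hL
    have hIL : ∀ x ∈ I, algebraMap R L x = 0 := by
      intro x hx
      rw [← RingHom.mem_ker, hL]
      exact hx
    letI : Algebra (R ⧸ I) L := (Ideal.Quotient.lift I (algebraMap R L) hIL).toAlgebra
    haveI : IsScalarTower R (R ⧸ I) L := IsScalarTower.of_algebraMap_eq (fun x => by
      rw [RingHom.algebraMap_toAlgebra, Ideal.Quotient.algebraMap_eq, Ideal.Quotient.lift_mk])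
    rw [← key L]
    exact Groth.Agent.Lib.Helper22.GeomRed.isReduced_tensor_of_isGeometricallyReduced

end GeomRed

end Groth.Agent.Lib.lead.GROpen
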