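import Mathlib
import Groth.Prelude.Def_Found
import Groth.Prelude.Def_FDesc
import Groth.Prelude.Def_Curv2
import Groth.Agent.Lib.lead.GROpenC
import Groth.Agent.Lib.lead.FibreStalkAlg
import Groth.Agent.Lib.Helper5.StalkBCH
import Groth.Agent.Lib.Helper21.FibreBC

/-!
# Openness of the geometrically reduced locus of the fibres: the scheme-theoretic predicate

`GR f x`: the fibre of `f` through `x` is geometrically reduced at `x`.  Description in terms of
the local homomorphism `O_{Y,f x} → O_{X,x}`.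
-/

set_option autoImplicit false
set_option linter.style.haveILetI false
set_option linter.unusedSectionVars false
universe u
open CategoryTheory CategoryTheory.Limits AlgebraicGeometry TensorProduct IsLocalRing

namespace Groth.Agent.Lib.lead.GROpen

open Groth.Agent.Lib.Helper25.RedLoc Groth.Agent.Lib.Helper21.FibreBC

variable {X Y : Scheme.{u}}

/-- the fibre of `f` through `x` is geometrically reduced at `x`. -/
def GR (f : X ⟶ Y) (x : X) : Prop :=
  FBase.IsGeomReducedAt (f.fiberToSpecResidueField (f.base x)) (f.asFiber x)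

attribute [local instance] Curv2.stalkAlgebra fibOver in
/-- `GR` in terms of the local ring of the fibre. -/
theorem gr_iff_stalk (f : X ⟶ Y) (x : X) :
    GR f x ↔ Algebra.IsGeometricallyReduced (Y.residueField (f x))
      ((f.fiber (f x)).presheaf.stalk (f.asFiber x)) :=
  Groth.Agent.Lib.Helper5.StalkBC.isGeomReducedAt_iff (Y.residueField (f x)) (f.fiber (f x))
    (f.asFiber x)

attribute [local instance] Curv2.stalkAlgebra fibOver in
/-- `GR` in terms of the local homomorphism `O_{Y,f x} → O_{X,x}`. -/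
theorem gr_iff_FR (f : X ⟶ Y) (x : X) :
    letI := (f.stalkMap x).hom.toAlgebra
    GR f x ↔ FR (Y.presheaf.stalk (f x)) (X.presheaf.stalk x)
      (maximalIdeal (Y.presheaf.stalk (f x))) := by
  letI alg := (f.stalkMap x).hom.toAlgebra
  rw [gr_iff_stalk, FR_iff_isGeometricallyReduced_quotient]
  obtain ⟨e₀, he⟩ := FibreStalkAlg.exists_ringEquiv f x
  let e : (↑(X.presheaf.stalk x) ⧸ (maximalIdeal (Y.presheaf.stalk (f x))).map
      (algebraMap _ (X.presheaf.stalk x))) ≃+*
      (f.fiber (f x)).presheaf.stalk (f.asFiber x) := e₀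
  have hcomm : ∀ a : ↑(Y.presheaf.stalk (f x)) ⧸ maximalIdeal ↑(Y.presheaf.stalk (f x)),
      e (algebraMap _ (↑(X.presheaf.stalk x) ⧸
        (maximalIdeal (Y.presheaf.stalk (f x))).map (algebraMap _ (X.presheaf.stalk x))) a) =
        Curv2.stalkMap (Y.residueField (f x)) (f.fiber (f x)) (f.asFiber x) a := by
    intro a
    obtain ⟨a, rfl⟩ := Ideal.Quotient.mk_surjective a
    exact he a
  constructor
  · intro h
    refine @isGeometricallyReduced_of_ringEquiv
      (↑(Y.presheaf.stalk (f x)) ⧸ maximalIdeal ↑(Y.presheaf.stalk (f x)))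
      _ _ (Ideal.Quotient.field _) _ _
      (Curv2.stalkAlgebra (Y.residueField (f x)) (f.fiber (f x)) (f.asFiber x)) _
      e.symm ?_ h
    intro a
    rw [RingEquiv.symm_apply_eq]
    exact (hcomm a).symm
  · intro h
    exact @isGeometricallyReduced_of_ringEquiv
      (↑(Y.presheaf.stalk (f x)) ⧸ maximalIdeal ↑(Y.presheaf.stalk (f x)))
      _ _ (Ideal.Quotient.field _) _ _ _
      (Curv2.stalkAlgebra (Y.residueField (f x)) (f.fiber (f x)) (f.asFiber x))
      e hcomm h

/-- `GR` is insensitive to morphisms inducing isomorphisms on the local rings. -/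
theorem gr_comp_iff_of_isIso_stalkMap {X' : Scheme.{u}} (j : X' ⟶ X) (f : X ⟶ Y) (x' : X')
    [IsIso (j.stalkMap x')] : GR (j ≫ f) x' ↔ GR f (j x') := by
  rw [gr_iff_FR, gr_iff_FR]
  have hcomp : ((j ≫ f).stalkMap x').hom =
      (j.stalkMap x').hom.comp (f.stalkMap (j x')).hom := by
    rw [Scheme.Hom.stalkMap_comp]
    rfl
  letI alg : Algebra (Y.presheaf.stalk (f (j x'))) (X.presheaf.stalk (j x')) :=
    (f.stalkMap (j x')).hom.toAlgebra
  letI alg' : Algebra (Y.presheaf.stalk (f (j x'))) (X'.presheaf.stalk x') :=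
    ((j ≫ f).stalkMap x').hom.toAlgebra
  let ε : X.presheaf.stalk (j x') ≃ₐ[Y.presheaf.stalk (f (j x'))] X'.presheaf.stalk x' :=
    { (asIso (j.stalkMap x')).commRingCatIsoToRingEquiv with
      commutes' := fun a => by
        change (j.stalkMap x').hom ((f.stalkMap (j x')).hom a) = ((j ≫ f).stalkMap x').hom a
        rw [hcomp]
        rfl }
  exact ⟨fun h => FR.of_algEquiv ε.symm h, fun h => FR.of_algEquiv ε h⟩

theorem gr_src {X' : Scheme.{u}} (j : X' ⟶ X) [IsOpenImmersion j] (f : X ⟶ Y) (x' : X') :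
    GR (j ≫ f) x' ↔ GR f (j x') :=
  gr_comp_iff_of_isIso_stalkMap j f x'

theorem gr_congr {f₁ f₂ : X ⟶ Y} (e : f₁ = f₂) (x : X) : GR f₁ x ↔ GR f₂ x := by
  subst e; exact Iff.rfl

end Groth.Agent.Lib.lead.GROpen
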