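import Mathlib
import Groth.Prelude.Def_Found
import Groth.Prelude.Def_FDesc
import Groth.Prelude.Def_Curv2
import Groth.Agent.Lib.lead.GROpenD
import Groth.Agent.Lib.Helper15.GeomRedEt
import Groth.Agent.S1545
import Groth.Agent.Lib.Helper21.ConsLoc3

/-!
# Openness of the geometrically reduced locus of the fibres: base change

`GR` is invariant under arbitrary base change.
-/

set_option autoImplicit false
set_option linter.style.haveILetI false
set_option linter.unusedSectionVars false
universe u
open CategoryTheory CategoryTheory.Limits AlgebraicGeometry TensorProduct IsLocalRing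

namespace Groth.Agent.Lib.lead.GROpen

open Groth.Agent.Lib.Helper21.FibreBC Groth.Agent.Lib.Helper21.ConsLoc

variable {X Y X' Y' : Scheme.{u}}

/-- geometric reducedness at a point of a fibre in terms of `GR`. -/
theorem isGeomReducedAt_fiber_iff (f : X ⟶ Y) (x : X) (y : Y) (x₁ : f.fiber y)
    (h : f.fiberι y x₁ = x) :
    FBase.IsGeomReducedAt (f.fiberToSpecResidueField y) x₁ ↔ GR f x := by
  have hy : f x = y := by
    have h1 : f.fiberι y x₁ ∈ f ⁻¹' {y} := by
      rw [← f.range_fiberι y]; exact ⟨x₁, rfl⟩
    rw [h] at h1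
    exact h1
  subst hy
  have h2 : x₁ = f.asFiber x :=
    (f.fiberι _).isEmbedding.injective (h.trans (f.fiberι_asFiber x).symm)
  subst h2
  exact Iff.rfl

variable {f : X ⟶ Y} {f' : X' ⟶ Y'} {g' : X' ⟶ X} {g : Y' ⟶ Y}

attribute [local instance] resAlg fibOver

theorem gr_bc_aux (hc : IsPullback g' f' f g) (y' : Y') (z' : f'.fiber y') :
    FBase.IsGeomReducedAt (f'.fiberToSpecResidueField y') z' ↔
      GR f (g' (f'.fiberι y' z')) := by
  set w := (fiberIsoBC hc y').hom z' with hw
  -- (a) transport along the isomorphism of the fibres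
  have hsnd : (fiberIsoBC hc y').hom ≫
      FBase.bcStr (k := Y.residueField (g y')) (f.fiberToSpecResidueField (g y'))
        (Y'.residueField y') = f'.fiberToSpecResidueField y' :=
    (isPullback_fiberToSpecResidueField_of_isPullback hc y').isoPullback_hom_snd
  have ha : FBase.IsGeomReducedAt (f'.fiberToSpecResidueField y') z' ↔ FBase.IsGeomReducedAt
      (FBase.bcStr (k := Y.residueField (g y')) (f.fiberToSpecResidueField (g y'))
        (Y'.residueField y')) w := by
    rw [← hsnd]
    exact Groth.Agent.Lib.Helper15.GeomRedEt.isGeomReducedAt_comp_iff _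
      (fiberIsoBC hc y').hom z'
  -- (b) pointwise base field extension
  have hb := Groth.Agent.S1545.result (Y.residueField (g y')) (f.fiber (g y'))
    (Y'.residueField y')
    (Curv2.bcFst (Y.residueField (g y')) (f.fiber (g y')) (Y'.residueField y') w)
    w rfl
  -- (c) the point of the fibre
  have h1 : Curv2.bcFst (Y.residueField (g y')) (f.fiber (g y'))
      (Y'.residueField y') w =
      (pullback.map _ _ _ _ g' (Spec.map (g.residueFieldMap y')) g hc.w.symm (by simp))
        z' := by
    rw [hw, ← Scheme.Hom.comp_apply, fiberIsoBC_hom_fst]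
    rfl
  have h2 : pullback.map _ _ _ _ g' (Spec.map (g.residueFieldMap y')) g hc.w.symm
      (by simp) ≫ f.fiberι (g y') = f'.fiberι y' ≫ g' := by
    unfold Scheme.Hom.fiberι pullback.map
    exact pullback.lift_fst _ _ _
  have h3 : f.fiberι (g y')
      (Curv2.bcFst (Y.residueField (g y')) (f.fiber (g y'))
        (Y'.residueField y') w) = g' (f'.fiberι y' z') := by
    rw [h1]
    exact congr($(h2) z')
  have hc' := isGeomReducedAt_fiber_iff f (g' (f'.fiberι y' z')) (g y')
    (Curv2.bcFst (Y.residueField (g y')) (f.fiber (g y'))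
      (Y'.residueField y') w) h3
  rw [ha, ← hc']
  exact hb.symm

/-- **geometric reducedness of the fibre at a point is invariant under base change**. -/
theorem gr_bc_iff (hc : IsPullback g' f' f g) (x' : X') : GR f' x' ↔ GR f (g' x') := by
  have h := gr_bc_aux hc (f' x') (f'.asFiber x')
  rw [Scheme.Hom.fiberι_asFiber] at h
  exact h

theorem gr_tgt {X V S : Scheme.{u}} (ψ : X ⟶ V) (j : V ⟶ S) [IsOpenImmersion j] (x : X) :
    GR ψ x ↔ GR (ψ ≫ j) x :=
  gr_bc_iff (isPullback_id_of_mono ψ j) x

end Groth.Agent.Lib.lead.GROpen
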