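import Mathlib
import Groth.Prelude.Def_Found
import Groth.Agent.Lib.lead.GROpenA

/-!
# Openness of the geometrically reduced locus of the fibres: algebra, part B

The algebraic locus `grSet A B` and its stability under generization (for `A` with Nagata local
rings and `A → B` flat, both Noetherian).
-/

set_option autoImplicit false
set_option linter.style.haveILetI false
set_option linter.unusedSectionVars false
universe u
open TensorProduct IsLocalRing

namespace Groth.Agent.Lib.lead.GROpen

open Groth.Agent.Lib.Helper25.RedLoc

/-- the set of primes `q` of `B` such that the fibre of `A → B` through `q` is geometrically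
reduced at `q`. -/
def grSet (A B : Type u) [CommRing A] [CommRing B] [Algebra A B] : Set (PrimeSpectrum B) :=
  {q | FR A (Localization.AtPrime q.asIdeal) (q.asIdeal.under A)}

section Gen

variable (A B : Type u) [CommRing A] [CommRing B] [Algebra A B]

/-- passing to the local ring at a smaller prime. -/
theorem FR.of_le {q₁ q : Ideal B} [q₁.IsPrime] [q.IsPrime] (hle : q₁ ≤ q) {p : Ideal A}
    (h : FR A (Localization.AtPrime q) p) : FR A (Localization.AtPrime q₁) p := by
  have hM : q.primeCompl ≤ q₁.primeCompl := fun x hx hx1 => hx (hle hx1)
  letI : Algebra (Localization.AtPrime q) (Localization.AtPrime q₁) :=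
    IsLocalization.localizationAlgebraOfSubmonoidLe _ _ q.primeCompl q₁.primeCompl hM
  haveI : IsScalarTower B (Localization.AtPrime q) (Localization.AtPrime q₁) :=
    IsLocalization.localization_isScalarTower_of_submonoid_le _ _ q.primeCompl q₁.primeCompl hM
  haveI : IsLocalization (q₁.primeCompl.map (algebraMap B (Localization.AtPrime q)))
      (Localization.AtPrime q₁) :=
    IsLocalization.isLocalization_of_submonoid_le _ _ q.primeCompl q₁.primeCompl hM
  haveI : IsScalarTower A (Localization.AtPrime q) (Localization.AtPrime q₁) :=
    IsScalarTower.of_algebraMap_eq (fun a => by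
      rw [IsScalarTower.algebraMap_apply A B (Localization.AtPrime q₁),
        IsScalarTower.algebraMap_apply B (Localization.AtPrime q) (Localization.AtPrime q₁),
        ← IsScalarTower.algebraMap_apply A B (Localization.AtPrime q)])
  exact FR.of_isLocalization (q₁.primeCompl.map (algebraMap B (Localization.AtPrime q)))
    (Localization.AtPrime q₁) h

variable [IsNoetherianRing A] [IsNoetherianRing B] [Module.Flat A B]

/-- **generization**: the locus `grSet A B` is stable under generization, when the local rings
of `A` are Nagata rings. -/
theorem grSet_generization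
    (hNag : ∀ (P : Ideal A) [P.IsPrime], CAlg.IsNagata (Localization.AtPrime P))
    (q₁ q : PrimeSpectrum B) (hle : q₁ ≤ q) (hq : q ∈ grSet A B) : q₁ ∈ grSet A B := by
  set p : Ideal A := q.asIdeal.under A with hp
  set p₁ : Ideal A := q₁.asIdeal.under A with hp₁
  have hpp : p₁ ≤ p := Ideal.comap_mono hle
  haveI : q.asIdeal.LiesOver p := ⟨rfl⟩
  letI := Localization.AtPrime.algebraOfLiesOver p q.asIdeal
  haveI : IsLocalHom (algebraMap (Localization.AtPrime p) (Localization.AtPrime q.asIdeal)) :=
    Localization.isLocalHom_localRingHom _ _ _ Ideal.LiesOver.over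
  have hd : Disjoint (p.primeCompl : Set A) (p : Set A) := by
    rw [Set.disjoint_left]; intro s hs hsp; exact hs hsp
  have hd₁ : Disjoint (p.primeCompl : Set A) (p₁ : Set A) := by
    rw [Set.disjoint_left]; intro s hs hsp; exact hs (hpp hsp)
  -- step 1
  have h1 : FR (Localization.AtPrime p) (Localization.AtPrime q.asIdeal)
      (maximalIdeal (Localization.AtPrime p)) := by
    rw [← Localization.AtPrime.map_eq_maximalIdeal]
    exact FR.to_localization p.primeCompl (Localization.AtPrime p)
      (Localization.AtPrime q.asIdeal) hd hq
  -- step 2
  haveI : (p₁.map (algebraMap A (Localization.AtPrime p))).IsPrime :=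
    IsLocalization.isPrime_of_isPrime_disjoint p.primeCompl _ p₁ inferInstance hd₁
  have h2 := FR_of_closed (Localization.AtPrime p) (Localization.AtPrime q.asIdeal) (hNag p) h1
    (p₁.map (algebraMap A (Localization.AtPrime p)))
  -- step 3
  have h3 := FR.of_localization p.primeCompl (Localization.AtPrime p)
    (Localization.AtPrime q.asIdeal) _ h2
  rw [← Ideal.under, IsLocalization.under_map_of_isPrime_disjoint p.primeCompl _ inferInstance hd₁]
    at h3
  -- step 4
  exact FR.of_le A B hle h3

end Gen

end Groth.Agent.Lib.lead.GROpen
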