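import Mathlib
import Groth.Prelude.Def_Found
import Groth.Agent.Lib.lead.GROpenB

/-!
# Openness of the geometrically reduced locus of the fibres: algebra, spreading out

If the fibre through `q` is geometrically reduced at `q`, the same holds at all points of a
nonempty open subset of the closure of `q` (no flatness needed, `B` of finite type over `A`).
-/

set_option autoImplicit false
set_option linter.style.haveILetI false
set_option linter.unusedSectionVars false
universe u
open TensorProduct IsLocalRing

namespace Groth.Agent.Lib.lead.GROpen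

open Groth.Agent.Lib.Helper25.RedLoc Groth.Agent.Lib.Helper25.GenRedAlg
  Groth.Agent.Lib.Helper25.GenRedAlg2

section Kill

/-- in a Noetherian ring, the kernel of a localization map is killed by a single element of the
submonoid. -/
theorem exists_mem_forall_mul_eq_zero (R : Type*) [CommRing R] [IsNoetherianRing R]
    (M : Submonoid R) (T : Type*) [CommRing T] [Algebra R T] [IsLocalization M T] :
    ∃ m ∈ M, ∀ x : R, algebraMap R T x = 0 → m * x = 0 := by
  classical
  obtain ⟨s, hs⟩ := (isNoetherianRing_iff_ideal_fg R).1 ‹_› (RingHom.ker (algebraMap R T))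
  have hex : ∀ x : R, ∃ m : M, x ∈ s → (m : R) * x = 0 := by
    intro x
    by_cases hx : x ∈ s
    · have h1 : x ∈ RingHom.ker (algebraMap R T) := by
        rw [← hs]; exact Ideal.subset_span hx
      obtain ⟨m, hm⟩ := (IsLocalization.map_eq_zero_iff M T x).1 (RingHom.mem_ker.1 h1)
      exact ⟨m, fun _ => hm⟩
    · exact ⟨1, fun h => absurd h hx⟩
  choose mf hmf using hex
  refine ⟨∏ x ∈ s, (mf x : R), Submonoid.prod_mem _ (fun x _ => (mf x).2), ?_⟩
  intro x hx
  have hx' : x ∈ Ideal.span (s : Set R) := by rw [hs]; exact RingHom.mem_ker.2 hx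
  refine Submodule.span_induction (p := fun x _ => (∏ x ∈ s, (mf x : R)) * x = 0)
    ?_ ?_ ?_ ?_ hx'
  · intro y hy
    rw [← Finset.mul_prod_erase s _ hy, mul_assoc, mul_comm _ y, ← mul_assoc, hmf y hy, zero_mul]
  · exact mul_zero _
  · intro y z _ _ hy hz
    rw [mul_add, hy, hz, add_zero]
  · intro a y _ hy
    rw [smul_eq_mul, mul_left_comm, hy, mul_zero]

/-- if `m ∈ M₁` kills the kernel of `R → T`, then `R[M₁⁻¹] → T` is injective. -/
theorem injective_of_kills {R R₁ T : Type*} [CommRing R] [CommRing R₁] [CommRing T]
    [Algebra R R₁] [Algebra R T] [Algebra R₁ T] [IsScalarTower R R₁ T] (M₁ : Submonoid R)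
    [IsLocalization M₁ R₁] (m : R) (hm : m ∈ M₁)
    (hk : ∀ x : R, algebraMap R T x = 0 → m * x = 0) :
    Function.Injective (algebraMap R₁ T) := by
  rw [injective_iff_map_eq_zero]
  intro z hz
  obtain ⟨⟨x, s⟩, hxs⟩ := IsLocalization.surj M₁ z
  dsimp only at hxs
  have h1 : algebraMap R T x = 0 := by
    rw [IsScalarTower.algebraMap_apply R R₁ T, ← hxs, map_mul, hz, zero_mul]
  have h2 := hk x h1
  have h3 : algebraMap R R₁ m * algebraMap R R₁ x = 0 := by
    rw [← map_mul, h2, map_zero]
  have hu : IsUnit (algebraMap R R₁ m) := IsLocalization.map_units R₁ ⟨m, hm⟩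
  have h4 : algebraMap R R₁ x = 0 := (hu.mul_right_eq_zero).1 h3
  rw [h4] at hxs
  exact ((IsLocalization.map_units R₁ s).mul_left_eq_zero).1 hxs

end Kill

section Away

variable (A K B : Type u) [CommRing A] [Field K] [CommRing B] [Algebra A K] [Algebra A B]

set_option maxHeartbeats 1600000 in
set_option synthInstance.maxHeartbeats 200000 in
/-- geometric reducedness of `K ⊗ B_q` spreads to `K ⊗ B[1/g₀]` for some `g₀ ∉ q`. -/
theorem exists_away_isGeometricallyReduced [IsNoetherianRing (K ⊗[A] B)] (q : Ideal B)
    [q.IsPrime] [Algebra.IsGeometricallyReduced K (K ⊗[A] Localization.AtPrime q)] :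
    ∃ g₀ : B, g₀ ∉ q ∧ Algebra.IsGeometricallyReduced K (K ⊗[A] Localization.Away g₀) := by
  -- `K ⊗ B_q` as a localization of `K ⊗ B`
  letI alg1 : Algebra (K ⊗[A] B) (K ⊗[A] Localization.AtPrime q) :=
    (Algebra.TensorProduct.map (AlgHom.id A K)
      (IsScalarTower.toAlgHom A B (Localization.AtPrime q))).toAlgebra
  haveI : IsScalarTower K (K ⊗[A] B) (K ⊗[A] Localization.AtPrime q) :=
    .of_algebraMap_eq <| by intro; simp [RingHom.algebraMap_toAlgebra]
  haveI hloc1 := IsLocalization.tensorProduct_tensorProduct_right A K q.primeCompl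
    (Localization.AtPrime q) (by ext; simp [RingHom.algebraMap_toAlgebra])
  obtain ⟨m, hmM, hmk⟩ := exists_mem_forall_mul_eq_zero (K ⊗[A] B)
    (q.primeCompl.map (Algebra.TensorProduct.includeRight (R := A) (A := K)))
    (K ⊗[A] Localization.AtPrime q)
  obtain ⟨g₀, hg₀, rfl⟩ := hmM
  refine ⟨g₀, hg₀, ?_⟩
  have hM : Submonoid.powers g₀ ≤ q.primeCompl := by
    rw [Submonoid.powers_le]; exact hg₀
  letI alg2 : Algebra (Localization.Away g₀) (Localization.AtPrime q) :=
    IsLocalization.localizationAlgebraOfSubmonoidLe _ _ (Submonoid.powers g₀) q.primeCompl hM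
  haveI : IsScalarTower B (Localization.Away g₀) (Localization.AtPrime q) :=
    IsLocalization.localization_isScalarTower_of_submonoid_le _ _ (Submonoid.powers g₀)
      q.primeCompl hM
  haveI : IsScalarTower A (Localization.Away g₀) (Localization.AtPrime q) :=
    IsScalarTower.of_algebraMap_eq (fun a => by
      rw [IsScalarTower.algebraMap_apply A B (Localization.AtPrime q),
        IsScalarTower.algebraMap_apply B (Localization.Away g₀) (Localization.AtPrime q),
        ← IsScalarTower.algebraMap_apply A B (Localization.Away g₀)])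
  -- `K ⊗ B[1/g₀]` as a localization of `K ⊗ B`
  letI alg3 : Algebra (K ⊗[A] B) (K ⊗[A] Localization.Away g₀) :=
    (Algebra.TensorProduct.map (AlgHom.id A K)
      (IsScalarTower.toAlgHom A B (Localization.Away g₀))).toAlgebra
  haveI : IsScalarTower K (K ⊗[A] B) (K ⊗[A] Localization.Away g₀) :=
    .of_algebraMap_eq <| by intro; simp [RingHom.algebraMap_toAlgebra]
  haveI hloc3 := IsLocalization.tensorProduct_tensorProduct_right A K (Submonoid.powers g₀)
    (Localization.Away g₀) (by ext; simp [RingHom.algebraMap_toAlgebra])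
  -- the comparison map
  let ψ : K ⊗[A] Localization.Away g₀ →ₐ[K] K ⊗[A] Localization.AtPrime q :=
    Algebra.TensorProduct.map (AlgHom.id K K)
      (IsScalarTower.toAlgHom A (Localization.Away g₀) (Localization.AtPrime q))
  letI alg4 : Algebra (K ⊗[A] Localization.Away g₀) (K ⊗[A] Localization.AtPrime q) :=
    ψ.toRingHom.toAlgebra
  haveI : IsScalarTower (K ⊗[A] B) (K ⊗[A] Localization.Away g₀)
      (K ⊗[A] Localization.AtPrime q) := by
    refine IsScalarTower.of_algebraMap_eq (fun z => ?_)
    induction z using TensorProduct.induction_on with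
    | zero => simp
    | tmul k b =>
      change (Algebra.TensorProduct.map (AlgHom.id A K)
        (IsScalarTower.toAlgHom A B (Localization.AtPrime q))) (k ⊗ₜ b) =
        ψ ((Algebra.TensorProduct.map (AlgHom.id A K)
          (IsScalarTower.toAlgHom A B (Localization.Away g₀))) (k ⊗ₜ b))
      simp only [ψ, Algebra.TensorProduct.map_tmul, AlgHom.coe_id, id_eq,
        IsScalarTower.coe_toAlgHom']
      rw [← IsScalarTower.algebraMap_apply B (Localization.Away g₀) (Localization.AtPrime q)]
    | add x y hx hy => rw [map_add, map_add, map_add, hx, hy]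
  have hinj : Function.Injective ψ :=
    injective_of_kills (R := K ⊗[A] B) (R₁ := K ⊗[A] Localization.Away g₀)
      (T := K ⊗[A] Localization.AtPrime q)
      ((Submonoid.powers g₀).map (Algebra.TensorProduct.includeRight (R := A) (A := K)))
      _ ⟨g₀, Submonoid.mem_powers g₀, rfl⟩ hmk
  exact Algebra.IsGeometricallyReduced.of_injective ψ hinj

end Away

section Spread

variable (A B : Type u) [CommRing A] [CommRing B] [Algebra A B]

/-- from `B[1/g₀]` to the local ring at a prime not containing `g₀`. -/
theorem isReduced_tensor_atPrime_of_away (L : Type u) [CommRing L] [Algebra A L] (g₀ : B)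
    (q' : Ideal B) [q'.IsPrime] (hg : g₀ ∉ q') [IsReduced (L ⊗[A] Localization.Away g₀)] :
    IsReduced (L ⊗[A] Localization.AtPrime q') := by
  have hM : Submonoid.powers g₀ ≤ q'.primeCompl := by
    rw [Submonoid.powers_le]; exact hg
  letI : Algebra (Localization.Away g₀) (Localization.AtPrime q') :=
    IsLocalization.localizationAlgebraOfSubmonoidLe _ _ (Submonoid.powers g₀) q'.primeCompl hM
  haveI : IsScalarTower B (Localization.Away g₀) (Localization.AtPrime q') :=
    IsLocalization.localization_isScalarTower_of_submonoid_le _ _ (Submonoid.powers g₀)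
      q'.primeCompl hM
  haveI : IsScalarTower A (Localization.Away g₀) (Localization.AtPrime q') :=
    IsScalarTower.of_algebraMap_eq (fun a => by
      rw [IsScalarTower.algebraMap_apply A B (Localization.AtPrime q'),
        IsScalarTower.algebraMap_apply B (Localization.Away g₀) (Localization.AtPrime q'),
        ← IsScalarTower.algebraMap_apply A B (Localization.Away g₀)])
  haveI : IsLocalization (q'.primeCompl.map (algebraMap B (Localization.Away g₀)))
      (Localization.AtPrime q') :=
    IsLocalization.isLocalization_of_submonoid_le _ _ (Submonoid.powers g₀) q'.primeCompl hM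
  exact isReduced_tensor_of_isLocalization A L (Localization.Away g₀)
    (q'.primeCompl.map (algebraMap B (Localization.Away g₀))) (Localization.AtPrime q')

set_option maxHeartbeats 1600000 in
set_option synthInstance.maxHeartbeats 200000 in
/-- **spreading out**: if the fibre through `q` is geometrically reduced at `q`, the same holds
at all points of a nonempty open subset of the closure of `q`. -/
theorem exists_spread [Algebra.FiniteType A B] (q : PrimeSpectrum B) (hq : q ∈ grSet A B) :
    ∃ g : B, g ∉ q.asIdeal ∧
      ∀ q' : PrimeSpectrum B, q.asIdeal ≤ q'.asIdeal → g ∉ q'.asIdeal → q' ∈ grSet A B := by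
  set p : Ideal A := q.asIdeal.under A with hp
  haveI : IsNoetherianRing (p.ResidueField ⊗[A] B) :=
    Algebra.FiniteType.isNoetherianRing p.ResidueField _
  haveI : Algebra.IsGeometricallyReduced p.ResidueField
      (p.ResidueField ⊗[A] Localization.AtPrime q.asIdeal) :=
    isGeometricallyReduced_of_FR p hq
  obtain ⟨g₀, hg₀, hgr⟩ := exists_away_isGeometricallyReduced A p.ResidueField B q.asIdeal
  haveI := hgr
  haveI : Algebra.FinitePresentation B (Localization.Away g₀) :=
    IsLocalization.Away.finitePresentation g₀
  haveI : Algebra.FiniteType B (Localization.Away g₀) := inferInstance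
  haveI : Algebra.FiniteType A (Localization.Away g₀) :=
    Algebra.FiniteType.trans (inferInstance : Algebra.FiniteType A B) inferInstance
  haveI : Algebra.IsGeometricallyReduced p.ResidueField
      (p.ResidueField ⊗[A ⧸ p] ((A ⧸ p) ⊗[A] Localization.Away g₀)) :=
    Algebra.IsGeometricallyReduced.of_injective
      (Algebra.TensorProduct.cancelBaseChange A (A ⧸ p) p.ResidueField p.ResidueField
        (Localization.Away g₀)).toAlgHom
      (Algebra.TensorProduct.cancelBaseChange A (A ⧸ p) p.ResidueField p.ResidueField
        (Localization.Away g₀)).injective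
  obtain ⟨a', ha', haL⟩ := rt2_domain (A := A ⧸ p) (B := (A ⧸ p) ⊗[A] Localization.Away g₀)
    p.ResidueField
  obtain ⟨a, rfl⟩ := Ideal.Quotient.mk_surjective a'
  have hap : a ∉ p := fun h => ha' (Ideal.Quotient.eq_zero_iff_mem.2 h)
  refine ⟨g₀ * algebraMap A B a, ?_, ?_⟩
  · intro h
    rcases Ideal.IsPrime.mem_or_mem inferInstance h with h1 | h1
    · exact hg₀ h1
    · exact hap h1
  · intro q' hqq' hg
    have hg1 : g₀ ∉ q'.asIdeal := fun h => hg (Ideal.mul_mem_right _ _ h)
    have hg2 : algebraMap A B a ∉ q'.asIdeal := fun h => hg (Ideal.mul_mem_left _ _ h)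
    intro L _ _ hL
    have hpL : ∀ x ∈ p, algebraMap A L x = 0 := by
      intro x hx
      rw [← RingHom.mem_ker, hL]
      exact Ideal.comap_mono hqq' hx
    letI : Algebra (A ⧸ p) L := (Ideal.Quotient.lift p (algebraMap A L) hpL).toAlgebra
    haveI : IsScalarTower A (A ⧸ p) L := IsScalarTower.of_algebraMap_eq (fun x => by
      rw [RingHom.algebraMap_toAlgebra, Ideal.Quotient.algebraMap_eq, Ideal.Quotient.lift_mk])
    have h1 : algebraMap (A ⧸ p) L (Ideal.Quotient.mk p a) ≠ 0 := by
      rw [RingHom.algebraMap_toAlgebra, Ideal.Quotient.lift_mk]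
      intro h0
      apply hg2
      have : a ∈ RingHom.ker (algebraMap A L) := RingHom.mem_ker.2 h0
      rw [hL] at this
      exact this
    have h2 := haL L h1
    rw [isReduced_cancel] at h2
    haveI := h2
    exact isReduced_tensor_atPrime_of_away A B L g₀ q'.asIdeal hg1

end Spread

end Groth.Agent.Lib.lead.GROpen
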