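import Mathlib
import Groth.Prelude.Def_Found
import Groth.Agent.Lib.lead.GROpenS
import Groth.Agent.Lib.Helper21.SkOpen8
import Groth.Agent.Lib.Helper12.NagFTJ
import Groth.Agent.Lib.Helper26.DedekindNagata
import Groth.Agent.Lib.Helper26.NagataLoc

/-!
# Openness of the geometrically reduced locus of the fibres: the Noetherian case

For `A` of finite type over `ℤ` and `B` flat of finite type over `A`, `grSet A B` is open.
-/

set_option autoImplicit false
set_option linter.style.haveILetI false
set_option linter.unusedSectionVars false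
universe u
open TensorProduct IsLocalRing

namespace Groth.Agent.Lib.lead.GROpen

open Groth.Agent.Lib.Helper25.RedLoc

theorem ulift_int_isDomain : IsDomain (ULift.{u} ℤ) :=
  (ULift.ringEquiv : ULift.{u} ℤ ≃+* ℤ).toMulEquiv.isDomain ℤ

theorem ulift_int_charZero : CharZero (ULift.{u} ℤ) :=
  charZero_of_injective_ringHom (f := (ULift.ringEquiv.symm : ℤ ≃+* ULift.{u} ℤ).toRingHom)
    (ULift.ringEquiv.symm : ℤ ≃+* ULift.{u} ℤ).injective

theorem ulift_int_isDedekindDomain : IsDedekindDomain (ULift.{u} ℤ) := by
  haveI := ulift_int_isDomain.{u}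
  haveI : IsPrincipalIdealRing (ULift.{u} ℤ) :=
    IsPrincipalIdealRing.of_surjective (ULift.ringEquiv.symm : ℤ ≃+* ULift.{u} ℤ).toRingHom
      (ULift.ringEquiv.symm : ℤ ≃+* ULift.{u} ℤ).surjective
  infer_instance

attribute [local instance] ULift.algebra' in
/-- the localizations of an algebra of finite type over `ℤ` are Nagata rings. -/
theorem isNagata_localization_of_int_finiteType (R₀ : Type u) [CommRing R₀]
    [Algebra.FiniteType ℤ R₀] (S : Submonoid R₀) : CAlg.IsNagata (Localization S) := by
  haveI := ulift_int_isDedekindDomain.{u}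
  haveI := ulift_int_charZero.{u}
  have hZ : CAlg.IsNagata (ULift.{u} ℤ) := Groth.Agent.Lib.Helper26.DedekindNagata.main _
  haveI : Algebra.FiniteType (ULift.{u} ℤ) R₀ := by
    obtain ⟨s, hs⟩ := (inferInstance : Algebra.FiniteType ℤ R₀)
    refine ⟨s, ?_⟩
    rw [eq_top_iff]
    intro x _
    have hx : x ∈ Algebra.adjoin ℤ (s : Set R₀) := by rw [hs]; trivial
    refine Algebra.adjoin_induction (p := fun x _ => x ∈ Algebra.adjoin (ULift.{u} ℤ) (s : Set R₀))
      ?_ ?_ ?_ ?_ hx
    · intro y hy; exact Algebra.subset_adjoin hy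
    · intro n
      have : algebraMap ℤ R₀ n = algebraMap (ULift.{u} ℤ) R₀ (ULift.up n) := rfl
      rw [this]
      exact Subalgebra.algebraMap_mem _ _
    · intro y z _ _ hy hz; exact Subalgebra.add_mem _ hy hz
    · intro y z _ _ hy hz; exact Subalgebra.mul_mem _ hy hz
  have hR : CAlg.IsNagata R₀ :=
    Groth.Agent.Lib.Helper12.NagFT.isNagata_of_finiteType (ULift.{u} ℤ) hZ R₀
  exact Groth.Agent.Lib.Helper26.NagataLoc.main R₀ hR S

section Noeth

variable (A B : Type u) [CommRing A] [CommRing B] [Algebra A B] [IsNoetherianRing A]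
  [Algebra.FiniteType A B] [Module.Flat A B]

/-- **geometric reducedness of the fibres is an open condition** (flat, finite type, Noetherian
base with Nagata local rings). -/
theorem isOpen_grSet_noeth
    (hNag : ∀ (P : Ideal A) [P.IsPrime], CAlg.IsNagata (Localization.AtPrime P)) :
    IsOpen (grSet A B) := by
  haveI : IsNoetherianRing B := Algebra.FiniteType.isNoetherianRing A B
  exact Groth.Agent.Lib.Helper21.SkOpen.isOpen_of_generization_of_spread B (grSet A B)
    (fun Q₁ Q hle h => grSet_generization A B hNag Q₁ Q hle h)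
    (fun q hq => exists_spread A B q hq)

end Noeth

end Groth.Agent.Lib.lead.GROpen
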