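import Mathlib
import Groth.Prelude.Def_Found
import Groth.Agent.Lib.lead.GROpenE
import Groth.Agent.Lib.lead.GROpenN
import Groth.Agent.Lib.Helper21.MCopChev

/-!
# Openness of the geometrically reduced locus of the fibres: spectra

The algebraic locus `grSet A B` is the locus of `GR (Spec B ⟶ Spec A)`.
-/

set_option autoImplicit false
set_option linter.style.haveILetI false
set_option linter.unusedSectionVars false
universe u
open CategoryTheory CategoryTheory.Limits AlgebraicGeometry TensorProduct IsLocalRing

namespace Groth.Agent.Lib.lead.GROpen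

open Groth.Agent.Lib.Helper25.RedLoc Groth.Agent.Lib.Helper21.MCop

section Dict

variable (A B : Type u) [CommRing A] [CommRing B] [Algebra A B]

set_option maxHeartbeats 1600000 in
set_option synthInstance.maxHeartbeats 200000 in
theorem mem_grSet_iff_gr (q : PrimeSpectrum B) :
    q ∈ grSet A B ↔ GR (specMap A B) q := by
  refine Iff.trans ?_ (gr_iff_FR (specMap A B) q).symm
  set p : PrimeSpectrum A := (specMap A B) q with hp
  letI algA : Algebra A ↑((Spec (CommRingCat.of A)).presheaf.stalk p) :=
    StructureSheaf.stalkAlgebra A p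
  haveI locA : IsLocalization.AtPrime (↑((Spec (CommRingCat.of A)).presheaf.stalk p))
      p.asIdeal := StructureSheaf.IsLocalization.to_stalk A p
  letI algB : Algebra B ↑((Spec (CommRingCat.of B)).presheaf.stalk q) :=
    StructureSheaf.stalkAlgebra B q
  haveI locB : IsLocalization.AtPrime (↑((Spec (CommRingCat.of B)).presheaf.stalk q))
      q.asIdeal := StructureSheaf.IsLocalization.to_stalk B q
  letI algAB : Algebra ↑((Spec (CommRingCat.of A)).presheaf.stalk p)
      ↑((Spec (CommRingCat.of B)).presheaf.stalk q) := ((specMap A B).stalkMap q).hom.toAlgebra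
  letI algAB' : Algebra A ↑((Spec (CommRingCat.of B)).presheaf.stalk q) :=
    ((algebraMap B ↑((Spec (CommRingCat.of B)).presheaf.stalk q)).comp (algebraMap A B)).toAlgebra
  haveI tow1 : IsScalarTower A B ↑((Spec (CommRingCat.of B)).presheaf.stalk q) :=
    IsScalarTower.of_algebraMap_eq (fun _ => rfl)
  haveI tow2 : IsScalarTower A ↑((Spec (CommRingCat.of A)).presheaf.stalk p)
      ↑((Spec (CommRingCat.of B)).presheaf.stalk q) := by
    refine IsScalarTower.of_algebraMap_eq (fun a => ?_)
    have h := AlgebraicGeometry.stalkMap_toStalk_apply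
      (CommRingCat.ofHom (algebraMap A B)) q a
    exact h.symm
  have hpq : p.asIdeal = q.asIdeal.under A := rfl
  have hd : Disjoint (p.asIdeal.primeCompl : Set A) (p.asIdeal : Set A) := by
    rw [Set.disjoint_left]; intro s hs hsp; exact hs hsp
  have hmax : maximalIdeal ↑((Spec (CommRingCat.of A)).presheaf.stalk p) =
      p.asIdeal.map (algebraMap A _) :=
    (IsLocalization.AtPrime.map_eq_maximalIdeal p.asIdeal _).symm
  let e : ↑((Spec (CommRingCat.of B)).presheaf.stalk q) ≃ₐ[A] Localization.AtPrime q.asIdeal :=
    (IsLocalization.algEquiv q.asIdeal.primeCompl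
      ↑((Spec (CommRingCat.of B)).presheaf.stalk q) (Localization.AtPrime q.asIdeal)).restrictScalars A
  constructor
  · intro h
    have h1 : FR A ↑((Spec (CommRingCat.of B)).presheaf.stalk q) p.asIdeal :=
      FR.of_algEquiv e.symm h
    rw [hmax]
    exact FR.to_localization p.asIdeal.primeCompl _ _ hd h1
  · intro h
    rw [hmax] at h
    have h1 := FR.of_localization p.asIdeal.primeCompl _ _ _ h
    rw [← Ideal.under, IsLocalization.under_map_of_isPrime_disjoint p.asIdeal.primeCompl _
      inferInstance hd] at h1
    exact FR.of_algEquiv e h1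

end Dict

end Groth.Agent.Lib.lead.GROpen
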