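import Mathlib
import Groth.Prelude.Def_Found
import Groth.Agent.Lib.lead.GROpenF
import Groth.Agent.Lib.Helper21.SkOpen10

/-!
# Openness of the geometrically reduced locus of the fibres: the theorems

* `isOpen_gr`: EGA IV 12.1.1 (vii) / 12.1.6 for geometric reducedness: for `f` flat and locally of
  finite presentation the set of `x` such that the fibre through `x` is geometrically reduced at
  `x` is open.
* `isOpen_flat_gr`: the pointwise flat version.
* `isOpen_gr_of_proper`: for `f` proper, flat, of finite presentation, the set of `y` whose fibre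
  is geometrically reduced at all its points is open.
-/

set_option autoImplicit false
set_option linter.style.haveILetI false
set_option linter.unusedSectionVars false
universe u
open CategoryTheory CategoryTheory.Limits AlgebraicGeometry TensorProduct IsLocalRing Topology
  TopologicalSpace

namespace Groth.Agent.Lib.lead.GROpen

open Groth.Agent.Lib.Helper25.RedLoc Groth.Agent.Lib.Helper21.MCop
open Groth.Agent.Lib.Helper21 Groth.Agent.Lib.Helper21.ConsLoc
open Groth.Agent.Lib.Helper21.FlatDesc Groth.Agent.Lib.Helper21.Coprof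

section BC

variable (A A' B B' : Type u) [CommRing A] [CommRing A'] [CommRing B] [CommRing B']
  [Algebra A A'] [Algebra A B] [Algebra A' B'] [Algebra B B'] [Algebra A B']
  [IsScalarTower A A' B'] [IsScalarTower A B B'] [Algebra.IsPushout A A' B B']

theorem mem_grSet_bc (q' : PrimeSpectrum B') :
    q' ∈ grSet A' B' ↔ PrimeSpectrum.comap (algebraMap B B') q' ∈ grSet A B := by
  rw [mem_grSet_iff_gr, mem_grSet_iff_gr]
  have hpo := CommRingCat.isPushout_of_isPushout A A' B B'
  have hpb := isPullback_SpecMap_of_isPushout _ _ _ _ hpo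
  exact gr_bc_iff (f := specMap A B) (g := specMap A A') (g' := specMap B B')
    (f' := specMap A' B') hpb.flip q'

end BC

section Alg

/-- **geometric reducedness of the fibres is an open condition** (flat, finitely presented,
arbitrary base). -/
theorem isOpen_grSet (A B : Type u) [CommRing A] [CommRing B] [Algebra A B]
    [Algebra.FinitePresentation A B] [Module.Flat A B] : IsOpen (grSet A B) := by
  obtain ⟨R₀, _, _, S₀, _, _, _, _, _, _, hft, hft', hflat, hpush⟩ :=
    FlatDesc.exists_flat_algebra_model A B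
  haveI := hft
  haveI := hft'
  haveI := hflat
  haveI := hpush
  haveI : IsNoetherianRing R₀ := Algebra.FiniteType.isNoetherianRing ℤ R₀
  have heq : grSet A B = (PrimeSpectrum.comap (algebraMap S₀ B)) ⁻¹' grSet R₀ S₀ := by
    ext q
    exact mem_grSet_bc R₀ A S₀ B q
  rw [heq]
  exact (isOpen_grSet_noeth R₀ S₀
    (fun P _ => isNagata_localization_of_int_finiteType R₀ P.primeCompl)).preimage
    (PrimeSpectrum.continuous_comap _)

end Alg

section Sch

theorem isOpen_gr_Spec {A B : CommRingCat.{u}} (φ : A ⟶ B) (hφ : φ.hom.FinitePresentation)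
    (hfl : φ.hom.Flat) : IsOpen {x : Spec B | GR (Spec.map φ) x} := by
  letI aAB : Algebra A B := φ.hom.toAlgebra
  haveI : Algebra.FinitePresentation A B := hφ
  haveI : Module.Flat A B := hfl
  have h := isOpen_grSet A B
  have heq : grSet A B = {x : Spec B | GR (Spec.map φ) x} := by
    ext q
    exact mem_grSet_iff_gr A B q
  rw [← heq]
  exact h

/-- **EGA IV 12.1.1 (vii)**: for a flat morphism locally of finite presentation, the locus where
the fibre is geometrically reduced is open. -/
theorem isOpen_gr {X S : Scheme.{u}} (f : X ⟶ S) [Flat f] [LocallyOfFinitePresentation f] :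
    IsOpen {x : X | GR f x} := by
  rw [isOpen_iff_forall_mem_open]
  intro x hx
  obtain ⟨_, ⟨V, hV : IsAffineOpen V, rfl⟩, hfxV, -⟩ :=
    S.isBasis_affineOpens.exists_subset_of_mem_open (Set.mem_univ (f x)) isOpen_univ
  obtain ⟨_, ⟨U, hU : IsAffineOpen U, rfl⟩, hxU, hUV₀⟩ :=
    X.isBasis_affineOpens.exists_subset_of_mem_open (show x ∈ (f ⁻¹ᵁ V : Set X) from hfxV)
      (f ⁻¹ᵁ V).isOpen
  have hUV : U ≤ f ⁻¹ᵁ V := hUV₀
  have hfp : (f.appLE V U hUV).hom.FinitePresentation :=
    HasRingHomProperty.appLE @LocallyOfFinitePresentation f inferInstance ⟨V, hV⟩ ⟨U, hU⟩ hUV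
  have hfl : (f.appLE V U hUV).hom.Flat :=
    HasRingHomProperty.appLE @Flat f inferInstance ⟨V, hV⟩ ⟨U, hU⟩ hUV
  have h0 := isOpen_gr_Spec (f.appLE V U hUV) hfp hfl
  have hsq : Spec.map (f.appLE V U hUV) ≫ hV.fromSpec = hU.fromSpec ≫ f :=
    IsAffineOpen.SpecMap_appLE_fromSpec f hV hU hUV
  have key : ∀ b : Spec Γ(X, U), GR (Spec.map (f.appLE V U hUV)) b ↔
      GR f (hU.fromSpec b) := by
    intro b
    rw [gr_tgt (Spec.map (f.appLE V U hUV)) hV.fromSpec b, gr_congr hsq b]
    exact gr_src hU.fromSpec f b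
  refine ⟨hU.fromSpec '' {b | GR (Spec.map (f.appLE V U hUV)) b}, ?_,
    hU.fromSpec.isOpenEmbedding.isOpenMap _ h0, ?_⟩
  · rintro _ ⟨b, hb, rfl⟩
    exact (key b).1 hb
  · refine ⟨hU.primeIdealOf ⟨x, hxU⟩, ?_, hU.fromSpec_primeIdealOf ⟨x, hxU⟩⟩
    refine (key _).2 ?_
    rw [hU.fromSpec_primeIdealOf ⟨x, hxU⟩]
    exact hx

theorem fibPred_GR :
    FibPred.{u} (fun {X S : Scheme.{u}} (f : X ⟶ S) (x : X) => GR f x) where
  bc := fun hc x' => gr_bc_iff hc x'
  src := fun j _ f x' => gr_src j f x'
  isOpen := fun f _ _ => isOpen_gr f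

/-- **EGA IV 9.9.4**: the locus where the fibre is geometrically reduced is locally
constructible. -/
theorem isLocallyConstructible_gr {X S : Scheme.{u}} (f : X ⟶ S)
    [LocallyOfFinitePresentation f] : IsLocallyConstructible {x : X | GR f x} :=
  ConsLoc.isLocallyConstructible fibPred_GR f

variable {X Y : Scheme.{u}}

/-- **pointwise flat version**: the locus where `f` is flat and the fibre is geometrically
reduced is open. -/
theorem isOpen_flat_gr (f : X ⟶ Y) [LocallyOfFinitePresentation f] :
    IsOpen {x : X | (f.stalkMap x).hom.Flat ∧ GR f x} := by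
  have hW : IsOpen {x : X | (f.stalkMap x).hom.Flat} := isOpen_flat_locus f
  let W : X.Opens := ⟨{x : X | (f.stalkMap x).hom.Flat}, hW⟩
  haveI : Flat (W.ι ≫ f) := by
    rw [Flat.iff_flat_stalkMap]
    intro w
    rw [flat_stalkMap_comp_iff_of_isIso_stalkMap W.ι f w]
    exact w.2
  have h0 := isOpen_gr (W.ι ≫ f)
  have h1 := W.ι.isOpenEmbedding.isOpenMap _ h0
  convert h1 using 1
  ext x
  simp only [Set.mem_ofPred_eq, Set.mem_image]
  constructor
  · rintro ⟨hx1, hx2⟩
    refine ⟨⟨x, hx1⟩, ?_, rfl⟩
    rw [gr_src W.ι f ⟨x, hx1⟩]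
    exact hx2
  · rintro ⟨w, hw, rfl⟩
    refine ⟨w.2, ?_⟩
    rw [gr_src W.ι f w] at hw
    exact hw

/-- geometric reducedness at a point of a fibre `X_y`, in terms of `GR`. -/
theorem isGeomReducedAt_fiber_point_iff (f : X ⟶ Y) (y : Y) (z : f.fiber y) :
    FBase.IsGeomReducedAt (f.fiberToSpecResidueField y) z ↔ GR f (f.fiberι y z) :=
  isGeomReducedAt_fiber_iff f (f.fiberι y z) y z rfl

/-- **proper version**: the set of `y` whose fibre is geometrically reduced at all its points is
open. -/
theorem isOpen_gr_of_proper (f : X ⟶ Y) [IsProper f] [Flat f] [LocallyOfFinitePresentation f] :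
    IsOpen {y : Y | ∀ z : f.fiber y, FBase.IsGeomReducedAt (f.fiberToSpecResidueField y) z} := by
  have hEo := isOpen_gr f
  have hcl := f.isClosedMap _ hEo.isClosed_compl
  convert hcl.isOpen_compl using 1
  ext y
  simp only [Set.mem_ofPred_eq, Set.mem_compl_iff, Set.mem_image, not_exists, not_and]
  constructor
  · intro h x hx hfx
    subst hfx
    apply hx
    have := (isGeomReducedAt_fiber_point_iff f (f x) (f.asFiber x)).1 (h (f.asFiber x))
    rw [Scheme.Hom.fiberι_asFiber] at this
    exact this
  · intro h z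
    rw [isGeomReducedAt_fiber_point_iff f y z]
    by_contra hn
    exact h (f.fiberι y z) hn (apply_fiberι f y z)

end Sch

end Groth.Agent.Lib.lead.GROpen
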