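import Mathlib

/-!
# Sections of étale separated morphisms and clopen lifting along finite morphisms (EGA IV 18.5.11 a ⇒ b)
Part A: general lemmas.
-/

set_option autoImplicit false
set_option linter.style.haveILetI false
universe u
open CategoryTheory CategoryTheory.Limits AlgebraicGeometry Opposite TopologicalSpace

namespace Groth.Agent.Lib.lead.HensSect

/-- a section of an étale morphism is an open immersion -/
theorem isOpenImmersion_of_section {P B : Scheme.{u}} (p : P ⟶ B) [Etale p] (s : B ⟶ P)
    (hs : s ≫ p = 𝟙 B) : IsOpenImmersion s := by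
  haveI : Etale (s ≫ p) := by rw [hs]; infer_instance
  haveI : Etale s := Etale.of_comp (f := s) p
  haveI : Mono (s ≫ p) := by rw [hs]; infer_instance
  haveI : Mono s := mono_of_mono s p
  exact IsOpenImmersion.of_flat_of_mono s

/-- a section of a separated morphism is a closed immersion -/
theorem isClosedImmersion_of_section {P B : Scheme.{u}} (p : P ⟶ B) [IsSeparated p] (s : B ⟶ P)
    (hs : s ≫ p = 𝟙 B) : IsClosedImmersion s := by
  haveI : IsClosedImmersion (s ≫ p) := by rw [hs]; infer_instance
  exact IsClosedImmersion.of_comp s p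

set_option backward.isDefEq.respectTransparency false in
/-- open immersion version of `isClosedImmersion_equalizer_ι_left` -/
theorem isOpenImmersion_equalizer_ι_left {S : Scheme.{u}} {X Y : Over S} [Etale Y.hom]
    (f g : X ⟶ Y) : IsOpenImmersion (equalizer.ι f g).left := by
  refine MorphismProperty.of_isPullback
    ((Limits.isPullback_equalizer_prod f g).map (Over.forget _)).flip ?_
  rw [← MorphismProperty.cancel_right_of_respectsIso @IsOpenImmersion _
    (Over.prodLeftIsoPullback Y Y).hom]
  convert! (inferInstance : IsOpenImmersion (pullback.diagonal Y.hom))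
  ext1 <;> simp [← Over.comp_left]

section couple

variable {S S₀ : Scheme.{u}} (i : S₀ ⟶ S)
  (ha : ∀ (S' : Scheme.{u}) (g : S' ⟶ S), IsFinite g →
    ∀ V : Set ↥(pullback g i), IsClopen V →
      ∃! U : Set ↥S', IsClopen U ∧ (pullback.fst g i).base ⁻¹' U = V)

include ha

/-- a clopen subset of a finite `S`-scheme which misses the preimage of `S₀` is empty -/
theorem eq_empty_of_isClopen_of_disjoint {T : Scheme.{u}} (π : T ⟶ S) [IsFinite π] (U : Set T)
    (hU : IsClopen U) (hdisj : ∀ t ∈ U, π t ∉ Set.range i) : U = ∅ := by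
  obtain ⟨U₀, -, huniq⟩ := ha T π inferInstance ∅ isClopen_empty
  have h1 : U = U₀ := by
    refine huniq U ⟨hU, ?_⟩
    ext z
    simp only [Set.mem_preimage, Set.mem_empty_iff_false, iff_false]
    intro hz
    apply hdisj _ hz
    refine ⟨pullback.snd π i z, ?_⟩
    change i (pullback.snd π i z) = π (pullback.fst π i z)
    rw [← Scheme.Hom.comp_apply, ← pullback.condition, Scheme.Hom.comp_apply]
  have h2 : (∅ : Set T) = U₀ := huniq ∅ ⟨isClopen_empty, Set.preimage_empty⟩
  rw [h1, ← h2]

/-- a closed subset of a finite `S`-scheme which misses the preimage of `S₀` is empty -/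
theorem eq_empty_of_isClosed_of_disjoint {T : Scheme.{u}} (π : T ⟶ S) [IsFinite π] (D : Set T)
    (hD : IsClosed D) (hdisj : ∀ t ∈ D, π t ∉ Set.range i) : D = ∅ := by
  let I := Scheme.IdealSheafData.vanishingIdeal (X := T) ⟨D, hD⟩
  have hr : Set.range I.subschemeι = D := by
    rw [I.range_subschemeι]
    exact Scheme.IdealSheafData.coe_support_vanishingIdeal _
  have hfin : IsFinite (I.subschemeι ≫ π) := inferInstance
  have h := eq_empty_of_isClopen_of_disjoint i ha (I.subschemeι ≫ π) Set.univ isClopen_univ
    (fun t _ => by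
      rw [Scheme.Hom.comp_apply]
      exact hdisj _ (hr ▸ Set.mem_range_self t))
  rw [← hr]
  rw [Set.range_eq_empty_iff]
  exact Set.univ_eq_empty_iff.mp h

/-- two sections of an étale separated morphism which agree on `S₀` are equal -/
theorem section_ext {S' : Scheme.{u}} (g : S' ⟶ S) [Etale g] [IsSeparated g] (u u' : S ⟶ S')
    (hu : u ≫ g = 𝟙 S) (hu' : u' ≫ g = 𝟙 S) (h : i ≫ u = i ≫ u') : u = u' := by
  let X' : Over S := Over.mk (𝟙 S)
  let Y' : Over S := Over.mk g
  let Z' : Over S := Over.mk i
  let f₁ : X' ⟶ Y' := Over.homMk u (by simpa [X', Y'] using hu)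
  let f₂ : X' ⟶ Y' := Over.homMk u' (by simpa [X', Y'] using hu')
  let ι' : Z' ⟶ X' := Over.homMk i (by simp [X', Z'])
  haveI : Etale Y'.hom := inferInstanceAs (Etale g)
  haveI : IsSeparated Y'.hom := inferInstanceAs (IsSeparated g)
  let e : (equalizer f₁ f₂).left ⟶ S := (equalizer.ι f₁ f₂).left
  haveI : IsOpenImmersion e := isOpenImmersion_equalizer_ι_left f₁ f₂
  haveI : IsClosedImmersion e := isClosedImmersion_equalizer_ι_left f₁ f₂
  have hι : ι' ≫ f₁ = ι' ≫ f₂ := by
    ext1
    exact h
  have hlift : (equalizer.lift ι' hι).left ≫ e = i := by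
    have := congrArg (fun φ => φ.left) (equalizer.lift_ι ι' hι)
    exact this
  have hrange : Set.range i ⊆ Set.range e := by
    rintro _ ⟨s, rfl⟩
    refine ⟨(equalizer.lift ι' hι).left s, ?_⟩
    rw [← Scheme.Hom.comp_apply, hlift]
  have hcl : IsClopen (Set.range e) := ⟨e.isClosedEmbedding.isClosed_range, e.isOpenEmbedding.isOpen_range⟩
  haveI : IsFinite (𝟙 S) := inferInstance
  have hempty := eq_empty_of_isClopen_of_disjoint i ha (𝟙 S) (Set.range e)ᶜ hcl.compl
    (fun t ht hti => ht (hrange hti))
  haveI : Surjective e := ⟨by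
    intro s
    by_contra hs
    have : s ∈ (Set.range e)ᶜ := hs
    rw [hempty] at this
    exact this⟩
  haveI : IsIso e := (isIso_iff_isOpenImmersion_and_surjective e).2 ⟨inferInstance, inferInstance⟩
  rw [← cancel_epi e]
  exact congrArg (fun φ => φ.left) (equalizer.condition f₁ f₂)

end couple

end Groth.Agent.Lib.lead.HensSect
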