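import Mathlib
import Groth.Agent.Lib.lead.HensSectA
import Groth.Agent.Lib.Helper13.ZMTFinMain

/-!
# Sections of étale separated morphisms and clopen lifting along finite morphisms (EGA IV 18.5.11 a ⇒ b)
Part B: existence.
-/

set_option autoImplicit false
set_option linter.style.haveILetI false
universe u
open CategoryTheory CategoryTheory.Limits AlgebraicGeometry Opposite TopologicalSpace

namespace Groth.Agent.Lib.lead.HensSect

/-- Etale morphisms are locally quasi-finite. -/
theorem locallyQuasiFinite_of_etale {X Y : Scheme.{u}} (f : X ⟶ Y) [Etale f] :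
    LocallyQuasiFinite f := by
  refine ⟨fun {U} hU {V} hV e => ?_⟩
  have h := HasRingHomProperty.appLE (P := @Etale) f inferInstance ⟨U, hU⟩ ⟨V, hV⟩ e
  algebraize [(f.appLE U V e).hom]
  change Algebra.QuasiFinite _ _
  infer_instance

/-- a morphism into a pullback equalizing the two projections factors through the diagonal -/
theorem eq_comp_diagonal {X Y Z : Scheme.{u}} (q : X ⟶ Y) (m : Z ⟶ pullback q q)
    (h : m ≫ pullback.fst q q = m ≫ pullback.snd q q) :
    m = (m ≫ pullback.fst q q) ≫ pullback.diagonal q := by
  apply pullback.hom_ext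
  · simp
  · simp [h]

/-- If the base change of `q` along `i` is a monomorphism, the preimage of `range i` in
`X ×_Y X` is contained in the diagonal. -/
theorem mem_range_diagonal_of_mono {X Y Y₀ : Scheme.{u}} (q : X ⟶ Y) (i : Y₀ ⟶ Y)
    [Mono (pullback.snd q i)] (z : ↥(pullback q q))
    (hz : (pullback.fst q q ≫ q) z ∈ Set.range i) : z ∈ Set.range (pullback.diagonal q) := by
  let ρ : pullback q q ⟶ Y := pullback.fst q q ≫ q
  have hz' : z ∈ Set.range (pullback.fst ρ i) := by
    rw [Scheme.Pullback.range_fst]
    exact hz
  obtain ⟨z₀, rfl⟩ := hz'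
  let α : pullback ρ i ⟶ pullback q i :=
    pullback.lift (pullback.fst ρ i ≫ pullback.fst q q) (pullback.snd ρ i)
      (by rw [Category.assoc]; exact pullback.condition)
  let β : pullback ρ i ⟶ pullback q i :=
    pullback.lift (pullback.fst ρ i ≫ pullback.snd q q) (pullback.snd ρ i)
      (by rw [Category.assoc, ← pullback.condition]; exact pullback.condition)
  have hαβ : α = β := by
    rw [← cancel_mono (pullback.snd q i)]
    exact (pullback.lift_snd _ _ _).trans (pullback.lift_snd _ _ _).symm
  have heq : pullback.fst ρ i ≫ pullback.fst q q = pullback.fst ρ i ≫ pullback.snd q q := by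
    have h1 : α ≫ pullback.fst q i = pullback.fst ρ i ≫ pullback.fst q q := pullback.lift_fst _ _ _
    have h2 : β ≫ pullback.fst q i = pullback.fst ρ i ≫ pullback.snd q q := pullback.lift_fst _ _ _
    rw [← h1, ← h2, hαβ]
  have := eq_comp_diagonal q (pullback.fst ρ i) heq
  refine ⟨(pullback.fst ρ i ≫ pullback.fst q q) z₀, ?_⟩
  rw [← Scheme.Hom.comp_apply, ← this]

end Groth.Agent.Lib.lead.HensSect
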