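import Mathlib
import Groth.Agent.Lib.lead.QFCodimSp
import Groth.Agent.Lib.Helper3.AlgSpLocP4
import Groth.Agent.Lib.Helper3.AlgSpFibre

set_option autoImplicit false
universe u
open CategoryTheory CategoryTheory.Limits AlgebraicGeometry

namespace Groth.Agent.Lib.lead.QFDiscSp

open AlgSp Groth.Agent.Lib.Helper3 Groth.Agent.Lib.lead.QFCodim

variable {S : Scheme.{u}}

/-- In a locally Noetherian scheme, a generization with a local ring of the same dimension is
equal to the point. -/
theorem eq_of_specializes_of_dim_eq (X : Scheme.{u}) [IsLocallyNoetherian X] {x x' : X}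
    (h : x' ⤳ x)
    (hd : ringKrullDim (X.presheaf.stalk x') = ringKrullDim (X.presheaf.stalk x)) : x' = x := by
  obtain ⟨_, ⟨U, hU, rfl⟩, hxU, -⟩ := X.isBasis_affineOpens.exists_subset_of_mem_open
    (Set.mem_univ x) isOpen_univ
  have hx'U : x' ∈ U := h.mem_open U.2 hxU
  haveI : IsNoetherianRing Γ(X, U) := IsLocallyNoetherian.component_noetherian ⟨U, hU⟩
  let q := hU.primeIdealOf ⟨x, hxU⟩
  let q' := hU.primeIdealOf ⟨x', hx'U⟩
  have e1 : hU.fromSpec q = x := hU.fromSpec_primeIdealOf ⟨x, hxU⟩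
  have e2 : hU.fromSpec q' = x' := hU.fromSpec_primeIdealOf ⟨x', hx'U⟩
  have hle : q' ≤ q := by
    rw [PrimeSpectrum.le_iff_specializes]
    rw [← e1, ← e2] at h
    exact (hU.fromSpec.isOpenEmbedding.isEmbedding.specializes_iff).1 h
  rw [← e1, ← e2] at hd
  rw [Groth.Agent.Lib.Helper29.EffCart.ringKrullDim_stalk_fromSpec ⟨U, hU⟩ q',
    Groth.Agent.Lib.Helper29.EffCart.ringKrullDim_stalk_fromSpec ⟨U, hU⟩ q] at hd
  have hd' : q'.asIdeal.height = q.asIdeal.height := by exact_mod_cast hd
  by_contra hne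
  have hlt : q'.asIdeal < q.asIdeal := lt_of_le_of_ne hle (fun hh => hne (by
    rw [← e1, ← e2]; congr 1; exact PrimeSpectrum.ext hh))
  have := Ideal.height_strict_mono_of_isPrime hlt
  rw [hd'] at this
  exact lt_irrefl _ this


/-- The fibre of a chart over a field-valued point of the target chart is an étale chart of the
fibre of `f`. -/
theorem exists_etale_chart_fibre {X Y : Sp S} (f : X ⟶ Y) {V U K F : Over S}
    (b : (yon S).obj V ⟶ Y) (c : (yon S).obj U ⟶ pullback f b) (h : U ⟶ V)
    (hh : (yon S).map h = c ≫ pullback.snd f b) (hce : RepWith @Etale c)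
    (j : K ⟶ V) (ι : F ⟶ U) (t : F ⟶ K) (sqA : IsPullback ι t h j)
    {P : Sp S} (fst : P ⟶ X) (snd : P ⟶ (yon S).obj K)
    (sqB : IsPullback fst snd f ((yon S).map j ≫ b)) :
    ∃ ψ : (yon S).obj F ⟶ P, RepWith @Etale ψ ∧ ψ ≫ snd = (yon S).map t := by
  have hw : fst ≫ f = (snd ≫ (yon S).map j) ≫ b := by rw [sqB.w, Category.assoc]
  let m : P ⟶ pullback f b := pullback.lift fst (snd ≫ (yon S).map j) hw
  have hm1 : m ≫ pullback.fst f b = fst := pullback.lift_fst _ _ _
  have hm2 : m ≫ pullback.snd f b = snd ≫ (yon S).map j := pullback.lift_snd _ _ _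
  have sqM : IsPullback m snd (pullback.snd f b) ((yon S).map j) := by
    refine IsPullback.of_right ?_ hm2 (IsPullback.of_hasPullback f b)
    rw [hm1]
    exact sqB
  have sqA' : IsPullback ((yon S).map ι) ((yon S).map t) ((yon S).map h) ((yon S).map j) :=
    sqA.map (yon S)
  have hw2 : ((yon S).map ι ≫ c) ≫ pullback.snd f b = (yon S).map t ≫ (yon S).map j := by
    rw [Category.assoc, ← hh, sqA'.w]
  let ψ : (yon S).obj F ⟶ P := sqM.lift ((yon S).map ι ≫ c) ((yon S).map t) hw2
  have hψ1 : ψ ≫ m = (yon S).map ι ≫ c := sqM.lift_fst _ _ _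
  have hψ2 : ψ ≫ snd = (yon S).map t := sqM.lift_snd _ _ _
  refine ⟨ψ, ?_, hψ2⟩
  have top : IsPullback ((yon S).map ι) ψ c m := by
    refine IsPullback.of_bot ?_ hψ1.symm sqM
    rw [hψ2, ← hh]
    exact sqA'
  exact MorphismProperty.of_isPullback top hce


/-- A scheme locally quasi-finite over a one-point scheme is discrete. -/
theorem discreteTopology_of_locallyQuasiFinite_subsingleton {W K : Scheme.{u}} (ω : W ⟶ K)
    [LocallyQuasiFinite ω] [Subsingleton K] : DiscreteTopology W := by
  rw [discreteTopology_iff_isOpen_singleton]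
  intro w₀
  have hd := (ω.isDiscrete_preimage_singleton (ω w₀)).to_subtype
  have hs : ω ⁻¹' {ω w₀} = Set.univ := by
    ext z; simp only [Set.mem_preimage, Set.mem_singleton_iff, Set.mem_univ, iff_true]
    exact Subsingleton.elim _ _
  have hso : IsOpen (ω ⁻¹' {ω w₀}) := by rw [hs]; exact isOpen_univ
  have := hso.isOpenMap_subtype_val _ (isOpen_discrete ({⟨w₀, rfl⟩} : Set (ω ⁻¹' {ω w₀})))
  simpa using this

theorem discrete_of_locP {X Y : AlgSp.Space S} (f : X ⟶ Y)
    (hf' : LocP ((@LocallyQuasiFinite : MorphismProperty Scheme.{u}) ⊓ @LocallyOfFiniteType) f.hom)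
    {K : Over S} [Subsingleton K.left]
    (y : (yon S).obj K ⟶ Y.obj) (P : Sp S) (fst : P ⟶ X.obj) (snd : P ⟶ (yon S).obj K)
    (sq : IsPullback fst snd f.hom y) : DiscreteTopology (Points P) := by
  have hK : IsAlgSpace ((yon S).obj K) := IsAlgSpace.yon_obj K
  have hP : IsAlgSpace P := isAlgSpace_of_isPullback' Y.property X.property hK sq
  have hsnd : LocP ((@LocallyQuasiFinite : MorphismProperty Scheme.{u}) ⊓ @LocallyOfFiniteType) snd :=
    locP_of_isPullback isEtLocal_locallyQuasiFinite X.property Y.property hK hP f.hom y fst snd sq hf'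
  obtain ⟨W, w, hwe, hws⟩ := hP.atlas
  obtain ⟨ω, hω⟩ := (yon S).map_surjective (w ≫ snd)
  have hω' := hsnd w (𝟙 _) ω hwe (repWith_id @Etale _) (by rw [hω, Category.comp_id])
  haveI : LocallyQuasiFinite ω.left := hω'.1
  haveI := discreteTopology_of_locallyQuasiFinite_subsingleton ω.left
  rw [discreteTopology_iff_isOpen_singleton]
  intro p
  obtain ⟨w₀, rfl⟩ := exists_ofPt_eq w hws p
  have := isOpenMap_ofPt w hwe {w₀} (isOpen_discrete _)
  simpa using this


theorem locP_of_discrete {X Y : AlgSp.Space S} (f : X ⟶ Y)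
    (hf : LocP @LocallyOfFiniteType f.hom)
    (H : ∀ (k : Type u) [Field k] (str : Spec (CommRingCat.of k) ⟶ S)
        (y : (yon S).obj (Over.mk str) ⟶ Y.obj)
        (P : Sp S) (fst : P ⟶ X.obj) (snd : P ⟶ (yon S).obj (Over.mk str)),
        IsPullback fst snd f.hom y → DiscreteTopology (Points P)) :
    LocP ((@LocallyQuasiFinite : MorphismProperty Scheme.{u}) ⊓ @LocallyOfFiniteType) f.hom := by
  obtain ⟨V, b, hbe, hbs⟩ := Y.property.atlas
  obtain ⟨U, c, h, hce, -, hae, has, hh, hk⟩ := exists_chart_over X.property Y.property f.hom b hbe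
  have has' := has hbs
  haveI hlft : LocallyOfFiniteType h.left := hf _ b h hae hbe hk
  refine locP_of_chart isEtLocal_locallyQuasiFinite f.hom _ hae has' b hbe h hk ⟨?_, hlft⟩
  rw [← Scheme.Hom.quasiFiniteLocus_eq_top_iff]
  refine top_le_iff.mp fun u _ => ?_
  change h.left.QuasiFiniteAt u
  rw [Scheme.Hom.quasiFiniteAt_iff_isOpen_singleton_asFiber]
  suffices hdisc : ∀ v : V.left, DiscreteTopology (h.left.fiber v) by
    haveI := hdisc (h.left u)
    exact isOpen_discrete _
  intro v
  let k : Type u := V.left.residueField v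
  let str : Spec (CommRingCat.of k) ⟶ S := V.left.fromSpecResidueField v ≫ V.hom
  let K : Over S := Over.mk str
  let j : K ⟶ V := Over.homMk (V.left.fromSpecResidueField v) rfl
  let F : Over S := Over.mk (h.left.fiberι v ≫ U.hom)
  let ι : F ⟶ U := Over.homMk (h.left.fiberι v) rfl
  have ht : h.left.fiberToSpecResidueField v ≫ K.hom = F.hom := by
    change h.left.fiberToSpecResidueField v ≫ V.left.fromSpecResidueField v ≫ V.hom =
      h.left.fiberι v ≫ U.hom
    rw [← Category.assoc, ← h.left.fiber_fac v, Category.assoc, Over.w h]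
  let t : F ⟶ K := Over.homMk (h.left.fiberToSpecResidueField v) ht
  have sqA : IsPullback ι t h j :=
    IsPullback.of_map (Over.forget S) (by ext; exact h.left.fiber_fac v)
      (IsPullback.of_hasPullback h.left (V.left.fromSpecResidueField v))
  have sqB := IsPullback.of_hasPullback f.hom ((yon S).map j ≫ b)
  obtain ⟨ψ, hψe, -⟩ := exists_etale_chart_fibre f.hom b c h hh hce j ι t sqA _ _ sqB
  haveI := H k str ((yon S).map j ≫ b) _ _ _ sqB
  have : LocallyOfFiniteType (h.left.fiberToSpecResidueField v) :=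
    MorphismProperty.pullback_snd (P := @LocallyOfFiniteType) _ _ inferInstance
  haveI : IsLocallyNoetherian (h.left.fiber v) :=
    LocallyOfFiniteType.isLocallyNoetherian (h.left.fiberToSpecResidueField v)
  exact
    discreteTopology_of_forall_specializes_eq _ (fun z z' hz => by
      have h1 : Points.ofPt ψ z' ⤳ Points.ofPt ψ z := hz.map (Points.continuous_ofPt ψ)
      have h2 : Points.ofPt ψ z' = Points.ofPt ψ z := h1.eq
      exact eq_of_specializes_of_dim_eq _ hz
        (ringKrullDim_stalk_eq_of_ofPt_eq ψ ψ hψe hψe z' z h2))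

theorem main {X Y : AlgSp.Space S} (f : X ⟶ Y)
    (hf : AlgSp.LocP @LocallyOfFiniteType f.hom) :
    AlgSp.LocP ((@LocallyQuasiFinite : MorphismProperty Scheme.{u}) ⊓ @LocallyOfFiniteType) f.hom ↔
      ∀ (k : Type u) [Field k] (str : Spec (CommRingCat.of k) ⟶ S) (y : (AlgSp.yon S).obj (Over.mk str) ⟶ Y.obj)
        (P : AlgSp.Sp S) (fst : P ⟶ X.obj) (snd : P ⟶ (AlgSp.yon S).obj (Over.mk str)),
        IsPullback fst snd f.hom y → DiscreteTopology (AlgSp.Points P) := by
  constructor
  · intro hf' k _ str y P fst snd sq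
    haveI : Subsingleton (Over.mk str).left :=
      inferInstanceAs (Subsingleton (PrimeSpectrum k))
    exact discrete_of_locP f hf' y P fst snd sq
  · exact locP_of_discrete f hf

end Groth.Agent.Lib.lead.QFDiscSp
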