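import Mathlib
import Groth.Agent.Lib.lead.FlatGenDim
import Groth.Agent.Lib.lead.FibreDimRetro
import Groth.Agent.Lib.Helper18.Chev.Main
import Groth.Prelude.Def_Flat

set_option autoImplicit false
set_option linter.style.haveILetI false
universe u
open CategoryTheory CategoryTheory.Limits AlgebraicGeometry Topology

namespace Groth.Agent.Lib.lead.FlatDenseDim

open Groth.Agent.Lib.Helper18 Groth.Agent.Lib.lead

theorem exists_mul_pow_eq_zero {A : Type*} [CommRing A] (𝔭 : Ideal A) [𝔭.IsPrime] (a : A)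
    (h : ∀ 𝔮 : Ideal A, 𝔮.IsPrime → 𝔮 ≤ 𝔭 → a ∈ 𝔮) : ∃ h, h ∉ 𝔭 ∧ ∃ n : ℕ, h * a ^ n = 0 := by
  by_contra hcon
  push Not at hcon
  let N : Submonoid A := 𝔭.primeCompl ⊔ Submonoid.powers a
  have h0 : (0 : A) ∉ N := by
    intro h0
    obtain ⟨y, hy, z, ⟨n, rfl⟩, hyz⟩ := Submonoid.mem_sup.1 h0
    exact hcon y hy n hyz
  have hdisj : Disjoint ((⊥ : Ideal A) : Set A) (N : Set A) := by
    rw [Set.disjoint_left]
    intro b hb hbN
    have : b = 0 := hb
    rw [this] at hbN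
    exact h0 hbN
  obtain ⟨𝔮, h𝔮, -, hd⟩ := Ideal.exists_le_prime_disjoint (⊥ : Ideal A) N hdisj
  rw [Set.disjoint_left] at hd
  have hle : 𝔮 ≤ 𝔭 := by
    intro b hb
    by_contra hb'
    exact hd hb ((le_sup_left : 𝔭.primeCompl ≤ N) hb')
  exact hd (h 𝔮 h𝔮 hle) ((le_sup_right : Submonoid.powers a ≤ N) (Submonoid.mem_powers a))

/-- A dense retrocompact open subset of a scheme contains a generization of every point. -/
theorem exists_specializes_mem_of_dense_retrocompact {S : Scheme.{u}} (U : S.Opens)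
    (hU : Dense (U : Set S)) (hret : IsRetrocompact (U : Set S)) (s : S) :
    ∃ s' : S, s' ∈ U ∧ s' ⤳ s := by
  classical
  by_contra hcon
  push Not at hcon
  obtain ⟨V, hV, hsV, -⟩ := exists_isAffineOpen_mem_and_subset (x := s) (U := ⊤) trivial
  have hK : IsCompact (hV.fromSpec ⁻¹' (U : Set S)) ∧ IsOpen (hV.fromSpec ⁻¹' (U : Set S)) := by
    refine ⟨?_, U.isOpen.preimage hV.fromSpec.continuous⟩
    have h1 : IsCompact ((U : Set S) ∩ V) := hret hV.isCompact V.isOpen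
    have h2 : hV.fromSpec ⁻¹' (U : Set S) = hV.fromSpec ⁻¹' ((U : Set S) ∩ V) := by
      ext z
      simp only [Set.mem_preimage, Set.mem_inter_iff, iff_self_and]
      intro _
      have : hV.fromSpec z ∈ Set.range hV.fromSpec := ⟨z, rfl⟩
      rw [hV.range_fromSpec] at this
      exact this
    rw [h2]
    refine (hV.fromSpec.isOpenEmbedding.isInducing.isCompact_preimage_iff ?_).2 h1
    rw [hV.range_fromSpec]
    exact Set.inter_subset_right
  obtain ⟨t, ht⟩ := (PrimeSpectrum.isCompact_isOpen_iff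
    (s := (hV.fromSpec ⁻¹' (U : Set S) : Set (PrimeSpectrum Γ(S, V))))).1 hK
  set 𝔭 := hV.primeIdealOf ⟨s, hsV⟩ with h𝔭
  have h𝔭s : hV.fromSpec 𝔭 = s := hV.fromSpec_primeIdealOf ⟨s, hsV⟩
  have hmem : ∀ 𝔮 : PrimeSpectrum Γ(S, V), hV.fromSpec 𝔮 ∈ U ↔ ¬ (↑t ⊆ (𝔮.asIdeal : Set Γ(S, V))) := by
    intro 𝔮
    have : 𝔮 ∈ (PrimeSpectrum.zeroLocus (t : Set Γ(S, V)))ᶜ ↔ 𝔮 ∈ hV.fromSpec ⁻¹' (U : Set S) :=
      ht ▸ Iff.rfl
    rw [Set.mem_compl_iff, PrimeSpectrum.mem_zeroLocus] at this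
    exact this.symm
  have hgen : ∀ a ∈ t, ∃ h, h ∉ 𝔭.asIdeal ∧ ∃ n : ℕ, h * a ^ n = 0 := by
    intro a ha
    refine exists_mul_pow_eq_zero 𝔭.asIdeal a fun 𝔮 h𝔮 hle => ?_
    have h1 : (⟨𝔮, h𝔮⟩ : PrimeSpectrum Γ(S, V)) ⤳ 𝔭 :=
      (PrimeSpectrum.le_iff_specializes _ _).1 hle
    have h2 : hV.fromSpec (⟨𝔮, h𝔮⟩ : PrimeSpectrum Γ(S, V)) ⤳ s := by
      rw [← h𝔭s]
      exact h1.map hV.fromSpec.continuous
    have h3 := mt (hcon _) (not_not.2 h2)
    rw [hmem, not_not] at h3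
    exact h3 ha
  choose! hh hh1 hh2 using hgen
  set h : Γ(S, V) := ∏ a ∈ t, hh a with hdef
  have hh𝔭 : h ∉ 𝔭.asIdeal := by
    rw [hdef]
    intro hmem'
    obtain ⟨a, ha, ha'⟩ := (Ideal.IsPrime.prod_mem_iff (hp := 𝔭.isPrime)).1 hmem'
    exact hh1 a ha ha'
  -- the image of `D(h)` is a nonempty open subset of `S`
  have hopen : IsOpen (hV.fromSpec '' (PrimeSpectrum.basicOpen h : Set (PrimeSpectrum Γ(S, V)))) :=
    hV.fromSpec.isOpenEmbedding.isOpenMap _ (PrimeSpectrum.basicOpen h).isOpen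
  obtain ⟨_, ⟨𝔮, h𝔮, rfl⟩, h𝔮U⟩ := hU.inter_open_nonempty _ hopen ⟨s, 𝔭, hh𝔭, h𝔭s⟩
  have h𝔮U' := (hmem 𝔮).1 h𝔮U
  rw [Set.not_subset] at h𝔮U'
  obtain ⟨a, ha, ha'⟩ := h𝔮U'
  apply ha'
  obtain ⟨n, hn⟩ := hh2 a ha
  have h1 : hh a * a ^ n ∈ 𝔮.asIdeal := by rw [hn]; exact 𝔮.asIdeal.zero_mem
  have h2 : hh a ∉ 𝔮.asIdeal := by
    intro h2
    apply h𝔮
    show h ∈ 𝔮.asIdeal
    rw [hdef]
    exact Ideal.mem_of_dvd _ (Finset.dvd_prod_of_mem _ ha) h2
  have h3 := (Ideal.IsPrime.mem_or_mem 𝔮.isPrime h1).resolve_left h2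
  exact Ideal.IsPrime.mem_of_pow_mem 𝔮.isPrime n h3

open Groth.Agent.Lib.Helper24 in
/-- **Fibre dimension bound spreads from a dense open** (flat, locally of finite type). -/
theorem S1240 {X S : Scheme.{u}} (f : X ⟶ S) [Flat f] [LocallyOfFiniteType f]
    (U : S.Opens) (hU : Dense (U : Set S)) (e : ℕ)
    (hle : ∀ x : X, f.base x ∈ U → FlatMor.fibreDimAt f x ≤ e)
    (h : LocallyOfFinitePresentation f ∨ IsRetrocompact (U : Set S)) (x : X) :
    FlatMor.fibreDimAt f x ≤ e := by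
  rcases h with h | h
  · by_contra hx
    obtain ⟨V, hV, W, hW, e', hxW⟩ := FibreDim.exists_chart f x
    have hφfp : (f.appLE V W e').hom.FinitePresentation :=
      HasRingHomProperty.appLE (P := @LocallyOfFinitePresentation) f inferInstance
        ⟨V, hV⟩ ⟨W, hW⟩ e'
    have hφflat : (f.appLE V W e').hom.Flat := f.flat_appLE hV hW e'
    haveI : LocallyOfFinitePresentation (Spec.map (f.appLE V W e')) :=
      (HasRingHomProperty.Spec_iff (P := @LocallyOfFinitePresentation)).2 hφfp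
    haveI : Flat (Spec.map (f.appLE V W e')) :=
      (HasRingHomProperty.Spec_iff (P := @Flat)).2 hφflat
    have comm := IsAffineOpen.SpecMap_appLE_fromSpec f hV hW e'
    have hsq := fun w => Chev.fibreDimAt_eq_of_openImmersion_square (Spec.map (f.appLE V W e'))
      hV.fromSpec hW.fromSpec f comm w
    set g := Spec.map (f.appLE V W e') with hg
    let E : Set (Spec Γ(X, W)) := {w | ¬ FlatMor.fibreDimAt g w ≤ e}
    have hEc : IsConstructible E := by
      have h1 : IsOpen Eᶜ := by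
        have := Chev.isOpen_fibreDimAt_le g e
        convert this using 1
        ext w
        simp only [E, Set.mem_compl_iff, Set.mem_ofPred_eq, not_not]
      have h2 : IsRetrocompact Eᶜ := by
        have := FibreDimRetro.S9355 g e
        convert this using 1
        ext w
        simp only [E, Set.mem_compl_iff, Set.mem_ofPred_eq, not_not]
      exact (h2.isConstructible h1).of_compl
    have himg : IsConstructible (g '' E) := g.isConstructible_image hEc
    have hgen : StableUnderGeneralization (g '' E) := by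
      rintro _ v' hv ⟨w, hw, rfl⟩
      obtain ⟨w'', h1, h2, h3⟩ := FlatGenDim.exists_gen_fibreDimAt_le g w v' hv
      exact ⟨w'', fun h => hw (h3.trans h), h2⟩
    have hopen : IsOpen (g '' E) :=
      PrimeSpectrum.isOpen_of_stableUnderGeneralization_of_isConstructible hgen himg
    have hopen' : IsOpen (hV.fromSpec '' (g '' E)) :=
      hV.fromSpec.isOpenEmbedding.isOpenMap _ hopen
    have hw₀x : hW.fromSpec (hW.primeIdealOf ⟨x, hxW⟩) = x := hW.fromSpec_primeIdealOf ⟨x, hxW⟩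
    have hw₀ : hW.primeIdealOf ⟨x, hxW⟩ ∈ E := by
      have h2 := hsq (hW.primeIdealOf ⟨x, hxW⟩)
      rw [hw₀x] at h2
      show ¬ _
      intro h3
      apply hx
      rw [h2]
      exact h3
    obtain ⟨_, ⟨_, ⟨w, hw, rfl⟩, rfl⟩, hwU⟩ := hU.inter_open_nonempty _ hopen'
      ⟨_, _, ⟨_, hw₀, rfl⟩, rfl⟩
    have h1 : hV.fromSpec (g w) = f (hW.fromSpec w) := by
      rw [← Scheme.Hom.comp_apply, comm, Scheme.Hom.comp_apply]
    rw [h1] at hwU
    apply hw
    rw [← hsq]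
    exact hle _ hwU
  · obtain ⟨s', hs'U, hs'⟩ := exists_specializes_mem_of_dense_retrocompact U hU h (f x)
    obtain ⟨x'', h1, h2, h3⟩ := FlatGenDim.exists_gen_fibreDimAt_le f x s' hs'
    refine h3.trans (hle x'' ?_)
    show f x'' ∈ U
    rw [h2]
    exact hs'U


end Groth.Agent.Lib.lead.FlatDenseDim
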