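import Mathlib
import Groth.Agent.Lib.lead.FlatDenseDim
import Groth.Agent.Lib.lead.FlatRelDimSp
import Groth.Agent.Lib.Helper3.AlgSpChartPts
import Groth.Agent.Lib.Helper3.AlgSpLocP3
import Groth.Agent.Lib.Helper3.AlgSpHasAtMor
import Groth.Agent.Lib.Helper3.AlgSpPoints2
import Groth.Agent.Lib.Helper3.AlgSpQC
import Groth.Agent.Lib.Helper3.AlgSpDiag
import Groth.Agent.Lib.Helper3.AlgSpLocSrc2
import Groth.Prelude.Def_AlgSp4
import Groth.Prelude.Def_AlgSpDec
import Groth.Prelude.Def_Flat

set_option autoImplicit false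
set_option linter.style.haveILetI false
universe u
open CategoryTheory CategoryTheory.Limits AlgebraicGeometry Topology TopologicalSpace

namespace Groth.Agent.Lib.lead.FlatDenseDimSp

open Groth.Agent.Lib.lead Groth.Agent.Lib.Helper18 Groth.Agent.Lib.Helper3
open AlgSp

variable {S : Scheme.{u}}

theorem S10653 {X Y V : AlgSp.Space S} (f : X ⟶ Y) (j : V ⟶ Y) (d : ℕ)
    (hf1 : AlgSp.LocP @Flat f.hom) (hf2 : AlgSp.LocP @LocallyOfFiniteType f.hom)
    (hj1 : AlgSp.RepWith @IsOpenImmersion j.hom) (hj2 : Dense (Set.range (AlgSp.Points.map j.hom)))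
    (P : AlgSp.Space S) (fst : P ⟶ X) (snd : P ⟶ V) (hP : IsPullback fst.hom snd.hom f.hom j.hom)
    (hV : ∀ x, AlgSp.HasAtMor (fun _ _ h u => FlatMor.fibreDimAt h u ≤ (d : WithBot ℕ∞)) snd.hom x)
    (h : AlgSp.LocP @LocallyOfFinitePresentation f.hom ∨ AlgSp.IsQuasiCompactMor j.hom) :
    ∀ x, AlgSp.HasAtMor (fun _ _ h u => FlatMor.fibreDimAt h u ≤ (d : WithBot ℕ∞)) f.hom x := by
  intro x
  obtain ⟨V₀, b, hbe, hbs⟩ := Y.property.atlas
  obtain ⟨U, u, hh, -, -, hae, has, -, w⟩ := exists_chart_over X.property Y.property f.hom b hbe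
  have has := has hbs
  set a := u ≫ pullback.fst f.hom b with ha
  haveI : LocallyOfFiniteType hh.left := hf2 a b hh hae hbe w
  haveI : Flat hh.left := hf1 a b hh hae hbe w
  obtain ⟨u', rfl⟩ := exists_ofPt_eq a has x
  refine ⟨U, V₀, a, b, hh, u', hae, hbe, w, rfl, ?_⟩
  have hι : IsOpenImmersion (hj1.rep.snd b).left := hj1.property_snd b
  let Ω : V₀.left.Opens := (hj1.rep.snd b).left.opensRange
  have hΩ : (Ω : Set V₀.left) = Points.ofPt b ⁻¹' (Set.range (Points.map j.hom)) := by
    have := Points.ofPt_preimage_image (hj1.rep.isPullback b) Set.univ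
    rw [Set.image_univ, Set.preimage_univ, Set.image_univ] at this
    exact this.symm
  have hdense : Dense (Ω : Set V₀.left) := by
    rw [hΩ]; exact hj2.preimage (isOpenMap_ofPt b hbe)
  refine FlatDenseDim.S1240 hh.left Ω hdense d ?_ ?_ u'
  · intro u'' hu''
    have h1 : Points.ofPt b (hh.left u'') ∈ Set.range (Points.map j.hom) := by
      have : hh.left u'' ∈ (Ω : Set V₀.left) := hu''
      rw [hΩ] at this
      exact this
    obtain ⟨v, hv⟩ := h1
    have h2 : Points.map f.hom (Points.ofPt a u'') = Points.map j.hom v := by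
      rw [hv, Points.map_ofPt, w, Points.ofPt_yon_map_comp]
    obtain ⟨z, hz1, hz2⟩ := Points.exists_of_isPullback hP _ _ h2
    obtain ⟨U', V', a', b', h', u₂, ha', hb', w', hu₂, hq⟩ := hV z
    have hfst : RepWith @Etale fst.hom :=
      repWith_mono (fun _ _ g (hg : IsOpenImmersion g) => (inferInstance : Etale g))
        (MorphismProperty.of_isPullback hP.flip hj1)
    have hje : RepWith @Etale j.hom :=
      repWith_mono (fun _ _ g (hg : IsOpenImmersion g) => (inferInstance : Etale g)) hj1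
    have ha'' : RepWith @Etale (a' ≫ fst.hom) := MorphismProperty.comp_mem _ _ _ ha' hfst
    have hb'' : RepWith @Etale (b' ≫ j.hom) := MorphismProperty.comp_mem _ _ _ hb' hje
    have w'' : (a' ≫ fst.hom) ≫ f.hom = (yon S).map h' ≫ (b' ≫ j.hom) := by
      rw [Category.assoc, hP.w, ← Category.assoc, w', Category.assoc]
    haveI : LocallyOfFiniteType h'.left := hf2 _ _ h' ha'' hb'' w''
    rw [FlatRelDimSp.fibreDimAt_eq_of_charts f.hom a b hh (a' ≫ fst.hom) (b' ≫ j.hom) h' hae hbe
      ha'' hb'' w w'' u'' u₂ ?_]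
    · exact hq
    · rw [← hz1, ← hu₂]
      exact (Points.map_ofPt _ _ _)
  · rcases h with h | h
    · left; exact h a b hh hae hbe w
    · right
      intro K hK hKo
      let Ko : V₀.left.Opens := ⟨K, hKo⟩
      let T : Over S := Over.mk (Ko.ι ≫ V₀.hom)
      let φ : T ⟶ V₀ := Over.homMk Ko.ι rfl
      haveI : CompactSpace ↥Ko := isCompact_iff_compactSpace.mp hK
      have hT : IsQuasiCompactSp ((yon S).obj T) :=
        isQuasiCompactSp_yon (T := T) (inferInstanceAs (CompactSpace ↥Ko))
      have sq := hj1.rep.isPullback ((yon S).map φ ≫ b)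
      have hqc := h (IsAlgSpace.yon_obj T) hT _ _ _ sq
      haveI : CompactSpace ↥(hj1.rep.pullback ((yon S).map φ ≫ b)).left :=
        compactSpace_of_isQuasiCompactSp_yon hqc
      have h1 := Points.ofPt_preimage_image sq Set.univ
      rw [Set.image_univ, Set.preimage_univ, Set.image_univ] at h1
      have h2 : Points.ofPt ((yon S).map φ ≫ b) ⁻¹' Set.range (Points.map j.hom) =
          Ko.ι ⁻¹' (Ω : Set V₀.left) := by
        rw [hΩ]
        ext t
        simp only [Set.mem_preimage]
        rw [Points.ofPt_yon_map_comp]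
        rfl
      have h3 : IsCompact (Ko.ι ⁻¹' (Ω : Set V₀.left)) := by
        rw [← h2, h1]
        exact isCompact_range (hj1.rep.snd ((yon S).map φ ≫ b)).left.continuous
      have h4 : (Ω : Set V₀.left) ∩ K = Ko.ι '' (Ko.ι ⁻¹' (Ω : Set V₀.left)) := by
        rw [Set.image_preimage_eq_inter_range]
        congr 1
        exact (Scheme.Opens.range_ι Ko).symm
      rw [h4]
      exact h3.image Ko.ι.continuous


end Groth.Agent.Lib.lead.FlatDenseDimSp
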