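import Mathlib
import Groth.Agent.Lib.Helper3.AlgSpChartPts
import Groth.Agent.Lib.Helper3.AlgSpLocP3

set_option autoImplicit false
universe u
open CategoryTheory CategoryTheory.Limits AlgebraicGeometry

namespace Groth.Agent.Lib.lead.JacobsonEt

open AlgSp Groth.Agent.Lib.Helper3

/-- In a scheme, every nonempty locally closed subset contains a point whose singleton is locally
closed. -/
theorem exists_isLocallyClosed_singleton (X : Scheme.{u}) {Z : Set X} (hZ : Z.Nonempty)
    (hZ' : IsLocallyClosed Z) : ∃ p ∈ Z, IsLocallyClosed ({p} : Set X) := by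
  obtain ⟨O, C, hO, hC, rfl⟩ := hZ'
  obtain ⟨z, hzO, hzC⟩ := hZ
  obtain ⟨_, ⟨D, hD, rfl⟩, hzD, hDO⟩ := X.isBasis_affineOpens.exists_subset_of_mem_open hzO hO
  let D' : Set X := D
  haveI : CompactSpace ↥D' := isCompact_iff_compactSpace.1 hD.isCompact
  have hS : IsClosed ((Subtype.val : ↥D' → X) ⁻¹' C) := hC.preimage continuous_subtype_val
  obtain ⟨p, hpC, hp⟩ := hS.exists_closed_singleton ⟨⟨z, hzD⟩, hzC⟩
  refine ⟨p.1, ⟨hDO p.2, hpC⟩, ?_⟩
  have := hp.isLocallyClosed.image (f := (Subtype.val : ↥D' → X))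
    Topology.IsInducing.subtypeVal (by
      rw [Subtype.range_coe]; exact D.isOpen.isLocallyClosed)
  simpa using this

/-- The Jacobson property descends along surjective etale morphisms. -/
theorem jacobsonSpace_of_etale_surjective {X' X : Scheme.{u}} (f : X' ⟶ X) [Etale f] [Surjective f]
    [JacobsonSpace X'] : JacobsonSpace X := by
  rw [jacobsonSpace_iff_locallyClosed]
  intro Z hZ hZ'
  obtain ⟨p, hpZ, hp⟩ := exists_isLocallyClosed_singleton X hZ hZ'
  refine ⟨p, hpZ, ?_⟩
  change IsClosed {p}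
  rw [← closure_eq_iff_isClosed]
  apply subset_antisymm _ subset_closure
  intro m hm
  have hpm : p ⤳ m := specializes_iff_mem_closure.2 hm
  obtain ⟨m', rfl⟩ := f.surjective m
  obtain ⟨p', hp'm, hp'p⟩ := (Flat.generalizingMap (f := f)) hpm
  haveI : LocallyQuasiFinite f := locallyQuasiFinite_of_unramified f
  have hdisc := (f.isDiscrete_preimage_singleton p).to_subtype
  have hfib : IsLocallyClosed (f ⁻¹' {p}) := hp.preimage f.continuous
  have hopen : IsOpen ({⟨p', hp'p⟩} : Set (f ⁻¹' {p})) := isOpen_discrete _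
  have hlc : IsLocallyClosed ({p'} : Set X') := by
    have := hopen.isLocallyClosed.image (f := (Subtype.val : (f ⁻¹' {p}) → X'))
      Topology.IsInducing.subtypeVal (by rw [Subtype.range_coe]; exact hfib)
    simpa using this
  have hcl : IsClosed ({p'} : Set X') := isClosed_singleton_of_isLocallyClosed_singleton hlc
  have : m' = p' := by
    have := hp'm.mem_closed hcl (Set.mem_singleton p')
    simpa using this
  rw [this, hp'p]; rfl

variable {S : Scheme.{u}}

theorem main (X : AlgSp.Space S)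
    (hX : AlgSp.EtaleLocally (fun U => JacobsonSpace ↥U) X.obj)
    (x : AlgSp.Points X.obj) (hx : AlgSp.HasAt (fun U u => IsClosed ({u} : Set ↥U)) X.obj x)
    {W : Over S} (g : (AlgSp.yon S).obj W ⟶ X.obj)
    (hg : AlgSp.LocP @LocallyOfFiniteType g) (hxW : x ∈ Set.range (AlgSp.Points.ofPt g)) :
    ∃ w : ↥W.left, IsClosed ({w} : Set ↥W.left) ∧ AlgSp.Points.ofPt g w = x := by
  obtain ⟨V, b, hbe, hbs, hV⟩ := hX
  obtain ⟨U, a, u, hae, hau, hu⟩ := hx
  obtain ⟨w0, hw0⟩ := hxW
  haveI : JacobsonSpace V.left := hV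
  -- Step 1: `x` is the image of a closed point of the Jacobson atlas
  obtain ⟨W1, pV, pU, sq1⟩ := exists_pullback_charts b hbe.1 a
  haveI : Surjective pU.left := hbs.2 a _ pU sq1
  haveI : Etale pV.left := hae.2 b _ pV sq1.flip
  haveI : JacobsonSpace W1.left := LocallyOfFiniteType.jacobsonSpace pV.left
  obtain ⟨t, htu, ht⟩ := nonempty_inter_closedPoints (X := W1.left) (Z := pU.left ⁻¹' {u})
    (by obtain ⟨t, ht⟩ := pU.left.surjective u; exact ⟨t, ht⟩)
    (hu.preimage pU.left.continuous).isLocallyClosed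
  have hv : IsClosed ({pV.left t} : Set V.left) :=
    pV.left.closePoints_subset_preimage_closedPoints ht
  have hbv : Points.ofPt b (pV.left t) = x := by
    rw [ofPt_comm_of_isPullback sq1 t, ← hau]
    exact congrArg _ htu
  -- Step 2
  obtain ⟨W2, qV, qW, sq2⟩ := exists_pullback_charts b hbe.1 g
  haveI : Surjective qW.left := hbs.2 g _ qW sq2
  haveI : Etale qW.left := hbe.2 g _ qW sq2
  haveI : LocallyOfFiniteType qV.left :=
    hg ((yon S).map qW) b qV ((repWith_yon_map_iff _ _).2 inferInstance) hbe sq2.w.symm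
  haveI : JacobsonSpace W2.left := LocallyOfFiniteType.jacobsonSpace qV.left
  haveI : JacobsonSpace W.left := jacobsonSpace_of_etale_surjective qW.left
  obtain ⟨s0, hs0v, hs0w⟩ := exists_of_ofPt_eq_of_isPullback sq2 (pV.left t) w0 (by rw [hbv, hw0])
  obtain ⟨s, hsv, hs⟩ := nonempty_inter_closedPoints (X := W2.left)
    (Z := qV.left ⁻¹' {pV.left t}) ⟨s0, hs0v⟩ (hv.preimage qV.left.continuous).isLocallyClosed
  refine ⟨qW.left s, qW.left.closePoints_subset_preimage_closedPoints hs, ?_⟩
  rw [← ofPt_comm_of_isPullback sq2 s, ← hbv]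
  exact congrArg _ hsv

end Groth.Agent.Lib.lead.JacobsonEt
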