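import Mathlib
import Groth.Agent.Lib.lead.JacobsonEt
import Groth.Agent.Lib.Helper3.AlgSpGenLift
import Groth.Agent.Lib.Helper3.AlgSpHasAtMor

set_option autoImplicit false
universe u
open CategoryTheory CategoryTheory.Limits AlgebraicGeometry

namespace Groth.Agent.Lib.lead.JacobsonDecent

open AlgSp Groth.Agent.Lib.Helper3 Groth.Agent.Lib.lead.JacobsonEt

variable {S : Scheme.{u}}

/-- In a Jacobson scheme, a point of a closed fibre of a locally quasi-finite morphism is closed. -/
theorem isClosed_singleton_of_fibre {W U : Scheme.{u}} (p : W ⟶ U) [LocallyQuasiFinite p]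
    [JacobsonSpace W] (t : W) (ht : IsClosed ({p t} : Set U)) : IsClosed ({t} : Set W) := by
  have hdisc := (p.isDiscrete_preimage_singleton (p t)).to_subtype
  have hfib : IsLocallyClosed (p ⁻¹' {p t}) := (ht.preimage p.continuous).isLocallyClosed
  have hopen : IsOpen ({⟨t, rfl⟩} : Set (p ⁻¹' {p t})) := isOpen_discrete _
  have hlc : IsLocallyClosed ({t} : Set W) := by
    have := hopen.isLocallyClosed.image (f := (Subtype.val : (p ⁻¹' {p t}) → W))
      Topology.IsInducing.subtypeVal (by rw [Subtype.range_coe]; exact hfib)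
    simpa using this
  exact isClosed_singleton_of_isLocallyClosed_singleton hlc

/-- Over a finite type point of a Jacobson algebraic space, every point of a Jacobson atlas is
closed. -/
theorem isClosed_singleton_of_ofPt_eq (X : AlgSp.Space S) {V : Over S} (b : (yon S).obj V ⟶ X.obj)
    (hbe : RepWith @Etale b) [JacobsonSpace V.left]
    (x : AlgSp.Points X.obj) (hx : AlgSp.HasAt (fun U u => IsClosed ({u} : Set ↥U)) X.obj x)
    (v : V.left) (hv : Points.ofPt b v = x) : IsClosed ({v} : Set V.left) := by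
  obtain ⟨U, a, u, hae, hau, hu⟩ := hx
  obtain ⟨W1, pV, pU, sq1⟩ := exists_pullback_charts b hbe.1 a
  haveI : Etale pU.left := hbe.2 a _ pU sq1
  haveI : Etale pV.left := hae.2 b _ pV sq1.flip
  haveI : JacobsonSpace W1.left := LocallyOfFiniteType.jacobsonSpace pV.left
  haveI : LocallyQuasiFinite pU.left := locallyQuasiFinite_of_unramified pU.left
  obtain ⟨t, htv, htu⟩ := exists_of_ofPt_eq_of_isPullback sq1 v u (hv.trans hau.symm)
  have ht : IsClosed ({t} : Set W1.left) :=
    isClosed_singleton_of_fibre pU.left t (by rw [htu]; exact hu)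
  rw [← htv]
  exact pV.left.closePoints_subset_preimage_closedPoints ht

theorem main (X : AlgSp.Space S) (hd : AlgSp.IsDecent X.obj)
    (hX : AlgSp.EtaleLocally (fun U => JacobsonSpace ↥U) X.obj) (x : AlgSp.Points X.obj) :
    AlgSp.HasAt (fun U u => IsClosed ({u} : Set ↥U)) X.obj x ↔
      IsClosed ({x} : Set (AlgSp.Points X.obj)) := by
  obtain ⟨V, b, hbe, hbs, hV⟩ := hX
  haveI : JacobsonSpace V.left := hV
  constructor
  · intro hx
    rw [← closure_eq_iff_isClosed]
    apply subset_antisymm _ subset_closure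
    intro x' hx'
    have hsp : x ⤳ x' := specializes_iff_mem_closure.2 hx'
    obtain ⟨p, hp, -, hpq⟩ := hd x
    obtain ⟨v', hv'⟩ := exists_ofPt_eq b hbs x'
    obtain ⟨v, hvv', hv⟩ := exists_specializes_lift_of_qc_point x' p (hp ▸ hsp) hpq b hbe v' hv'
    have hvc := isClosed_singleton_of_ofPt_eq X b hbe x hx v (hv.trans hp)
    have : v' = v := by simpa using hvv'.mem_closed hvc (Set.mem_singleton v)
    rw [Set.mem_singleton_iff, ← hv', this, hv, hp]
  · intro hx
    obtain ⟨v, hvx, hv⟩ := nonempty_inter_closedPoints (X := V.left) (Z := Points.ofPt b ⁻¹' {x})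
      (by obtain ⟨v, hv⟩ := exists_ofPt_eq b hbs x; exact ⟨v, hv⟩)
      (hx.preimage (Points.continuous_ofPt b)).isLocallyClosed
    exact ⟨V, b, v, hbe, hvx, hv⟩

end Groth.Agent.Lib.lead.JacobsonDecent
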