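import Mathlib
import Groth.Agent.Lib.lead.JacobsonDecent
import Groth.Agent.Lib.lead.QFCodim

set_option autoImplicit false
universe u
open CategoryTheory CategoryTheory.Limits AlgebraicGeometry

namespace Groth.Agent.Lib.lead.DecentFibre

open AlgSp Groth.Agent.Lib.Helper3 Groth.Agent.Lib.lead.JacobsonEt Groth.Agent.Lib.lead.QFCodim
  Groth.Agent.Lib.lead.JacobsonDecent

variable {S : Scheme.{u}}

/-- The part of the fibre of an etale chart over a quasi-compact field point lying in a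
quasi-compact open is finite. -/
theorem finite_fibre_inter_affine {X : Sp S} (p : FieldPt X) (hq : RepWith @QuasiCompact p.toHom)
    {U : Over S} (a : (yon S).obj U ⟶ X) (ha : RepWith @Etale a) (W₀ : U.left.Opens)
    (hW₀ : IsAffineOpen W₀) :
    {w : U.left | w ∈ W₀ ∧ Points.ofPt a w = Points.mk p}.Finite := by
  have haff : IsAffine (Over.mk (W₀.ι ≫ U.hom)).left := hW₀
  have : CompactSpace ↥(Over.mk (W₀.ι ≫ U.hom)).left := inferInstance
  have hae := chartRestrict_etale a ha W₀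
  have hfin := finite_fibre_of_qc_point p hq (chartRestrict a W₀) hae
  refine (hfin.image W₀.ι).subset ?_
  rintro w ⟨hw, hwp⟩
  refine ⟨(⟨w, hw⟩ : ↥W₀), ?_, rfl⟩
  change Points.ofPt (chartRestrict a W₀) _ = _
  rw [ofPt_chartRestrict]; exact hwp

/-- There are no nontrivial specializations in the fibre of an etale chart over a point
represented by a quasi-compact field point. -/
theorem eq_of_specializes_of_ofPt_eq {X : Sp S} (p : FieldPt X)
    (hq : RepWith @QuasiCompact p.toHom)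
    {U : Over S} (a : (yon S).obj U ⟶ X) (ha : RepWith @Etale a) {u u' : U.left}
    (hu : Points.ofPt a u = Points.mk p) (hu' : Points.ofPt a u' = Points.mk p) (h : u ⤳ u') :
    u = u' := by
  by_contra hne
  obtain ⟨_, ⟨W₀, hW₀, rfl⟩, hu'W, -⟩ := (U.left.isBasis_affineOpens).exists_subset_of_mem_open
    (Set.mem_univ u') isOpen_univ
  have hfin := finite_fibre_inter_affine p hq a ha W₀ hW₀
  -- a point of the finite set which is minimal for generization
  obtain ⟨w', hw'mem, hw'min⟩ : ∃ w' ∈ {w : U.left | w ∈ W₀ ∧ Points.ofPt a w = Points.mk p},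
      ∀ w ∈ {w : U.left | w ∈ W₀ ∧ Points.ofPt a w = Points.mk p}, w ⤳ w' → w = w' := by
    letI := specializationPreorder U.left
    obtain ⟨w', hw'⟩ := hfin.exists_maximal ⟨u', hu'W, hu'⟩
    refine ⟨w', hw'.1, fun w hw hsp => ?_⟩
    exact (hsp.antisymm (hw'.2 hw hsp)).eq
  obtain ⟨R, s, t, sq⟩ := exists_pullback_charts a ha.1 a
  haveI : Etale t.left := ha.2 a _ t sq
  haveI : Etale s.left := ha.2 a _ s sq.flip
  obtain ⟨r, hrs, hrt⟩ := exists_of_ofPt_eq_of_isPullback sq u' w' (hu'.trans hw'mem.2.symm)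
  obtain ⟨r₁, hr₁r, hr₁u⟩ := (Flat.generalizingMap (f := s.left)) (hrs ▸ h)
  have hw : t.left r₁ ⤳ w' := hrt ▸ hr₁r.map t.left.continuous
  have hwΦ : Points.ofPt a (t.left r₁) = Points.mk p := by
    rw [← ofPt_comm_of_isPullback sq r₁, hr₁u]; exact hu
  have hwW : t.left r₁ ∈ W₀ := hw.mem_open W₀.2 hw'mem.1
  have heq : t.left r₁ = w' := hw'min _ ⟨hwW, hwΦ⟩ hw
  haveI : LocallyQuasiFinite t.left := locallyQuasiFinite_of_unramified t.left
  have : r = r₁ := eq_of_specializes_of_quasiFiniteAt t.left (t.left.quasiFiniteAt r₁) hr₁r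
    (by rw [hrt, heq])
  apply hne
  rw [← hr₁u, ← this, hrs]

theorem main (X : AlgSp.Space S) (hd : AlgSp.IsDecent X.obj) :
    AlgSp.EtaleLocally (fun U => JacobsonSpace ↥U) X.obj ↔
      JacobsonSpace (AlgSp.Points X.obj) := by
  constructor
  · intro hX
    rw [jacobsonSpace_iff_locallyClosed]
    intro Z hZ hZ'
    obtain ⟨V, b, hbe, hbs, hV⟩ := hX
    haveI : JacobsonSpace V.left := hV
    obtain ⟨z, hz⟩ := hZ
    obtain ⟨v0, hv0⟩ := exists_ofPt_eq b hbs z
    obtain ⟨v, hvZ, hv⟩ := nonempty_inter_closedPoints (X := V.left)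
      (Z := Points.ofPt b ⁻¹' Z) ⟨v0, by rw [Set.mem_preimage, hv0]; exact hz⟩
      (hZ'.preimage (Points.continuous_ofPt b))
    refine ⟨Points.ofPt b v, hvZ, ?_⟩
    exact (JacobsonDecent.main X hd ⟨V, b, hbe, hbs, hV⟩ _).1 ⟨V, b, v, hbe, rfl, hv⟩
  · intro hJ
    obtain ⟨V, b, hbe, hbs⟩ := X.property.atlas
    refine ⟨V, b, hbe, hbs, ?_⟩
    change JacobsonSpace ↥V.left
    rw [jacobsonSpace_iff_locallyClosed]
    intro Z hZ hZ'
    obtain ⟨p, hpZ, hp⟩ := exists_isLocallyClosed_singleton V.left hZ hZ'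
    refine ⟨p, hpZ, ?_⟩
    obtain ⟨q, hq, -, hqq⟩ := hd (Points.ofPt b p)
    obtain ⟨O, C, hO, hC, hOC⟩ := hp
    have hpOC : p ∈ O ∩ C := hOC ▸ Set.mem_singleton p
    obtain ⟨_, ⟨W₀, hW₀, rfl⟩, hpW, hWO⟩ :=
      V.left.isBasis_affineOpens.exists_subset_of_mem_open hpOC.1 hO
    have hfin := finite_fibre_inter_affine q hqq b hbe W₀ hW₀
    let Ψ' : Set V.left := {w : V.left | w ∈ W₀ ∧ Points.ofPt b w = Points.mk q} \ {p}
    have hΨ'fin : Ψ'.Finite := hfin.subset Set.diff_subset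
    let K : Set V.left := ⋃ w ∈ Ψ', closure {w}
    have hK : IsClosed K := hΨ'fin.isClosed_biUnion (fun _ _ => isClosed_closure)
    have hpK : p ∉ K := by
      intro hpK
      simp only [K, Set.mem_iUnion] at hpK
      obtain ⟨w, hw, hpw⟩ := hpK
      exact hw.2 (eq_of_specializes_of_ofPt_eq q hqq b hbe hw.1.2 hq.symm
        (specializes_iff_mem_closure.2 hpw))
    let O' : Set V.left := (W₀ : Set V.left) ∩ Kᶜ
    have hO' : IsOpen O' := W₀.2.inter hK.isOpen_compl
    have hpO' : p ∈ O' := ⟨hpW, hpK⟩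
    have hΦ : ∀ w ∈ O', Points.ofPt b w = Points.mk q → w = p := by
      intro w hw hwq
      by_contra hne
      exact hw.2 (Set.mem_biUnion (show w ∈ Ψ' from ⟨⟨hw.1, hwq⟩, hne⟩) (subset_closure rfl))
    have hN : IsOpen (Points.ofPt b '' O') := isOpenMap_ofPt b hbe _ hO'
    have hx_lc : IsLocallyClosed ({Points.ofPt b p} : Set (Points X.obj)) := by
      refine ⟨Points.ofPt b '' O', closure {Points.ofPt b p}, hN, isClosed_closure, ?_⟩
      ext y
      constructor
      · rintro rfl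
        exact ⟨⟨p, hpO', rfl⟩, subset_closure rfl⟩
      · rintro ⟨⟨o, ho, rfl⟩, hy⟩
        have hsp : Points.mk q ⤳ Points.ofPt b o := hq ▸ specializes_iff_mem_closure.2 hy
        obtain ⟨o', ho'o, ho'⟩ := exists_specializes_lift_of_qc_point _ q hsp hqq b hbe o rfl
        have ho'O : o' ∈ O' := ho'o.mem_open hO' ho
        have h1 : o' = p := hΦ o' ho'O ho'
        rw [h1] at ho'o
        have hoC : o ∈ C := ho'o.mem_closed hC hpOC.2
        have h2 : o ∈ ({p} : Set V.left) := hOC ▸ ⟨hWO ho.1, hoC⟩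
        rw [Set.mem_singleton_iff] at h2
        rw [h2]; rfl
    have hx_cl : IsClosed ({Points.ofPt b p} : Set (Points X.obj)) :=
      isClosed_singleton_of_isLocallyClosed_singleton hx_lc
    change IsClosed {p}
    rw [← closure_eq_iff_isClosed]
    apply subset_antisymm _ subset_closure
    intro m hm
    have hpm : p ⤳ m := specializes_iff_mem_closure.2 hm
    have hbm : Points.ofPt b m = Points.ofPt b p :=
      (hpm.map (Points.continuous_ofPt b)).mem_closed hx_cl rfl
    exact (eq_of_specializes_of_ofPt_eq q hqq b hbe hq.symm (hbm.trans hq.symm) hpm).symm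

end Groth.Agent.Lib.lead.DecentFibre
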