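import Mathlib
import Groth.Prelude.Def_MoreMor

/-!
# Fibre integrals via geometric points

`fibreIntegral π w v` is rewritten as a sum over the geometric points of the fibre of `π` over `v`
with values in an algebraically closed field.
-/

set_option autoImplicit false
set_option linter.style.haveILetI false
universe u

namespace Groth.Agent.Lib.lead.WtA

open AlgebraicGeometry CategoryTheory Limits IsLocalRing

variable {U V : Scheme.{u}}

/-- Cancellation of `fromSpecResidueField`. -/
theorem specMap_fromSpecResidueField_inj {X : Scheme.{u}} {Ω : Type u} [Field Ω] (x : X)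
    (a b : X.residueField x ⟶ CommRingCat.of Ω)
    (h : Spec.map a ≫ X.fromSpecResidueField x = Spec.map b ≫ X.fromSpecResidueField x) :
    a = b := by
  have h1 := (Scheme.SpecToEquivOfField Ω X).symm.injective (a₁ := ⟨x, a⟩) (a₂ := ⟨x, b⟩) h
  exact eq_of_heq (Sigma.mk.inj_iff.mp h1).2

/-- Geometric points of `π` over `v` with values in `Ω`. -/
def GeomPts (π : U ⟶ V) (v : V) (Ω : Type u) [Field Ω]
    (ι : V.residueField v ⟶ CommRingCat.of Ω) : Type u :=
  {σ : Spec (CommRingCat.of Ω) ⟶ U // σ ≫ π = Spec.map ι ≫ V.fromSpecResidueField v}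

section

variable {π : U ⟶ V} {v : V} {Ω : Type u} [Field Ω] {ι : V.residueField v ⟶ CommRingCat.of Ω}

theorem GeomPts.pi_pt (σ : GeomPts π v Ω ι) : π (σ.1 (closedPoint Ω)) = v := by
  rw [← Scheme.Hom.comp_apply, σ.2, Scheme.Hom.comp_apply, Scheme.fromSpecResidueField_apply]

/-- The underlying point of a geometric point. -/
noncomputable def GeomPts.pt (σ : GeomPts π v Ω ι) : {u : U // π u = v} := ⟨σ.1 (closedPoint Ω), σ.pi_pt⟩

end

/-- Embeddings of the residue field at `u` into `Ω` compatible with `ι`. -/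
def Emb (π : U ⟶ V) (v : V) (Ω : Type u) [Field Ω]
    (ι : V.residueField v ⟶ CommRingCat.of Ω) (u : {u : U // π u = v}) : Type u :=
  {φ : U.residueField u.1 ⟶ CommRingCat.of Ω //
    π.residueFieldMap u.1 ≫ φ = (V.residueFieldCongr u.2).hom ≫ ι}

section

variable {π : U ⟶ V} {v : V} {Ω : Type u} [Field Ω] {ι : V.residueField v ⟶ CommRingCat.of Ω}

theorem Emb.comp_eq (u : {u : U // π u = v}) (φ : Emb π v Ω ι u) :
    (Spec.map φ.1 ≫ U.fromSpecResidueField u.1) ≫ π =
      Spec.map ι ≫ V.fromSpecResidueField v := by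
  rw [Category.assoc, ← Scheme.Hom.SpecMap_residueFieldMap_fromSpecResidueField,
    ← Spec.map_comp_assoc, φ.2, Spec.map_comp_assoc,
    Scheme.residueFieldCongr_fromSpecResidueField]

/-- The geometric point attached to an embedding. -/
noncomputable def Emb.toGeomPts (u : {u : U // π u = v}) (φ : Emb π v Ω ι u) :
    {σ : GeomPts π v Ω ι // σ.pt = u} :=
  ⟨⟨Spec.map φ.1 ≫ U.fromSpecResidueField u.1, Emb.comp_eq u φ⟩, by
    apply Subtype.ext
    show (Spec.map φ.1 ≫ U.fromSpecResidueField u.1) (closedPoint Ω) = u.1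
    rw [Scheme.Hom.comp_apply, Scheme.fromSpecResidueField_apply]⟩

theorem Emb.toGeomPts_bijective (u : {u : U // π u = v}) :
    Function.Bijective (Emb.toGeomPts (ι := ι) u) := by
  constructor
  · intro φ φ' h
    have h1 : Spec.map φ.1 ≫ U.fromSpecResidueField u.1 =
        Spec.map φ'.1 ≫ U.fromSpecResidueField u.1 := congrArg (fun s => s.1.1) h
    exact Subtype.ext (specMap_fromSpecResidueField_inj u.1 _ _ h1)
  · rintro ⟨σ, hσ⟩
    have e : σ.1 (closedPoint Ω) = u.1 := congrArg Subtype.val hσ
    set ψ := Scheme.descResidueField (Scheme.stalkClosedPointTo σ.1) with hψ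
    have hψ' : Spec.map ψ ≫ U.fromSpecResidueField (σ.1 (closedPoint Ω)) = σ.1 :=
      Scheme.descResidueField_stalkClosedPointTo_fromSpecResidueField Ω U σ.1
    let φ : U.residueField u.1 ⟶ CommRingCat.of Ω := (U.residueFieldCongr e).inv ≫ ψ
    have hφ : Spec.map φ ≫ U.fromSpecResidueField u.1 = σ.1 := by
      show Spec.map ((U.residueFieldCongr e).inv ≫ ψ) ≫ _ = _
      rw [Spec.map_comp_assoc, Scheme.residueFieldCongr_inv,
        Scheme.residueFieldCongr_fromSpecResidueField, hψ']
    have hcond : π.residueFieldMap u.1 ≫ φ = (V.residueFieldCongr u.2).hom ≫ ι := by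
      apply specMap_fromSpecResidueField_inj (π u.1)
      rw [Spec.map_comp_assoc, Scheme.Hom.SpecMap_residueFieldMap_fromSpecResidueField,
        ← Category.assoc, hφ, σ.2, Spec.map_comp_assoc,
        Scheme.residueFieldCongr_fromSpecResidueField]
    refine ⟨⟨φ, hcond⟩, ?_⟩
    apply Subtype.ext
    apply Subtype.ext
    exact hφ

/-- Embeddings are algebra homomorphisms for the evident algebra structures. -/
theorem card_emb (u : {u : U // π u = v}) [IsAlgClosed Ω]
    (halg : letI := (π.residueFieldMap u.1).hom.toAlgebra;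
      Algebra.IsAlgebraic (V.residueField (π u.1)) (U.residueField u.1)) :
    Nat.card (Emb π v Ω ι u) =
      (letI := (π.residueFieldMap u.1).hom.toAlgebra;
        Field.finSepDegree (V.residueField (π u.1)) (U.residueField u.1)) := by
  letI := (π.residueFieldMap u.1).hom.toAlgebra
  letI : Algebra (V.residueField (π u.1)) Ω := ((V.residueFieldCongr u.2).hom ≫ ι).hom.toAlgebra
  rw [Field.finSepDegree_eq_of_isAlgClosed (V.residueField (π u.1)) (U.residueField u.1) Ω]
  apply Nat.card_congr
  exact
    { toFun := fun φ =>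
        { toRingHom := φ.1.hom
          commutes' := fun r => by
            have := congrArg (fun t => t.hom r) φ.2
            simp only [CommRingCat.hom_comp, RingHom.comp_apply] at this
            exact this }
      invFun := fun a => ⟨CommRingCat.ofHom a.toRingHom, by
        ext r
        exact a.commutes r⟩
      left_inv := fun φ => by
        apply Subtype.ext
        rfl
      right_inv := fun a => by
        ext r
        rfl }

theorem card_fibre (u : {u : U // π u = v}) [IsAlgClosed Ω]
    (halg : letI := (π.residueFieldMap u.1).hom.toAlgebra;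
      Algebra.IsAlgebraic (V.residueField (π u.1)) (U.residueField u.1)) :
    Nat.card {σ : GeomPts π v Ω ι // σ.pt = u} =
      (letI := (π.residueFieldMap u.1).hom.toAlgebra;
        Field.finSepDegree (V.residueField (π u.1)) (U.residueField u.1)) := by
  rw [← card_emb (ι := ι) u halg]
  exact (Nat.card_eq_of_bijective _ (Emb.toGeomPts_bijective u)).symm

theorem finite_geomPts [IsAlgClosed Ω] (hfin : Finite {u : U // π u = v})
    (hfd : ∀ u : {u : U // π u = v}, letI := (π.residueFieldMap u.1).hom.toAlgebra;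
      Module.Finite (V.residueField (π u.1)) (U.residueField u.1)) :
    Finite (GeomPts π v Ω ι) := by
  have h1 : ∀ u : {u : U // π u = v}, Finite {σ : GeomPts π v Ω ι // σ.pt = u} := by
    intro u
    apply Nat.finite_of_card_ne_zero
    letI := (π.residueFieldMap u.1).hom.toAlgebra
    haveI := hfd u
    rw [card_fibre (ι := ι) u (Algebra.IsAlgebraic.of_finite _ _)]
    exact NeZero.ne _
  exact Finite.of_equiv _ (Equiv.sigmaFiberEquiv (fun σ : GeomPts π v Ω ι => σ.pt))

theorem pt_surjective [IsAlgClosed Ω]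
    (hfd : ∀ u : {u : U // π u = v}, letI := (π.residueFieldMap u.1).hom.toAlgebra;
      Module.Finite (V.residueField (π u.1)) (U.residueField u.1)) :
    Function.Surjective (fun σ : GeomPts π v Ω ι => σ.pt) := by
  intro u
  have h0 : Nat.card {σ : GeomPts π v Ω ι // σ.pt = u} ≠ 0 := by
    letI := (π.residueFieldMap u.1).hom.toAlgebra
    haveI := hfd u
    rw [card_fibre (ι := ι) u (Algebra.IsAlgebraic.of_finite _ _)]
    exact NeZero.ne _
  haveI := Nat.finite_of_card_ne_zero h0
  obtain ⟨σ⟩ : Nonempty {σ : GeomPts π v Ω ι // σ.pt = u} := by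
    by_contra hne
    rw [not_nonempty_iff] at hne
    exact h0 Nat.card_of_isEmpty
  exact ⟨σ.1, σ.2⟩

theorem fibreIntegral_eq_finsum [IsAlgClosed Ω] (hfin : Finite {u : U // π u = v})
    (hfd : ∀ u : {u : U // π u = v}, letI := (π.residueFieldMap u.1).hom.toAlgebra;
      Module.Finite (V.residueField (π u.1)) (U.residueField u.1)) (w : U → ℤ) :
    MoreMor.fibreIntegral π w v = ∑ᶠ σ : GeomPts π v Ω ι, w (σ.pt).1 := by
  classical
  haveI := finite_geomPts (ι := ι) hfin hfd
  letI : Fintype (GeomPts π v Ω ι) := Fintype.ofFinite _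
  letI : Fintype {u : U // π u = v} := Fintype.ofFinite _
  rw [MoreMor.fibreIntegral, finsum_eq_sum_of_fintype, finsum_eq_sum_of_fintype,
    ← Finset.sum_fiberwise (s := Finset.univ) (g := fun σ : GeomPts π v Ω ι => σ.pt)]
  refine Finset.sum_congr rfl fun u _ => ?_
  have h1 : ∀ σ ∈ Finset.univ.filter (fun σ : GeomPts π v Ω ι => σ.pt = u),
      w (σ.pt).1 = w u.1 := by
    intro σ hσ
    rw [(Finset.mem_filter.mp hσ).2]
  rw [Finset.sum_congr rfl h1, Finset.sum_const, nsmul_eq_mul, mul_comm]
  congr 2
  letI := (π.residueFieldMap u.1).hom.toAlgebra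
  haveI := hfd u
  rw [← card_fibre (ι := ι) u (Algebra.IsAlgebraic.of_finite _ _), Nat.card_eq_fintype_card,
    Fintype.card_subtype]

end

end Groth.Agent.Lib.lead.WtA
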