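import Mathlib
import Groth.Agent.Lib.lead.WtA

set_option autoImplicit false
set_option linter.style.haveILetI false
universe u

namespace Groth.Agent.Lib.lead.WtB

open AlgebraicGeometry CategoryTheory Limits IsLocalRing Groth.Agent.Lib.lead.WtA

variable {U V : Scheme.{u}}

/-- Residue field extensions at quasi-finite points are finite. -/
theorem finite_residueFieldMap_of_quasiFiniteAt (π : U ⟶ V) (u : U) (h : π.QuasiFiniteAt u) :
    letI := (π.residueFieldMap u).hom.toAlgebra
    Module.Finite (V.residueField (π u)) (U.residueField u) := by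
  letI := (π.residueFieldMap u).hom.toAlgebra
  algebraize [(π.stalkMap u).hom]
  have hq : Algebra.QuasiFinite (V.presheaf.stalk (π u)) (U.presheaf.stalk u) := h
  letI : Algebra (V.presheaf.stalk (π u)) (U.residueField u) :=
    ((U.residue u).hom.comp (π.stalkMap u).hom).toAlgebra
  letI : Algebra (V.presheaf.stalk (π u)) (V.residueField (π u)) := (V.residue (π u)).hom.toAlgebra
  haveI : IsScalarTower (V.presheaf.stalk (π u)) (V.residueField (π u)) (U.residueField u) := by
    refine .of_algebraMap_eq fun r => ?_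
    have := congrArg (fun t => t.hom r) (Scheme.residue_residueFieldMap π u)
    simp only [CommRingCat.hom_comp, RingHom.comp_apply] at this
    exact this.symm
  haveI : Algebra.QuasiFinite (V.presheaf.stalk (π u)) (U.residueField u) := by
    have : Algebra.QuasiFinite (V.presheaf.stalk (π u))
        (U.presheaf.stalk u ⧸ IsLocalRing.maximalIdeal (U.presheaf.stalk u)) := inferInstance
    exact this
  haveI : Algebra.QuasiFinite (V.residueField (π u)) (U.residueField u) :=
    .of_restrictScalars (V.presheaf.stalk (π u)) _ _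
  exact Module.Finite.of_quasiFinite

theorem finite_residueFieldMap (π : U ⟶ V) [LocallyQuasiFinite π] (u : U) :
    letI := (π.residueFieldMap u).hom.toAlgebra
    Module.Finite (V.residueField (π u)) (U.residueField u) :=
  finite_residueFieldMap_of_quasiFiniteAt π u (π.quasiFiniteAt u)

/-- Base change of geometric points. -/
noncomputable def geomPtsEquiv {U' V' : Scheme.{u}} {π : U ⟶ V} {π' : U' ⟶ V'} {h : U' ⟶ U}
    {g : V' ⟶ V} (hc : IsPullback h π' π g) (v' : V') (Ω : Type u) [Field Ω]
    (ι' : V'.residueField v' ⟶ CommRingCat.of Ω) :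
    GeomPts π' v' Ω ι' ≃ GeomPts π (g v') Ω (g.residueFieldMap v' ≫ ι') where
  toFun σ' := ⟨σ'.1 ≫ h, by
    rw [Category.assoc, hc.w, ← Category.assoc, σ'.2, Category.assoc,
      ← Scheme.Hom.SpecMap_residueFieldMap_fromSpecResidueField, ← Spec.map_comp_assoc]⟩
  invFun σ := ⟨hc.lift σ.1 (Spec.map ι' ≫ V'.fromSpecResidueField v') (by
    rw [σ.2, Category.assoc, ← Scheme.Hom.SpecMap_residueFieldMap_fromSpecResidueField,
      ← Spec.map_comp_assoc]), hc.lift_snd _ _ _⟩
  left_inv σ' := by
    apply Subtype.ext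
    apply hc.hom_ext
    · simp
    · simp [σ'.2]
  right_inv σ := by
    apply Subtype.ext
    simp

theorem geomPtsEquiv_pt {U' V' : Scheme.{u}} {π : U ⟶ V} {π' : U' ⟶ V'} {h : U' ⟶ U}
    {g : V' ⟶ V} (hc : IsPullback h π' π g) (v' : V') (Ω : Type u) [Field Ω]
    (ι' : V'.residueField v' ⟶ CommRingCat.of Ω) (σ' : GeomPts π' v' Ω ι') :
    ((geomPtsEquiv hc v' Ω ι' σ').pt).1 = h (σ'.pt).1 := rfl

/-- Finite fibres are preserved under base change (locally quasi-finite case). -/
theorem finite_fibre_baseChange {U' V' : Scheme.{u}} {π : U ⟶ V} {π' : U' ⟶ V'} {h : U' ⟶ U}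
    {g : V' ⟶ V} [LocallyQuasiFinite π] (hc : IsPullback h π' π g) (v' : V')
    (hfin : Finite {u : U // π u = g v'}) : Finite {u' : U' // π' u' = v'} := by
  haveI : LocallyQuasiFinite π' := MorphismProperty.of_isPullback hc inferInstance
  let Ω := AlgebraicClosure (V'.residueField v')
  let ι' : V'.residueField v' ⟶ CommRingCat.of Ω :=
    CommRingCat.ofHom (algebraMap (V'.residueField v') Ω)
  haveI : Finite (GeomPts π (g v') Ω (g.residueFieldMap v' ≫ ι')) :=
    finite_geomPts hfin (fun u => finite_residueFieldMap π u.1)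
  haveI : Finite (GeomPts π' v' Ω ι') := Finite.of_equiv _ (geomPtsEquiv hc v' Ω ι').symm
  exact Finite.of_surjective _ (pt_surjective (ι := ι') (fun u => finite_residueFieldMap π' u.1))

/-- **Fibre integrals commute with base change.** -/
theorem fibreIntegral_baseChange {U' V' : Scheme.{u}} {π : U ⟶ V} {π' : U' ⟶ V'} {h : U' ⟶ U}
    {g : V' ⟶ V} [LocallyQuasiFinite π] (hc : IsPullback h π' π g) (w : U → ℤ) (v' : V')
    (hfin : Finite {u : U // π u = g v'}) :
    MoreMor.fibreIntegral π' (w ∘ h) v' = MoreMor.fibreIntegral π w (g v') := by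
  haveI : LocallyQuasiFinite π' := MorphismProperty.of_isPullback hc inferInstance
  let Ω := AlgebraicClosure (V'.residueField v')
  let ι' : V'.residueField v' ⟶ CommRingCat.of Ω :=
    CommRingCat.ofHom (algebraMap (V'.residueField v') Ω)
  have hfin' := finite_fibre_baseChange hc v' hfin
  rw [fibreIntegral_eq_finsum (ι := ι') hfin' (fun u => finite_residueFieldMap π' u.1),
    fibreIntegral_eq_finsum (ι := g.residueFieldMap v' ≫ ι') hfin
      (fun u => finite_residueFieldMap π u.1)]
  rw [← finsum_comp_equiv (geomPtsEquiv hc v' Ω ι')]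
  rfl

end Groth.Agent.Lib.lead.WtB

namespace Groth.Agent.Lib.lead.WtB
open AlgebraicGeometry CategoryTheory Limits

theorem S1418 {U V U' V' : Scheme.{u}} (π : U ⟶ V) [LocallyQuasiFinite π] [LocallyOfFiniteType π] (hfin : ∀ v : V, (π ⁻¹' {v}).Finite)
    (π' : U' ⟶ V') (h : U' ⟶ U) (g : V' ⟶ V) (hc : IsPullback h π' π g) (w : ↑U → ℤ) (v' : V') :
    MoreMor.fibreIntegral π' (w ∘ ⇑h) v' = MoreMor.fibreIntegral π w (g v') :=
  fibreIntegral_baseChange hc w v' (hfin (g v')).to_subtype

end Groth.Agent.Lib.lead.WtB
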