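import Mathlib
import Groth.Agent.Lib.lead.WtB

set_option autoImplicit false
set_option linter.style.haveILetI false
universe u

namespace Groth.Agent.Lib.lead.WtC

open AlgebraicGeometry CategoryTheory Limits IsLocalRing Groth.Agent.Lib.lead.WtA
  Groth.Agent.Lib.lead.WtB

variable {U V : Scheme.{u}}

theorem range_subset_of_pt {C : Scheme.{u}} (c : C ⟶ U) {Ω : Type u} [Field Ω]
    (σ : Spec (CommRingCat.of Ω) ⟶ U) (h : σ (closedPoint Ω) ∈ Set.range c) :
    Set.range σ ⊆ Set.range c := by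
  rintro _ ⟨s, rfl⟩
  have : s = closedPoint Ω := Subsingleton.elim (α := PrimeSpectrum Ω) _ _
  rw [this]
  exact h

/-- Geometric points of an open piece. -/
noncomputable def geomPtsOpenEquiv {C : Scheme.{u}} (c : C ⟶ U) [IsOpenImmersion c] (π : U ⟶ V)
    (n : V) (Ω : Type u) [Field Ω] (ι : V.residueField n ⟶ CommRingCat.of Ω) :
    GeomPts (c ≫ π) n Ω ι ≃ {σ : GeomPts π n Ω ι // (σ.pt).1 ∈ Set.range c} where
  toFun τ := ⟨⟨τ.1 ≫ c, by rw [Category.assoc, τ.2]⟩, ⟨τ.1 (closedPoint Ω), rfl⟩⟩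
  invFun σ := ⟨IsOpenImmersion.lift c σ.1.1 (range_subset_of_pt c σ.1.1 σ.2), by
    rw [← Category.assoc, IsOpenImmersion.lift_fac, σ.1.2]⟩
  left_inv τ := by
    apply Subtype.ext
    rw [← cancel_mono c, IsOpenImmersion.lift_fac]
  right_inv σ := by
    apply Subtype.ext
    apply Subtype.ext
    exact IsOpenImmersion.lift_fac _ _ _

theorem geomPtsOpenEquiv_pt {C : Scheme.{u}} (c : C ⟶ U) [IsOpenImmersion c] (π : U ⟶ V)
    (n : V) (Ω : Type u) [Field Ω] (ι : V.residueField n ⟶ CommRingCat.of Ω)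
    (τ : GeomPts (c ≫ π) n Ω ι) :
    ((geomPtsOpenEquiv c π n Ω ι τ).1.pt).1 = c (τ.pt).1 := rfl

theorem finite_fibre_comp_openImmersion {C : Scheme.{u}} (c : C ⟶ U) [IsOpenImmersion c]
    (π : U ⟶ V) (n : V) (hfin : Finite {u : U // π u = n}) :
    Finite {z : C // (c ≫ π) z = n} := by
  refine Finite.of_injective (fun z : {z : C // (c ≫ π) z = n} => (⟨c z.1, z.2⟩ : {u : U // π u = n}))
    ?_
  intro z z' h
  exact Subtype.ext (c.isOpenEmbedding.injective (congrArg Subtype.val h))

/-- Integral over an open piece as a sum over geometric points landing in the piece. -/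
theorem fibreIntegral_open_eq {C : Scheme.{u}} (c : C ⟶ U) [IsOpenImmersion c] (π : U ⟶ V)
    [LocallyQuasiFinite π] (n : V) (hfin : Finite {u : U // π u = n}) (F : U → ℤ)
    (Ω : Type u) [Field Ω] [IsAlgClosed Ω] (ι : V.residueField n ⟶ CommRingCat.of Ω) :
    MoreMor.fibreIntegral (c ≫ π) (F ∘ c) n =
      ∑ᶠ σ : {σ : GeomPts π n Ω ι // (σ.pt).1 ∈ Set.range c}, F (σ.1.pt).1 := by
  rw [fibreIntegral_eq_finsum (ι := ι) (finite_fibre_comp_openImmersion c π n hfin)
    (fun u => finite_residueFieldMap (c ≫ π) u.1), ← finsum_comp_equiv (geomPtsOpenEquiv c π n Ω ι)]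
  rfl

/-- Additivity of the fibre integral over a finite family of open pieces partitioning the fibre. -/
theorem fibreIntegral_eq_sum_pieces {K : Type} [Fintype K] {C : K → Scheme.{u}}
    (c : ∀ k, C k ⟶ U) [∀ k, IsOpenImmersion (c k)] (π : U ⟶ V) [LocallyQuasiFinite π] (n : V)
    (hfin : Finite {u : U // π u = n}) (F : U → ℤ)
    (hpart : ∀ u : U, π u = n → ∃! k, u ∈ Set.range (c k)) :
    MoreMor.fibreIntegral π F n = ∑ k, MoreMor.fibreIntegral (c k ≫ π) (F ∘ c k) n := by
  classical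
  let Ω := AlgebraicClosure (V.residueField n)
  let ι : V.residueField n ⟶ CommRingCat.of Ω :=
    CommRingCat.ofHom (algebraMap (V.residueField n) Ω)
  have hfd := fun u : {u : U // π u = n} => finite_residueFieldMap π u.1
  haveI := finite_geomPts (ι := ι) hfin hfd
  letI : Fintype (GeomPts π n Ω ι) := Fintype.ofFinite _
  rw [fibreIntegral_eq_finsum (ι := ι) hfin hfd, finsum_eq_sum_of_fintype]
  simp_rw [fun k => fibreIntegral_open_eq (c k) π n hfin F Ω ι]
  have hk : ∀ σ : GeomPts π n Ω ι, ∃! k, (σ.pt).1 ∈ Set.range (c k) := fun σ =>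
    hpart _ σ.pt.2
  choose κ hκ hκ' using hk
  rw [← Finset.sum_fiberwise (s := Finset.univ) (g := κ)]
  refine Finset.sum_congr rfl fun k _ => ?_
  rw [finsum_eq_sum_of_fintype]
  have hmem : ∀ σ : GeomPts π n Ω ι, σ ∈ Finset.univ.filter (fun σ => κ σ = k) ↔
      (σ.pt).1 ∈ Set.range (c k) := by
    intro σ
    rw [Finset.mem_filter]
    constructor
    · rintro ⟨-, h⟩
      rw [← h]
      exact hκ σ
    · intro h
      exact ⟨Finset.mem_univ _, (hκ' σ k h).symm⟩
  rw [Finset.sum_subtype _ hmem]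

/-- Restriction to an open piece containing the whole fibre. -/
theorem fibreIntegral_open_of_fibre_subset {C : Scheme.{u}} (c : C ⟶ U) [IsOpenImmersion c]
    (π : U ⟶ V) [LocallyQuasiFinite π] (n : V) (hfin : Finite {u : U // π u = n}) (F : U → ℤ)
    (hsub : ∀ u : U, π u = n → u ∈ Set.range c) :
    MoreMor.fibreIntegral (c ≫ π) (F ∘ c) n = MoreMor.fibreIntegral π F n := by
  have := fibreIntegral_eq_sum_pieces (K := Unit) (C := fun _ => C) (fun _ => c) π n hfin F
    (fun u hu => ⟨(), hsub u hu, fun _ _ => rfl⟩)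
  rw [this]
  simp

/-- A geometric point over a point with purely inseparable residue field extension is unique. -/
theorem geomPts_eq_of_isPurelyInseparable (π : U ⟶ V) (n : V) (Ω : Type u) [Field Ω]
    [IsAlgClosed Ω] (ι : V.residueField n ⟶ CommRingCat.of Ω) (σ σ' : GeomPts π n Ω ι)
    (h : σ.pt = σ'.pt) (hpi : (π.residueFieldMap (σ.pt).1).hom.IsPurelyInseparable) :
    σ = σ' := by
  letI := (π.residueFieldMap (σ.pt).1).hom.toAlgebra
  haveI : IsPurelyInseparable (V.residueField (π (σ.pt).1)) (U.residueField (σ.pt).1) := hpi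
  have h1 : Nat.card {τ : GeomPts π n Ω ι // τ.pt = σ.pt} = 1 := by
    rw [card_fibre (ι := ι) σ.pt (IsPurelyInseparable.isAlgebraic _ _)]
    exact IsPurelyInseparable.finSepDegree_eq_one _ _
  haveI := (Nat.card_eq_one_iff_unique.mp h1).1
  have := Subsingleton.elim (⟨σ, rfl⟩ : {τ : GeomPts π n Ω ι // τ.pt = σ.pt}) ⟨σ', h.symm⟩
  exact congrArg Subtype.val this

/-- The fibre integral at a point whose fibre is a single point with purely inseparable residue
field extension. -/
theorem fibreIntegral_of_unique_pi (π : U ⟶ V) (n : V) (u₀ : U) (h₀ : π u₀ = n)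
    (huniq : ∀ u : U, π u = n → u = u₀)
    (hpi : (π.residueFieldMap u₀).hom.IsPurelyInseparable) (F : U → ℤ) :
    MoreMor.fibreIntegral π F n = F u₀ := by
  letI := (π.residueFieldMap u₀).hom.toAlgebra
  haveI : IsPurelyInseparable (V.residueField (π u₀)) (U.residueField u₀) := hpi
  letI : Unique {u : U // π u = n} :=
    { default := ⟨u₀, h₀⟩
      uniq := fun u => Subtype.ext (huniq u.1 u.2) }
  rw [MoreMor.fibreIntegral, finsum_unique]
  change F u₀ * ((Field.finSepDegree (V.residueField (π u₀)) (U.residueField u₀) : ℕ) : ℤ) = F u₀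
  rw [IsPurelyInseparable.finSepDegree_eq_one]
  simp

/-- Two points of a fibre product over the same pair of points coincide when the residue field
extension on the left is purely inseparable. -/
theorem eq_of_isPurelyInseparable {T W V₁ : Scheme.{u}} (q : T ⟶ W) [LocallyQuasiFinite q]
    (b : V₁ ⟶ W) (z z' : ↑(pullback q b)) (h1 : pullback.fst q b z = pullback.fst q b z')
    (h2 : pullback.snd q b z = pullback.snd q b z')
    (hpi : (q.residueFieldMap (pullback.fst q b z)).hom.IsPurelyInseparable) : z = z' := by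
  set v₁ := pullback.snd q b z with hv₁
  let Ω := AlgebraicClosure (V₁.residueField v₁)
  let ι' : V₁.residueField v₁ ⟶ CommRingCat.of Ω :=
    CommRingCat.ofHom (algebraMap (V₁.residueField v₁) Ω)
  have hc : IsPullback (pullback.fst q b) (pullback.snd q b) q b := IsPullback.of_hasPullback q b
  have hsurj := pt_surjective (π := pullback.snd q b) (v := v₁) (ι := ι')
    (fun u => finite_residueFieldMap (pullback.snd q b) u.1)
  obtain ⟨σ, hσ⟩ := hsurj ⟨z, rfl⟩
  obtain ⟨σ', hσ'⟩ := hsurj ⟨z', h2.symm⟩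
  have hz : (σ.pt).1 = z := congrArg Subtype.val hσ
  have hz' : (σ'.pt).1 = z' := congrArg Subtype.val hσ'
  have e1 : ((geomPtsEquiv hc v₁ Ω ι' σ).pt).1 = pullback.fst q b z := by
    rw [geomPtsEquiv_pt, hz]
  have e2 : ((geomPtsEquiv hc v₁ Ω ι' σ').pt).1 = pullback.fst q b z := by
    rw [geomPtsEquiv_pt, hz', h1]
  have key := geomPts_eq_of_isPurelyInseparable q (b v₁) Ω _ (geomPtsEquiv hc v₁ Ω ι' σ)
    (geomPtsEquiv hc v₁ Ω ι' σ') (Subtype.ext (e1.trans e2.symm)) (by rw [e1]; exact hpi)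
  have := (geomPtsEquiv hc v₁ Ω ι').injective key
  rw [← hz, ← hz', this]

end Groth.Agent.Lib.lead.WtC
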