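import Mathlib
import Groth.Agent.Lib.lead.WtC

set_option autoImplicit false
set_option linter.style.haveILetI false
universe u

namespace Groth.Agent.Lib.lead.WtD

open AlgebraicGeometry CategoryTheory Limits IsLocalRing Groth.Agent.Lib.lead.WtA
  Groth.Agent.Lib.lead.WtB Groth.Agent.Lib.lead.WtC

variable {X Y : Scheme.{u}}

/-- `(a, p)` is a chart of `f` over `ρ`: the induced map to the fibre product is an open
immersion. -/
def IsChart (f : X ⟶ Y) {V A : Scheme.{u}} (ρ : V ⟶ Y) (a : A ⟶ X) (p : A ⟶ V) : Prop :=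
  ∃ comm : a ≫ f = p ≫ ρ, IsOpenImmersion (pullback.lift a p comm)

section

variable {f : X ⟶ Y} {V A : Scheme.{u}} {ρ : V ⟶ Y} {a : A ⟶ X} {p : A ⟶ V}

theorem IsChart.comm (h : IsChart f ρ a p) : a ≫ f = p ≫ ρ := h.1

/-- The open immersion of a chart into the fibre product. -/
noncomputable def IsChart.j (h : IsChart f ρ a p) : A ⟶ pullback f ρ := pullback.lift a p h.comm

instance (h : IsChart f ρ a p) : IsOpenImmersion h.j := h.2

@[reassoc (attr := simp)]
theorem IsChart.j_fst (h : IsChart f ρ a p) : h.j ≫ pullback.fst f ρ = a := pullback.lift_fst _ _ _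

@[reassoc (attr := simp)]
theorem IsChart.j_snd (h : IsChart f ρ a p) : h.j ≫ pullback.snd f ρ = p := pullback.lift_snd _ _ _

theorem IsChart.of_opens (f : X ⟶ Y) {V : Scheme.{u}} (ρ : V ⟶ Y) (U : (pullback f ρ).Opens) :
    IsChart f ρ (U.ι ≫ pullback.fst f ρ) (U.ι ≫ pullback.snd f ρ) := by
  refine ⟨by rw [Category.assoc, Category.assoc, pullback.condition], ?_⟩
  have : pullback.lift (U.ι ≫ pullback.fst f ρ) (U.ι ≫ pullback.snd f ρ)
      (by rw [Category.assoc, Category.assoc, pullback.condition]) = U.ι := by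
    apply pullback.hom_ext
    · exact pullback.lift_fst _ _ _
    · exact pullback.lift_snd _ _ _
  rw [this]
  infer_instance

theorem IsChart.restrict (h : IsChart f ρ a p) {S : Scheme.{u}} (c : S ⟶ A) [IsOpenImmersion c] :
    IsChart f ρ (c ≫ a) (c ≫ p) := by
  refine ⟨by rw [Category.assoc, Category.assoc, h.comm], ?_⟩
  have : pullback.lift (c ≫ a) (c ≫ p) (by rw [Category.assoc, Category.assoc, h.comm]) =
      c ≫ h.j := by
    apply pullback.hom_ext
    · rw [pullback.lift_fst, Category.assoc, h.j_fst]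
    · rw [pullback.lift_snd, Category.assoc, h.j_snd]
  rw [this]
  infer_instance

end

/-- The comparison map between fibre products along a change of base. -/
noncomputable def beta (f : X ⟶ Y) {V V₁ : Scheme.{u}} (ρ : V ⟶ Y) (b : V₁ ⟶ V) (ρ₁ : V₁ ⟶ Y)
    (hρ : ρ₁ = b ≫ ρ) : pullback f ρ₁ ⟶ pullback f ρ :=
  pullback.lift (pullback.fst f ρ₁) (pullback.snd f ρ₁ ≫ b)
    (by rw [pullback.condition, hρ, Category.assoc])

section

variable (f : X ⟶ Y) {V V₁ : Scheme.{u}} (ρ : V ⟶ Y) (b : V₁ ⟶ V) (ρ₁ : V₁ ⟶ Y)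
  (hρ : ρ₁ = b ≫ ρ)

@[reassoc (attr := simp)]
theorem beta_fst : beta f ρ b ρ₁ hρ ≫ pullback.fst f ρ = pullback.fst f ρ₁ :=
  pullback.lift_fst _ _ _

@[reassoc (attr := simp)]
theorem beta_snd : beta f ρ b ρ₁ hρ ≫ pullback.snd f ρ = pullback.snd f ρ₁ ≫ b :=
  pullback.lift_snd _ _ _

theorem beta_isPullback :
    IsPullback (beta f ρ b ρ₁ hρ) (pullback.snd f ρ₁) (pullback.snd f ρ) b := by
  have s : IsPullback (beta f ρ b ρ₁ hρ ≫ pullback.fst f ρ) (pullback.snd f ρ₁) f (b ≫ ρ) := by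
    rw [beta_fst, ← hρ]
    exact IsPullback.of_hasPullback f ρ₁
  exact IsPullback.of_right s (beta_snd f ρ b ρ₁ hρ) (IsPullback.of_hasPullback f ρ)

end

section

variable {f : X ⟶ Y} {V A V₁ : Scheme.{u}} {ρ : V ⟶ Y} {a : A ⟶ X} {p : A ⟶ V}

theorem IsChart.baseChange_comm (h : IsChart f ρ a p) (b : V₁ ⟶ V) (ρ₁ : V₁ ⟶ Y)
    (hρ : ρ₁ = b ≫ ρ) : (pullback.fst p b ≫ a) ≫ f = pullback.snd p b ≫ ρ₁ := by
  rw [Category.assoc, h.comm, pullback.condition_assoc, hρ]

theorem IsChart.baseChange_isPullback (h : IsChart f ρ a p) (b : V₁ ⟶ V) (ρ₁ : V₁ ⟶ Y)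
    (hρ : ρ₁ = b ≫ ρ) :
    IsPullback (pullback.fst p b)
      (pullback.lift (pullback.fst p b ≫ a) (pullback.snd p b) (h.baseChange_comm b ρ₁ hρ))
      h.j (beta f ρ b ρ₁ hρ) := by
  set j₁ := pullback.lift (pullback.fst p b ≫ a) (pullback.snd p b) (h.baseChange_comm b ρ₁ hρ)
  have hw : j₁ ≫ beta f ρ b ρ₁ hρ = pullback.fst p b ≫ h.j := by
    apply pullback.hom_ext
    · rw [Category.assoc, beta_fst, Category.assoc, h.j_fst]
      exact pullback.lift_fst _ _ _
    · rw [Category.assoc, beta_snd, Category.assoc, h.j_snd, ← Category.assoc]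
      have : j₁ ≫ pullback.snd f ρ₁ = pullback.snd p b := pullback.lift_snd _ _ _
      rw [this, pullback.condition]
  have s : IsPullback (j₁ ≫ pullback.snd f ρ₁) (pullback.fst p b) b (h.j ≫ pullback.snd f ρ) := by
    rw [h.j_snd]
    have : j₁ ≫ pullback.snd f ρ₁ = pullback.snd p b := pullback.lift_snd _ _ _
    rw [this]
    exact (IsPullback.of_hasPullback p b).flip
  exact (IsPullback.of_right s hw (beta_isPullback f ρ b ρ₁ hρ).flip).flip

theorem IsChart.baseChange (h : IsChart f ρ a p) (b : V₁ ⟶ V) (ρ₁ : V₁ ⟶ Y)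
    (hρ : ρ₁ = b ≫ ρ) : IsChart f ρ₁ (pullback.fst p b ≫ a) (pullback.snd p b) :=
  ⟨h.baseChange_comm b ρ₁ hρ,
    MorphismProperty.of_isPullback (h.baseChange_isPullback b ρ₁ hρ) (inferInstanceAs (IsOpenImmersion h.j))⟩

theorem IsChart.baseChange_j_beta (h : IsChart f ρ a p) (b : V₁ ⟶ V) (ρ₁ : V₁ ⟶ Y)
    (hρ : ρ₁ = b ≫ ρ) :
    (h.baseChange b ρ₁ hρ).j ≫ beta f ρ b ρ₁ hρ = pullback.fst p b ≫ h.j :=
  (h.baseChange_isPullback b ρ₁ hρ).w.symm

/-- A point of the fibre product over `ρ₁` whose image under `beta` lies in the chart comes from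
the base-changed chart. -/
theorem IsChart.mem_range_baseChange_j (h : IsChart f ρ a p) (b : V₁ ⟶ V) (ρ₁ : V₁ ⟶ Y)
    (hρ : ρ₁ = b ≫ ρ) (z : ↑(pullback f ρ₁)) (hz : beta f ρ b ρ₁ hρ z ∈ Set.range h.j) :
    z ∈ Set.range (h.baseChange b ρ₁ hρ).j := by
  obtain ⟨t, ht⟩ := hz
  obtain ⟨τ, -, hτ⟩ := Scheme.exists_preimage_of_isPullback
    (h.baseChange_isPullback b ρ₁ hρ) t z ht
  exact ⟨τ, hτ⟩

end

section

variable {f : X ⟶ Y} {V A : Scheme.{u}} {ρ : V ⟶ Y} {a : A ⟶ X} {p : A ⟶ V}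

theorem finite_fibre_of_isFinite {A V : Scheme.{u}} (p : A ⟶ V) [IsFinite p] (v : V) :
    Finite {x : A // p x = v} :=
  (p.finite_preimage_singleton v).to_subtype

/-- A weighting integrates to a locally constant function on every finite chart over an étale
base. -/
theorem IsChart.isLocallyConstant {w : X → ℤ} (hw : MoreMor.IsWeighting f w) [Etale ρ]
    (h : IsChart f ρ a p) [IsFinite p] :
    IsLocallyConstant (MoreMor.fibreIntegral p (w ∘ a)) := by
  set U₀ := h.j.opensRange with hU₀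
  set ψ := h.j.isoOpensRange with hψ
  have e1 : ψ.hom ≫ U₀.ι = h.j := h.j.isoOpensRange_hom_ι
  have e2 : U₀.ι ≫ pullback.snd f ρ = ψ.inv ≫ p := by
    rw [Iso.eq_inv_comp, ← Category.assoc, e1, h.j_snd]
  haveI : IsFinite (U₀.ι ≫ pullback.snd f ρ) := by
    rw [e2]; infer_instance
  have key := hw V ρ U₀ inferInstance
  have hc : IsPullback ψ.hom p (U₀.ι ≫ pullback.snd f ρ) (𝟙 V) :=
    IsPullback.of_horiz_isIso ⟨by rw [e2, Iso.hom_inv_id_assoc, Category.comp_id]⟩
  have hfun : (fun u : U₀.toScheme => w (pullback.fst f ρ (U₀.ι u))) ∘ ψ.hom = w ∘ a := by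
    funext x
    show w (pullback.fst f ρ (U₀.ι (ψ.hom x))) = w (a x)
    rw [← Scheme.Hom.comp_apply, ← Scheme.Hom.comp_apply, ← Category.assoc, e1, h.j_fst]
  have heq : MoreMor.fibreIntegral p (w ∘ a) =
      MoreMor.fibreIntegral (U₀.ι ≫ pullback.snd f ρ)
        (fun u => w (pullback.fst f ρ (U₀.ι u))) := by
    funext v
    rw [← hfun]
    exact fibreIntegral_baseChange hc _ v (finite_fibre_of_isFinite _ _)
  rw [heq]
  exact key

theorem fibreIntegral_pullback {A V V₁ : Scheme.{u}} (p : A ⟶ V) [IsFinite p] (b : V₁ ⟶ V)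
    (F : A → ℤ) (v₁ : V₁) :
    MoreMor.fibreIntegral (pullback.snd p b) (F ∘ pullback.fst p b) v₁ =
      MoreMor.fibreIntegral p F (b v₁) :=
  fibreIntegral_baseChange (IsPullback.of_hasPullback p b) F v₁ (finite_fibre_of_isFinite _ _)

/-- Two finite charts with a common unique point over `v` have the same integral near `v`. -/
theorem IsChart.eventually_eq {B : Scheme.{u}} {b : B ⟶ X} {q : B ⟶ V} (hA : IsChart f ρ a p)
    (hB : IsChart f ρ b q) [IsFinite p] [IsFinite q] (v : V) (a₀ : A) (b₀ : B)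
    (hua : ∀ x : A, p x = v → x = a₀) (hub : ∀ y : B, q y = v → y = b₀)
    (hab : hA.j a₀ = hB.j b₀) (w : X → ℤ) :
    ∀ᶠ n in nhds v, MoreMor.fibreIntegral p (w ∘ a) n = MoreMor.fibreIntegral q (w ∘ b) n := by
  let cA := pullback.fst hA.j hB.j
  let cB := pullback.snd hA.j hB.j
  have hcond : cA ≫ hA.j = cB ≫ hB.j := pullback.condition
  have e1 : cA ≫ a = cB ≫ b :=
    calc cA ≫ a = cA ≫ hA.j ≫ pullback.fst f ρ := by rw [hA.j_fst]
      _ = cB ≫ hB.j ≫ pullback.fst f ρ := by rw [← Category.assoc, hcond, Category.assoc]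
      _ = cB ≫ b := by rw [hB.j_fst]
  have e2 : cA ≫ p = cB ≫ q :=
    calc cA ≫ p = cA ≫ hA.j ≫ pullback.snd f ρ := by rw [hA.j_snd]
      _ = cB ≫ hB.j ≫ pullback.snd f ρ := by rw [← Category.assoc, hcond, Category.assoc]
      _ = cB ≫ q := by rw [hB.j_snd]
  have hrA : Set.range cA = hA.j ⁻¹' Set.range hB.j := Scheme.Pullback.range_fst _ _
  have hrB : Set.range cB = hB.j ⁻¹' Set.range hA.j := Scheme.Pullback.range_snd _ _
  have hoA : IsOpen (Set.range cA) := cA.isOpenEmbedding.isOpen_range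
  have hoB : IsOpen (Set.range cB) := cB.isOpenEmbedding.isOpen_range
  have hcA : IsClosed (p '' (Set.range cA)ᶜ) := p.isClosedMap _ hoA.isClosed_compl
  have hcB : IsClosed (q '' (Set.range cB)ᶜ) := q.isClosedMap _ hoB.isClosed_compl
  have hvA : v ∉ p '' (Set.range cA)ᶜ := by
    rintro ⟨x, hx, hxv⟩
    rw [hua x hxv] at hx
    apply hx
    rw [hrA]
    exact ⟨b₀, hab.symm⟩
  have hvB : v ∉ q '' (Set.range cB)ᶜ := by
    rintro ⟨y, hy, hyv⟩
    rw [hub y hyv] at hy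
    apply hy
    rw [hrB]
    exact ⟨a₀, hab⟩
  have hN : (p '' (Set.range cA)ᶜ ∪ q '' (Set.range cB)ᶜ)ᶜ ∈ nhds v :=
    (hcA.union hcB).isOpen_compl.mem_nhds (by
      rintro (h | h)
      · exact hvA h
      · exact hvB h)
  filter_upwards [hN] with n hn
  have hsubA : ∀ x : A, p x = n → x ∈ Set.range cA := by
    intro x hx
    by_contra hne
    exact hn (Or.inl ⟨x, hne, hx⟩)
  have hsubB : ∀ y : B, q y = n → y ∈ Set.range cB := by
    intro y hy
    by_contra hne
    exact hn (Or.inr ⟨y, hne, hy⟩)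
  rw [← fibreIntegral_open_of_fibre_subset cA p n (finite_fibre_of_isFinite _ _) (w ∘ a) hsubA,
    ← fibreIntegral_open_of_fibre_subset cB q n (finite_fibre_of_isFinite _ _) (w ∘ b) hsubB]
  have hF : (w ∘ a) ∘ cA = (w ∘ b) ∘ cB := by
    funext z
    show w (a (cA z)) = w (b (cB z))
    rw [← Scheme.Hom.comp_apply, ← Scheme.Hom.comp_apply, e1]
  rw [hF, e2]

end

end Groth.Agent.Lib.lead.WtD
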