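import Mathlib
import Groth.Agent.Lib.lead.WtD
import Groth.Agent.Lib.helper19.PI12

set_option autoImplicit false
set_option linter.style.haveILetI false
universe u

namespace Groth.Agent.Lib.lead.WtE

open AlgebraicGeometry CategoryTheory Limits IsLocalRing Groth.Agent.Lib.lead.WtA
  Groth.Agent.Lib.lead.WtB Groth.Agent.Lib.lead.WtC Groth.Agent.Lib.lead.WtD

variable {X Y : Scheme.{u}}

/-- Purely inseparable residue field maps are stable under composition with isomorphisms of the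
source point (open immersions). -/
theorem isPurelyInseparable_residueFieldMap_ι_comp {P W : Scheme.{u}} (π : P ⟶ W) (T : P.Opens)
    (t : T.toScheme) (h : (π.residueFieldMap (T.ι t)).hom.IsPurelyInseparable) :
    ((T.ι ≫ π).residueFieldMap t).hom.IsPurelyInseparable := by
  have h0 : π.residueFieldMap (T.ι t) ≫ T.ι.residueFieldMap t = (T.ι ≫ π).residueFieldMap t :=
    (Scheme.residueFieldMap_comp T.ι π t).symm
  rw [← h0]
  simp only [CommRingCat.hom_comp]
  exact RingHom.IsPurelyInseparable.comp h (Groth.Agent.Lib.Helper19.PI.pi_of_isIso _)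

theorem IsChart.of_opens_j (f : X ⟶ Y) {V : Scheme.{u}} (ρ : V ⟶ Y) (U : (pullback f ρ).Opens) :
    (IsChart.of_opens f ρ U).j = U.ι := by
  apply pullback.hom_ext
  · exact pullback.lift_fst _ _ _
  · exact pullback.lift_snd _ _ _

section

variable {f : X ⟶ Y} [LocallyQuasiFinite f] {w : X → ℤ} (hw : MoreMor.IsWeighting f w)
  {W : Scheme.{u}} (g : W ⟶ Y) [Etale g] (T : (pullback f g).Opens)
  [IsFinite (T.ι ≫ pullback.snd f g)] (w₀ : W) (t₀ : ↑(pullback f g)) (ht₀ : t₀ ∈ T)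
  (ht₀w : pullback.snd f g t₀ = w₀)
  (huniq : ∀ z : ↑(pullback f g), z ∈ T → pullback.snd f g z = w₀ → z = t₀)
  (hpi : ((pullback.snd f g).residueFieldMap t₀).hom.IsPurelyInseparable)
  {V₃ : Scheme.{u}} (c : V₃ ⟶ W) (ρ₃ : V₃ ⟶ Y) (hρ : ρ₃ = c ≫ g) (v₃ : V₃) (hv₃ : c v₃ = w₀)

include ht₀ ht₀w huniq hpi hv₃ in
/-- The base change of a localization piece has a unique point over `v₃`. -/
theorem exists_unique_point_baseChange :
    ∃ b₀ : ↑(pullback (T.ι ≫ pullback.snd f g) c),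
      pullback.snd (T.ι ≫ pullback.snd f g) c b₀ = v₃ ∧
      ∀ y : ↑(pullback (T.ι ≫ pullback.snd f g) c),
        pullback.snd (T.ι ≫ pullback.snd f g) c y = v₃ → y = b₀ := by
  let t₀' : T.toScheme := ⟨t₀, ht₀⟩
  have ht₀' : T.ι t₀' = t₀ := rfl
  have h1 : (T.ι ≫ pullback.snd f g) t₀' = c v₃ := by
    rw [Scheme.Hom.comp_apply, ht₀', ht₀w, hv₃]
  obtain ⟨b₀, hb₀1, hb₀2⟩ := Scheme.Pullback.exists_preimage_pullback t₀' v₃ h1
  refine ⟨b₀, hb₀2, fun y hy => ?_⟩
  have hfy : pullback.fst (T.ι ≫ pullback.snd f g) c y = t₀' := by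
    have h2 : (T.ι ≫ pullback.snd f g) (pullback.fst (T.ι ≫ pullback.snd f g) c y) = w₀ := by
      rw [← Scheme.Hom.comp_apply, pullback.condition, Scheme.Hom.comp_apply, hy, hv₃]
    rw [Scheme.Hom.comp_apply] at h2
    have h3 := huniq _ (pullback.fst (T.ι ≫ pullback.snd f g) c y).2 h2
    exact Subtype.ext h3
  refine eq_of_isPurelyInseparable (T.ι ≫ pullback.snd f g) c y b₀ (hfy.trans hb₀1.symm)
    (hy.trans hb₀2.symm) ?_
  rw [hfy]
  exact isPurelyInseparable_residueFieldMap_ι_comp _ T t₀' hpi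

include hw in
/-- The integral over the base change of a localization piece is locally constant. -/
theorem isLocallyConstant_baseChange :
    IsLocallyConstant (MoreMor.fibreIntegral (pullback.snd (T.ι ≫ pullback.snd f g) c)
      (w ∘ (pullback.fst (T.ι ≫ pullback.snd f g) c ≫ T.ι ≫ pullback.fst f g))) := by
  have h1 := (IsChart.of_opens f g T).isLocallyConstant hw
  have h2 : MoreMor.fibreIntegral (pullback.snd (T.ι ≫ pullback.snd f g) c)
      (w ∘ (pullback.fst (T.ι ≫ pullback.snd f g) c ≫ T.ι ≫ pullback.fst f g)) =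
      MoreMor.fibreIntegral (T.ι ≫ pullback.snd f g) (w ∘ (T.ι ≫ pullback.fst f g)) ∘ c := by
    funext v
    exact fibreIntegral_pullback (T.ι ≫ pullback.snd f g) c (w ∘ (T.ι ≫ pullback.fst f g)) v
  rw [h2]
  exact h1.comp_continuous c.continuous

include hw ht₀ ht₀w huniq hpi hv₃ in
/-- A finite chart over `ρ₃` with a unique point over `v₃`, lying over the localization piece `T`,
has eventually constant integral near `v₃`. -/
theorem eventually_const_of_mem {S : Scheme.{u}} {sa : S ⟶ X} {sp : S ⟶ V₃}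
    (hS : IsChart f ρ₃ sa sp) [IsFinite sp] (s₀ : S) (hs₀ : sp s₀ = v₃)
    (hus : ∀ x : S, sp x = v₃ → x = s₀) (hmem : beta f g c ρ₃ hρ (hS.j s₀) ∈ T) :
    ∀ᶠ n in nhds v₃, MoreMor.fibreIntegral sp (w ∘ sa) n = MoreMor.fibreIntegral sp (w ∘ sa) v₃ := by
  have hT := IsChart.of_opens f g T
  have hB := hT.baseChange c ρ₃ hρ
  obtain ⟨b₀, hb₀, hub⟩ := exists_unique_point_baseChange g T w₀ t₀ ht₀ ht₀w huniq hpi c v₃ hv₃
  have hz : beta f g c ρ₃ hρ (hS.j s₀) ∈ Set.range hT.j := by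
    rw [IsChart.of_opens_j, Scheme.Opens.range_ι]
    exact hmem
  obtain ⟨b', hb'⟩ := hT.mem_range_baseChange_j c ρ₃ hρ _ hz
  have hb'v : pullback.snd (T.ι ≫ pullback.snd f g) c b' = v₃ := by
    have := congrArg (pullback.snd f ρ₃) hb'
    rw [← Scheme.Hom.comp_apply, ← Scheme.Hom.comp_apply, hB.j_snd, hS.j_snd] at this
    rw [this, hs₀]
  have hb'b : b' = b₀ := hub b' hb'v
  rw [hb'b] at hb'
  have h1 := hS.eventually_eq hB v₃ s₀ b₀ hus hub hb'.symm w
  have h2 := (isLocallyConstant_baseChange hw g T c).eventually_eq v₃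
  have h3 := h1.self_of_nhds
  filter_upwards [h1, h2] with n h1n h2n
  rw [h1n, h2n, h3]

end

end Groth.Agent.Lib.lead.WtE
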