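import Mathlib
import Groth.Agent.Lib.lead.WtE

set_option autoImplicit false
set_option linter.style.haveILetI false
set_option linter.unusedSectionVars false
universe u

namespace Groth.Agent.Lib.lead.WtF

open AlgebraicGeometry CategoryTheory Limits IsLocalRing Groth.Agent.Lib.lead.WtA
  Groth.Agent.Lib.lead.WtB Groth.Agent.Lib.lead.WtC Groth.Agent.Lib.lead.WtD
  Groth.Agent.Lib.lead.WtE

variable {X Y : Scheme.{u}}

/-- Near a point, the integral of a finite morphism decomposes along pairwise disjoint open pieces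
covering the fibre. -/
theorem eventually_eq_sum_pieces {A₃ V₃ : Scheme.{u}} (π : A₃ ⟶ V₃) [IsFinite π] (v₃ : V₃)
    {K : Type} [Fintype K] (S : K → A₃.Opens)
    (hdisj : ∀ k k', ((S k : Set A₃) ∩ (S k')).Nonempty → k = k')
    (hall : ∀ z : A₃, π z = v₃ → ∃ k, z ∈ S k) (F : A₃ → ℤ) :
    ∀ᶠ n in nhds v₃, MoreMor.fibreIntegral π F n =
      ∑ k, MoreMor.fibreIntegral ((S k).ι ≫ π) (F ∘ (S k).ι) n := by
  have hRc : IsClosed (⋃ k, (S k : Set A₃))ᶜ :=
    (isOpen_iUnion fun k => (S k).2).isClosed_compl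
  have hc : IsClosed (π '' (⋃ k, (S k : Set A₃))ᶜ) := π.isClosedMap _ hRc
  have hv : v₃ ∉ π '' (⋃ k, (S k : Set A₃))ᶜ := by
    rintro ⟨z, hz, hzv⟩
    obtain ⟨k, hk⟩ := hall z hzv
    exact hz (Set.mem_iUnion.mpr ⟨k, hk⟩)
  filter_upwards [hc.isOpen_compl.mem_nhds hv] with n hn
  refine fibreIntegral_eq_sum_pieces (fun k => (S k).ι) π n (finite_fibre_of_isFinite π n) F ?_
  intro z hz
  have hz' : z ∈ ⋃ k, (S k : Set A₃) := by
    by_contra hne
    exact hn ⟨z, hne, hz⟩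
  obtain ⟨k, hk⟩ := Set.mem_iUnion.mp hz'
  refine ⟨k, ?_, fun k' hk' => ?_⟩
  · show z ∈ Set.range (S k).ι
    rw [Scheme.Opens.range_ι]; exact hk
  · have hk'' : z ∈ Set.range (S k').ι := hk'
    rw [Scheme.Opens.range_ι] at hk''
    exact hdisj k' k ⟨z, hk'', hk⟩

/-- **Main theorem**: a weighting integrates to a locally constant function on every finite chart
over an arbitrary base (not only étale ones). -/
theorem isLocallyConstant_of_isChart {f : X ⟶ Y} [LocallyQuasiFinite f] [LocallyOfFiniteType f]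
    {w : X → ℤ} (hw : MoreMor.IsWeighting f w) {V A : Scheme.{u}} {ρ : V ⟶ Y} {a : A ⟶ X}
    {p : A ⟶ V} (hA : IsChart f ρ a p) [IsFinite p] :
    IsLocallyConstant (MoreMor.fibreIntegral p (w ∘ a)) := by
  classical
  rw [IsLocallyConstant.iff_eventually_eq]
  intro v
  -- Step 1: the images in `X` of the fibre over `v`
  have hfib : (p ⁻¹' {v}).Finite := p.finite_preimage_singleton v
  obtain ⟨m, x, hx⟩ := (hfib.image a).fin_embedding
  have hs : ∀ i, f (x i) = ρ v := by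
    intro i
    obtain ⟨u, hu, hux⟩ : x i ∈ a '' (p ⁻¹' {v}) := hx ▸ Set.mem_range_self i
    have hu' : p u = v := hu
    rw [← hux, ← Scheme.Hom.comp_apply, hA.comm, Scheme.Hom.comp_apply, hu']
  obtain ⟨W, g, w₀, hg, hgw, J, hJ, T, t, hT, hTinj, hTall⟩ :=
    Groth.Agent.Lib.Helper19.PI.main_pi f (ρ v) x x.injective hs (fun i => f.quasiFiniteAt _)
  haveI := hg
  -- Step 2: base change to `V'' = V ×_Y W`
  obtain ⟨v'', hv''e, hv''r⟩ := Scheme.Pullback.exists_preimage_pullback v w₀ hgw.symm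
  have hA'' := hA.baseChange (pullback.fst ρ g) (pullback.fst ρ g ≫ ρ) rfl
  -- Step 3: split the finite morphism `p''` near `v''`
  have hfib'' : ((pullback.snd p (pullback.fst ρ g)) ⁻¹' {v''}).Finite :=
    (pullback.snd p (pullback.fst ρ g)).finite_preimage_singleton v''
  obtain ⟨m', y, hy⟩ := hfib''.fin_embedding
  have hys : ∀ k, pullback.snd p (pullback.fst ρ g) (y k) = v'' := by
    intro k
    have : y k ∈ (pullback.snd p (pullback.fst ρ g)) ⁻¹' {v''} := hy ▸ Set.mem_range_self k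
    exact this
  obtain ⟨V₃, e₃, v₃, he₃, he₃v, J', hJ', S, s, hSclopen, hSdisj, hS, hSall⟩ :=
    Groth.Agent.Lib.Helper19.PI12.main_pi_sep (pullback.snd p (pullback.fst ρ g)) v'' y
      y.injective hys (fun k => (pullback.snd p (pullback.fst ρ g)).quasiFiniteAt _)
  haveI := he₃
  have hA₃ := hA''.baseChange e₃ (e₃ ≫ pullback.fst ρ g ≫ ρ) rfl
  have hρ₃c : e₃ ≫ pullback.fst ρ g ≫ ρ = (e₃ ≫ pullback.snd ρ g) ≫ g := by
    rw [Category.assoc, pullback.condition]
  have hcv₃ : (e₃ ≫ pullback.snd ρ g) v₃ = w₀ := by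
    rw [Scheme.Hom.comp_apply, he₃v, hv''r]
  -- the pieces
  haveI : ∀ k, Finite (J' k) := hJ'
  letI : Fintype (Σ k : Fin m', J' k) := Fintype.ofFinite _
  let S' : (Σ k : Fin m', J' k) → (pullback (pullback.snd p (pullback.fst ρ g)) e₃).Opens :=
    fun κ => S κ.1 κ.2
  have hdisj' : ∀ κ κ', ((S' κ : Set ↑(pullback (pullback.snd p (pullback.fst ρ g)) e₃)) ∩
      (S' κ' : Set ↑(pullback (pullback.snd p (pullback.fst ρ g)) e₃))).Nonempty → κ = κ' := by
    rintro ⟨k, l⟩ ⟨k', l'⟩ hne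
    obtain ⟨h1, h2⟩ := hSdisj k l k' l' hne
    subst h1
    rw [eq_of_heq h2]
  have hall' : ∀ z : ↑(pullback (pullback.snd p (pullback.fst ρ g)) e₃),
      pullback.snd (pullback.snd p (pullback.fst ρ g)) e₃ z = v₃ → ∃ κ, z ∈ S' κ := by
    intro z hz
    have h1 : pullback.fst (pullback.snd p (pullback.fst ρ g)) e₃ z ∈
        (pullback.snd p (pullback.fst ρ g)) ⁻¹' {v''} := by
      show pullback.snd p (pullback.fst ρ g) (pullback.fst _ e₃ z) = v''
      rw [← Scheme.Hom.comp_apply, pullback.condition, Scheme.Hom.comp_apply, hz, he₃v]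
    rw [← hy] at h1
    obtain ⟨k, hk⟩ := h1
    obtain ⟨l, hl⟩ := hSall z k hz hk.symm
    exact ⟨⟨k, l⟩, hl⟩
  -- each piece is eventually constant
  have hpiece : ∀ κ : (Σ k : Fin m', J' k), ∀ᶠ n in nhds v₃,
      MoreMor.fibreIntegral ((S' κ).ι ≫ pullback.snd (pullback.snd p (pullback.fst ρ g)) e₃)
        ((w ∘ (pullback.fst (pullback.snd p (pullback.fst ρ g)) e₃ ≫
          pullback.fst p (pullback.fst ρ g) ≫ a)) ∘ (S' κ).ι) n =
      MoreMor.fibreIntegral ((S' κ).ι ≫ pullback.snd (pullback.snd p (pullback.fst ρ g)) e₃)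
        ((w ∘ (pullback.fst (pullback.snd p (pullback.fst ρ g)) e₃ ≫
          pullback.fst p (pullback.fst ρ g) ≫ a)) ∘ (S' κ).ι) v₃ := by
    rintro ⟨k, l⟩
    obtain ⟨hs1, hs2, hs3, hs4, hs5, hs6⟩ := hS k l
    haveI : IsFinite ((S' ⟨k, l⟩).ι ≫ pullback.snd (pullback.snd p (pullback.fst ρ g)) e₃) := hs2
    have hSκ := hA₃.restrict (S' ⟨k, l⟩).ι
    let s₀ : (S' ⟨k, l⟩).toScheme := ⟨s k l, hs1⟩
    have hs₀ : ((S' ⟨k, l⟩).ι ≫ pullback.snd (pullback.snd p (pullback.fst ρ g)) e₃) s₀ = v₃ := hs3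
    have hus : ∀ z : (S' ⟨k, l⟩).toScheme,
        ((S' ⟨k, l⟩).ι ≫ pullback.snd (pullback.snd p (pullback.fst ρ g)) e₃) z = v₃ → z = s₀ :=
      fun z hz => Subtype.ext (hs4 z.1 z.2 hz)
    -- the image in `pullback f g`
    set z₀ := beta f g (e₃ ≫ pullback.snd ρ g) (e₃ ≫ pullback.fst ρ g ≫ ρ) hρ₃c (hSκ.j s₀)
      with hz₀
    have hm1 : hSκ.j ≫ beta f g (e₃ ≫ pullback.snd ρ g) (e₃ ≫ pullback.fst ρ g ≫ ρ) hρ₃c ≫
        pullback.snd f g = ((S' ⟨k, l⟩).ι ≫ pullback.snd (pullback.snd p (pullback.fst ρ g)) e₃) ≫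
          (e₃ ≫ pullback.snd ρ g) := by
      rw [beta_snd, ← Category.assoc, hSκ.j_snd]
    have hm2 : hSκ.j ≫ beta f g (e₃ ≫ pullback.snd ρ g) (e₃ ≫ pullback.fst ρ g ≫ ρ) hρ₃c ≫
        pullback.fst f g = (S' ⟨k, l⟩).ι ≫ (pullback.fst (pullback.snd p (pullback.fst ρ g)) e₃ ≫
          pullback.fst p (pullback.fst ρ g) ≫ a) := by
      rw [beta_fst, hSκ.j_fst]
    have hz₀snd : pullback.snd f g z₀ = w₀ := by
      show (hSκ.j ≫ beta f g (e₃ ≫ pullback.snd ρ g) (e₃ ≫ pullback.fst ρ g ≫ ρ) hρ₃c ≫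
        pullback.snd f g) s₀ = w₀
      rw [hm1]
      show (e₃ ≫ pullback.snd ρ g)
        (((S' ⟨k, l⟩).ι ≫ pullback.snd (pullback.snd p (pullback.fst ρ g)) e₃) s₀) = w₀
      rw [hs₀, hcv₃]
    have hz₀fst : pullback.fst f g z₀ =
        a (pullback.fst p (pullback.fst ρ g) (y k)) := by
      show (hSκ.j ≫ beta f g (e₃ ≫ pullback.snd ρ g) (e₃ ≫ pullback.fst ρ g ≫ ρ) hρ₃c ≫
        pullback.fst f g) s₀ = _
      rw [hm2]
      show a (pullback.fst p (pullback.fst ρ g)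
        (pullback.fst (pullback.snd p (pullback.fst ρ g)) e₃ (s k l))) = _
      rw [hs6]
    have hmemx : a (pullback.fst p (pullback.fst ρ g) (y k)) ∈ Set.range x := by
      rw [hx]
      refine ⟨_, ?_, rfl⟩
      show p (pullback.fst p (pullback.fst ρ g) (y k)) = v
      rw [← Scheme.Hom.comp_apply, pullback.condition, Scheme.Hom.comp_apply, hys k, hv''e]
    obtain ⟨i, hi⟩ := hmemx
    obtain ⟨j, hj⟩ := hTall z₀ i hz₀snd (hz₀fst.trans hi.symm)
    obtain ⟨ht1, ht2, ht3, ht4, ht5, ht6⟩ := hT i j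
    haveI : IsFinite ((T i j).ι ≫ pullback.snd f g) := ht2
    exact eventually_const_of_mem hw g (T i j) w₀ (t i j) ht1 ht3 ht4 ht5.2
      (e₃ ≫ pullback.snd ρ g) (e₃ ≫ pullback.fst ρ g ≫ ρ) hρ₃c v₃ hcv₃ hSκ s₀ hs₀ hus
      (by rw [← hz₀, hj]; exact ht1)
  -- combine
  have hsum := eventually_eq_sum_pieces (pullback.snd (pullback.snd p (pullback.fst ρ g)) e₃) v₃ S'
    hdisj' hall' (w ∘ (pullback.fst (pullback.snd p (pullback.fst ρ g)) e₃ ≫
      pullback.fst p (pullback.fst ρ g) ≫ a))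
  have hall := Filter.eventually_all.mpr hpiece
  have h₃ : ∀ᶠ n in nhds v₃,
      MoreMor.fibreIntegral (pullback.snd (pullback.snd p (pullback.fst ρ g)) e₃)
        (w ∘ (pullback.fst (pullback.snd p (pullback.fst ρ g)) e₃ ≫
          pullback.fst p (pullback.fst ρ g) ≫ a)) n =
      MoreMor.fibreIntegral (pullback.snd (pullback.snd p (pullback.fst ρ g)) e₃)
        (w ∘ (pullback.fst (pullback.snd p (pullback.fst ρ g)) e₃ ≫
          pullback.fst p (pullback.fst ρ g) ≫ a)) v₃ := by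
    have hsum₀ := hsum.self_of_nhds
    filter_upwards [hsum, hall] with n hn1 hn2
    rw [hn1, hsum₀]
    exact Finset.sum_congr rfl fun κ _ => hn2 κ
  -- transfer back to `V`
  have htr : ∀ n : V₃,
      MoreMor.fibreIntegral (pullback.snd (pullback.snd p (pullback.fst ρ g)) e₃)
        (w ∘ (pullback.fst (pullback.snd p (pullback.fst ρ g)) e₃ ≫
          pullback.fst p (pullback.fst ρ g) ≫ a)) n =
      MoreMor.fibreIntegral p (w ∘ a) ((e₃ ≫ pullback.fst ρ g) n) := by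
    intro n
    have h1 := fibreIntegral_pullback (pullback.snd p (pullback.fst ρ g)) e₃
      (w ∘ (pullback.fst p (pullback.fst ρ g) ≫ a)) n
    have h2 := fibreIntegral_pullback p (pullback.fst ρ g) (w ∘ a) (e₃ n)
    exact h1.trans h2
  have hεv : (e₃ ≫ pullback.fst ρ g) v₃ = v := by
    rw [Scheme.Hom.comp_apply, he₃v, hv''e]
  have hopen : IsOpenMap (e₃ ≫ pullback.fst ρ g) := (e₃ ≫ pullback.fst ρ g).isOpenMap
  have hN := hopen.image_mem_nhds h₃
  rw [hεv] at hN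
  filter_upwards [hN] with m' hm'
  obtain ⟨n, hn, rfl⟩ := hm'
  have hn' := hn
  change _ = _ at hn'
  rw [htr n, htr v₃, hεv] at hn'
  exact hn'

end Groth.Agent.Lib.lead.WtF

namespace Groth.Agent.Lib.lead.WtF

open AlgebraicGeometry CategoryTheory Limits Groth.Agent.Lib.lead.WtD

theorem S1419 {X Y : Scheme.{u}} (f : X ⟶ Y) [LocallyQuasiFinite f] [LocallyOfFiniteType f] (w : ↑X → ℤ) (hw : MoreMor.IsWeighting f w)
    {X' Y' : Scheme.{u}} (f' : X' ⟶ Y') (h : X' ⟶ X) (g : Y' ⟶ Y) (hc : IsPullback h f' f g) :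
    MoreMor.IsWeighting f' (w ∘ ⇑h) := by
  intro V g' _ U hU
  haveI : IsFinite (U.ι ≫ pullback.snd f' g') := hU
  -- the chart over `g' ≫ g`
  have hpaste : IsPullback (pullback.fst f' g' ≫ h) (pullback.snd f' g') f (g' ≫ g) :=
    (IsPullback.of_hasPullback f' g').paste_horiz hc
  have comm : (U.ι ≫ pullback.fst f' g' ≫ h) ≫ f = (U.ι ≫ pullback.snd f' g') ≫ (g' ≫ g) := by
    have := hpaste.w
    simp only [Category.assoc] at this ⊢
    rw [this]
  have hchart : IsChart f (g' ≫ g) (U.ι ≫ pullback.fst f' g' ≫ h) (U.ι ≫ pullback.snd f' g') := by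
    refine ⟨comm, ?_⟩
    have : pullback.lift (U.ι ≫ pullback.fst f' g' ≫ h) (U.ι ≫ pullback.snd f' g') comm =
        U.ι ≫ hpaste.isoPullback.hom := by
      apply pullback.hom_ext
      · rw [pullback.lift_fst, Category.assoc, hpaste.isoPullback_hom_fst]
      · rw [pullback.lift_snd, Category.assoc, hpaste.isoPullback_hom_snd]
    rw [this]
    infer_instance
  exact isLocallyConstant_of_isChart hw hchart

end Groth.Agent.Lib.lead.WtF
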