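import Mathlib
import Groth.Agent.Lib.lead.WtF

set_option autoImplicit false
set_option linter.style.haveILetI false
set_option linter.unusedSectionVars false
universe u

namespace Groth.Agent.Lib.lead.WtG

open AlgebraicGeometry CategoryTheory Limits IsLocalRing Groth.Agent.Lib.lead.WtA
  Groth.Agent.Lib.lead.WtB Groth.Agent.Lib.lead.WtC Groth.Agent.Lib.lead.WtD
  Groth.Agent.Lib.lead.WtE Groth.Agent.Lib.lead.WtF

variable {X Y : Scheme.{u}}

/-- Strong étale localization at a single point. -/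
theorem exists_piece (f : X ⟶ Y) [LocallyQuasiFinite f] [LocallyOfFiniteType f] (x : X) :
    ∃ (W : Scheme.{u}) (g : W ⟶ Y) (w₀ : W) (_ : Etale g) (T : (pullback f g).Opens)
      (t : ↑(pullback f g)), g w₀ = f x ∧ t ∈ T ∧ IsFinite (T.ι ≫ pullback.snd f g) ∧
        pullback.snd f g t = w₀ ∧
        (∀ z : ↑(pullback f g), z ∈ T → pullback.snd f g z = w₀ → z = t) ∧
        ((pullback.snd f g).residueFieldMap t).hom.IsPurelyInseparable ∧
        pullback.fst f g t = x := by
  obtain ⟨W, g, w₀, hg, hgw, J, hJ, T, t, hT, hTinj, hTall⟩ :=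
    Groth.Agent.Lib.Helper19.PI.main_pi f (f x) (fun _ : Fin 1 => x)
      (fun a b _ => Subsingleton.elim a b) (fun _ => rfl) (fun _ => f.quasiFiniteAt _)
  obtain ⟨z, hz1, hz2⟩ := Scheme.Pullback.exists_preimage_pullback x w₀ hgw.symm
  obtain ⟨j, hj⟩ := hTall z 0 hz2 hz1
  obtain ⟨ht1, ht2, ht3, ht4, ht5, ht6⟩ := hT 0 j
  exact ⟨W, g, w₀, hg, T 0 j, t 0 j, hgw, ht1, ht2, ht3, ht4, ht5.2, ht6⟩

/-- Terms of a fibre integral are nonnegative for nonnegative weights. -/
theorem term_nonneg {U V : Scheme.{u}} (π : U ⟶ V) (F : U → ℤ) (hF : ∀ u, 0 ≤ F u) (u : U) :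
    0 ≤ F u * (letI := (π.residueFieldMap u).hom.toAlgebra;
      (Field.finSepDegree (V.residueField (π u)) (U.residueField u) : ℤ)) :=
  mul_nonneg (hF u) (Int.natCast_nonneg _)

theorem fibreIntegral_nonneg {U V : Scheme.{u}} (π : U ⟶ V) (F : U → ℤ) (hF : ∀ u, 0 ≤ F u)
    (n : V) : 0 ≤ MoreMor.fibreIntegral π F n :=
  finsum_nonneg fun u => term_nonneg π F hF u.1

/-- Each weight is bounded by the fibre integral (positive weights, finite fibre). -/
theorem le_fibreIntegral {U V : Scheme.{u}} (π : U ⟶ V) [LocallyQuasiFinite π] (F : U → ℤ)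
    (hF : ∀ u, 0 ≤ F u) (n : V) (hfin : Finite {u : U // π u = n}) (u : U) (hu : π u = n) :
    F u ≤ MoreMor.fibreIntegral π F n := by
  have h1 := single_le_finsum (f := fun u : {u : U // π u = n} => F u.1 *
    (letI := (π.residueFieldMap u.1).hom.toAlgebra;
      (Field.finSepDegree (V.residueField (π u.1)) (U.residueField u.1) : ℤ))) ⟨u, hu⟩
    (Set.toFinite _) (fun u => term_nonneg π F hF u.1)
  refine le_trans ?_ h1
  letI := (π.residueFieldMap u).hom.toAlgebra
  haveI := finite_residueFieldMap π u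
  have h2 : (1 : ℤ) ≤ (Field.finSepDegree (V.residueField (π u)) (U.residueField u) : ℤ) := by
    have : 0 < Field.finSepDegree (V.residueField (π u)) (U.residueField u) :=
      Nat.pos_of_ne_zero (NeZero.ne _)
    exact_mod_cast this
  calc F u = F u * 1 := (mul_one _).symm
    _ ≤ _ := mul_le_mul_of_nonneg_left h2 (hF u)

/-- If the fibre integral is nonzero then the fibre is nonempty. -/
theorem exists_of_fibreIntegral_ne_zero {U V : Scheme.{u}} (π : U ⟶ V) (F : U → ℤ) (n : V)
    (h : MoreMor.fibreIntegral π F n ≠ 0) : ∃ u : U, π u = n := by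
  by_contra hne
  push Not at hne
  haveI : IsEmpty {u : U // π u = n} := ⟨fun u => hne u.1 u.2⟩
  exact h (finsum_of_isEmpty _)

section

variable (f : X ⟶ Y) [LocallyQuasiFinite f] [LocallyOfFiniteType f] (w : X → ℤ)
  (hw : MoreMor.IsWeighting f w)

include hw in
/-- The integral over a localization piece is locally constant and equals the weight at the
centre. -/
theorem piece_integral {W : Scheme.{u}} (g : W ⟶ Y) [Etale g] (T : (pullback f g).Opens)
    [IsFinite (T.ι ≫ pullback.snd f g)] (w₀ : W) (t : ↑(pullback f g)) (ht : t ∈ T)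
    (htw : pullback.snd f g t = w₀)
    (huniq : ∀ z : ↑(pullback f g), z ∈ T → pullback.snd f g z = w₀ → z = t)
    (hpi : ((pullback.snd f g).residueFieldMap t).hom.IsPurelyInseparable) :
    ∀ᶠ n in nhds w₀, MoreMor.fibreIntegral (T.ι ≫ pullback.snd f g)
      (w ∘ (T.ι ≫ pullback.fst f g)) n = w (pullback.fst f g t) := by
  have h1 := ((IsChart.of_opens f g T).isLocallyConstant hw).eventually_eq w₀
  have h2 : MoreMor.fibreIntegral (T.ι ≫ pullback.snd f g) (w ∘ (T.ι ≫ pullback.fst f g)) w₀ =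
      w (pullback.fst f g t) := by
    let t' : T.toScheme := ⟨t, ht⟩
    have := fibreIntegral_of_unique_pi (T.ι ≫ pullback.snd f g) w₀ t' htw
      (fun z hz => Subtype.ext (huniq z.1 z.2 hz))
      (isPurelyInseparable_residueFieldMap_ι_comp _ T t' hpi) (w ∘ (T.ι ≫ pullback.fst f g))
    rw [this]
    rfl
  filter_upwards [h1] with n hn
  rw [hn, h2]

include hw in
/-- A positive weighting forces the morphism to be open. -/
theorem isOpenMap_of_pos (hpos : ∀ x, 0 < w x) : IsOpenMap f := by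
  intro O hO
  rw [isOpen_iff_mem_nhds]
  rintro _ ⟨x, hxO, rfl⟩
  obtain ⟨W, g, w₀, hg, T, t, hgw, ht, hfin, htw, huniq, hpi, htx⟩ := exists_piece f x
  haveI := hg
  haveI := hfin
  have h1 := piece_integral f w hw g T w₀ t ht htw huniq hpi
  -- the part of T not mapping into O
  have hcl : IsClosed ((T.ι ≫ pullback.snd f g) '' ((T.ι ≫ pullback.fst f g) ⁻¹' O)ᶜ) :=
    (T.ι ≫ pullback.snd f g).isClosedMap _
      (hO.preimage (T.ι ≫ pullback.fst f g).continuous).isClosed_compl
  have hw₀ : w₀ ∉ (T.ι ≫ pullback.snd f g) '' ((T.ι ≫ pullback.fst f g) ⁻¹' O)ᶜ := by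
    rintro ⟨z, hz, hzw⟩
    have hzt : z.1 = t := huniq z.1 z.2 hzw
    apply hz
    show pullback.fst f g z.1 ∈ O
    rw [hzt, htx]
    exact hxO
  have hN := hcl.isOpen_compl.mem_nhds hw₀
  have hopen : IsOpenMap g := g.isOpenMap
  have himg := hopen.image_mem_nhds (Filter.inter_mem h1 hN)
  rw [hgw] at himg
  refine Filter.mem_of_superset himg ?_
  rintro _ ⟨n, ⟨hn1, hn2⟩, rfl⟩
  have hne : MoreMor.fibreIntegral (T.ι ≫ pullback.snd f g)
      (w ∘ (T.ι ≫ pullback.fst f g)) n ≠ 0 := by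
    rw [hn1]
    exact (hpos _).ne'
  obtain ⟨z, hz⟩ := exists_of_fibreIntegral_ne_zero _ _ n hne
  have hzO : (T.ι ≫ pullback.fst f g) z ∈ O := by
    by_contra hne'
    exact hn2 ⟨z, hne', hz⟩
  refine ⟨(T.ι ≫ pullback.fst f g) z, hzO, ?_⟩
  rw [← hz, ← Scheme.Hom.comp_apply, ← Scheme.Hom.comp_apply, Category.assoc, Category.assoc,
    pullback.condition]

include hw in
/-- A positive weighting is upper semicontinuous. -/
theorem upperSemicontinuous_of_pos (hpos : ∀ x, 0 < w x) : UpperSemicontinuous w := by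
  intro x c hc
  obtain ⟨W, g, w₀, hg, T, t, hgw, ht, hfin, htw, huniq, hpi, htx⟩ := exists_piece f x
  haveI := hg
  haveI := hfin
  have h1 := piece_integral f w hw g T w₀ t ht htw huniq hpi
  rw [htx] at h1
  obtain ⟨N, hNsub, hNo, hw₀N⟩ := mem_nhds_iff.mp h1
  -- the open set T ∩ snd⁻¹ N
  have hZo : IsOpen ((T : Set ↑(pullback f g)) ∩ (pullback.snd f g) ⁻¹' N) :=
    T.2.inter (hNo.preimage (pullback.snd f g).continuous)
  have hfo : IsOpenMap (pullback.fst f g) := (pullback.fst f g).isOpenMap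
  have hmem : pullback.fst f g '' ((T : Set ↑(pullback f g)) ∩ (pullback.snd f g) ⁻¹' N) ∈
      nhds x := by
    refine (hfo _ hZo).mem_nhds ⟨t, ⟨ht, ?_⟩, htx⟩
    show pullback.snd f g t ∈ N
    rw [htw]; exact hw₀N
  filter_upwards [hmem] with x' hx'
  obtain ⟨z, ⟨hzT, hzN⟩, rfl⟩ := hx'
  have hI := hNsub hzN
  change MoreMor.fibreIntegral _ _ _ = w x at hI
  have hle := le_fibreIntegral (T.ι ≫ pullback.snd f g) (w ∘ (T.ι ≫ pullback.fst f g))
    (fun u => (hpos _).le) (pullback.snd f g z) (finite_fibre_of_isFinite _ _)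
    (⟨z, hzT⟩ : T.toScheme) rfl
  rw [hI] at hle
  exact lt_of_le_of_lt hle hc

end

end Groth.Agent.Lib.lead.WtG
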