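import Mathlib
import Groth.Agent.Lib.lead.WtG

set_option autoImplicit false
set_option linter.style.haveILetI false
set_option linter.unusedSectionVars false
universe u

namespace Groth.Agent.Lib.lead.WtH

open AlgebraicGeometry CategoryTheory Limits IsLocalRing Groth.Agent.Lib.lead.WtA
  Groth.Agent.Lib.lead.WtB Groth.Agent.Lib.lead.WtC Groth.Agent.Lib.lead.WtD
  Groth.Agent.Lib.lead.WtE Groth.Agent.Lib.lead.WtF Groth.Agent.Lib.lead.WtG

variable {X Y : Scheme.{u}}

theorem universallyOpen_of_pos (f : X ⟶ Y) [LocallyQuasiFinite f] [LocallyOfFiniteType f]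
    (w : X → ℤ) (hw : MoreMor.IsWeighting f w) (hpos : ∀ x, 0 < w x) : UniversallyOpen f := by
  refine ⟨fun X' Y' i₁ i₂ f' hc => ?_⟩
  haveI : LocallyQuasiFinite f' := MorphismProperty.of_isPullback hc.flip inferInstance
  haveI : LocallyOfFiniteType f' := MorphismProperty.of_isPullback hc.flip inferInstance
  have hw' : MoreMor.IsWeighting f' (w ∘ i₁) := WtF.S1419 f w hw f' i₁ i₂ hc.flip
  exact isOpenMap_of_pos f' (w ∘ i₁) hw' (fun x => hpos _)

end Groth.Agent.Lib.lead.WtH
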