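import Mathlib
import Groth.Agent.Lib.lead.WtH
import Groth.Agent.Lib.helper19.PI12

set_option autoImplicit false
set_option linter.style.haveILetI false
set_option linter.unusedSectionVars false
universe u

namespace Groth.Agent.Lib.lead.WtI

open AlgebraicGeometry CategoryTheory Limits IsLocalRing Groth.Agent.Lib.lead.WtA
  Groth.Agent.Lib.lead.WtB Groth.Agent.Lib.lead.WtC Groth.Agent.Lib.lead.WtD
  Groth.Agent.Lib.lead.WtE Groth.Agent.Lib.lead.WtF Groth.Agent.Lib.lead.WtG

variable {X Y : Scheme.{u}}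

/-- Decomposition of a fibre integral into finitely many pairwise disjoint open pieces and the
open complement of their union (assumed open). -/
theorem fibreIntegral_eq_sum_add {U V : Scheme.{u}} (π : U ⟶ V) [LocallyQuasiFinite π]
    {K : Type} [Fintype K] (T : K → U.Opens) (R : U.Opens)
    (hdisj : ∀ k k', ((T k : Set U) ∩ (T k')).Nonempty → k = k')
    (hR : ∀ u : U, u ∈ R ↔ ∀ k, u ∉ T k) (F : U → ℤ) (n : V)
    (hfin : Finite {u : U // π u = n}) :
    MoreMor.fibreIntegral π F n =
      MoreMor.fibreIntegral (R.ι ≫ π) (F ∘ R.ι) n +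
        ∑ k, MoreMor.fibreIntegral ((T k).ι ≫ π) (F ∘ (T k).ι) n := by
  classical
  let T' : Option K → U.Opens := fun o => o.elim R T
  have hpart : ∀ u : U, π u = n → ∃! o, u ∈ Set.range (T' o).ι := by
    intro u _
    simp only [Scheme.Opens.range_ι]
    by_cases hu : u ∈ R
    · refine ⟨none, hu, ?_⟩
      rintro (_ | k) hk
      · rfl
      · exact absurd hk ((hR u).mp hu k)
    · have : ∃ k, u ∈ T k := by
        by_contra hne
        push Not at hne
        exact hu ((hR u).mpr hne)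
      obtain ⟨k, hk⟩ := this
      refine ⟨some k, hk, ?_⟩
      rintro (_ | k') hk'
      · exact absurd hk ((hR u).mp hk' k)
      · rw [hdisj k' k ⟨u, hk', hk⟩]
  rw [fibreIntegral_eq_sum_pieces (fun o => (T' o).ι) π n hfin F hpart, Fintype.sum_option]
  rfl

section

variable (f : X ⟶ Y) [LocallyQuasiFinite f] [LocallyOfFiniteType f] [IsSeparated f]
  (hfin : ∀ y : Y, (f ⁻¹' {y}).Finite) (w : X → ℤ) (hw : MoreMor.IsWeighting f w)

include hfin hw in
/-- Étale local structure of a separated locally quasi-finite morphism with finite fibres,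
together with the behaviour of a weighting. -/
theorem local_structure (y : Y) :
    ∃ (W : Scheme.{u}) (g : W ⟶ Y) (w₀ : W) (_ : Etale g) (K : Type) (_ : Fintype K)
      (T : K → (pullback f g).Opens) (R : (pullback f g).Opens),
      g w₀ = y ∧
      (∀ k, IsFinite ((T k).ι ≫ pullback.snd f g)) ∧
      (∀ u : ↑(pullback f g), u ∈ R ↔ ∀ k, u ∉ T k) ∧
      (∀ n : W, MoreMor.fibreIntegral f w (g n) =
        MoreMor.fibreIntegral (R.ι ≫ pullback.snd f g) ((w ∘ pullback.fst f g) ∘ R.ι) n +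
          ∑ k, MoreMor.fibreIntegral ((T k).ι ≫ pullback.snd f g)
            ((w ∘ pullback.fst f g) ∘ (T k).ι) n) ∧
      (∀ᶠ n in nhds w₀, ∑ k, MoreMor.fibreIntegral ((T k).ι ≫ pullback.snd f g)
            ((w ∘ pullback.fst f g) ∘ (T k).ι) n = MoreMor.fibreIntegral f w y) := by
  classical
  haveI := (hfin y).to_subtype
  let e : Fin (Nat.card (f ⁻¹' {y})) ≃ (f ⁻¹' {y}) := (Finite.equivFin (f ⁻¹' {y})).symm
  obtain ⟨W, g, w₀, hg, hgw, J, hJ, V, v, hclopen, hdisj, hV, hall⟩ :=
    Groth.Agent.Lib.Helper19.PI12.main_pi_sep f y (fun i => (e i).1)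
      (fun a b h => e.injective (Subtype.ext h)) (fun i => (e i).2) (fun i => f.quasiFiniteAt _)
  haveI := hg
  haveI := hJ
  letI : Fintype (Σ i, J i) := Fintype.ofFinite _
  let T : (Σ i, J i) → (pullback f g).Opens := fun k => V k.1 k.2
  have hclosed : IsClosed (⋃ k, (T k : Set ↑(pullback f g))) :=
    isClosed_iUnion_of_finite fun k => (hclopen k.1 k.2).1
  let R : (pullback f g).Opens := ⟨(⋃ k, (T k : Set ↑(pullback f g)))ᶜ, hclosed.isOpen_compl⟩
  have hR : ∀ u : ↑(pullback f g), u ∈ R ↔ ∀ k, u ∉ T k := by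
    intro u
    show u ∈ (⋃ k, (T k : Set ↑(pullback f g)))ᶜ ↔ _
    simp
  have hTdisj : ∀ k k', ((T k : Set ↑(pullback f g)) ∩ (T k')).Nonempty → k = k' := by
    rintro ⟨i, j⟩ ⟨i', j'⟩ h
    obtain ⟨h1, h2⟩ := hdisj i j i' j' h
    exact Sigma.ext h1 h2
  have hTfin : ∀ k, IsFinite ((T k).ι ≫ pullback.snd f g) := fun k => (hV k.1 k.2).2.1
  have hc : IsPullback (pullback.fst f g) (pullback.snd f g) f g := IsPullback.of_hasPullback f g
  have hfibfin : ∀ n : W, Finite {u : ↑(pullback f g) // pullback.snd f g u = n} := fun n =>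
    finite_fibre_baseChange hc n (hfin (g n)).to_subtype
  have hdecomp : ∀ n : W, MoreMor.fibreIntegral f w (g n) =
        MoreMor.fibreIntegral (R.ι ≫ pullback.snd f g) ((w ∘ pullback.fst f g) ∘ R.ι) n +
          ∑ k, MoreMor.fibreIntegral ((T k).ι ≫ pullback.snd f g)
            ((w ∘ pullback.fst f g) ∘ (T k).ι) n := by
    intro n
    rw [← fibreIntegral_baseChange hc w n (hfin (g n)).to_subtype]
    exact fibreIntegral_eq_sum_add (pullback.snd f g) T R hTdisj hR _ n (hfibfin n)
  refine ⟨W, g, w₀, hg, _, inferInstance, T, R, hgw, hTfin, hR, hdecomp, ?_⟩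
  -- local constancy of the pieces
  have hev : ∀ k : (Σ i, J i), ∀ᶠ n in nhds w₀,
      MoreMor.fibreIntegral ((T k).ι ≫ pullback.snd f g) ((w ∘ pullback.fst f g) ∘ (T k).ι) n =
        w (pullback.fst f g (v k.1 k.2)) := by
    rintro ⟨i, j⟩
    obtain ⟨h1, h2, h3, h4, h5, h6⟩ := hV i j
    haveI := h2
    exact piece_integral f w hw g (V i j) w₀ (v i j) h1 h3 h4 h5
  have hev' := Filter.eventually_all.mpr hev
  -- the integral over R vanishes at w₀
  have hR0 : MoreMor.fibreIntegral (R.ι ≫ pullback.snd f g) ((w ∘ pullback.fst f g) ∘ R.ι) w₀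
      = 0 := by
    haveI : IsEmpty {u : R.toScheme // (R.ι ≫ pullback.snd f g) u = w₀} := by
      constructor
      rintro ⟨u, hu⟩
      have hu' : pullback.snd f g u.1 = w₀ := hu
      have hfu : f (pullback.fst f g u.1) = y := by
        rw [← Scheme.Hom.comp_apply, pullback.condition, Scheme.Hom.comp_apply, hu', hgw]
      obtain ⟨j, hj⟩ := hall u.1 (e.symm ⟨pullback.fst f g u.1, hfu⟩) hu'
        (by rw [Equiv.apply_symm_apply])
      exact (hR u.1).mp u.2 ⟨_, j⟩ hj
    exact finsum_of_isEmpty _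
  have h0 := hdecomp w₀
  rw [hR0, zero_add, hgw] at h0
  filter_upwards [hev'] with n hn
  rw [h0]
  refine Finset.sum_congr rfl fun k _ => ?_
  rw [hn k, (hev k).self_of_nhds]

include hfin hw in
theorem eventually_le (hpos : ∀ x, 0 < w x) (y : Y) :
    ∀ᶠ y' in nhds y, MoreMor.fibreIntegral f w y ≤ MoreMor.fibreIntegral f w y' := by
  obtain ⟨W, g, w₀, hg, K, hK, T, R, hgw, hTfin, hR, hdecomp, hev⟩ :=
    local_structure f hfin w hw y
  haveI := hg
  have hopen : IsOpenMap g := g.isOpenMap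
  have himg := hopen.image_mem_nhds hev
  rw [hgw] at himg
  refine Filter.mem_of_superset himg ?_
  rintro _ ⟨n, hn, rfl⟩
  show MoreMor.fibreIntegral f w y ≤ MoreMor.fibreIntegral f w (g n)
  rw [hdecomp n]
  have hn' : ∑ k, MoreMor.fibreIntegral ((T k).ι ≫ pullback.snd f g)
            ((w ∘ pullback.fst f g) ∘ (T k).ι) n = MoreMor.fibreIntegral f w y := hn
  rw [hn']
  have := fibreIntegral_nonneg (R.ι ≫ pullback.snd f g) ((w ∘ pullback.fst f g) ∘ R.ι)
    (fun u => (hpos _).le) n
  linarith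

include hfin hw in
theorem lowerSemicontinuous_fibreIntegral (hpos : ∀ x, 0 < w x) :
    LowerSemicontinuous (MoreMor.fibreIntegral f w) := by
  intro y c hc
  filter_upwards [eventually_le f hfin w hw hpos y] with y' hy'
  exact lt_of_lt_of_le hc hy'

end

end Groth.Agent.Lib.lead.WtI
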