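import Mathlib
import Groth.Agent.Lib.lead.WtI
import Groth.Agent.Lib.Helper4.AffineDescent
import Groth.Agent.Lib.helper19.QFL6

set_option autoImplicit false
set_option linter.style.haveILetI false
set_option linter.unusedSectionVars false
universe u

namespace Groth.Agent.Lib.lead.WtJ

open AlgebraicGeometry CategoryTheory Limits IsLocalRing

variable {X Y : Scheme.{u}}

/-- Finiteness descends along surjective étale morphisms. -/
theorem isFinite_of_isPullback_etale {A X' Y' Z : Scheme.{u}} {fst : A ⟶ X'} {snd : A ⟶ Y'}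
    {c : X' ⟶ Z} {q : Y' ⟶ Z} (h : IsPullback fst snd c q) [Surjective c] [Etale c]
    [IsFinite fst] : IsFinite q := by
  haveI := Groth.Agent.Lib.Helper4.AffineDescent.descendsAlong_isFinite.{u}
  exact MorphismProperty.of_isPullback_of_descendsAlong (P := @IsFinite)
    (Q := (@Surjective ⊓ @Flat ⊓ @LocallyOfFinitePresentation : MorphismProperty Scheme.{u})) h
    ⟨⟨inferInstance, inferInstance⟩, inferInstance⟩ inferInstance

/-- If the preimage of `N` lies in an open `VV` finite over the base, the restriction over `N` is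
finite. -/
theorem isFinite_restrict_of_le {P W : Scheme.{u}} (π : P ⟶ W) (VV : P.Opens)
    [IsFinite (VV.ι ≫ π)] (N : W.Opens) (hle : π ⁻¹ᵁ N ≤ VV) : IsFinite (π ∣_ N) := by
  have H : P.homOfLE hle ≫ (VV.ι ≫ π) = (π ∣_ N) ≫ N.ι := by
    rw [Scheme.homOfLE_ι_assoc, morphismRestrict_ι]
  have H' : (VV.ι ≫ π) ⁻¹ᵁ N.ι.opensRange = (P.homOfLE hle).opensRange := by
    rw [Scheme.opensRange_homOfLE, Scheme.Opens.opensRange_ι]
    rfl
  have hpb := IsOpenImmersion.isPullback (π ∣_ N) (P.homOfLE hle) N.ι (VV.ι ≫ π) H H'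
  exact MorphismProperty.of_isPullback hpb.flip inferInstance

/-- Descent of finiteness from an open part of an étale neighbourhood. -/
theorem isFinite_restrict_of_etale {W : Scheme.{u}} (f : X ⟶ Y) (g : W ⟶ Y) [Etale g]
    (N : W.Opens) (O : Y.Opens) (hO : (O : Set Y) = g '' (N : Set W))
    [IsFinite (pullback.snd f g ∣_ N)] : IsFinite (f ∣_ O) := by
  have hr1 : Set.range (N.ι ≫ g) ⊆ Set.range O.ι := by
    rw [Scheme.Opens.range_ι, hO]
    rintro _ ⟨n, rfl⟩
    exact ⟨n.1, n.2, rfl⟩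
  let c : N.toScheme ⟶ O.toScheme := IsOpenImmersion.lift O.ι (N.ι ≫ g) hr1
  have hc : c ≫ O.ι = N.ι ≫ g := IsOpenImmersion.lift_fac _ _ _
  have hr2 : Set.range (((pullback.snd f g) ⁻¹ᵁ N).ι ≫ pullback.fst f g) ⊆
      Set.range (f ⁻¹ᵁ O).ι := by
    rw [Scheme.Opens.range_ι]
    rintro _ ⟨z, rfl⟩
    show f (pullback.fst f g z.1) ∈ O
    rw [← Scheme.Hom.comp_apply, pullback.condition, Scheme.Hom.comp_apply]
    have : g (pullback.snd f g z.1) ∈ (O : Set Y) := by
      rw [hO]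
      exact ⟨_, z.2, rfl⟩
    exact this
  let a : ((pullback.snd f g) ⁻¹ᵁ N).toScheme ⟶ (f ⁻¹ᵁ O).toScheme :=
    IsOpenImmersion.lift (f ⁻¹ᵁ O).ι (((pullback.snd f g) ⁻¹ᵁ N).ι ≫ pullback.fst f g) hr2
  have ha : a ≫ (f ⁻¹ᵁ O).ι = ((pullback.snd f g) ⁻¹ᵁ N).ι ≫ pullback.fst f g :=
    IsOpenImmersion.lift_fac _ _ _
  have S1 := isPullback_morphismRestrict (pullback.snd f g) N
  have S2 := (IsPullback.of_hasPullback f g).flip
  have S12 := S1.paste_vert S2
  have S3 := isPullback_morphismRestrict f O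
  rw [← ha, ← hc] at S12
  have hcomm : (pullback.snd f g ∣_ N) ≫ c = a ≫ (f ∣_ O) := by
    rw [← cancel_mono O.ι, Category.assoc, hc, Category.assoc, morphismRestrict_ι,
      ← Category.assoc a, ha, ← Category.assoc, morphismRestrict_ι, Category.assoc, Category.assoc,
      pullback.condition]
  have hsq : IsPullback (pullback.snd f g ∣_ N) a c (f ∣_ O) := IsPullback.of_bot S12 hcomm S3
  -- properties of the cover `c`
  haveI : Etale (N.ι ≫ g) := inferInstance
  haveI : Etale c := by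
    have hpb := (IsOpenImmersion.isPullback_lift_id (N.ι ≫ g) O.ι hr1).flip
    exact MorphismProperty.of_isPullback hpb inferInstance
  haveI : Surjective c := by
    constructor
    intro o
    have : o.1 ∈ g '' (N : Set W) := by rw [← hO]; exact o.2
    obtain ⟨n, hn, hno⟩ := this
    refine ⟨⟨n, hn⟩, ?_⟩
    apply O.ι.isOpenEmbedding.injective
    rw [← Scheme.Hom.comp_apply, hc]
    exact hno
  exact isFinite_of_isPullback_etale hsq

/-- Finiteness over an open can be checked locally. -/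
theorem isFinite_restrict_of_forall (f : X ⟶ Y) (Yd : Y.Opens)
    (H : ∀ y ∈ Yd, ∃ O : Y.Opens, y ∈ O ∧ O ≤ Yd ∧ IsFinite (f ∣_ O)) : IsFinite (f ∣_ Yd) := by
  refine IsZariskiLocalAtTarget.of_forall_exists_morphismRestrict (P := @IsFinite) fun x => ?_
  obtain ⟨O, hxO, hOle, hfinO⟩ := H x.1 x.2
  refine ⟨Yd.ι ⁻¹ᵁ O, hxO, ?_⟩
  have e1 := morphismRestrictRestrict f Yd (Yd.ι ⁻¹ᵁ O)
  have heq : Yd.ι ''ᵁ (Yd.ι ⁻¹ᵁ O) = O := by
    rw [Scheme.Hom.image_preimage_eq_opensRange_inf, Scheme.Opens.opensRange_ι]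
    exact inf_eq_right.mpr hOle
  have e2 := morphismRestrictEq f heq
  exact ((MorphismProperty.arrow_mk_iso_iff @IsFinite (e1 ≪≫ e2))).mpr hfinO

end Groth.Agent.Lib.lead.WtJ
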