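import Mathlib
import Groth.Agent.Lib.lead.WtJ

set_option autoImplicit false
set_option linter.style.haveILetI false
set_option linter.unusedSectionVars false
universe u

namespace Groth.Agent.Lib.lead.WtK

open AlgebraicGeometry CategoryTheory Limits IsLocalRing Groth.Agent.Lib.lead.WtA
  Groth.Agent.Lib.lead.WtB Groth.Agent.Lib.lead.WtC Groth.Agent.Lib.lead.WtD
  Groth.Agent.Lib.lead.WtE Groth.Agent.Lib.lead.WtF Groth.Agent.Lib.lead.WtG
  Groth.Agent.Lib.lead.WtI Groth.Agent.Lib.lead.WtJ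

variable {X Y : Scheme.{u}}

section

variable (f : X ⟶ Y) [LocallyQuasiFinite f] [LocallyOfFiniteType f] [IsSeparated f]
  (hfin : ∀ y : Y, (f ⁻¹' {y}).Finite) (w : X → ℤ) (hw : MoreMor.IsWeighting f w)
  (hpos : ∀ x, 0 < w x) (d : ℤ) (hmax : ∀ y : Y, MoreMor.fibreIntegral f w y ≤ d)

include hfin hw hpos hmax in
theorem isOpen_max_locus : IsOpen {y : Y | MoreMor.fibreIntegral f w y = d} := by
  rw [isOpen_iff_eventually]
  intro y hy
  filter_upwards [eventually_le f hfin w hw hpos y] with y' hy'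
  have hy0 : MoreMor.fibreIntegral f w y = d := hy
  rw [hy0] at hy'
  exact le_antisymm (hmax y') hy'

include hfin hw hpos hmax in
theorem finite_near (y : Y) (hy : MoreMor.fibreIntegral f w y = d) :
    ∃ O : Y.Opens, y ∈ O ∧ (O : Set Y) ⊆ {y : Y | MoreMor.fibreIntegral f w y = d} ∧
      IsFinite (f ∣_ O) := by
  classical
  obtain ⟨W, g, w₀, hg, K, hK, T, R, hgw, hTfin, hR, hdecomp, hev⟩ :=
    local_structure f hfin w hw y
  haveI := hg
  have hYd := isOpen_max_locus f hfin w hw hpos d hmax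
  -- a neighbourhood of `w₀` where the pieces add up to `d` and the integral is `d`
  have hpre : ∀ᶠ n in nhds w₀, MoreMor.fibreIntegral f w (g n) = d := by
    have : g ⁻¹' {y : Y | MoreMor.fibreIntegral f w y = d} ∈ nhds w₀ :=
      (hYd.preimage g.continuous).mem_nhds (by show MoreMor.fibreIntegral f w (g w₀) = d; rw [hgw, hy])
    exact this
  obtain ⟨N₀, hN₀sub, hN₀o, hw₀N⟩ := mem_nhds_iff.mp (Filter.inter_mem hev hpre)
  let N : W.Opens := ⟨N₀, hN₀o⟩
  let O : Y.Opens := ⟨g '' N₀, g.isOpenMap _ hN₀o⟩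
  have hc : IsPullback (pullback.fst f g) (pullback.snd f g) f g := IsPullback.of_hasPullback f g
  -- the remainder has empty fibres over `N`
  have hRempty : ∀ u : ↑(pullback f g), pullback.snd f g u ∈ N₀ → ∃ k, u ∈ T k := by
    intro u hu
    by_contra hne
    push Not at hne
    have huR : u ∈ R := (hR u).mpr hne
    obtain ⟨h1, h2⟩ := hN₀sub hu
    have h1' : ∑ k, MoreMor.fibreIntegral ((T k).ι ≫ pullback.snd f g)
            ((w ∘ pullback.fst f g) ∘ (T k).ι) (pullback.snd f g u) =
              MoreMor.fibreIntegral f w y := h1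
    have h2' : MoreMor.fibreIntegral f w (g (pullback.snd f g u)) = d := h2
    have h3 := hdecomp (pullback.snd f g u)
    rw [h1', h2', hy] at h3
    have hzero : MoreMor.fibreIntegral (R.ι ≫ pullback.snd f g)
        ((w ∘ pullback.fst f g) ∘ R.ι) (pullback.snd f g u) = 0 := by linarith
    have hfibfin : Finite {z : ↑(pullback f g) // pullback.snd f g z = pullback.snd f g u} :=
      finite_fibre_baseChange hc _ (hfin _).to_subtype
    have hle := le_fibreIntegral (R.ι ≫ pullback.snd f g) ((w ∘ pullback.fst f g) ∘ R.ι)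
      (fun z => (hpos _).le) (pullback.snd f g u)
      (finite_fibre_comp_openImmersion R.ι (pullback.snd f g) _ hfibfin) (⟨u, huR⟩ : R.toScheme) rfl
    rw [hzero] at hle
    have : 0 < w (pullback.fst f g u) := hpos _
    exact absurd hle (not_le.mpr this)
  -- the union of the pieces is finite over `W`
  have hTc : ∀ k, IsClosed ((T k : (pullback f g).Opens) : Set ↑(pullback f g)) := fun k =>
    Groth.Agent.Lib.Helper19.QFL6.isClosed_of_finite (pullback.snd f g) (T k) (hTfin k)
  obtain ⟨-, hVVfin⟩ := Groth.Agent.Lib.Helper19.QFL6.finite_finsetSup (pullback.snd f g) T hTc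
    hTfin Finset.univ
  haveI := hVVfin
  have hle : (pullback.snd f g) ⁻¹ᵁ N ≤ Finset.univ.sup T := by
    intro u hu
    obtain ⟨k, hk⟩ := hRempty u hu
    exact (Finset.le_sup (f := T) (Finset.mem_univ k)) hk
  haveI : IsFinite (pullback.snd f g ∣_ N) :=
    isFinite_restrict_of_le (pullback.snd f g) (Finset.univ.sup T) N hle
  refine ⟨O, ⟨w₀, hw₀N, hgw⟩, ?_, isFinite_restrict_of_etale f g N O rfl⟩
  rintro _ ⟨n, hn, rfl⟩
  exact (hN₀sub hn).2

include hfin hw hpos hmax in
theorem S1428 :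
    ∃ hYd : IsOpen {y : ↑Y | MoreMor.fibreIntegral f w y = d},
      IsFinite (f ∣_ ⟨{y : ↑Y | MoreMor.fibreIntegral f w y = d}, hYd⟩) := by
  refine ⟨isOpen_max_locus f hfin w hw hpos d hmax, ?_⟩
  refine isFinite_restrict_of_forall f _ fun y hy => ?_
  obtain ⟨O, hyO, hOsub, hOfin⟩ := finite_near f hfin w hw hpos d hmax y hy
  exact ⟨O, hyO, hOsub, hOfin⟩

end

end Groth.Agent.Lib.lead.WtK
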