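import Mathlib
import Groth.Agent.Lib.lead.WtK

set_option autoImplicit false
set_option linter.style.haveILetI false
set_option linter.unusedSectionVars false
universe u

namespace Groth.Agent.Lib.lead.WtL

open AlgebraicGeometry CategoryTheory Limits IsLocalRing Groth.Agent.Lib.lead.WtA
  Groth.Agent.Lib.lead.WtB Groth.Agent.Lib.lead.WtC Groth.Agent.Lib.lead.WtD
  Groth.Agent.Lib.lead.WtE Groth.Agent.Lib.lead.WtF Groth.Agent.Lib.lead.WtG

variable {X Z : Scheme.{u}}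

/-- **Reduction lemma**: to prove that a function integrates to locally constant functions on
all finite charts of `h`, it suffices to treat finite charts with a unique point in the fibre
whose residue field extension is purely inseparable. -/
theorem isLocallyConstant_of_unique_pi (h : X ⟶ Z) (F : X → ℤ)
    (H : ∀ {V B : Scheme.{u}} (ρ : V ⟶ Z) (b : B ⟶ X) (q : B ⟶ V) (_ : IsChart h ρ b q)
      [IsFinite q] (v : V) (b₀ : B), q b₀ = v → (∀ x : B, q x = v → x = b₀) →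
      (q.residueFieldMap b₀).hom.IsPurelyInseparable →
      ∀ᶠ n in nhds v, MoreMor.fibreIntegral q (F ∘ b) n = MoreMor.fibreIntegral q (F ∘ b) v)
    {V A : Scheme.{u}} {ρ : V ⟶ Z} {a : A ⟶ X} {p : A ⟶ V} (hA : IsChart h ρ a p) [IsFinite p] :
    IsLocallyConstant (MoreMor.fibreIntegral p (F ∘ a)) := by
  classical
  rw [IsLocallyConstant.iff_eventually_eq]
  intro v
  have hfib : (p ⁻¹' {v}).Finite := p.finite_preimage_singleton v
  obtain ⟨m', y, hy⟩ := hfib.fin_embedding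
  have hys : ∀ k, p (y k) = v := by
    intro k
    have : y k ∈ p ⁻¹' {v} := hy ▸ Set.mem_range_self k
    exact this
  obtain ⟨V₃, e₃, v₃, he₃, he₃v, J', hJ', S, s, hSclopen, hSdisj, hS, hSall⟩ :=
    Groth.Agent.Lib.Helper19.PI12.main_pi_sep p v y y.injective hys (fun k => p.quasiFiniteAt _)
  haveI := he₃
  have hA₃ := hA.baseChange e₃ (e₃ ≫ ρ) rfl
  haveI : ∀ k, Finite (J' k) := hJ'
  letI : Fintype (Σ k : Fin m', J' k) := Fintype.ofFinite _
  let S' : (Σ k : Fin m', J' k) → (pullback p e₃).Opens := fun κ => S κ.1 κ.2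
  have hdisj' : ∀ κ κ', ((S' κ : Set ↑(pullback p e₃)) ∩
      (S' κ' : Set ↑(pullback p e₃))).Nonempty → κ = κ' := by
    rintro ⟨k, l⟩ ⟨k', l'⟩ hne
    obtain ⟨h1, h2⟩ := hSdisj k l k' l' hne
    subst h1
    rw [eq_of_heq h2]
  have hall' : ∀ z : ↑(pullback p e₃), pullback.snd p e₃ z = v₃ → ∃ κ, z ∈ S' κ := by
    intro z hz
    have h1 : pullback.fst p e₃ z ∈ p ⁻¹' {v} := by
      show p (pullback.fst _ e₃ z) = v
      rw [← Scheme.Hom.comp_apply, pullback.condition, Scheme.Hom.comp_apply, hz, he₃v]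
    rw [← hy] at h1
    obtain ⟨k, hk⟩ := h1
    obtain ⟨l, hl⟩ := hSall z k hz hk.symm
    exact ⟨⟨k, l⟩, hl⟩
  have hpiece : ∀ κ : (Σ k : Fin m', J' k), ∀ᶠ n in nhds v₃,
      MoreMor.fibreIntegral ((S' κ).ι ≫ pullback.snd p e₃)
        ((F ∘ (pullback.fst p e₃ ≫ a)) ∘ (S' κ).ι) n =
      MoreMor.fibreIntegral ((S' κ).ι ≫ pullback.snd p e₃)
        ((F ∘ (pullback.fst p e₃ ≫ a)) ∘ (S' κ).ι) v₃ := by
    rintro ⟨k, l⟩
    obtain ⟨hs1, hs2, hs3, hs4, hs5, hs6⟩ := hS k l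
    haveI : IsFinite ((S' ⟨k, l⟩).ι ≫ pullback.snd p e₃) := hs2
    have hSκ := hA₃.restrict (S' ⟨k, l⟩).ι
    let s₀ : (S' ⟨k, l⟩).toScheme := ⟨s k l, hs1⟩
    have hs₀ : ((S' ⟨k, l⟩).ι ≫ pullback.snd p e₃) s₀ = v₃ := hs3
    have hus : ∀ z : (S' ⟨k, l⟩).toScheme,
        ((S' ⟨k, l⟩).ι ≫ pullback.snd p e₃) z = v₃ → z = s₀ :=
      fun z hz => Subtype.ext (hs4 z.1 z.2 hz)
    exact H (e₃ ≫ ρ) _ _ hSκ v₃ s₀ hs₀ hus
      (isPurelyInseparable_residueFieldMap_ι_comp _ (S' ⟨k, l⟩) s₀ hs5)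
  have hsum := eventually_eq_sum_pieces (pullback.snd p e₃) v₃ S'
    hdisj' hall' (F ∘ (pullback.fst p e₃ ≫ a))
  have hall := Filter.eventually_all.mpr hpiece
  have h₃ : ∀ᶠ n in nhds v₃,
      MoreMor.fibreIntegral (pullback.snd p e₃) (F ∘ (pullback.fst p e₃ ≫ a)) n =
      MoreMor.fibreIntegral (pullback.snd p e₃) (F ∘ (pullback.fst p e₃ ≫ a)) v₃ := by
    have hsum₀ := hsum.self_of_nhds
    filter_upwards [hsum, hall] with n hn1 hn2
    rw [hn1, hsum₀]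
    exact Finset.sum_congr rfl fun κ _ => hn2 κ
  have htr : ∀ n : V₃,
      MoreMor.fibreIntegral (pullback.snd p e₃) (F ∘ (pullback.fst p e₃ ≫ a)) n =
      MoreMor.fibreIntegral p (F ∘ a) (e₃ n) := fun n =>
    fibreIntegral_pullback p e₃ (F ∘ a) n
  have hopen : IsOpenMap e₃ := e₃.isOpenMap
  have hN := hopen.image_mem_nhds h₃
  rw [he₃v] at hN
  filter_upwards [hN] with m'' hm''
  obtain ⟨n, hn, rfl⟩ := hm''
  have hn' := hn
  change _ = _ at hn'
  rw [htr n, htr v₃, he₃v] at hn'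
  exact hn'

end Groth.Agent.Lib.lead.WtL
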