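import Mathlib
import Groth.Agent.Lib.lead.WtL

set_option autoImplicit false
set_option linter.style.haveILetI false
set_option linter.unusedSectionVars false
universe u

namespace Groth.Agent.Lib.lead.WtM

open AlgebraicGeometry CategoryTheory Limits IsLocalRing Groth.Agent.Lib.lead.WtA
  Groth.Agent.Lib.lead.WtB Groth.Agent.Lib.lead.WtC Groth.Agent.Lib.lead.WtD
  Groth.Agent.Lib.lead.WtE Groth.Agent.Lib.lead.WtF Groth.Agent.Lib.lead.WtG

/-- The separable degree term of the fibre integral. -/
noncomputable def sdeg {U V : Scheme.{u}} (π : U ⟶ V) (u : U) : ℤ :=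
  letI := (π.residueFieldMap u).hom.toAlgebra
  (Field.finSepDegree (V.residueField (π u)) (U.residueField u) : ℤ)

theorem fibreIntegral_eq_sdeg {U V : Scheme.{u}} (π : U ⟶ V) (F : U → ℤ) (v : V) :
    MoreMor.fibreIntegral π F v = ∑ᶠ u : {u : U // π u = v}, F u.1 * sdeg π u.1 := rfl

/-- Multiplicativity of the separable degree term. -/
theorem sdeg_comp {A T N : Scheme.{u}} (c : A ⟶ T) (q : T ⟶ N) [LocallyQuasiFinite c] (u : A) :
    sdeg (c ≫ q) u = sdeg q (c u) * sdeg c u := by
  unfold sdeg
  letI a1 : Algebra (N.residueField (q (c u))) (T.residueField (c u)) :=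
    (q.residueFieldMap (c u)).hom.toAlgebra
  letI a2 : Algebra (T.residueField (c u)) (A.residueField u) :=
    (c.residueFieldMap u).hom.toAlgebra
  letI a3 : Algebra (N.residueField (q (c u))) (A.residueField u) :=
    ((c ≫ q).residueFieldMap u).hom.toAlgebra
  haveI : IsScalarTower (N.residueField (q (c u))) (T.residueField (c u)) (A.residueField u) := by
    refine IsScalarTower.of_algebraMap_eq' ?_
    show ((c ≫ q).residueFieldMap u).hom = (c.residueFieldMap u).hom.comp
      (q.residueFieldMap (c u)).hom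
    rw [Scheme.residueFieldMap_comp]
    rfl
  haveI : Module.Finite (T.residueField (c u)) (A.residueField u) := finite_residueFieldMap c u
  have := Field.finSepDegree_mul_finSepDegree_of_isAlgebraic (N.residueField (q (c u)))
    (T.residueField (c u)) (A.residueField u)
  exact_mod_cast this.symm

/-- Integration in stages. -/
theorem fibreIntegral_comp {A T N : Scheme.{u}} (c : A ⟶ T) (q : T ⟶ N) [LocallyQuasiFinite c]
    (F : A → ℤ) (G : T → ℤ) (n : N) (hfinq : Finite {t : T // q t = n})
    (hfinc : ∀ t : T, Finite {u : A // c u = t}) :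
    MoreMor.fibreIntegral (c ≫ q) (fun u => F u * G (c u)) n =
      MoreMor.fibreIntegral q (fun t => G t * MoreMor.fibreIntegral c F t) n := by
  classical
  rw [fibreIntegral_eq_sdeg, fibreIntegral_eq_sdeg]
  simp_rw [fibreIntegral_eq_sdeg c F]
  let e : (Σ t : {t : T // q t = n}, {u : A // c u = t.1}) ≃ {u : A // (c ≫ q) u = n} :=
    { toFun := fun x => ⟨x.2.1, by
        show q (c x.2.1) = n
        rw [x.2.2]; exact x.1.2⟩
      invFun := fun u => ⟨⟨c u.1, u.2⟩, ⟨u.1, rfl⟩⟩
      left_inv := by
        rintro ⟨⟨t, ht⟩, ⟨u, hu⟩⟩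
        have hu' : c u = t := hu
        subst hu'
        rfl
      right_inv := fun u => rfl }
  haveI : Finite (Σ t : {t : T // q t = n}, {u : A // c u = t.1}) := inferInstance
  haveI : Finite {u : A // (c ≫ q) u = n} := Finite.of_equiv _ e
  letI : Fintype {t : T // q t = n} := Fintype.ofFinite _
  letI : ∀ t : T, Fintype {u : A // c u = t} := fun t => Fintype.ofFinite _
  letI : Fintype {u : A // (c ≫ q) u = n} := Fintype.ofFinite _
  rw [finsum_eq_sum_of_fintype, finsum_eq_sum_of_fintype, ← Fintype.sum_equiv e _ _ (fun _ => rfl),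
    Fintype.sum_sigma]
  refine Finset.sum_congr rfl fun t _ => ?_
  rw [finsum_eq_sum_of_fintype, Finset.mul_sum, Finset.sum_mul]
  refine Finset.sum_congr rfl fun u _ => ?_
  show F u.1 * G (c u.1) * sdeg (c ≫ q) u.1 = G t.1 * (F u.1 * sdeg c u.1) * sdeg q t.1
  rw [sdeg_comp, u.2]
  ring

end Groth.Agent.Lib.lead.WtM
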