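import Mathlib
import Groth.Agent.Lib.lead.WtM
import Groth.Agent.Lib.Helper18.Cyc.FiniteFlatDeg

set_option autoImplicit false
set_option linter.style.haveILetI false
set_option linter.unusedSectionVars false
universe u

namespace Groth.Agent.Lib.lead.StdWt

open AlgebraicGeometry CategoryTheory Limits IsLocalRing Groth.Agent.Lib.lead.WtA
  Groth.Agent.Lib.lead.WtB Groth.Agent.Lib.lead.WtM Groth.Agent.Lib.Helper18.CycPull

variable {U V : Scheme.{u}}

/-- The inseparable degree of the residue field extension. -/
noncomputable def ideg (π : U ⟶ V) (u : U) : ℕ :=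
  letI := (π.residueFieldMap u).hom.toAlgebra
  Field.finInsepDegree (V.residueField (π u)) (U.residueField u)

theorem ideg_comp {A T N : Scheme.{u}} (c : A ⟶ T) (q : T ⟶ N) [LocallyQuasiFinite q] (u : A) :
    ideg (c ≫ q) u = ideg q (c u) * ideg c u := by
  unfold ideg
  letI a1 : Algebra (N.residueField (q (c u))) (T.residueField (c u)) :=
    (q.residueFieldMap (c u)).hom.toAlgebra
  letI a2 : Algebra (T.residueField (c u)) (A.residueField u) :=
    (c.residueFieldMap u).hom.toAlgebra
  letI a3 : Algebra (N.residueField (q (c u))) (A.residueField u) :=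
    ((c ≫ q).residueFieldMap u).hom.toAlgebra
  haveI : IsScalarTower (N.residueField (q (c u))) (T.residueField (c u)) (A.residueField u) := by
    refine IsScalarTower.of_algebraMap_eq' ?_
    show ((c ≫ q).residueFieldMap u).hom = (c.residueFieldMap u).hom.comp
      (q.residueFieldMap (c u)).hom
    rw [Scheme.residueFieldMap_comp]
    rfl
  haveI : Module.Finite (N.residueField (q (c u))) (T.residueField (c u)) :=
    finite_residueFieldMap q (c u)
  exact (Field.finInsepDegree_mul_finInsepDegree_of_isAlgebraic (N.residueField (q (c u)))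
    (T.residueField (c u)) (A.residueField u)).symm

theorem ideg_eq_one_of_unramified (h : U ⟶ V) [FormallyUnramified h] [LocallyOfFiniteType h]
    (u : U) : ideg h u = 1 := by
  unfold ideg
  letI := (h.residueFieldMap u).hom.toAlgebra
  haveI : Algebra.IsSeparable (V.residueField (h u)) (U.residueField u) := inferInstance
  exact Algebra.IsSeparable.finInsepDegree_eq _ _

theorem fibLen_eq_one_of_unramified (h : U ⟶ V) [FormallyUnramified h] [LocallyOfFiniteType h]
    (u : U) : fibLen h u = 1 := by
  have hI : Ideal.map (h.stalkMap u).hom (maximalIdeal (V.presheaf.stalk (h u))) =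
      maximalIdeal (U.presheaf.stalk u) := by
    algebraize [(h.stalkMap u).hom]
    have : IsLocalHom (algebraMap (V.presheaf.stalk (h u)) (U.presheaf.stalk u)) :=
      inferInstanceAs <| IsLocalHom (h.stalkMap u).hom
    have : Algebra.EssFiniteType (V.presheaf.stalk (h u)) (U.presheaf.stalk u) := by
      rw [← RingHom.essFiniteType_algebraMap, RingHom.algebraMap_toAlgebra]
      exact LocallyOfFiniteType.stalkMap h u
    have : Algebra.FormallyUnramified (V.presheaf.stalk (h u)) (U.presheaf.stalk u) := by
      rw [← RingHom.formallyUnramified_algebraMap, RingHom.algebraMap_toAlgebra]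
      exact FormallyUnramified.stalkMap h u
    exact Algebra.FormallyUnramified.map_maximalIdeal
  show Module.length (U.presheaf.stalk u) (U.presheaf.stalk u ⧸
    Ideal.map (h.stalkMap u).hom (maximalIdeal (V.presheaf.stalk (h u)))) = 1
  rw [hI]
  haveI : IsSimpleModule (U.presheaf.stalk u)
      (U.presheaf.stalk u ⧸ maximalIdeal (U.presheaf.stalk u)) :=
    isSimpleModule_iff_quot_maximal.mpr ⟨_, inferInstance, ⟨LinearEquiv.refl _ _⟩⟩
  exact Module.length_eq_one _ _

/-- Etale morphisms are locally quasi-finite. -/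
theorem locallyQuasiFinite_of_etale {X Y : Scheme.{u}} (f : X ⟶ Y) [Etale f] :
    LocallyQuasiFinite f := by
  refine ⟨fun {U} hU {V} hV e => ?_⟩
  have h := HasRingHomProperty.appLE (P := @Etale) f inferInstance ⟨U, hU⟩ ⟨V, hV⟩ e
  algebraize [(f.appLE U V e).hom]
  change Algebra.QuasiFinite _ _
  infer_instance

/-- The standard weight (length of the fibre local ring times the inseparable degree). -/
noncomputable def stdw (π : U ⟶ V) (u : U) : ℤ :=
  ((fibLen π u).toNat : ℤ) * (ideg π u : ℤ)

/-- Invariance of the standard weight under étale localization. -/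
theorem stdw_eq_of_square {X Y : Scheme.{u}} (f : X ⟶ Y) (g : V ⟶ Y) (h : U ⟶ X) (π : U ⟶ V)
    (w : h ≫ f = π ≫ g) [LocallyQuasiFinite f] [Etale g] [Etale h] [Flat π] (u : U) :
    stdw f (h u) = stdw π u := by
  haveI := locallyQuasiFinite_of_etale g
  have h1 : fibLen (h ≫ f) u = fibLen f (h u) * fibLen h u := fibLen_comp h f u
  have h2 : fibLen (π ≫ g) u = fibLen g (π u) * fibLen π u := fibLen_comp π g u
  rw [fibLen_eq_one_of_unramified h u, mul_one] at h1
  rw [fibLen_eq_one_of_unramified g (π u), one_mul] at h2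
  have h3 : ideg (h ≫ f) u = ideg f (h u) * ideg h u := ideg_comp h f u
  have h4 : ideg (π ≫ g) u = ideg g (π u) * ideg π u := ideg_comp π g u
  rw [ideg_eq_one_of_unramified h u, mul_one] at h3
  rw [ideg_eq_one_of_unramified g (π u), one_mul] at h4
  unfold stdw
  rw [← h1, ← h3, ← h2, ← h4]
  congr 2 <;> rw [w]

/-- The degree formula for a finite flat morphism in terms of the standard weight. -/
theorem fibreIntegral_stdw_eq_finrank (π : U ⟶ V) [IsFinite π] [Flat π] (v : V) :
    MoreMor.fibreIntegral π (stdw π) v = (π.finrank v : ℤ) := by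
  classical
  have key : ∑ᶠ x : {u : U // π u = v}, (fibLen π x.1).toNat * π.residueDegree x.1 =
      π.finrank v :=
    (finsum_set_coe_eq_finsum_mem (π ⁻¹' {v})).trans (finsum_fibLen_mul_residueDegree π v)
  haveI : Finite {u : U // π u = v} := (π.finite_preimage_singleton v).to_subtype
  letI : Fintype {u : U // π u = v} := Fintype.ofFinite _
  rw [fibreIntegral_eq_sdeg, ← key, finsum_eq_sum_of_fintype, finsum_eq_sum_of_fintype,
    Nat.cast_sum]
  refine Finset.sum_congr rfl fun x _ => ?_
  unfold stdw sdeg ideg Scheme.Hom.residueDegree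
  letI := (π.residueFieldMap x.1).hom.toAlgebra
  rw [← Field.finSepDegree_mul_finInsepDegree (V.residueField (π x.1)) (U.residueField x.1)]
  push_cast
  ring

theorem length_quot_ne_top {R S : Type*} [CommRing R] [CommRing S] [IsLocalRing R] [Algebra R S]
    [Algebra.QuasiFinite R S] :
    Module.length S (S ⧸ (maximalIdeal R).map (algebraMap R S)) ≠ ⊤ := by
  let e : (maximalIdeal R).Fiber S ≃ₐ[R] S ⧸ (maximalIdeal R).map (algebraMap R S) :=
    (Algebra.TensorProduct.congr (.symm <| .ofBijective _
      (Ideal.bijective_algebraMap_quotient_residueField (maximalIdeal R))) .refl).trans <|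
    (Algebra.TensorProduct.comm _ _ _).trans
    ((Algebra.TensorProduct.quotIdealMapEquivTensorQuot S (maximalIdeal R)).symm.restrictScalars _)
  haveI : IsArtinianRing (S ⧸ (maximalIdeal R).map (algebraMap R S)) :=
    Function.Surjective.isArtinianRing (f := (e : (maximalIdeal R).Fiber S →+*
      S ⧸ (maximalIdeal R).map (algebraMap R S))) e.surjective
  rw [Module.length_eq_of_surjective (S := S)
    (R := S ⧸ (maximalIdeal R).map (algebraMap R S)) Ideal.Quotient.mk_surjective]
  exact Module.length_ne_top

theorem fibLen_ne_top {X Y : Scheme.{u}} (f : X ⟶ Y) [LocallyQuasiFinite f] (x : X) :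
    fibLen f x ≠ ⊤ := by
  have hq : (f.stalkMap x).hom.QuasiFinite := f.quasiFiniteAt x
  algebraize [(f.stalkMap x).hom]
  exact length_quot_ne_top

theorem stdw_pos {X Y : Scheme.{u}} (f : X ⟶ Y) [LocallyQuasiFinite f] (x : X) :
    0 < stdw f x := by
  unfold stdw
  have h1 : 0 < (fibLen f x).toNat := by
    rw [Nat.pos_iff_ne_zero, Ne, ENat.toNat_eq_zero]
    push Not
    exact ⟨length_quot_ne_zero f x, fibLen_ne_top f x⟩
  have h2 : 0 < ideg f x := by
    unfold ideg
    letI := (f.residueFieldMap x).hom.toAlgebra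
    haveI : Module.Finite (Y.residueField (f x)) (X.residueField x) := finite_residueFieldMap f x
    exact Module.finrank_pos
  positivity

theorem isWeighting_stdw {X Y : Scheme.{u}} (f : X ⟶ Y) [LocallyQuasiFinite f] [Flat f]
    [LocallyOfFinitePresentation f] : MoreMor.IsWeighting f (stdw f) := by
  intro V g _ U hfin
  haveI : IsFinite (U.ι ≫ pullback.snd f g) := hfin
  have hsq : (U.ι ≫ pullback.fst f g) ≫ f = (U.ι ≫ pullback.snd f g) ≫ g := by
    rw [Category.assoc, Category.assoc, pullback.condition]
  have h1 : (fun u => stdw f (pullback.fst f g (U.ι u))) = stdw (U.ι ≫ pullback.snd f g) := by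
    funext u
    exact stdw_eq_of_square f g (U.ι ≫ pullback.fst f g) (U.ι ≫ pullback.snd f g) hsq u
  rw [h1]
  have h2 : MoreMor.fibreIntegral (U.ι ≫ pullback.snd f g) (stdw (U.ι ≫ pullback.snd f g)) =
      fun v => ((U.ι ≫ pullback.snd f g).finrank v : ℤ) :=
    funext (fibreIntegral_stdw_eq_finrank _)
  rw [h2]
  exact (Scheme.Hom.isLocallyConstant_finrank (U.ι ≫ pullback.snd f g)).comp _

theorem S1421 {X Y : Scheme.{u}} (f : X ⟶ Y) [LocallyQuasiFinite f] [Flat f]
    [LocallyOfFinitePresentation f] :
    let w : ↑X → ℤ := fun x =>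
      (Module.length ↑(X.presheaf.stalk x) (↑(X.presheaf.stalk x) ⧸ Ideal.map (f.stalkMap x).hom (IsLocalRing.maximalIdeal ↑(Y.presheaf.stalk (f x))))).toNat *
      (letI := (f.residueFieldMap x).hom.toAlgebra
       (Field.finInsepDegree (Y.residueField (f x)) (X.residueField x) : ℤ))
    MoreMor.IsWeighting f w ∧ ∀ x, 0 < w x := by
  intro w
  exact ⟨isWeighting_stdw f, stdw_pos f⟩

end Groth.Agent.Lib.lead.StdWt
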