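import Mathlib
import Groth.Agent.Lib.lead.StdWt
import Groth.Agent.Lib.lead.WtK
import Groth.Agent.Lib.Helper18.Push.BCKer
import Groth.Agent.Lib.Helper24.Unibranch.Top

set_option autoImplicit false
set_option linter.style.haveILetI false
set_option linter.unusedSectionVars false
universe u

namespace Groth.Agent.Lib.lead.RankOne

open AlgebraicGeometry CategoryTheory Limits IsLocalRing Groth.Agent.Lib.lead.WtA
  Groth.Agent.Lib.lead.WtB Groth.Agent.Lib.lead.WtC Groth.Agent.Lib.lead.WtG
  Groth.Agent.Lib.lead.WtM Groth.Agent.Lib.lead.StdWt Groth.Agent.Lib.Helper18.CycPull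
  Groth.Agent.Lib.Helper24.Unibranch

theorem residueFieldMap_surjective' {X Y : Scheme.{u}} (j : X ⟶ Y) [SurjectiveOnStalks j] (x : X) :
    Function.Surjective (j.residueFieldMap x).hom := by
  intro b
  obtain ⟨s, rfl⟩ := IsLocalRing.residue_surjective b
  obtain ⟨t, rfl⟩ := j.stalkMap_surjective x s
  exact ⟨IsLocalRing.residue _ t, rfl⟩

theorem ideg_eq_one_of_surjective {U V : Scheme.{u}} (π : U ⟶ V) (u : U)
    (h : Function.Surjective (π.residueFieldMap u).hom) : ideg π u = 1 := by
  unfold ideg
  letI := (π.residueFieldMap u).hom.toAlgebra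
  haveI : Algebra.IsSeparable (V.residueField (π u)) (U.residueField u) :=
    ⟨fun x => by obtain ⟨a, rfl⟩ := h x; exact isSeparable_algebraMap a⟩
  exact Algebra.IsSeparable.finInsepDegree_eq _ _

theorem isPurelyInseparable_of_surjective {U V : Scheme.{u}} (π : U ⟶ V) (u : U)
    (h : Function.Surjective (π.residueFieldMap u).hom) :
    (π.residueFieldMap u).hom.IsPurelyInseparable := by
  letI := (π.residueFieldMap u).hom.toAlgebra
  show IsPurelyInseparable (V.residueField (π u)) (U.residueField u)
  exact ⟨Algebra.isIntegral_of_surjective h, fun x _ => h x⟩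

/-- The value of the standard fibre degree at a point whose fibre is the spectrum of the residue
field (or empty). -/
theorem fibreIntegral_stdw_le_one {T S : Scheme.{u}} (g : T ⟶ S) [LocallyQuasiFinite g]
    [LocallyOfFiniteType g] (hfin : ∀ y : S, (g ⁻¹' {y}).Finite) (s : S)
    (h : IsEmpty ↑(pullback g (S.fromSpecResidueField s)) ∨
      IsIso (pullback.snd g (S.fromSpecResidueField s))) :
    MoreMor.fibreIntegral g (stdw g) s ≤ 1 := by
  set j := S.fromSpecResidueField s with hj
  have hc : IsPullback (pullback.fst g j) (pullback.snd g j) g j := IsPullback.of_hasPullback g j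
  let pt : Spec (S.residueField s) := IsLocalRing.closedPoint (S.residueField s)
  have hjpt : j pt = s := Scheme.fromSpecResidueField_apply s pt
  have hb := fibreIntegral_baseChange hc (stdw g) pt (by rw [hjpt]; exact (hfin s).to_subtype)
  rw [hjpt] at hb
  rw [← hb]
  rcases h with hempty | hiso
  · haveI : IsEmpty {u : ↑(pullback g j) // pullback.snd g j u = pt} := ⟨fun u => hempty.false u.1⟩
    unfold MoreMor.fibreIntegral
    rw [finsum_of_isEmpty]
    exact zero_le_one
  · haveI := hiso
    let z₀ : ↑(pullback g j) := (inv (pullback.snd g j)) pt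
    have h₀ : pullback.snd g j z₀ = pt := by
      show pullback.snd g j ((inv (pullback.snd g j)) pt) = pt
      rw [← Scheme.Hom.comp_apply, IsIso.inv_hom_id]
      rfl
    have huniq : ∀ u : ↑(pullback g j), pullback.snd g j u = pt → u = z₀ := by
      intro u hu
      have : u = (inv (pullback.snd g j)) (pullback.snd g j u) := by
        rw [← Scheme.Hom.comp_apply, IsIso.hom_inv_id]
        rfl
      rw [this, hu]
    have hsurj : Function.Surjective ((pullback.snd g j).residueFieldMap z₀).hom :=
      (ConcreteCategory.bijective_of_isIso ((pullback.snd g j).residueFieldMap z₀)).surjective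
    rw [fibreIntegral_of_unique_pi (pullback.snd g j) pt z₀ h₀ huniq
      (isPurelyInseparable_of_surjective _ _ hsurj)]
    show stdw g (pullback.fst g j z₀) ≤ 1
    -- fibre length
    have hlen : fibLen g (pullback.fst g j z₀) = 1 := by
      have h1 := Groth.Agent.Lib.Helper18.Push.fibLen_eq_of_isPullback hc z₀
      have h2 : fibLen (pullback.snd g j) z₀ = 1 := fibLen_eq_one_of_unramified _ z₀
      exact h1.symm.trans h2
    -- inseparable degree
    have hideg : ideg g (pullback.fst g j z₀) = 1 := by
      have e1 := ideg_comp (pullback.fst g j) g z₀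
      have e2 := ideg_comp (pullback.snd g j) j z₀
      have e3 : ideg (pullback.fst g j ≫ g) z₀ = ideg (pullback.snd g j ≫ j) z₀ := by
        rw [pullback.condition]
      have e4 : ideg (pullback.snd g j) z₀ = 1 := ideg_eq_one_of_surjective _ _ hsurj
      have e5 : ideg j (pullback.snd g j z₀) = 1 := by
        apply ideg_eq_one_of_surjective
        exact residueFieldMap_surjective' j _
      rw [e1, e2, e4, e5] at e3
      exact Nat.eq_one_of_mul_eq_one_right e3
    unfold stdw
    rw [hlen, hideg]
    simp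

theorem S3207 {T S : Scheme.{u}} (g : T ⟶ S) [LocallyQuasiFinite g]
    [LocallyOfFinitePresentation g] [QuasiCompact g] [IsSeparated g] [Flat g]
    (h : ∀ s : S, (∀ t : S, t ⤳ s → t = s) →
      IsEmpty ↑(pullback g (S.fromSpecResidueField s)) ∨
        IsIso (pullback.snd g (S.fromSpecResidueField s))) :
    IsOpenImmersion g := by
  classical
  have hfin : ∀ y : S, (g ⁻¹' {y}).Finite := fun y => g.finite_preimage_singleton y
  have hw := isWeighting_stdw g
  have hpos := fun x => stdw_pos g x
  have hlsc : LowerSemicontinuous (MoreMor.fibreIntegral g (stdw g)) :=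
    Groth.Agent.Lib.lead.WtI.lowerSemicontinuous_fibreIntegral g hfin (stdw g) hw hpos
  have hle : ∀ s, MoreMor.fibreIntegral g (stdw g) s ≤ 1 := by
    intro s
    obtain ⟨s', hs's, hs'max⟩ := exists_maxPt s
    by_contra hgt
    push Not at hgt
    obtain ⟨O, hOsub, hOopen, hsO⟩ := mem_nhds_iff.mp (hlsc s 1 hgt)
    have h1 : 1 < MoreMor.fibreIntegral g (stdw g) s' := hOsub (hs's.mem_open hOopen hsO)
    have h2 := fibreIntegral_stdw_le_one g hfin s' (h s' hs'max)
    omega
  obtain ⟨hUo, hUfin⟩ := Groth.Agent.Lib.lead.WtK.S1428 g hfin (stdw g) hw hpos 1 hle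
  let U : S.Opens := ⟨{y | MoreMor.fibreIntegral g (stdw g) y = 1}, hUo⟩
  haveI : IsFinite (g ∣_ U) := hUfin
  haveI : Flat (g ∣_ U) := inferInstance
  have hsq : IsPullback (g ⁻¹ᵁ U).ι (g ∣_ U) g U.ι := (isPullback_morphismRestrict g U).flip
  have hrank : (g ∣_ U).finrank = 1 := by
    ext u
    have h1 := fibreIntegral_stdw_eq_finrank (g ∣_ U) u
    have h2 := fibreIntegral_baseChange hsq (stdw g) u (hfin _).to_subtype
    have h3 : stdw g ∘ (g ⁻¹ᵁ U).ι = stdw (g ∣_ U) :=
      funext fun t => stdw_eq_of_square g U.ι (g ⁻¹ᵁ U).ι (g ∣_ U) hsq.w t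
    have h4 : MoreMor.fibreIntegral g (stdw g) (U.ι u) = 1 := u.2
    rw [h3, h4, h1] at h2
    simp only [Pi.one_apply]
    exact_mod_cast h2
  haveI : IsIso (g ∣_ U) := (Scheme.Hom.isIso_iff_finrank_eq (g ∣_ U)).mpr hrank
  have htop : g ⁻¹ᵁ U = ⊤ := by
    ext x
    simp only [TopologicalSpace.Opens.coe_top, Set.mem_univ, iff_true]
    show MoreMor.fibreIntegral g (stdw g) (g x) = 1
    have h1 := le_fibreIntegral g (stdw g) (fun x => (hpos x).le) (g x) (hfin _).to_subtype x rfl
    have h2 := hpos x
    have h3 := hle (g x)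
    omega
  have hfac : (g ∣_ U) ≫ U.ι = (g ⁻¹ᵁ U).ι ≫ g := morphismRestrict_ι g U
  haveI : IsIso (g ⁻¹ᵁ U).ι := by
    rw [htop]
    exact (Scheme.topIso T).isIso_hom
  have : g = inv (g ⁻¹ᵁ U).ι ≫ (g ∣_ U) ≫ U.ι := by rw [hfac, IsIso.inv_hom_id_assoc]
  rw [this]
  infer_instance


end Groth.Agent.Lib.lead.RankOne
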