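import Mathlib
import Groth.Agent.Lib.lead.StdWt
import Groth.Agent.Lib.lead.WtK
import Groth.Agent.Lib.lead.RankOne
import Groth.Agent.Lib.Helper18.Push.BCKer
import Groth.Agent.Lib.Helper18.Cyc.FiniteFlatDeg

set_option autoImplicit false
set_option linter.style.haveILetI false
set_option linter.unusedSectionVars false
universe u

namespace Groth.Agent.Lib.lead.FibDeg

open AlgebraicGeometry CategoryTheory Limits IsLocalRing Groth.Agent.Lib.lead.WtA
  Groth.Agent.Lib.lead.WtB Groth.Agent.Lib.lead.WtC Groth.Agent.Lib.lead.WtG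
  Groth.Agent.Lib.lead.WtM Groth.Agent.Lib.lead.StdWt Groth.Agent.Lib.Helper18.CycPull
  Groth.Agent.Lib.lead.RankOne

/-- The base change of a locally quasi-finite morphism to a field point over a point with finite
fibre is finite. -/
theorem isFinite_snd_of_finite_fibre {X S P : Scheme.{u}} {f : X ⟶ S} [LocallyQuasiFinite f]
    {K : Type u} [Field K] {g : Spec (CommRingCat.of K) ⟶ S} {fst : P ⟶ X}
    {snd : P ⟶ Spec (CommRingCat.of K)} (hc : IsPullback fst snd f g)
    (hfin : Finite {x : X // f x = g (closedPoint K)}) : IsFinite snd := by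
  haveI : LocallyQuasiFinite snd := MorphismProperty.of_isPullback hc inferInstance
  have h1 : Finite {z : P // snd z = closedPoint K} := finite_fibre_baseChange hc _ hfin
  haveI : Finite P := by
    refine Finite.of_injective (fun z : P => (⟨z, Subsingleton.elim _ _⟩ :
      {z : P // snd z = closedPoint K})) ?_
    intro a b h
    exact congrArg Subtype.val h
  haveI : CompactSpace P := Finite.compactSpace
  haveI : QuasiCompact snd := inferInstance
  haveI : IsLocallyArtinian (Spec (CommRingCat.of K)) :=
    Scheme.isLocallyArtinianScheme_Spec.mpr (inferInstanceAs (IsArtinianRing K))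
  exact IsFinite.of_locallyQuasiFinite snd

/-- The standard weight is invariant under base change along a preimmersion. -/
theorem stdw_fst_eq {X S P T : Scheme.{u}} {f : X ⟶ S} [LocallyQuasiFinite f] {j : T ⟶ S}
    [IsPreimmersion j] {fst : P ⟶ X} {snd : P ⟶ T} (hc : IsPullback fst snd f j) (z : P) :
    stdw f (fst z) = stdw snd z := by
  have hlen : fibLen snd z = fibLen f (fst z) :=
    Groth.Agent.Lib.Helper18.Push.fibLen_eq_of_isPullback hc z
  have hideg : ideg f (fst z) = ideg snd z := by
    have e1 := ideg_comp fst f z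
    have e2 := ideg_comp snd j z
    have e3 : ideg (fst ≫ f) z = ideg (snd ≫ j) z := by
      rw [hc.w]
    haveI : IsPreimmersion fst := MorphismProperty.of_isPullback hc.flip inferInstance
    have e4 : ideg fst z = 1 :=
      ideg_eq_one_of_surjective _ _ (residueFieldMap_surjective' _ _)
    have e5 : ideg j (snd z) = 1 :=
      ideg_eq_one_of_surjective _ _ (residueFieldMap_surjective' j _)
    rw [e1, e2, e4, e5, mul_one, one_mul] at e3
    exact e3
  unfold stdw
  rw [hlen, hideg]

/-- The degree of the fibre over `s` is the fibre integral of the standard weight. -/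
theorem finrank_fibre_eq {X S : Scheme.{u}} (f : X ⟶ S) [LocallyQuasiFinite f] [Flat f] (s : S)
    (hfin : Finite {x : X // f x = s}) [IsFinite (pullback.snd f (S.fromSpecResidueField s))] :
    ((pullback.snd f (S.fromSpecResidueField s)).finrank (closedPoint (S.residueField s)) : ℤ) =
      MoreMor.fibreIntegral f (stdw f) s := by
  set j := S.fromSpecResidueField s with hj
  have hc : IsPullback (pullback.fst f j) (pullback.snd f j) f j := IsPullback.of_hasPullback f j
  let pt : Spec (S.residueField s) := closedPoint (S.residueField s)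
  have hjpt : j pt = s := Scheme.fromSpecResidueField_apply s pt
  have hb := fibreIntegral_baseChange hc (stdw f) pt (by rw [hjpt]; exact hfin)
  rw [hjpt] at hb
  rw [← hb, ← fibreIntegral_stdw_eq_finrank]
  congr 1
  funext z
  exact (stdw_fst_eq hc z).symm

/-- The degree of the base change to an arbitrary field point is the fibre integral of the
standard weight. -/
theorem finrank_snd_eq {X S P : Scheme.{u}} {f : X ⟶ S} [LocallyQuasiFinite f] [Flat f]
    {K : Type u} [Field K] {g : Spec (CommRingCat.of K) ⟶ S} {fst : P ⟶ X}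
    {snd : P ⟶ Spec (CommRingCat.of K)} (hc : IsPullback fst snd f g)
    (hfin : Finite {x : X // f x = g (closedPoint K)}) [IsFinite snd] [Flat snd] :
    (snd.finrank (closedPoint K) : ℤ) = MoreMor.fibreIntegral f (stdw f) (g (closedPoint K)) := by
  obtain ⟨s, hs⟩ : ∃ s, s = g (closedPoint K) := ⟨_, rfl⟩
  rw [← hs]
  rw [← hs] at hfin
  let φ : S.residueField (g (closedPoint K)) ⟶ CommRingCat.of K :=
    Scheme.descResidueField (Scheme.stalkClosedPointTo g)
  have hg : Spec.map φ ≫ S.fromSpecResidueField (g (closedPoint K)) = g :=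
    Scheme.descResidueField_stalkClosedPointTo_fromSpecResidueField K S g
  subst hs
  set j := S.fromSpecResidueField (g (closedPoint K)) with hj
  have hcj : IsPullback (pullback.fst f j) (pullback.snd f j) f j := IsPullback.of_hasPullback f j
  have hjpt : j (closedPoint (S.residueField (g (closedPoint K)))) = g (closedPoint K) :=
    Scheme.fromSpecResidueField_apply _ _
  haveI : IsFinite (pullback.snd f j) :=
    isFinite_snd_of_finite_fibre (K := S.residueField (g (closedPoint K))) hcj
      (by rw [hjpt]; exact hfin)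
  have hw : fst ≫ f = (snd ≫ Spec.map φ) ≫ j := by
    rw [Category.assoc, hg, hc.w]
  let l : P ⟶ pullback f j := pullback.lift fst (snd ≫ Spec.map φ) hw
  have hl1 : l ≫ pullback.fst f j = fst := pullback.lift_fst _ _ _
  have hl2 : l ≫ pullback.snd f j = snd ≫ Spec.map φ := pullback.lift_snd _ _ _
  have hbig : IsPullback (l ≫ pullback.fst f j) snd f (Spec.map φ ≫ j) := by
    rw [hl1, hg]; exact hc
  have hleft : IsPullback l snd (pullback.snd f j) (Spec.map φ) :=
    IsPullback.of_right hbig hl2 hcj
  have h1 := Scheme.Hom.finrank_of_isPullback l snd (pullback.snd f j) (Spec.map φ) hleft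
    (closedPoint K)
  have h2 : (Spec.map φ) (closedPoint K) = closedPoint (S.residueField (g (closedPoint K))) :=
    Subsingleton.elim _ _
  rw [h1, h2]
  exact finrank_fibre_eq f _ hfin

/-- The rank of the global sections of a finite flat scheme over a field. -/
theorem rank_eq_finrank {Z : Scheme.{u}} {K : Type u} [Field K]
    (h : Z ⟶ Spec (CommRingCat.of K)) [IsFinite h] [Flat h] :
    (h.finrank (closedPoint K) : Cardinal.{u}) =
      (letI := ((Scheme.ΓSpecIso (CommRingCat.of K)).inv ≫ h.appTop).hom.toAlgebra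
      Module.rank K (Γ(Z, ⊤) : Type u)) := by
  haveI : IsAffine Z := isAffine_of_isAffineHom h
  set ψ : CommRingCat.of K ⟶ Γ(Z, ⊤) := (Scheme.ΓSpecIso (CommRingCat.of K)).inv ≫ h.appTop with hψ
  have hfac : h = Z.isoSpec.hom ≫ Spec.map ψ := by
    have h1 := Scheme.isoSpec_hom_naturality h
    rw [Scheme.isoSpec_Spec_hom] at h1
    rw [hψ, Spec.map_comp, ← Category.assoc, h1, Category.assoc, ← Spec.map_comp,
      Iso.inv_hom_id, Spec.map_id, Category.comp_id]
  haveI : IsFinite (Spec.map ψ) := by
    have : IsFinite (Z.isoSpec.hom ≫ Spec.map ψ) := hfac ▸ inferInstance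
    exact (MorphismProperty.cancel_left_of_respectsIso @IsFinite _ _).mp this
  haveI : Flat (Spec.map ψ) := by
    have : Flat (Z.isoSpec.hom ≫ Spec.map ψ) := hfac ▸ inferInstance
    exact (MorphismProperty.cancel_left_of_respectsIso @Flat _ _).mp this
  have hf1 : ψ.hom.Finite := by
    have : IsFinite (Spec.map ψ) := inferInstance
    simpa only [IsFinite.SpecMap_iff] using this
  have hf2 : ψ.hom.Flat := by
    have : Flat (Spec.map ψ) := inferInstance
    simpa only [Flat.SpecMap_iff] using this
  have e1 : h.finrank (closedPoint K) = (Spec.map ψ).finrank (closedPoint K) := by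
    conv_lhs => rw [hfac]
    rw [Scheme.Hom.finrank_comp_left_of_isIso]
  rw [e1, Scheme.Hom.finrank_SpecMap_eq_finrank hf1 hf2]
  letI := ψ.hom.toAlgebra
  haveI : Module.Finite K Γ(Z, ⊤) := hf1
  haveI : Module.Free K Γ(Z, ⊤) := Module.Free.of_divisionRing K _
  show ((Module.rankAtStalk (R := K) Γ(Z, ⊤) (closedPoint K) : ℕ) : Cardinal) = Module.rank K Γ(Z, ⊤)
  rw [Module.rankAtStalk_eq_finrank_of_free]
  show ((Module.finrank K Γ(Z, ⊤) : ℕ) : Cardinal) = Module.rank K Γ(Z, ⊤)
  rw [Module.finrank_eq_rank]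

/-- Restriction of sections to an open and closed subset is surjective. -/
theorem restrict_surjective_of_isClosed {Z : Scheme.{u}} (W : Z.Opens) (hW : IsClosed (W : Set Z)) :
    Function.Surjective (Z.presheaf.map (homOfLE (le_top : W ≤ ⊤)).op) := by
  intro a
  let V : Z.Opens := ⟨(W : Set Z)ᶜ, hW.isOpen_compl⟩
  have hsup : W ⊔ V = ⊤ := by
    ext x
    simp only [TopologicalSpace.Opens.coe_sup, TopologicalSpace.Opens.coe_top, Set.mem_univ,
      iff_true]
    by_cases hx : x ∈ W
    · exact Or.inl hx
    · exact Or.inr hx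
  have hinf : W ⊓ V = ⊥ := by
    ext x
    simp only [TopologicalSpace.Opens.coe_inf, TopologicalSpace.Opens.coe_bot,
      Set.mem_empty_iff_false, iff_false]
    rintro ⟨h1, h2⟩
    exact h2 h1
  haveI : Subsingleton (Z.sheaf.obj.obj (Opposite.op (W ⊓ V))) := by
    rw [hinf]
    exact inferInstanceAs (Subsingleton Γ(Z, ⊥))
  let x : (CommRingCat.of <| RingHom.eqLocus
      (RingHom.comp (Z.sheaf.obj.map (homOfLE inf_le_left : W ⊓ V ⟶ W).op).hom
        (RingHom.fst (Z.sheaf.obj.obj <| Opposite.op W) (Z.sheaf.obj.obj <| Opposite.op V)))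
      (RingHom.comp (Z.sheaf.obj.map (homOfLE inf_le_right : W ⊓ V ⟶ V).op).hom
        (RingHom.snd (Z.sheaf.obj.obj <| Opposite.op W) (Z.sheaf.obj.obj <| Opposite.op V)))) :=
    ⟨(a, 0), Subsingleton.elim _ _⟩
  let b := (Z.sheaf.objSupIsoProdEqLocus W V).inv x
  have hb : Z.sheaf.1.map (homOfLE le_sup_left).op b = a :=
    TopCat.Sheaf.objSupIsoProdEqLocus_inv_fst Z.sheaf W V x
  refine ⟨Z.presheaf.map (homOfLE (le_of_eq hsup.symm)).op b, ?_⟩
  rw [← hb]
  show (Z.presheaf.map (homOfLE (le_of_eq hsup.symm)).op ≫ Z.presheaf.map (homOfLE le_top).op) b = _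
  rw [← Functor.map_comp]
  rfl

/-- The rank of the global sections of the base change to a field is at least the fibre degree
of any open part with finite fibre. -/
theorem le_rank_of_open {X S : Scheme.{u}} (f : X ⟶ S) [LocallyQuasiFinite f] [Flat f]
    [IsSeparated f] (X' : X.Opens) {K : Type u} [Field K] (g : Spec (CommRingCat.of K) ⟶ S)
    (hfin : Finite {x : X' // (X'.ι ≫ f) x = g (closedPoint K)}) :
    (((MoreMor.fibreIntegral (X'.ι ≫ f) (stdw (X'.ι ≫ f)) (g (closedPoint K))).toNat : ℕ) :
      Cardinal.{u}) ≤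
      (letI := ((Scheme.ΓSpecIso (CommRingCat.of K)).inv ≫ (pullback.snd f g).appTop).hom.toAlgebra
      Module.rank K (Γ(pullback f g, ⊤) : Type u)) := by
  set Z := pullback f g with hZ
  set W : Z.Opens := (pullback.fst f g) ⁻¹ᵁ X' with hWdef
  have hc : IsPullback (pullback.fst f g) (pullback.snd f g) f g := IsPullback.of_hasPullback f g
  have hsq : IsPullback (pullback.fst f g ∣_ X') (W.ι ≫ pullback.snd f g) (X'.ι ≫ f) g :=
    (isPullback_morphismRestrict (pullback.fst f g) X').paste_vert hc
  haveI : IsFinite (W.ι ≫ pullback.snd f g) := isFinite_snd_of_finite_fibre hsq hfin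
  haveI : Flat (W.ι ≫ pullback.snd f g) := MorphismProperty.of_isPullback hsq inferInstance
  have h1 := finrank_snd_eq hsq hfin
  have h2 := rank_eq_finrank (W.ι ≫ pullback.snd f g)
  rw [← h1, Int.toNat_natCast, h2]
  -- closedness of `W`
  haveI : IsFinite W.ι := IsFinite.of_comp W.ι (pullback.snd f g)
  have hWcl : IsClosed ((W.ι ''ᵁ ⊤ : Z.Opens) : Set Z) := by
    have : ((W.ι ''ᵁ ⊤ : Z.Opens) : Set Z) = Set.range W.ι := by
      simp
    rw [this]
    exact W.ι.isClosedMap.isClosed_range
  have hsurj : Function.Surjective W.ι.appTop := by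
    rw [Scheme.Opens.ι_appTop]
    exact restrict_surjective_of_isClosed _ hWcl
  -- linear algebra
  set ψZ : CommRingCat.of K ⟶ Γ(Z, ⊤) :=
    (Scheme.ΓSpecIso (CommRingCat.of K)).inv ≫ (pullback.snd f g).appTop with hψZ
  set ψW : CommRingCat.of K ⟶ Γ(W, ⊤) :=
    (Scheme.ΓSpecIso (CommRingCat.of K)).inv ≫ (W.ι ≫ pullback.snd f g).appTop with hψW
  have hcomp : ψW = ψZ ≫ W.ι.appTop := by
    rw [hψW, hψZ, Scheme.Hom.comp_appTop, Category.assoc]
  letI algA : Algebra K Γ(Z, ⊤) := ψZ.hom.toAlgebra
  letI algB : Algebra K Γ(W, ⊤) := ψW.hom.toAlgebra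
  let ρ : Γ(Z, ⊤) →ₗ[K] Γ(W, ⊤) :=
    { toFun := W.ι.appTop
      map_add' := fun a b => map_add _ a b
      map_smul' := fun k a => by
        simp only [RingHom.id_apply, Algebra.smul_def, map_mul]
        congr 1 }
  exact LinearMap.rank_le_of_surjective ρ hsurj

end Groth.Agent.Lib.lead.FibDeg
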