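import Mathlib
import Groth.Agent.Lib.lead.FibDeg
import Groth.Agent.Lib.lead.WtI

set_option autoImplicit false
set_option linter.style.haveILetI false
set_option linter.unusedSectionVars false
universe u

namespace Groth.Agent.Lib.lead.FibDegB

open AlgebraicGeometry CategoryTheory Limits IsLocalRing Groth.Agent.Lib.lead.WtA
  Groth.Agent.Lib.lead.WtB Groth.Agent.Lib.lead.WtC Groth.Agent.Lib.lead.WtG
  Groth.Agent.Lib.lead.WtM Groth.Agent.Lib.lead.StdWt Groth.Agent.Lib.Helper18.CycPull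
  Groth.Agent.Lib.lead.RankOne Groth.Agent.Lib.lead.FibDeg

/-- Every point has an open neighbourhood on which a locally quasi-finite morphism has finite
fibres. -/
theorem exists_open_finite_fibres {X S : Scheme.{u}} (f : X ⟶ S) [LocallyQuasiFinite f] (x : X) :
    ∃ A : X.Opens, x ∈ A ∧ ∀ y : S, {a : X | a ∈ A ∧ f a = y}.Finite := by
  obtain ⟨_, ⟨B, hB : IsAffineOpen B, rfl⟩, hxB, -⟩ :=
    S.isBasis_affineOpens.exists_subset_of_mem_open (Set.mem_univ (f x)) isOpen_univ
  obtain ⟨_, ⟨A, hA : IsAffineOpen A, rfl⟩, hxA, hAB⟩ :=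
    X.isBasis_affineOpens.exists_subset_of_mem_open (show x ∈ ((f ⁻¹ᵁ B : X.Opens) : Set X) from hxB)
      (f ⁻¹ᵁ B).isOpen
  refine ⟨A, hxA, fun y => ?_⟩
  have e : A ≤ f ⁻¹ᵁ B := hAB
  haveI : IsAffine (A : Scheme.{u}) := hA
  haveI : IsAffine (B : Scheme.{u}) := hB
  haveI : QuasiCompact (f.resLE B A e) := inferInstance
  by_cases hy : y ∈ B
  · have h1 := (f.resLE B A e).finite_preimage_singleton ⟨y, hy⟩
    refine (h1.image Subtype.val).subset ?_
    rintro a ⟨haA, hay⟩
    refine ⟨⟨a, haA⟩, ?_, rfl⟩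
    show f.resLE B A e ⟨a, haA⟩ = ⟨y, hy⟩
    apply Subtype.ext
    rw [Scheme.Hom.coe_resLE_apply]
    exact hay
  · convert Set.finite_empty
    ext a
    simp only [Set.mem_ofPred_eq, Set.mem_empty_iff_false, iff_false]
    rintro ⟨haA, hay⟩
    exact hy (hay ▸ e haA)

/-- A finite set of points is contained in an open on which the morphism has finite fibres. -/
theorem exists_open_cover_finite_fibres {X S : Scheme.{u}} (f : X ⟶ S) [LocallyQuasiFinite f]
    (F : Finset X) :
    ∃ X' : X.Opens, (∀ x ∈ F, x ∈ X') ∧ ∀ y : S, ((X'.ι ≫ f) ⁻¹' {y}).Finite := by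
  classical
  choose A hxA hAfin using exists_open_finite_fibres f
  refine ⟨⨆ x ∈ F, A x, fun x hx => ?_, fun y => ?_⟩
  · simp only [TopologicalSpace.Opens.mem_iSup]
    exact ⟨x, hx, hxA x⟩
  · have hfin : (⋃ x ∈ F, {a : X | a ∈ A x ∧ f a = y}).Finite :=
      Set.Finite.biUnion F.finite_toSet fun x _ => hAfin x y
    refine Set.Finite.of_injOn (f := fun z => (⨆ x ∈ F, A x).ι z) ?_ ?_ hfin
    · intro z hz
      have hz' : f ((⨆ x ∈ F, A x).ι z) = y := hz
      have hmem : (⨆ x ∈ F, A x).ι z ∈ ⨆ x ∈ F, A x := z.2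
      simp only [TopologicalSpace.Opens.mem_iSup] at hmem
      obtain ⟨x, hx, hzx⟩ := hmem
      simp only [Set.mem_iUnion]
      exact ⟨x, hx, hzx, hz'⟩
    · intro z _ z' _ h
      exact (⨆ x ∈ F, A x).ι.isOpenEmbedding.injective h

/-- The fibre integral of a weight `≥ 1` is at least the number of points of the fibre. -/
theorem card_le_fibreIntegral {U V : Scheme.{u}} (π : U ⟶ V) [LocallyQuasiFinite π] (F : U → ℤ)
    (hF : ∀ u, 1 ≤ F u) (n : V) (hfin : Finite {u : U // π u = n}) :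
    (Nat.card {u : U // π u = n} : ℤ) ≤ MoreMor.fibreIntegral π F n := by
  classical
  letI : Fintype {u : U // π u = n} := Fintype.ofFinite _
  unfold MoreMor.fibreIntegral
  rw [finsum_eq_sum_of_fintype, Nat.card_eq_fintype_card, ← Finset.card_univ,
    Finset.cast_card]
  refine Finset.sum_le_sum fun u _ => ?_
  letI := (π.residueFieldMap u.1).hom.toAlgebra
  haveI := finite_residueFieldMap π u.1
  have h2 : (1 : ℤ) ≤ (Field.finSepDegree (V.residueField (π u.1)) (U.residueField u.1) : ℤ) := by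
    have : 0 < Field.finSepDegree (V.residueField (π u.1)) (U.residueField u.1) :=
      Nat.pos_of_ne_zero (NeZero.ne _)
    exact_mod_cast this
  calc (1 : ℤ) = 1 * 1 := (mul_one _).symm
    _ ≤ _ := mul_le_mul (hF u.1) h2 zero_le_one (le_trans zero_le_one (hF u.1))

theorem stdw_open {X S : Scheme.{u}} (f : X ⟶ S) [Flat f] [LocallyQuasiFinite f] (X' : X.Opens) :
    stdw (X'.ι ≫ f) = stdw f ∘ X'.ι :=
  funext fun t => (stdw_eq_of_square f (𝟙 S) X'.ι (X'.ι ≫ f) (by simp) t).symm

theorem S1449 {X S : Scheme.{u}} (f : X ⟶ S) [Flat f] [LocallyOfFinitePresentation f]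
    [IsSeparated f] [LocallyQuasiFinite f] :
    ∃ U : ℕ → S.Opens, Antitone U ∧ U 0 = ⊤ ∧ ∀ (K : Type u) [Field K]
      (g : Spec (CommRingCat.of K) ⟶ S) (d : ℕ),
      Set.range ⇑g ⊆ (U d : Set ↑S) ↔ (d : Cardinal.{u}) ≤
        (letI := ((Scheme.ΓSpecIso (CommRingCat.of K)).inv ≫ (pullback.snd f g).appTop).hom.toAlgebra
        Module.rank K (Γ(pullback f g, ⊤) : Type u)) := by
  classical
  let I := {X' : X.Opens // ∀ y : S, ((X'.ι ≫ f) ⁻¹' {y}).Finite}
  let Fd : I → S → ℤ := fun X' s => MoreMor.fibreIntegral (X'.1.ι ≫ f) (stdw (X'.1.ι ≫ f)) s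
  have hopen : ∀ (X' : I) (d : ℕ), IsOpen {s | (d : ℤ) ≤ Fd X' s} := by
    intro X' d
    have hlsc := Groth.Agent.Lib.lead.WtI.lowerSemicontinuous_fibreIntegral (X'.1.ι ≫ f) X'.2
      (stdw _) (isWeighting_stdw _) (stdw_pos _)
    have : {s | (d : ℤ) ≤ Fd X' s} = Fd X' ⁻¹' Set.Ioi ((d : ℤ) - 1) := by
      ext s
      simp only [Set.mem_ofPred_eq, Set.mem_preimage, Set.mem_Ioi, Int.sub_one_lt_iff]
    rw [this]
    exact hlsc.isOpen_preimage _
  let U : ℕ → S.Opens := fun d =>
    ⟨⋃ X' : I, {s | (d : ℤ) ≤ Fd X' s}, isOpen_iUnion fun X' => hopen X' d⟩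
  have hmemU : ∀ d s, s ∈ U d ↔ ∃ X' : I, (d : ℤ) ≤ Fd X' s := by
    intro d s
    show s ∈ ⋃ X' : I, {s | (d : ℤ) ≤ Fd X' s} ↔ _
    simp only [Set.mem_iUnion, Set.mem_ofPred_eq]
  refine ⟨U, ?_, ?_, ?_⟩
  · intro d d' hdd' s hs
    obtain ⟨X', h⟩ := (hmemU d' s).mp hs
    exact (hmemU d s).mpr ⟨X', le_trans (by exact_mod_cast hdd') h⟩
  · ext s
    simp only [TopologicalSpace.Opens.coe_top, Set.mem_univ, iff_true]
    haveI : IsEmpty ((⊥ : X.Opens) : Scheme.{u}) := ⟨fun z => z.2⟩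
    refine (hmemU 0 s).mpr ⟨⟨⊥, fun y => Set.Subsingleton.finite (fun a _ => (IsEmpty.false a).elim)⟩, ?_⟩
    exact fibreIntegral_nonneg _ _ (fun u => (stdw_pos _ u).le) s
  · intro K _ g d
    set pt := closedPoint K with hpt
    set s := g pt with hs
    have hrange : Set.range ⇑g = {s} := by
      ext y
      simp only [Set.mem_range, Set.mem_singleton_iff]
      constructor
      · rintro ⟨z, rfl⟩
        rw [Subsingleton.elim z pt]
      · rintro rfl
        exact ⟨pt, rfl⟩
    rw [hrange, Set.singleton_subset_iff]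
    show s ∈ U d ↔ _
    rw [hmemU]
    have hc : IsPullback (pullback.fst f g) (pullback.snd f g) f g := IsPullback.of_hasPullback f g
    constructor
    · rintro ⟨X', hd⟩
      have h1 := le_rank_of_open f X'.1 g (X'.2 (g pt)).to_subtype
      refine le_trans ?_ h1
      rw [Nat.cast_le]
      have hnn : 0 ≤ Fd X' s := fibreIntegral_nonneg _ _ (fun u => (stdw_pos _ u).le) s
      exact (Int.le_toNat hnn).mpr hd
    · intro hd
      by_cases hfib : (f ⁻¹' {s}).Finite
      · obtain ⟨X', hFX', hX'fin⟩ := exists_open_cover_finite_fibres f hfib.toFinset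
        refine ⟨⟨X', hX'fin⟩, ?_⟩
        have hfib' : Finite {x : X // f x = s} := hfib.to_subtype
        have hint : Fd ⟨X', hX'fin⟩ s = MoreMor.fibreIntegral f (stdw f) s := by
          show MoreMor.fibreIntegral (X'.ι ≫ f) (stdw (X'.ι ≫ f)) s = _
          rw [stdw_open]
          exact fibreIntegral_open_of_fibre_subset X'.ι f s hfib' (stdw f)
            (fun u hu => ⟨⟨u, hFX' u (hfib.mem_toFinset.mpr hu)⟩, rfl⟩)
        haveI : IsFinite (pullback.snd f g) := isFinite_snd_of_finite_fibre hc hfib'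
        haveI : Flat (pullback.snd f g) := inferInstance
        have h1 := finrank_snd_eq hc hfib'
        have h2 := rank_eq_finrank (pullback.snd f g)
        rw [← h2, Nat.cast_le] at hd
        rw [hint, ← h1]
        exact_mod_cast hd
      · obtain ⟨F, hFsub, hFcard⟩ := Set.Infinite.exists_subset_card_eq hfib d
        obtain ⟨X', hFX', hX'fin⟩ := exists_open_cover_finite_fibres f F
        refine ⟨⟨X', hX'fin⟩, ?_⟩
        haveI hfin' : Finite {z : X' // (X'.ι ≫ f) z = s} := (hX'fin s).to_subtype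
        have h1 := card_le_fibreIntegral (X'.ι ≫ f) (stdw (X'.ι ≫ f))
          (fun u => Int.add_one_le_iff.mpr (stdw_pos _ u)) s hfin'
        refine le_trans ?_ h1
        have hinj : Function.Injective (fun x : F =>
            (⟨⟨x.1, hFX' x.1 x.2⟩, hFsub x.2⟩ : {z : X' // (X'.ι ≫ f) z = s})) := by
          intro a b h
          apply Subtype.ext
          exact congrArg (fun z : {z : X' // (X'.ι ≫ f) z = s} => (z.1 : X)) h
        have h2 := Nat.card_le_card_of_injective _ hinj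
        rw [Nat.card_eq_fintype_card, Fintype.card_coe, hFcard] at h2
        exact_mod_cast h2

end Groth.Agent.Lib.lead.FibDegB
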