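import Mathlib
import Groth.Agent.Lib.lead.FibDegB
import Groth.Prelude.Def_Mor2

set_option autoImplicit false
set_option linter.style.haveILetI false
set_option linter.unusedSectionVars false
universe u

namespace Groth.Agent.Lib.lead.FibDegC

open AlgebraicGeometry CategoryTheory Limits IsLocalRing Groth.Agent.Lib.lead.WtA
  Groth.Agent.Lib.lead.WtB Groth.Agent.Lib.lead.WtC Groth.Agent.Lib.lead.WtG
  Groth.Agent.Lib.lead.WtM Groth.Agent.Lib.lead.StdWt Groth.Agent.Lib.Helper18.CycPull
  Groth.Agent.Lib.lead.RankOne Groth.Agent.Lib.lead.FibDeg Groth.Agent.Lib.lead.FibDegB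

/-- The fibre degree commutes with arbitrary base change. -/
theorem fibreIntegral_stdw_baseChange {X S T : Scheme.{u}} (f : X ⟶ S) [LocallyQuasiFinite f]
    [Flat f] (g : T ⟶ S) (t : T) (hfin : Finite {x : X // f x = g t}) :
    MoreMor.fibreIntegral (pullback.snd f g) (stdw (pullback.snd f g)) t =
      MoreMor.fibreIntegral f (stdw f) (g t) := by
  set fT := pullback.snd f g with hfT
  have hc : IsPullback (pullback.fst f g) fT f g := IsPullback.of_hasPullback f g
  have hfinT : Finite {z : ↑(pullback f g) // fT z = t} := finite_fibre_baseChange hc t hfin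
  let K := T.residueField t
  let j : Spec (CommRingCat.of K) ⟶ T := T.fromSpecResidueField t
  have hjpt : j (closedPoint K) = t := Scheme.fromSpecResidueField_apply t _
  have hcj : IsPullback (pullback.fst fT j) (pullback.snd fT j) fT j := IsPullback.of_hasPullback fT j
  have hfin1 : Finite {z : ↑(pullback f g) // fT z = j (closedPoint K)} := by
    rw [hjpt]; exact hfinT
  haveI : IsFinite (pullback.snd fT j) := isFinite_snd_of_finite_fibre hcj hfin1
  haveI : Flat (pullback.snd fT j) := inferInstance
  have h1 := finrank_snd_eq hcj hfin1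
  have hbig : IsPullback (pullback.fst fT j ≫ pullback.fst f g) (pullback.snd fT j) f (j ≫ g) :=
    hcj.paste_horiz hc
  have hjg : (j ≫ g) (closedPoint K) = g t := by
    show g (j (closedPoint K)) = g t
    rw [hjpt]
  have hfin2 : Finite {x : X // f x = (j ≫ g) (closedPoint K)} := by
    rw [hjg]; exact hfin
  have h2 := finrank_snd_eq hbig hfin2
  rw [hjpt] at h1
  rw [hjg] at h2
  rw [← h1, ← h2]

theorem S1447 {X S : Scheme.{u}} (f : X ⟶ S) [Flat f] [LocallyOfFinitePresentation f]
    [IsSeparated f] [LocallyQuasiFinite f]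
    (n : ℕ) (hn : ∀ (K : Type u) [Field K] (g : Spec (CommRingCat.of K) ⟶ S),
      (letI := ((Scheme.ΓSpecIso (CommRingCat.of K)).inv ≫ (pullback.snd f g).appTop).hom.toAlgebra
      Module.rank K (Γ(pullback f g, ⊤) : Type u)) ≤ (n : Cardinal.{u})) :
    ∃ deg : ↑S → ℕ, (∀ s, deg s ≤ n) ∧ (∀ r : ℕ, IsClosed {s : ↑S | deg s ≤ r}) ∧
      ∀ (T : Scheme.{u}) (g : T ⟶ S) (r : ℕ),
        Mor2.IsFinLocFreeOfDeg r (pullback.snd f g) ↔ ∀ t : T, deg (g t) = r := by
  classical
  -- all fibres are finite
  have hfin : ∀ s : S, (f ⁻¹' {s}).Finite := by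
    intro s
    by_contra hinf
    obtain ⟨F, hFsub, hFcard⟩ := Set.Infinite.exists_subset_card_eq hinf (n + 1)
    obtain ⟨X', hFX', hX'fin⟩ := exists_open_cover_finite_fibres f F
    let K := S.residueField s
    let g : Spec (CommRingCat.of K) ⟶ S := S.fromSpecResidueField s
    have hgpt : g (closedPoint K) = s := Scheme.fromSpecResidueField_apply s _
    have h0 := le_rank_of_open f X' g (hX'fin (g (closedPoint K))).to_subtype
    have h1 := le_trans h0 (hn K g)
    rw [Nat.cast_le, hgpt] at h1
    haveI hfin' : Finite {z : X' // (X'.ι ≫ f) z = s} := (hX'fin s).to_subtype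
    have h2 := card_le_fibreIntegral (X'.ι ≫ f) (stdw (X'.ι ≫ f))
      (fun u => Int.add_one_le_iff.mpr (stdw_pos _ u)) s hfin'
    have hinj : Function.Injective (fun x : F =>
        (⟨⟨x.1, hFX' x.1 x.2⟩, hFsub x.2⟩ : {z : X' // (X'.ι ≫ f) z = s})) := by
      intro a b h
      apply Subtype.ext
      exact congrArg (fun z : {z : X' // (X'.ι ≫ f) z = s} => (z.1 : X)) h
    have h3 := Nat.card_le_card_of_injective _ hinj
    rw [Nat.card_eq_fintype_card, Fintype.card_coe, hFcard] at h3
    have h4 : ((n + 1 : ℕ) : ℤ) ≤ MoreMor.fibreIntegral (X'.ι ≫ f) (stdw (X'.ι ≫ f)) s :=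
      le_trans (by exact_mod_cast h3) h2
    omega
  have hfin' : ∀ s : S, Finite {x : X // f x = s} := fun s => (hfin s).to_subtype
  have hnn : ∀ s, 0 ≤ MoreMor.fibreIntegral f (stdw f) s := fun s =>
    fibreIntegral_nonneg _ _ (fun u => (stdw_pos _ u).le) s
  have hlsc : LowerSemicontinuous (MoreMor.fibreIntegral f (stdw f)) :=
    Groth.Agent.Lib.lead.WtI.lowerSemicontinuous_fibreIntegral f hfin (stdw f)
      (isWeighting_stdw f) (stdw_pos f)
  refine ⟨fun s => (MoreMor.fibreIntegral f (stdw f) s).toNat, ?_, ?_, ?_⟩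
  · intro s
    let K := S.residueField s
    let g : Spec (CommRingCat.of K) ⟶ S := S.fromSpecResidueField s
    have hgpt : g (closedPoint K) = s := Scheme.fromSpecResidueField_apply s _
    have hc : IsPullback (pullback.fst f g) (pullback.snd f g) f g := IsPullback.of_hasPullback f g
    have hf1 : Finite {x : X // f x = g (closedPoint K)} := by rw [hgpt]; exact hfin' s
    haveI : IsFinite (pullback.snd f g) := isFinite_snd_of_finite_fibre hc hf1
    haveI : Flat (pullback.snd f g) := inferInstance
    have h1 := finrank_snd_eq hc hf1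
    have h2 := rank_eq_finrank (pullback.snd f g)
    have h3 := hn K g
    rw [← h2, Nat.cast_le] at h3
    rw [hgpt] at h1
    show (MoreMor.fibreIntegral f (stdw f) s).toNat ≤ n
    rw [← h1, Int.toNat_natCast]
    exact h3
  · intro r
    have : {s : ↑S | (MoreMor.fibreIntegral f (stdw f) s).toNat ≤ r} =
        MoreMor.fibreIntegral f (stdw f) ⁻¹' Set.Iic (r : ℤ) := by
      ext s
      simp only [Set.mem_ofPred_eq, Set.mem_preimage, Set.mem_Iic, Int.toNat_le]
    rw [this]
    exact hlsc.isClosed_preimage _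
  · intro T g r
    set fT := pullback.snd f g with hfT
    have hc : IsPullback (pullback.fst f g) fT f g := IsPullback.of_hasPullback f g
    have hbc : ∀ t : T, MoreMor.fibreIntegral fT (stdw fT) t =
        MoreMor.fibreIntegral f (stdw f) (g t) := fun t =>
      fibreIntegral_stdw_baseChange f g t (hfin' (g t))
    constructor
    · rintro ⟨⟨hF, hFl, hFp⟩, hrank⟩ t
      haveI := hF
      haveI := hFl
      have h1 := fibreIntegral_stdw_eq_finrank fT t
      rw [hbc t, hrank t] at h1
      show (MoreMor.fibreIntegral f (stdw f) (g t)).toNat = r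
      rw [h1, Int.toNat_natCast]
    · intro hdeg
      have hval : ∀ t : T, MoreMor.fibreIntegral fT (stdw fT) t = r := by
        intro t
        rw [hbc t]
        have h1 : (MoreMor.fibreIntegral f (stdw f) (g t)).toNat = r := hdeg t
        have h2 := hnn (g t)
        omega
      have hfinT : ∀ t : T, (fT ⁻¹' {t}).Finite := fun t => by
        have h0 : Finite {z : ↑(pullback f g) // fT z = t} :=
          finite_fibre_baseChange hc t (hfin' (g t))
        exact Set.finite_coe_iff.mp h0
      obtain ⟨hUo, hUfin⟩ := Groth.Agent.Lib.lead.WtK.S1428 fT hfinT (stdw fT)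
        (isWeighting_stdw fT) (stdw_pos fT) (r : ℤ) (fun t => (hval t).le)
      have hUtop : (⟨{y : ↑T | MoreMor.fibreIntegral fT (stdw fT) y = r}, hUo⟩ : T.Opens) = ⊤ := by
        ext t
        simp only [TopologicalSpace.Opens.coe_mk, Set.mem_ofPred_eq, TopologicalSpace.Opens.coe_top,
          Set.mem_univ, iff_true]
        exact hval t
      haveI hF : IsFinite fT := by
        rw [IsZariskiLocalAtTarget.iff_of_iSup_eq_top (P := @IsFinite)
          (U := fun _ : Unit => (⟨{y : ↑T | MoreMor.fibreIntegral fT (stdw fT) y = r}, hUo⟩ : T.Opens))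
          (by rw [ciSup_const, hUtop])]
        intro _
        exact hUfin
      refine ⟨⟨hF, inferInstance, inferInstance⟩, fun t => ?_⟩
      have h1 := fibreIntegral_stdw_eq_finrank fT t
      rw [hval t] at h1
      exact_mod_cast h1.symm

end Groth.Agent.Lib.lead.FibDegC
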