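import Mathlib
import Groth.Agent.Lib.lead.SchemeDimIneqGlobal
import Groth.Agent.Lib.Helper3.AlgSpResTrdeg
import Groth.Agent.Lib.Helper4.DimSurj
import Groth.Agent.Lib.lead.QFRelDim

set_option autoImplicit false
universe u
open CategoryTheory CategoryTheory.Limits AlgebraicGeometry

namespace Groth.Agent.Lib.lead.DimLeSp

open Groth.Agent.Lib.Helper3 AlgSp

variable {S : Scheme.{u}}

theorem main {X Y : AlgSp.Space S} (f : X ⟶ Y)
    (hY : AlgSp.IsLocNoethSp Y.obj) (hf : AlgSp.LocP @LocallyOfFiniteType f.hom) (E : Cardinal.{u})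
    (hE : ∀ ξ : AlgSp.Points X.obj,
      AlgSp.HasAt (fun U u => ringKrullDim ↥(U.presheaf.stalk u) = 0) X.obj ξ →
        ∀ s : Cardinal.{u}, AlgSp.HasAtMor (fun _ _ h u => Dual3.resTrdeg h u = s) f.hom ξ → s ≤ E) :
    AlgSp.dim X.obj ≤ AlgSp.dim Y.obj + ((Cardinal.toENat E : ℕ∞) : WithBot ℕ∞) := by
  obtain ⟨V, b, hbe, hbs, hVn⟩ := hY
  haveI : IsLocallyNoetherian V.left := hVn
  have hVY : topologicalKrullDim ↥V.left ≤ AlgSp.dim Y.obj := by
    unfold AlgSp.dim
    exact le_iSup_of_le V (le_iSup_of_le b (le_iSup_of_le hbe le_rfl))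
  suffices hgoal : ∀ (U : Over S) (a : (yon S).obj U ⟶ X.obj), RepWith @Etale a →
      topologicalKrullDim ↥U.left ≤
        AlgSp.dim Y.obj + ((Cardinal.toENat E : ℕ∞) : WithBot ℕ∞) by
    unfold AlgSp.dim at hgoal ⊢
    exact iSup_le fun U => iSup_le fun a => iSup_le fun hae => hgoal U a hae
  intro U a hae
  -- a chart of `U` over `V`
  obtain ⟨U', u, h, hue, hus, hpe, hps, hh, hw⟩ :=
    exists_chart_over (IsAlgSpace.yon_obj U) Y.property (a ≫ f.hom) b hbe
  obtain ⟨p, hp⟩ := (yon S).map_surjective (u ≫ pullback.fst (a ≫ f.hom) b)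
  have hpet : Etale p.left := (repWith_yon_map_iff @Etale p).1 (hp ▸ hpe)
  have hpsurj : Surjective p.left := (repWith_yon_map_iff @Surjective p).1 (hp ▸ hps hbs)
  -- the chart diagram
  let a' : (yon S).obj U' ⟶ X.obj := (yon S).map p ≫ a
  have ha'e : RepWith @Etale a' :=
    (repWith_isMultiplicative (S := S) @Etale).comp_mem _ _ ((repWith_yon_map_iff @Etale p).2 hpet) hae
  have hw' : a' ≫ f.hom = (yon S).map h ≫ b := by
    show ((yon S).map p ≫ a) ≫ f.hom = _
    rw [hp, Category.assoc, ← hw]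
  haveI : LocallyOfFiniteType h.left := hf a' b h ha'e hbe hw'
  -- dim U ≤ dim U'
  have h1 : topologicalKrullDim ↥U.left ≤ topologicalKrullDim ↥U'.left :=
    Groth.Agent.Lib.Helper4.DimSurj.main p.left p.left.continuous p.left.surjective
      (Or.inr (Flat.generalizingMap p.left))
  refine h1.trans ?_
  -- bound for generic points
  have hgen : ∀ ξ : U'.left, closure {ξ} ∈ irreducibleComponents ↥U'.left →
      Dual3.resTrdeg h.left ξ ≤ E := by
    intro ξ hξ
    apply hE (Points.ofPt a' ξ)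
    · refine ⟨U', a', ξ, ha'e, rfl, ?_⟩
      show ringKrullDim ↥(U'.left.presheaf.stalk ξ) = 0
      rw [ringKrullDim_stalk_eq_coheight]
      have hmax : IsMax ξ := by
        intro y hy
        have := (Groth.Agent.Lib.Helper7.AffPts.closure_mem_irreducibleComponents_iff ξ).1 hξ y hy
        rw [this]
      rw [Order.coheight_eq_zero.2 hmax]
      rfl
    · exact ⟨U', V, a', b, h, ξ, ha'e, hbe, hw', rfl, rfl⟩
  rcases lt_or_ge E Cardinal.aleph0 with hfin | hinf
  · obtain ⟨n, rfl⟩ := Cardinal.lt_aleph0.1 hfin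
    have h2 := SchemeDimIneqGlobal.main h.left n (fun ξ hξ => hgen ξ hξ)
    refine h2.trans ?_
    simp only [map_natCast]
    exact add_le_add_left hVY _
  · rw [Cardinal.toENat_eq_top.2 hinf]
    by_cases hne : Nonempty ↥U'.left
    · obtain ⟨z⟩ := hne
      haveI : Nonempty ↥V.left := ⟨h.left z⟩
      have h0 : (0 : WithBot ℕ∞) ≤ AlgSp.dim Y.obj :=
        le_trans (QFRelDim.topologicalKrullDim_nonneg_of_nonempty _) hVY
      have : AlgSp.dim Y.obj + ((⊤ : ℕ∞) : WithBot ℕ∞) = ((⊤ : ℕ∞) : WithBot ℕ∞) := by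
        have hne : AlgSp.dim Y.obj ≠ ⊥ := fun hbot => by rw [hbot] at h0; simp at h0
        obtain ⟨d, hd⟩ := WithBot.ne_bot_iff_exists.1 hne
        rw [← hd, ← WithBot.coe_add]
        simp
      rw [this]
      exact le_top
    · have hemp : IsEmpty ↥U'.left := not_nonempty_iff.1 hne
      have : topologicalKrullDim ↥U'.left = ⊥ := by
        unfold topologicalKrullDim
        haveI : IsEmpty (TopologicalSpace.IrreducibleCloseds ↥U'.left) :=
          ⟨fun s => by
            obtain ⟨x, -⟩ := s.isIrreducible.nonempty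
            exact hemp.false x⟩
        exact Order.krullDim_eq_bot
      rw [this]
      exact bot_le

end Groth.Agent.Lib.lead.DimLeSp

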