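import Mathlib
import Groth.Agent.Lib.lead.FibreDimRetro
import Groth.Agent.Lib.Helper18.Chev.Main
import Groth.Agent.Lib.Helper24.LocalDim.Scheme
import Groth.Prelude.Def_Flat

set_option autoImplicit false
set_option linter.style.haveILetI false
universe u
open CategoryTheory CategoryTheory.Limits AlgebraicGeometry Topology TensorProduct

namespace Groth.Agent.Lib.lead.FibreRingDim

open Groth.Agent.Lib.Helper18 Groth.Agent.Lib.lead Groth.Agent.Lib.Helper24

variable (R S : Type u) [CommRing R] [CommRing S] [Algebra R S]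

set_option backward.isDefEq.respectTransparency false in
/-- the identification of the scheme-theoretic fibre of `Spec S ⟶ Spec R` with the spectrum of the
fibre ring is compatible with the maps to `Spec S`. -/
theorem fiberIso_hom_comp (p : PrimeSpectrum R) :
    (Spec.fiberToSpecResidueFieldIso R S p).hom.left ≫
      Spec.map (CommRingCat.ofHom (Algebra.TensorProduct.includeRight.toRingHom :
        S →+* p.asIdeal.Fiber S)) =
      (Spec.map (CommRingCat.ofHom (algebraMap R S))).fiberι p := by
  unfold Spec.fiberToSpecResidueFieldIso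
  dsimp only [Arrow.isoMk', Arrow.isoMk, Comma.isoMk, Arrow.Hom.left]
  simp [Scheme.Hom.fiberι]

/-- the local dimension of the fibre ring at the prime over `q` is the local fibre dimension of
`Spec S ⟶ Spec R` at `q`. -/
theorem localDim_fiberRing_eq (q : PrimeSpectrum S)
    (Q : PrimeSpectrum ((q.asIdeal.under R).Fiber S))
    (hQ : Q.asIdeal.comap (Algebra.TensorProduct.includeRight.toRingHom) = q.asIdeal) :
    FlatMor.localDim (PrimeSpectrum ((q.asIdeal.under R).Fiber S)) Q =
      FlatMor.fibreDimAt (Spec.map (CommRingCat.ofHom (algebraMap R S))) q := by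
  let g : Spec (CommRingCat.of S) ⟶ Spec (CommRingCat.of R) :=
    Spec.map (CommRingCat.ofHom (algebraMap R S))
  let q' : Spec (CommRingCat.of S) := q
  let p : PrimeSpectrum R := g q'
  have hcomp : (Spec.fiberToSpecResidueFieldIso R S p).hom.left ≫
      Spec.map (CommRingCat.ofHom (Algebra.TensorProduct.includeRight.toRingHom :
        S →+* p.asIdeal.Fiber S)) = g.fiberι (g q') := fiberIso_hom_comp R S p
  let e : g.fiber (g q') ⟶ Spec (CommRingCat.of (p.asIdeal.Fiber S)) :=
    (Spec.fiberToSpecResidueFieldIso R S p).hom.left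
  haveI : IsIso e := Arrow.isIso_left _
  have hemb : Topology.IsOpenEmbedding e := (Scheme.homeoOfIso (asIso e)).isOpenEmbedding
  have h1 : FlatMor.localDim (g.fiber (g q')) (g.asFiber q') =
      FlatMor.localDim (Spec (CommRingCat.of (p.asIdeal.Fiber S))) (e (g.asFiber q')) :=
    LocalDim.localDim_eq_of_isOpenEmbedding e hemb (g.asFiber q')
  have hcomp' : e ≫ Spec.map (CommRingCat.ofHom (Algebra.TensorProduct.includeRight.toRingHom :
        S →+* p.asIdeal.Fiber S)) = g.fiberι (g q') := hcomp
  have hinj : Function.Injective (Spec.map (CommRingCat.ofHom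
      (Algebra.TensorProduct.includeRight.toRingHom : S →+* p.asIdeal.Fiber S))) := by
    have : Spec.map (CommRingCat.ofHom
        (Algebra.TensorProduct.includeRight.toRingHom : S →+* p.asIdeal.Fiber S)) =
        inv e ≫ g.fiberι (g q') := by
      rw [IsIso.eq_inv_comp]; exact hcomp'
    rw [this]
    intro a b hab
    rw [Scheme.Hom.comp_apply, Scheme.Hom.comp_apply] at hab
    have h3 := (g.fiberι (g q')).isEmbedding.injective hab
    exact (Scheme.homeoOfIso (asIso (inv e))).injective h3
  let Q' : Spec (CommRingCat.of (p.asIdeal.Fiber S)) := Q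
  have h2 : e (g.asFiber q') = Q' := by
    apply hinj
    rw [← Scheme.Hom.comp_apply, hcomp', g.fiberι_asFiber]
    apply PrimeSpectrum.ext
    exact hQ.symm
  rw [h2] at h1
  exact h1.symm

theorem S9176 [Algebra.FinitePresentation R S] (n : ℕ) :
    IsOpen {q : PrimeSpectrum S | ∀ Q : PrimeSpectrum ((q.asIdeal.under R).Fiber S),
        Q.asIdeal.comap (Algebra.TensorProduct.includeRight.toRingHom) = q.asIdeal →
          FlatMor.localDim (PrimeSpectrum ((q.asIdeal.under R).Fiber S)) Q ≤ (n : WithBot ℕ∞)} ∧
      IsCompact {q : PrimeSpectrum S | ∀ Q : PrimeSpectrum ((q.asIdeal.under R).Fiber S),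
        Q.asIdeal.comap (Algebra.TensorProduct.includeRight.toRingHom) = q.asIdeal →
          FlatMor.localDim (PrimeSpectrum ((q.asIdeal.under R).Fiber S)) Q ≤ (n : WithBot ℕ∞)} := by
  have hφ : (CommRingCat.ofHom (algebraMap R S)).hom.FinitePresentation :=
    RingHom.finitePresentation_algebraMap.2 inferInstance
  haveI : LocallyOfFinitePresentation (Spec.map (CommRingCat.ofHom (algebraMap R S))) :=
    (HasRingHomProperty.Spec_iff (P := @LocallyOfFinitePresentation)).2 hφ
  have hset : {q : PrimeSpectrum S | ∀ Q : PrimeSpectrum ((q.asIdeal.under R).Fiber S),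
        Q.asIdeal.comap (Algebra.TensorProduct.includeRight.toRingHom) = q.asIdeal →
          FlatMor.localDim (PrimeSpectrum ((q.asIdeal.under R).Fiber S)) Q ≤ (n : WithBot ℕ∞)} =
      {q : PrimeSpectrum S |
        FlatMor.fibreDimAt (Spec.map (CommRingCat.ofHom (algebraMap R S))) q ≤ (n : WithBot ℕ∞)} := by
    ext q
    simp only [Set.mem_ofPred_eq]
    constructor
    · intro h
      let p₀ : PrimeSpectrum R := PrimeSpectrum.comap (algebraMap R S) q
      let Q₀ : PrimeSpectrum (p₀.asIdeal.Fiber S) :=
        PrimeSpectrum.preimageEquivFiber R S p₀ ⟨q, rfl⟩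
      have h1 : (PrimeSpectrum.preimageEquivFiber R S p₀).symm Q₀ = ⟨q, rfl⟩ :=
        Equiv.symm_apply_apply _ _
      have h2 : Q₀.asIdeal.comap (Algebra.TensorProduct.includeRight.toRingHom) = q.asIdeal :=
        congrArg (fun z => z.1.asIdeal) h1
      rw [← localDim_fiberRing_eq R S q Q₀ h2]
      exact h Q₀ h2
    · intro h Q hQ
      rw [localDim_fiberRing_eq R S q Q hQ]
      exact h
  rw [hset]
  have h1 := Chev.isOpen_fibreDimAt_le (Spec.map (CommRingCat.ofHom (algebraMap R S))) n
  have h2 := FibreDimRetro.isCompact_affine (CommRingCat.ofHom (algebraMap R S)) hφ n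
  exact ⟨h1, h2⟩


end Groth.Agent.Lib.lead.FibreRingDim
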