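import Mathlib
import Groth.Agent.Lib.lead.SubtrVal2
import Groth.Agent.Lib.Helper7.AffinePoints
import Groth.Prelude.Def_W4c2submetdescSubtr

set_option autoImplicit false
set_option linter.style.haveILetI false
set_option linter.unusedSectionVars false
universe u
open CategoryTheory CategoryTheory.Limits AlgebraicGeometry Topology TopologicalSpace

namespace Groth.Agent.Lib.lead.ChainVal

section Composite

variable {K : Type u} [Field K] (V₁ : ValuationSubring K)
  (Vb : ValuationSubring (IsLocalRing.ResidueField V₁))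

/-- the underlying subring of the composite valuation ring -/
def compSubring : Subring K :=
  (Vb.toSubring.comap (IsLocalRing.residue V₁)).map V₁.subtype

theorem mem_compSubring (x : K) :
    x ∈ compSubring V₁ Vb ↔ ∃ hx : x ∈ V₁, IsLocalRing.residue V₁ ⟨x, hx⟩ ∈ Vb := by
  unfold compSubring
  constructor
  · rintro ⟨y, hy, rfl⟩
    exact ⟨y.2, hy⟩
  · rintro ⟨hx, h⟩
    exact ⟨⟨x, hx⟩, h, rfl⟩

theorem compSubring_aux (x : K) (hx : x ∈ V₁) : x ∈ compSubring V₁ Vb ∨ x⁻¹ ∈ compSubring V₁ Vb := by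
  by_cases h : IsLocalRing.residue V₁ ⟨x, hx⟩ ∈ Vb
  · exact Or.inl ((mem_compSubring V₁ Vb x).2 ⟨hx, h⟩)
  · right
    have hne : IsLocalRing.residue V₁ ⟨x, hx⟩ ≠ 0 := fun h0 => h (h0 ▸ Vb.zero_mem)
    have hu : IsUnit (⟨x, hx⟩ : V₁) := by
      by_contra hnu
      exact hne ((IsLocalRing.residue_eq_zero_iff _).2 ((IsLocalRing.mem_maximalIdeal _).2 hnu))
    obtain ⟨u, hu'⟩ := hu
    have hinv : ((u⁻¹ : (V₁)ˣ) : K) = x⁻¹ := by
      have h1 : ((u : V₁) : K) * ((u⁻¹ : (V₁)ˣ) : K) = 1 := by
        have := congrArg (Subtype.val : V₁ → K) (u.mul_inv)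
        rw [MulMemClass.coe_mul] at this
        exact this
      rw [hu'] at h1
      exact (eq_inv_of_mul_eq_one_right h1)
    rw [mem_compSubring]
    refine ⟨hinv ▸ (u⁻¹ : (V₁)ˣ).1.2, ?_⟩
    have h2 : IsLocalRing.residue V₁ ⟨x⁻¹, hinv ▸ (u⁻¹ : (V₁)ˣ).1.2⟩ =
        (IsLocalRing.residue V₁ ⟨x, hx⟩)⁻¹ := by
      have h3 : (⟨x⁻¹, hinv ▸ (u⁻¹ : (V₁)ˣ).1.2⟩ : V₁) = ((u⁻¹ : (V₁)ˣ) : V₁) :=
        Subtype.ext hinv.symm
      rw [h3, ← hu']
      have h4 : IsLocalRing.residue V₁ (u : V₁) * IsLocalRing.residue V₁ ((u⁻¹ : (V₁)ˣ) : V₁) = 1 := by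
        rw [← map_mul, u.mul_inv, map_one]
      exact eq_inv_of_mul_eq_one_right h4
    rw [h2]
    exact (Vb.mem_or_inv_mem _).resolve_left h

/-- **the composite valuation ring** -/
def comp : ValuationSubring K :=
  ValuationSubring.ofSubring (compSubring V₁ Vb) (by
    intro x
    rcases V₁.mem_or_inv_mem x with hx | hx
    · exact compSubring_aux V₁ Vb x hx
    · have := compSubring_aux V₁ Vb x⁻¹ hx
      rw [inv_inv] at this
      exact this.symm)

theorem mem_comp (x : K) :
    x ∈ comp V₁ Vb ↔ ∃ hx : x ∈ V₁, IsLocalRing.residue V₁ ⟨x, hx⟩ ∈ Vb := by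
  unfold comp
  rw [ValuationSubring.mem_ofSubring]
  exact mem_compSubring V₁ Vb x

theorem comp_le : comp V₁ Vb ≤ V₁ := fun x hx => ((mem_comp V₁ Vb x).1 hx).1

/-- inclusion of the composite into the first valuation ring -/
def compIncl : comp V₁ Vb →+* V₁ := Subring.inclusion (comp_le V₁ Vb)

/-- the residue map from the composite onto the second valuation ring -/
noncomputable def compRes : comp V₁ Vb →+* Vb :=
  ((IsLocalRing.residue V₁).comp (compIncl V₁ Vb)).codRestrict Vb.toSubring
    (fun x => ((mem_comp V₁ Vb x.1).1 x.2).2)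

end Composite


/-- a valuation ring of `K` containing the image of `R` whose maximal ideal contracts to a given
prime containing the kernel. -/
theorem exists_valuationSubring_of_prime {K : Type u} [Field K] {R : Type u} [CommRing R]
    (φ : R →+* K) (P : Ideal R) [P.IsPrime] (hker : RingHom.ker φ ≤ P) :
    ∃ (V : ValuationSubring K) (hφ : ∀ r, φ r ∈ V),
      (IsLocalRing.maximalIdeal V).comap (φ.codRestrict V.toSubring hφ) = P := by
  have hg : ∀ y : P.primeCompl, IsUnit (φ y) := by
    intro y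
    rw [isUnit_iff_ne_zero]
    intro h0
    exact y.2 (hker h0)
  let f₀ : Localization.AtPrime P →+* K := IsLocalization.lift hg
  have hf₀ : ∀ r, f₀ (algebraMap R (Localization.AtPrime P) r) = φ r := fun r =>
    IsLocalization.lift_eq hg r
  obtain ⟨A, hA, hloc⟩ := IsLocalRing.exists_factor_valuationRing f₀
  have hφ : ∀ r, φ r ∈ A := fun r => by rw [← hf₀ r]; exact hA _
  refine ⟨A, hφ, ?_⟩
  have hcomp : φ.codRestrict A.toSubring hφ =
      (f₀.codRestrict A.toSubring hA).comp (algebraMap R (Localization.AtPrime P)) := by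
    ext r
    exact (hf₀ r).symm
  rw [hcomp, ← Ideal.comap_comap, IsLocalRing.maximalIdeal_comap]
  exact IsLocalization.AtPrime.under_maximalIdeal (Localization.AtPrime P) P

/-- **chains of primes are dominated by a valuation ring** -/
theorem exists_valuationSubring_chain (n : ℕ) :
    ∀ (K : Type u) [Field K] (R : Type u) [CommRing R] (φ : R →+* K)
      (P : Fin (n + 1) → PrimeSpectrum R), Monotone P → RingHom.ker φ ≤ (P 0).asIdeal →
      ∃ (V : ValuationSubring K) (hφ : ∀ r, φ r ∈ V) (Q : Fin (n + 1) → PrimeSpectrum V),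
        Monotone Q ∧ ∀ i, PrimeSpectrum.comap (φ.codRestrict V.toSubring hφ) (Q i) = P i := by
  induction n with
  | zero =>
    intro K _ R _ φ P _ hker
    obtain ⟨V, hφ, hV⟩ := exists_valuationSubring_of_prime φ (P 0).asIdeal hker
    refine ⟨V, hφ, fun _ => IsLocalRing.closedPoint V, fun _ _ _ => le_rfl, fun i => ?_⟩
    obtain rfl : i = 0 := Fin.eq_zero i
    exact PrimeSpectrum.ext hV
  | succ n ih =>
    intro K _ R _ φ P hP hker
    obtain ⟨V₁, hφ₁, hV₁⟩ := exists_valuationSubring_of_prime φ (P 0).asIdeal hker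
    let φb : R →+* IsLocalRing.ResidueField V₁ :=
      (IsLocalRing.residue V₁).comp (φ.codRestrict V₁.toSubring hφ₁)
    have hkerb : RingHom.ker φb = (P 0).asIdeal := by
      rw [← RingHom.comap_ker, IsLocalRing.ker_residue, hV₁]
    obtain ⟨Vb, hφb, Qb, hQb, hQbP⟩ := ih (IsLocalRing.ResidueField V₁) R φb
      (fun i => P i.succ) (fun i j hij => hP (Fin.succ_le_succ_iff.2 hij))
      (by rw [hkerb]; exact hP (Fin.zero_le _))
    have hφ : ∀ r, φ r ∈ comp V₁ Vb := fun r => (mem_comp V₁ Vb _).2 ⟨hφ₁ r, hφb r⟩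
    let Q : Fin (n + 2) → PrimeSpectrum (comp V₁ Vb) :=
      Fin.cons (PrimeSpectrum.comap (compIncl V₁ Vb) (IsLocalRing.closedPoint V₁))
        (fun i => PrimeSpectrum.comap (compRes V₁ Vb) (Qb i))
    have hQ0 : ∀ i : Fin (n + 1), Q 0 ≤ Q i.succ := by
      intro i x hx
      have hx' : compIncl V₁ Vb x ∈ IsLocalRing.maximalIdeal V₁ := hx
      show compRes V₁ Vb x ∈ (Qb i).asIdeal
      have h0 : compRes V₁ Vb x = 0 := by
        apply Subtype.ext
        show IsLocalRing.residue V₁ (compIncl V₁ Vb x) = 0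
        exact (IsLocalRing.residue_eq_zero_iff _).2 hx'
      rw [h0]
      exact Ideal.zero_mem _
    refine ⟨comp V₁ Vb, hφ, Q, ?_, ?_⟩
    · intro i j hij
      induction i using Fin.cases with
      | zero =>
        induction j using Fin.cases with
        | zero => exact le_rfl
        | succ j => exact hQ0 j
      | succ i =>
        induction j using Fin.cases with
        | zero => exact absurd hij (by simp [Fin.succ_ne_zero])
        | succ j =>
          show (PrimeSpectrum.comap (compRes V₁ Vb) (Qb i)).asIdeal ≤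
            (PrimeSpectrum.comap (compRes V₁ Vb) (Qb j)).asIdeal
          exact Ideal.comap_mono (hQb (Fin.succ_le_succ_iff.1 hij))
    · intro i
      induction i using Fin.cases with
      | zero =>
        apply PrimeSpectrum.ext
        show ((IsLocalRing.maximalIdeal V₁).comap (compIncl V₁ Vb)).comap
          (φ.codRestrict (comp V₁ Vb).toSubring hφ) = (P 0).asIdeal
        rw [Ideal.comap_comap, ← hV₁]
        rfl
      | succ i =>
        rw [← hQbP i]
        apply PrimeSpectrum.ext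
        show ((Qb i).asIdeal.comap (compRes V₁ Vb)).comap
          (φ.codRestrict (comp V₁ Vb).toSubring hφ) = (Qb i).asIdeal.comap
            (φb.codRestrict Vb.toSubring hφb)
        rw [Ideal.comap_comap]
        rfl


open Groth.Agent.Lib.Helper7 in
/-- **finite chains of specializations in a scheme are dominated by a valuation ring** -/
theorem exists_valuationRing_chain {Y : Scheme.{u}} (n : ℕ) (y : Fin (n + 1) → Y)
    (hy : ∀ i j : Fin (n + 1), i ≤ j → y i ⤳ y j) :
    ∃ (V : Type u) (_ : CommRing V) (_ : IsDomain V) (_ : ValuationRing V)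
      (g : Spec (CommRingCat.of V) ⟶ Y) (Q : Fin (n + 1) → PrimeSpectrum V),
      Monotone Q ∧ ∀ i, g (Q i) = y i := by
  obtain ⟨_, ⟨U, hU : IsAffineOpen U, rfl⟩, hyU, -⟩ :=
    (Y.isBasis_affineOpens).exists_subset_of_mem_open (Set.mem_univ (y (Fin.last n))) isOpen_univ
  have hmem : ∀ i, y i ∈ U := fun i => (hy i (Fin.last n) (Fin.le_last i)).mem_open U.isOpen hyU
  let P : Fin (n + 1) → PrimeSpectrum Γ(Y, U) := fun i => hU.primeIdealOf ⟨y i, hmem i⟩
  have hP : Monotone P := fun i j hij => (AffPts.primeIdealOf_le_iff hU _ _).2 (hy i j hij)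
  let K := (P 0).asIdeal.ResidueField
  let φ : Γ(Y, U) →+* K := algebraMap Γ(Y, U) K
  have hker : RingHom.ker φ ≤ (P 0).asIdeal := (Ideal.ker_algebraMap_residueField _).le
  obtain ⟨V, hφ, Q, hQ, hQP⟩ := exists_valuationSubring_chain n K Γ(Y, U) φ P hP hker
  refine ⟨V, inferInstance, inferInstance, inferInstance,
    Spec.map (CommRingCat.ofHom (φ.codRestrict V.toSubring hφ)) ≫ hU.fromSpec, Q, hQ, fun i => ?_⟩
  rw [Scheme.Hom.comp_apply]
  have h1 : Spec.map (CommRingCat.ofHom (φ.codRestrict V.toSubring hφ)) (Q i) = P i := hQP i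
  rw [h1]
  exact hU.fromSpec_primeIdealOf ⟨y i, hmem i⟩

/-- **S19530** -/
theorem S19530 {X Y : Scheme.{u}} (f : X ⟶ Y)
    (hf : Subtr.UnivSSubtrusive f) (n : ℕ) (y : Fin (n + 1) → Y)
    (hy : ∀ i j : Fin (n + 1), i ≤ j → y i ⤳ y j) :
    ∃ x : Fin (n + 1) → X, (∀ i j : Fin (n + 1), i ≤ j → x i ⤳ x j) ∧ ∀ i, f (x i) = y i := by
  classical
  obtain ⟨V, _, _, _, g, Q, hQ, hgQ⟩ := exists_valuationRing_chain n y hy
  obtain ⟨V', _, _, _, a, b, hb, hab⟩ := (SubtrVal2.S14769 f).1 hf V g
  choose s hs using hb.surj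
  refine ⟨fun i => a (s (Q i)), ?_, ?_⟩
  · intro i j hij
    apply Specializes.map _ a.continuous
    let qi : PrimeSpectrum V' := s (Q i)
    let qj : PrimeSpectrum V' := s (Q j)
    have key : qi ≤ qj := by
      rcases (ValuationRing.le_total_ideal (A := V')).total qi.asIdeal qj.asIdeal with h | h
      · exact h
      · -- then `Q j ≤ Q i`, hence they are equal
        have hsp : (s (Q j)) ⤳ (s (Q i)) := (PrimeSpectrum.le_iff_specializes qj qi).1 h
        have h2 : b (s (Q j)) ⤳ b (s (Q i)) := hsp.map b.continuous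
        rw [hs, hs] at h2
        have h1 : Q j ≤ Q i := (PrimeSpectrum.le_iff_specializes (Q j) (Q i)).2 h2
        have h3 : Q i = Q j := le_antisymm (hQ hij) h1
        have h4 : qi = qj := by
          show s (Q i) = s (Q j)
          rw [h3]
        exact h4.le
    exact (PrimeSpectrum.le_iff_specializes qi qj).1 key
  · intro i
    rw [← Scheme.Hom.comp_apply, hab, Scheme.Hom.comp_apply, hs, hgQ]

end Groth.Agent.Lib.lead.ChainVal
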