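import Groth.Agent.Lib.lead.FibOneF
import Groth.Agent.Lib.Helper21.FibVan4
import Groth.Agent.S0032
import Mathlib

/-!
# Local-to-global vanishing over an affine base, and vanishing for globally generated modules
-/

set_option backward.isDefEq.respectTransparency.types false
set_option linter.style.haveILetI false
set_option autoImplicit false
universe u
open CategoryTheory CategoryTheory.Limits AlgebraicGeometry Opposite TopologicalSpace Abelian

noncomputable section

namespace Groth.Agent.Lib.lead.FibOne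

open Groth.Agent.Lib.Helper21.FibVan Groth.Agent.Lib.Helper2 Groth.Agent.Lib.Helper2.HomExt
open Groth.Agent.Lib.Helper28.QCohLoc Groth.Agent.Lib.Helper17.CohKer
open Groth.Agent.Lib.Helper2.RpushQC4

/-- cohomology over an affine base vanishes as soon as it vanishes over preimages of small affine
opens of the base -/
theorem subsingleton_HH_of_locally {X Y : Scheme.{u}} (f : X ⟶ Y) [QuasiCompact f]
    [QuasiSeparated f] [IsAffine Y] (M : X.Modules) [Coh.IsQCoh M] (p : ℕ)
    (h : ∀ y : Y, ∃ V : Y.Opens, y ∈ V ∧ IsAffineOpen V ∧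
      Subsingleton (Coh.HHon X M (f ⁻¹ᵁ V) p)) :
    Subsingleton (Coh.HH X M p) := by
  obtain ⟨e⟩ := Groth.Agent.S0032.result f M p
  suffices h' : Subsingleton ↑(((Coh.RpushAb f p).obj (Coh.toAb M)).obj.obj (Opposite.op ⊤)) from
    e.toEquiv.subsingleton
  refine ⟨fun s t => ?_⟩
  refine TopCat.Presheaf.section_ext ((Coh.RpushAb f p).obj (Coh.toAb M)) ⊤ s t (fun y hy => ?_)
  obtain ⟨V, hyV, hV, hvan⟩ := h y
  haveI : IsAffine ↑V := hV
  obtain ⟨e₁⟩ := Groth.Agent.S11319.result f M p
  obtain ⟨e₂⟩ := Groth.Agent.Lib.Helper2.RpushQC6.nonempty_restrict_Rpush_iso f V M p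
  haveI : (M.restrict (f ⁻¹ᵁ V).ι).IsQuasicoherent := inferInstance
  have h0 : IsZero ((Coh.Rpush (f ∣_ V) p).obj (M.restrict (f ⁻¹ᵁ V).ι)) :=
    Groth.Agent.Lib.Helper4.RpushZero.isZero_Rpush_of_isAffine (f ∣_ V) _ p hvan
  have h1 := Groth.Agent.Lib.Helper4.RpushStalk.isZero_stalk_of_isZero_restrict _ V y hyV
    (h0.of_iso e₂)
  have hz : IsZero (TopCat.Presheaf.stalk ((Coh.RpushAb f p).obj (Coh.toAb M)).obj y) :=
    h1.of_iso ((TopCat.Presheaf.stalkFunctor AddCommGrpCat.{u} y).mapIso
      ((sheafToPresheaf _ _).mapIso e₁)).symm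
  have : Subsingleton ↑(TopCat.Presheaf.stalk ((Coh.RpushAb f p).obj (Coh.toAb M)).obj y) :=
    AddCommGrpCat.subsingleton_of_isZero hz
  exact Subsingleton.elim _ _

/-- vanishing for globally generated quasi-coherent modules -/
theorem subsingleton_HH_of_epi_sigma {X : Scheme.{u}} [CompactSpace X] [QuasiSeparatedSpace X]
    (F : X.Modules) [F.IsQuasicoherent] {ι : Type u}
    (e : (∐ fun _ : ι => Coh.structureModule X) ⟶ F) [Epi e] (d : ℕ)
    (hvan : ∀ K : X.Modules, K.IsQuasicoherent → Subsingleton (Coh.HH X K (d + 1)))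
    (h0 : Subsingleton (Coh.HH X (Coh.structureModule X) d)) :
    Subsingleton (Coh.HH X F d) := by
  classical
  haveI : (Coh.structureModule X).IsQuasicoherent := inferInstance
  haveI : (∐ fun _ : ι => Coh.structureModule X).IsQuasicoherent :=
    Groth.Agent.Lib.Helper16.QCohSigma.isQuasicoherent_sigma _
  have hK : (kernel e).IsQuasicoherent := isQuasicoherent_kernel _
  refine ⟨fun z z' => ?_⟩
  suffices h : ∀ z : Coh.HH X F d, z = 0 by rw [h z, h z']
  intro z
  obtain ⟨w, rfl⟩ := surjective_HH_of_epi e d (hvan _ hK) z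
  obtain ⟨σ, y, hsum⟩ := Groth.Agent.Lib.Helper17.SigmaHH.exists_finset_sum_HH X
    (fun _ : ι => Coh.structureModule X) d w
  have hw : w = 0 := by
    refine hsum.trans (Finset.sum_eq_zero fun a _ => ?_)
    have hy : y a = 0 := @Subsingleton.elim _ h0 _ _
    exact (congrArg _ hy).trans (map_zero _)
  exact (congrArg (fun t => Sheaf.H.map ((SheafOfModules.toSheaf X.ringCatSheaf).map e) d t) hw).trans
    (map_zero _)

end Groth.Agent.Lib.lead.FibOne
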