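import Mathlib
import Groth.Agent.Lib.lead.ValFlatC
import Groth.Agent.Lib.lead.ValFlatD
import Groth.Agent.Lib.Helper12.AnUnramD

set_option autoImplicit false
set_option linter.style.haveILetI false
set_option linter.unusedSectionVars false
universe u
open TensorProduct

namespace Groth.Agent.Lib.lead.ValFlatE

open Groth.Agent.Lib.lead.ValFlatA Groth.Agent.Lib.lead.ValFlatB Groth.Agent.Lib.lead.ValFlatC
  Groth.Agent.Lib.lead.ValFlatD

attribute [local instance] Algebra.TensorProduct.rightAlgebra

section

variable (A₀ B : Type u) [CommRing A₀] [CommRing B] [Algebra A₀ B]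
  (M : Type u) [AddCommGroup M] [Module B M] [Module A₀ M] [IsScalarTower A₀ B M]

/-- an `A_p`-module is its own base change. -/
noncomputable def selfBaseChange (p : Ideal A₀) [p.IsPrime] (N : Type u) [AddCommGroup N]
    [Module A₀ N] [Module (Localization.AtPrime p) N]
    [IsScalarTower A₀ (Localization.AtPrime p) N] :
    (Localization.AtPrime p) ⊗[A₀] N ≃ₗ[Localization.AtPrime p] N :=
  haveI := isLocalizedModule_id p.primeCompl N (Localization.AtPrime p)
  (IsLocalizedModule.isBaseChange p.primeCompl (Localization.AtPrime p)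
    (LinearMap.id : N →ₗ[A₀] N)).equiv

/-- the valuative criterion at a prime of `B`. -/
theorem flat_localized_of_forall_dvr [IsReduced A₀] [IsNoetherianRing A₀]
    [Algebra.FiniteType A₀ B] [Module.Finite B M]
    (H : ∀ (R : Type u) [CommRing R] [IsDomain R] [IsDiscreteValuationRing R] [Algebra A₀ R],
      Module.Flat R (R ⊗[A₀] M))
    (q : Ideal B) [q.IsPrime] : Module.Flat A₀ (LocalizedModule q.primeCompl M) := by
  set p := q.comap (algebraMap A₀ B) with hp
  let Ap := Localization.AtPrime p
  let Bq := Localization.AtPrime q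
  let N := LocalizedModule q.primeCompl M
  letI := locAlgebra p q rfl
  haveI := locAlgebra_tower p q rfl
  letI := locModule M p q rfl
  haveI := locModule_tower M p q rfl
  haveI := locModule_tower' M p q rfl
  haveI : IsLocalHom (algebraMap Ap Bq) :=
    Localization.isLocalHom_localRingHom p q (algebraMap A₀ B) rfl
  let C := AdicCompletion (IsLocalRing.maximalIdeal Ap) Ap
  haveI : IsNoetherianRing C := Groth.Agent.Lib.Helper12.AnUnram.isNoetherianRing_cpl Ap
  haveI : Module.FaithfullyFlat Ap C := Groth.Agent.Lib.Helper12.AnUnram.faithfullyFlat_cpl Ap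
  haveI : Algebra.EssFiniteType A₀ Bq := Algebra.EssFiniteType.comp A₀ B Bq
  haveI : Algebra.EssFiniteType Ap Bq := Algebra.EssFiniteType.of_comp A₀ Ap Bq
  haveI : IsNoetherianRing (C ⊗[Ap] Bq) := Algebra.EssFiniteType.isNoetherianRing C (C ⊗[Ap] Bq)
  haveI : Module.Finite Bq N := Module.Finite.of_isLocalizedModule q.primeCompl
    (LocalizedModule.mkLinearMap q.primeCompl M)
  obtain ⟨f, hf, hflat⟩ := exists_nzd_forall_flat (A := A₀) (B := B) M
  have hT0 : TorsCond A₀ M f := torsCond_of_forall_flat M f hflat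
  have hT1 : TorsCond A₀ N f :=
    torsCond_of_isLocalizedModule f q.primeCompl (LocalizedModule.mkLinearMap q.primeCompl M) hT0
  have hT2 : TorsCond Ap (Ap ⊗[A₀] N) (algebraMap A₀ Ap f) := torsCond_baseChange f N hT1 Ap
  have hT3 : TorsCond Ap N (algebraMap A₀ Ap f) :=
    torsCond_of_linearEquiv _ (selfBaseChange A₀ p N) hT2
  have hf' : algebraMap A₀ Ap f ∈ nonZeroDivisors Ap :=
    algebraMap_mem_nonZeroDivisors_of_flat f hf
  have key : Module.Flat Ap N := by
    refine vloc Ap C Bq (C ⊗[Ap] Bq) N AdicCompletion.maximalIdeal_eq_map _ hf' hT3 ?_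
    intro R _ _ _ _ _
    letI : Algebra A₀ R := ((algebraMap Ap R).comp (algebraMap A₀ Ap)).toAlgebra
    haveI : IsScalarTower A₀ Ap R := IsScalarTower.of_algebraMap_eq (fun _ => rfl)
    haveI := H R
    haveI : Module.Flat R (R ⊗[A₀] N) :=
      Groth.Agent.Lib.Helper21.FlatDesc.flat_baseChange_of_isLocalizedModule (A := A₀) (B := B)
        (F := M) q.primeCompl (LocalizedModule.mkLinearMap q.primeCompl M)
    let e1 : R ⊗[Ap] (Ap ⊗[A₀] N) ≃ₗ[R] R ⊗[Ap] N :=
      AlgebraTensorModule.congr (LinearEquiv.refl R R) (selfBaseChange A₀ p N)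
    let e2 : R ⊗[Ap] (Ap ⊗[A₀] N) ≃ₗ[R] R ⊗[A₀] N :=
      AlgebraTensorModule.cancelBaseChange A₀ Ap R R N
    exact Module.Flat.of_linearEquiv (e1.symm ≪≫ₗ e2)
  exact (Module.flat_iff_of_isLocalization Ap p.primeCompl N).mp key

/-- **Valuative criterion of flatness** over a reduced Noetherian base. -/
theorem main (A : Type u) [CommRing A] [IsReduced A]
    [IsNoetherianRing A] (B : Type u) [CommRing B] [Algebra A B] [Algebra.FiniteType A B]
    (M : Type u) [AddCommGroup M] [Module A M] [Module B M] [IsScalarTower A B M]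
    [Module.Finite B M] :
    Module.Flat A M ↔
      ∀ (R : Type u) [CommRing R] [IsDomain R] [IsDiscreteValuationRing R] [Algebra A R],
        Module.Flat R (R ⊗[A] M) := by
  constructor
  · intro h R _ _ _ _
    infer_instance
  · intro H
    refine Module.flat_of_isLocalized_maximal B M (fun P _ => LocalizedModule P.primeCompl M)
      (fun P _ => LocalizedModule.mkLinearMap P.primeCompl M) ?_
    intro P _
    exact flat_localized_of_forall_dvr A B M H P

end

end Groth.Agent.Lib.lead.ValFlatE

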