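import Mathlib
import Groth.Agent.Lib.lead.ValFlatC
import Groth.Agent.Lib.lead.ValFlatD
import Groth.Agent.Lib.lead.ValFlatE
import Groth.Agent.Lib.Helper12.AnUnramD
import Groth.Agent.Lib.Helper21.FlatOpen
import Groth.Agent.Lib.Helper21.RedFlat

set_option autoImplicit false
set_option linter.style.haveILetI false
set_option linter.unusedSectionVars false
universe u
open TensorProduct

namespace Groth.Agent.Lib.lead.ValFlatF

open Groth.Agent.Lib.lead.ValFlatA Groth.Agent.Lib.lead.ValFlatB Groth.Agent.Lib.lead.ValFlatC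
  Groth.Agent.Lib.lead.ValFlatD Groth.Agent.Lib.lead.ValFlatE

attribute [local instance] Algebra.TensorProduct.rightAlgebra

section

variable {A B : Type u} [CommRing A] [CommRing B] [Algebra A B]
  (M : Type u) [AddCommGroup M] [Module B M] [Module A M] [IsScalarTower A B M]

/-- reducedness of `A_p` passes to `A_{p'}` for `p' ≤ p`. -/
theorem isReduced_localization_of_le (p p' : Ideal A) [p.IsPrime] [p'.IsPrime] (hle : p' ≤ p)
    [IsReduced (Localization.AtPrime p)] : IsReduced (Localization.AtPrime p') := by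
  constructor
  intro z hz
  obtain ⟨x, s, rfl⟩ := IsLocalization.exists_mk'_eq p'.primeCompl z
  obtain ⟨n, hn⟩ := hz
  rw [← IsLocalization.mk'_pow, IsLocalization.mk'_eq_zero_iff] at hn
  obtain ⟨t, ht⟩ := hn
  -- `(t x)^n = 0` in `A` hence `t x / 1 = 0` in `A_p`
  have h1 : ((t : A) * x) ^ (n + 1) = 0 := by
    have : ((t : A) * x) ^ (n + 1) = (t : A) ^ n * x * ((t : A) * x ^ n) := by ring
    rw [this, ht, mul_zero]
  have h2 : IsNilpotent (algebraMap A (Localization.AtPrime p) ((t : A) * x)) :=
    ⟨n + 1, by rw [← map_pow, h1, map_zero]⟩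
  have h3 : algebraMap A (Localization.AtPrime p) ((t : A) * x) = 0 := h2.eq_zero
  obtain ⟨u, hu⟩ := (IsLocalization.map_eq_zero_iff p.primeCompl _ _).mp h3
  rw [IsLocalization.mk'_eq_zero_iff]
  refine ⟨⟨(u : A) * t, ?_⟩, ?_⟩
  · intro hmem
    rcases Ideal.IsPrime.mem_or_mem ‹p'.IsPrime› hmem with h | h
    · exact u.2 (hle h)
    · exact t.2 h
  · change (u : A) * t * x = 0
    rw [mul_assoc]; exact hu

/-- `M_q` is flat when `q` lies over a minimal prime contained in a prime with reduced local
ring. -/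
theorem flat_localized_of_comap_mem_minimalPrimes' (p : Ideal A) [p.IsPrime]
    [IsReduced (Localization.AtPrime p)] (q : Ideal B) [q.IsPrime]
    (hq : q.comap (algebraMap A B) ∈ minimalPrimes A) (hle : q.comap (algebraMap A B) ≤ p) :
    Module.Flat A (LocalizedModule q.primeCompl M) := by
  set p' := q.comap (algebraMap A B) with hp
  haveI : p'.IsPrime := hq.1.1
  haveI := isReduced_localization_of_le p p' hle
  letI := locModule M p' q rfl
  haveI := locModule_tower' M p' q rfl
  haveI : Ring.KrullDimLE 0 (Localization.AtPrime p') := .of_isLocalization _ hq _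
  letI : Field (Localization.AtPrime p') := Ring.KrullDimLE.isField_of_isReduced.toField
  haveI : Module.Flat (Localization.AtPrime p') (LocalizedModule q.primeCompl M) := inferInstance
  exact Module.Flat.trans A (Localization.AtPrime p') _

/-- generic flatness near a prime with reduced local ring. -/
theorem exists_forall_flat' [IsNoetherianRing A] [Algebra.FiniteType A B] [Module.Finite B M]
    (p : Ideal A) [p.IsPrime] [IsReduced (Localization.AtPrime p)] :
    ∃ f : A, (∀ p' ∈ minimalPrimes A, p' ≤ p → f ∉ p') ∧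
      ∀ (q' : Ideal B) [q'.IsPrime], algebraMap A B f ∉ q' →
        Module.Flat A (LocalizedModule q'.primeCompl M) := by
  classical
  have hopen := Groth.Agent.Lib.Helper21.FlatOpen.isOpen_flatLocus (A := A) (B := B) M
  set U := {q : PrimeSpectrum B | Module.Flat A (LocalizedModule q.asIdeal.primeCompl M)} with hU
  obtain ⟨𝔞, h𝔞⟩ := (PrimeSpectrum.isClosed_iff_zeroLocus_ideal Uᶜ).mp hopen.isClosed_compl
  set 𝔟 := 𝔞.comap (algebraMap A B) with h𝔟
  have hnot : ∀ p' ∈ minimalPrimes A, p' ≤ p → ¬ 𝔟 ≤ p' := by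
    intro p' hp' hp'p hle
    have hmin : p' ∈ 𝔟.minimalPrimes :=
      ⟨⟨hp'.1.1, hle⟩, fun y hy hyp => hp'.2 ⟨hy.1, bot_le⟩ hyp⟩
    obtain ⟨q', hq'p, hq'le, hq'c⟩ :=
      Ideal.exists_comap_eq_of_mem_minimalPrimes (algebraMap A B) p' hmin
    have h1 : (⟨q', hq'p⟩ : PrimeSpectrum B) ∈ Uᶜ := by
      rw [h𝔞, PrimeSpectrum.mem_zeroLocus]; exact hq'le
    apply h1
    change Module.Flat A (LocalizedModule q'.primeCompl M)
    exact flat_localized_of_comap_mem_minimalPrimes' M p q' (hq'c ▸ hp') (hq'c ▸ hp'p)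
  have hfin := minimalPrimes.finite_of_isNoetherianRing A
  have hfin' : {p' ∈ minimalPrimes A | p' ≤ p}.Finite := hfin.subset (fun _ h => h.1)
  obtain ⟨f, hf𝔟, hfnot⟩ : ∃ f ∈ 𝔟, ∀ p' ∈ minimalPrimes A, p' ≤ p → f ∉ p' := by
    by_contra hcon
    push Not at hcon
    have hsub : (𝔟 : Set A) ⊆ ⋃ p' ∈ (hfin'.toFinset : Set (Ideal A)),
        ((id p' : Ideal A) : Set A) := by
      intro f hf
      obtain ⟨p', hp', hp'p, hfp'⟩ := hcon f hf
      simp only [Set.mem_iUnion]
      exact ⟨p', by simpa using ⟨hp', hp'p⟩, hfp'⟩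
    rw [Ideal.subset_union_prime (⊥ : Ideal A) ⊥ (fun i hi _ _ => by
      have : i ∈ minimalPrimes A ∧ i ≤ p := by simpa using hi
      exact this.1.1.1)] at hsub
    obtain ⟨p', hp', hle⟩ := hsub
    have : p' ∈ minimalPrimes A ∧ p' ≤ p := by simpa using hp'
    exact hnot p' this.1 this.2 hle
  refine ⟨f, hfnot, ?_⟩
  intro q' _ hfq'
  have h1 : (⟨q', inferInstance⟩ : PrimeSpectrum B) ∉ Uᶜ := by
    rw [h𝔞, PrimeSpectrum.mem_zeroLocus]
    intro hle
    exact hfq' (hle hf𝔟)
  rw [Set.notMem_compl_iff] at h1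
  exact h1

/-- an element outside the minimal primes below `p` is a nonzerodivisor in the reduced ring
`A_p`. -/
theorem algebraMap_mem_nonZeroDivisors_of_notMem (p : Ideal A) [p.IsPrime]
    [IsReduced (Localization.AtPrime p)] (f : A)
    (hf : ∀ p' ∈ minimalPrimes A, p' ≤ p → f ∉ p') :
    algebraMap A (Localization.AtPrime p) f ∈ nonZeroDivisors (Localization.AtPrime p) := by
  have key : ∀ z : Localization.AtPrime p, algebraMap A (Localization.AtPrime p) f * z = 0 →
      z = 0 := by
    intro z hz
    apply Groth.Agent.Lib.Helper21.RedFlat.eq_zero_of_forall_mem_minimalPrimes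
    intro P hP
    haveI := hP.1.1
    have h1 : P.comap (algebraMap A (Localization.AtPrime p)) ∈ minimalPrimes A := by
      have h2 := IsLocalization.minimalPrimes_map p.primeCompl (Localization.AtPrime p)
        (⊥ : Ideal A)
      rw [Ideal.map_bot] at h2
      have h3 : P ∈ (⊥ : Ideal (Localization.AtPrime p)).minimalPrimes := hP
      rw [h2] at h3
      exact h3
    have h2 : P.comap (algebraMap A (Localization.AtPrime p)) ≤ p := by
      have h3 : P ≤ IsLocalRing.maximalIdeal (Localization.AtPrime p) :=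
        IsLocalRing.le_maximalIdeal (Ideal.IsPrime.ne_top inferInstance)
      have h4 := Ideal.comap_mono (f := algebraMap A (Localization.AtPrime p)) h3
      have h5 : Ideal.comap (algebraMap A (Localization.AtPrime p))
          (IsLocalRing.maximalIdeal (Localization.AtPrime p)) = p :=
        IsLocalization.AtPrime.under_maximalIdeal (Localization.AtPrime p) p
      rwa [h5] at h4
    have h3 : algebraMap A (Localization.AtPrime p) f ∉ P := fun h => hf _ h1 h2 h
    have h4 : algebraMap A (Localization.AtPrime p) f * z ∈ P := by rw [hz]; exact zero_mem _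
    exact (Ideal.IsPrime.mem_or_mem ‹_› h4).resolve_left h3
  rw [mem_nonZeroDivisors_iff]
  exact ⟨key, fun x hx => key x (by rw [mul_comm]; exact hx)⟩

/-- the valuative criterion at a prime `q` of `B`, assuming only that the local ring of the base at
`q ∩ A` is reduced, and testing only discrete valuation rings centred at `q ∩ A`. -/
theorem flat_localized_of_forall_dvr' [IsNoetherianRing A] [Algebra.FiniteType A B]
    [Module.Finite B M] (q : Ideal B) [q.IsPrime]
    [IsReduced (Localization.AtPrime (q.comap (algebraMap A B)))]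
    (H : ∀ (R : Type u) [CommRing R] [IsDomain R] [IsDiscreteValuationRing R] [Algebra A R],
      (IsLocalRing.maximalIdeal R).comap (algebraMap A R) = q.comap (algebraMap A B) →
      Module.Flat R (R ⊗[A] LocalizedModule q.primeCompl M)) :
    Module.Flat A (LocalizedModule q.primeCompl M) := by
  set p := q.comap (algebraMap A B) with hp
  let Ap := Localization.AtPrime p
  let Bq := Localization.AtPrime q
  let N := LocalizedModule q.primeCompl M
  letI := locAlgebra p q rfl
  haveI := locAlgebra_tower p q rfl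
  letI := locModule M p q rfl
  haveI := locModule_tower M p q rfl
  haveI := locModule_tower' M p q rfl
  haveI : IsLocalHom (algebraMap Ap Bq) :=
    Localization.isLocalHom_localRingHom p q (algebraMap A B) rfl
  let C := AdicCompletion (IsLocalRing.maximalIdeal Ap) Ap
  haveI : IsNoetherianRing C := Groth.Agent.Lib.Helper12.AnUnram.isNoetherianRing_cpl Ap
  haveI : Module.FaithfullyFlat Ap C := Groth.Agent.Lib.Helper12.AnUnram.faithfullyFlat_cpl Ap
  haveI : Algebra.EssFiniteType A Bq := Algebra.EssFiniteType.comp A B Bq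
  haveI : Algebra.EssFiniteType Ap Bq := Algebra.EssFiniteType.of_comp A Ap Bq
  haveI : IsNoetherianRing (C ⊗[Ap] Bq) := Algebra.EssFiniteType.isNoetherianRing C (C ⊗[Ap] Bq)
  haveI : Module.Finite Bq N := Module.Finite.of_isLocalizedModule q.primeCompl
    (LocalizedModule.mkLinearMap q.primeCompl M)
  obtain ⟨f, hf, hflat⟩ := exists_forall_flat' (A := A) (B := B) M p
  have hT0 : TorsCond A M f := torsCond_of_forall_flat M f hflat
  have hT1 : TorsCond A N f :=
    torsCond_of_isLocalizedModule f q.primeCompl (LocalizedModule.mkLinearMap q.primeCompl M) hT0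
  have hT2 : TorsCond Ap (Ap ⊗[A] N) (algebraMap A Ap f) := torsCond_baseChange f N hT1 Ap
  have hT3 : TorsCond Ap N (algebraMap A Ap f) :=
    torsCond_of_linearEquiv _ (selfBaseChange A p N) hT2
  have hf' : algebraMap A Ap f ∈ nonZeroDivisors Ap :=
    algebraMap_mem_nonZeroDivisors_of_notMem p f hf
  have key : Module.Flat Ap N := by
    refine vloc Ap C Bq (C ⊗[Ap] Bq) N AdicCompletion.maximalIdeal_eq_map _ hf' hT3 ?_
    intro R _ _ _ _ _
    letI : Algebra A R := ((algebraMap Ap R).comp (algebraMap A Ap)).toAlgebra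
    haveI : IsScalarTower A Ap R := IsScalarTower.of_algebraMap_eq (fun _ => rfl)
    have hcomap : (IsLocalRing.maximalIdeal R).comap (algebraMap A R) = p := by
      have h1 : (IsLocalRing.maximalIdeal R).comap (algebraMap Ap R) =
          IsLocalRing.maximalIdeal Ap := by
        ext z
        rw [Ideal.mem_comap, IsLocalRing.mem_maximalIdeal, IsLocalRing.mem_maximalIdeal,
          mem_nonunits_iff, mem_nonunits_iff]
        exact ⟨fun h hu => h (hu.map _), fun h hu => h (isUnit_of_map_unit _ z hu)⟩
      have h2 : algebraMap A R = (algebraMap Ap R).comp (algebraMap A Ap) := rfl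
      rw [h2, ← Ideal.comap_comap, h1]
      exact IsLocalization.AtPrime.under_maximalIdeal Ap p
    haveI : Module.Flat R (R ⊗[A] N) := H R hcomap
    let e1 : R ⊗[Ap] (Ap ⊗[A] N) ≃ₗ[R] R ⊗[Ap] N :=
      AlgebraTensorModule.congr (LinearEquiv.refl R R) (selfBaseChange A p N)
    let e2 : R ⊗[Ap] (Ap ⊗[A] N) ≃ₗ[R] R ⊗[A] N :=
      AlgebraTensorModule.cancelBaseChange A Ap R R N
    exact Module.Flat.of_linearEquiv (e1.symm ≪≫ₗ e2)
  exact (Module.flat_iff_of_isLocalization Ap p.primeCompl N).mp key

end

end Groth.Agent.Lib.lead.ValFlatF
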