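import Mathlib
import Groth.Agent.Lib.lead.HensClopenB

/-!
# Henselian couples: passage from the topological form to closed immersions
-/

set_option autoImplicit false
set_option linter.style.haveILetI false
universe u
open CategoryTheory CategoryTheory.Limits AlgebraicGeometry Opposite TopologicalSpace PrimeSpectrum

namespace Groth.Agent.Lib.lead.HensClopen

/-- From traces on a closed subset to preimages under a closed embedding onto it. -/
theorem existsUnique_of_isClosedEmbedding {Y' Y : Type*} [TopologicalSpace Y']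
    [TopologicalSpace Y] (j : Y' → Y) (hj : Topology.IsClosedEmbedding j) (Z : Set Y)
    (hZ : Set.range j = Z)
    (H : ∀ V' : Set Y, V' ⊆ Z → IsClosed V' → IsClosed (Z \ V') →
      ∃! U : Set Y, IsClopen U ∧ U ∩ Z = V')
    (V : Set Y') (hV : IsClopen V) : ∃! U : Set Y, IsClopen U ∧ j ⁻¹' U = V := by
  have hsub : j '' V ⊆ Z := by rw [← hZ]; exact Set.image_subset_range j V
  have hcompl : Z \ j '' V = j '' Vᶜ := by
    rw [← hZ, ← Set.image_univ, ← Set.image_sdiff hj.injective, Set.compl_eq_univ_sdiff]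
  obtain ⟨U, ⟨hU, hUZ⟩, huniq⟩ := H (j '' V) hsub (hj.isClosedMap _ hV.1)
    (by rw [hcompl]; exact hj.isClosedMap _ hV.2.isClosed_compl)
  have hpre : ∀ U' : Set Y, j ⁻¹' U' = j ⁻¹' (U' ∩ Z) := by
    intro U'
    ext y
    simp only [Set.mem_preimage, Set.mem_inter_iff, iff_self_and]
    intro _
    rw [← hZ]
    exact Set.mem_range_self y
  refine ⟨U, ⟨hU, ?_⟩, ?_⟩
  · rw [hpre, hUZ, Set.preimage_image_eq _ hj.injective]
  · rintro U₂ ⟨hU₂, h₂⟩
    apply huniq U₂ ⟨hU₂, ?_⟩
    rw [← hZ, Set.inter_comm, ← Set.image_preimage_eq_range_inter, h₂]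

/-- The range of `Spec (A/I) ⟶ Spec A`. -/
theorem range_SpecMap_quotient (A : Type u) [CommRing A] (I : Ideal A) :
    Set.range (Spec.map (CommRingCat.ofHom (Ideal.Quotient.mk I))) =
      (zeroLocus (I : Set A) : Set (PrimeSpectrum A)) := by
  have := range_comap_of_surjective _ (Ideal.Quotient.mk I) Ideal.Quotient.mk_surjective
  rw [Ideal.mk_ker] at this
  exact this

/-- **Henselian couple form**: for `(R, K)` a Noetherian henselian pair, `f : X ⟶ Spec R`
proper and `g : Y ⟶ X` finite, clopen subsets of `Y ×_X X₀` lift uniquely to `Y`. -/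
theorem couple (R : Type u) [CommRing R] [IsNoetherianRing R] (K : Ideal R) [HenselianRing R K]
    {X : Scheme.{u}} (f : X ⟶ Spec (CommRingCat.of R)) [IsProper f]
    (Y : Scheme.{u}) (g : Y ⟶ X) [IsFinite g]
    (V : Set ↥(pullback g (pullback.fst f (Spec.map (CommRingCat.ofHom (Ideal.Quotient.mk K))))))
    (hV : IsClopen V) :
    ∃! U : Set ↥Y, IsClopen U ∧
      (pullback.fst g (pullback.fst f
        (Spec.map (CommRingCat.ofHom (Ideal.Quotient.mk K))))).base ⁻¹' U = V := by
  haveI : IsClosedImmersion (Spec.map (CommRingCat.ofHom (Ideal.Quotient.mk K))) :=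
    IsClosedImmersion.spec_of_surjective _ Ideal.Quotient.mk_surjective
  have hrange : Set.range (pullback.fst g (pullback.fst f
      (Spec.map (CommRingCat.ofHom (Ideal.Quotient.mk K))))) =
      (g ≫ f) ⁻¹' (zeroLocus (K : Set R)) := by
    rw [Scheme.Pullback.range_fst, Scheme.Pullback.range_fst, range_SpecMap_quotient]
    rfl
  exact existsUnique_of_isClosedEmbedding
    (fun y => (pullback.fst g (pullback.fst f
      (Spec.map (CommRingCat.ofHom (Ideal.Quotient.mk K))))) y)
    (pullback.fst g (pullback.fst f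
      (Spec.map (CommRingCat.ofHom (Ideal.Quotient.mk K))))).isClosedEmbedding _ hrange
    (fun V' h1 h2 h3 => main R K (g ≫ f) V' h1 h2 h3) V hV

end Groth.Agent.Lib.lead.HensClopen
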