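import Mathlib
import Groth.Agent.Lib.lead.HensClopenC

/-!
# Henselian couples from a henselian ring of global functions
-/

set_option autoImplicit false
set_option linter.style.haveILetI false
universe u
open CategoryTheory CategoryTheory.Limits AlgebraicGeometry Opposite TopologicalSpace PrimeSpectrum

namespace Groth.Agent.Lib.lead.HensClopen

open Groth.Agent.Lib.Helper21

/-- A ring henselian along `J` is henselian along every smaller ideal. -/
theorem henselianRing_of_le {R : Type*} [CommRing R] {J K : Ideal R} [hJ : HenselianRing R J]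
    (hKJ : K ≤ J) : HenselianRing R K := by
  refine ⟨hKJ.trans hJ.jac, ?_⟩
  intro f hf a₀ h0 hu
  have hu' : IsUnit (Ideal.Quotient.mk J (f.derivative.eval a₀)) := by
    have := hu.map (Ideal.Quotient.factor hKJ)
    simpa using this
  obtain ⟨a, ha, haJ⟩ := hJ.is_henselian f hf a₀ (hKJ h0) hu'
  refine ⟨a, ha, ?_⟩
  obtain ⟨k, hk⟩ := Polynomial.binomExpansion f a₀ (a - a₀)
  have hfa : f.eval a = 0 := ha
  rw [add_sub_cancel, hfa] at hk
  haveI := isLocalHom_of_le_jacobson_bot J hJ.jac
  have hunit : IsUnit (f.derivative.eval a₀ + k * (a - a₀)) := by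
    apply isUnit_of_map_unit (Ideal.Quotient.mk J)
    rw [map_add, map_mul, Ideal.Quotient.eq_zero_iff_mem.mpr haJ, mul_zero, add_zero]
    exact hu'
  have hmul : (a - a₀) * (f.derivative.eval a₀ + k * (a - a₀)) = - f.eval a₀ := by
    linear_combination -hk
  obtain ⟨u, hu⟩ := hunit
  have : a - a₀ = - f.eval a₀ * ↑u⁻¹ := by
    rw [← hmul, ← hu, mul_assoc, Units.mul_inv, mul_one]
  rw [this]
  exact K.mul_mem_right _ (K.neg_mem h0)

/-- **Henselian couple from henselian global functions**: `A` Noetherian, `f : X ⟶ Spec A` proper,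
`B = Γ(X, O_X)` henselian along the kernel of `B → Γ(X₀, O)`. Then `(X, X₀)` is a henselian
couple. -/
theorem couple_of_globalSections (A : Type u) [CommRing A] [IsNoetherianRing A] (I : Ideal A)
    {X : Scheme.{u}} (f : X ⟶ Spec (CommRingCat.of A)) [IsProper f]
    (h : HenselianRing (Γ(X, ⊤) : Type u)
      (RingHom.ker (pullback.fst f
        (Spec.map (CommRingCat.ofHom (Ideal.Quotient.mk I)))).appTop.hom))
    (Y : Scheme.{u}) (g : Y ⟶ X) [IsFinite g]
    (V : Set ↥(pullback g (pullback.fst f (Spec.map (CommRingCat.ofHom (Ideal.Quotient.mk I))))))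
    (hV : IsClopen V) :
    ∃! U : Set ↥Y, IsClopen U ∧
      (pullback.fst g (pullback.fst f
        (Spec.map (CommRingCat.ofHom (Ideal.Quotient.mk I))))).base ⁻¹' U = V := by
  let ψ : CommRingCat.of A ⟶ Γ(X, ⊤) := (Scheme.ΓSpecIso (CommRingCat.of A)).inv ≫ f.appTop
  have hψfin : ψ.hom.Finite := ProperGamma.finite_toGlobal A X f
  letI : Algebra A Γ(X, ⊤) := ψ.hom.toAlgebra
  haveI : Module.Finite A Γ(X, ⊤) := hψfin
  haveI : IsNoetherianRing Γ(X, ⊤) := IsNoetherianRing.of_finite A Γ(X, ⊤)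
  have hfac : X.toSpecΓ ≫ Spec.map ψ = f := by
    rw [Spec.map_comp, ← Category.assoc, ← Scheme.toSpecΓ_naturality, Category.assoc,
      toSpecΓ_SpecMap_ΓSpecIso_inv, Category.comp_id]
  haveI : IsProper (X.toSpecΓ ≫ Spec.map ψ) := by rw [hfac]; infer_instance
  haveI : IsProper X.toSpecΓ := IsProper.of_comp X.toSpecΓ (Spec.map ψ)
  set K : Ideal Γ(X, ⊤) := I.map ψ.hom with hK
  have e1 : ψ ≫ (pullback.fst f (Spec.map (CommRingCat.ofHom (Ideal.Quotient.mk I)))).appTop =
      CommRingCat.ofHom (Ideal.Quotient.mk I) ≫ (Scheme.ΓSpecIso _).inv ≫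
        (pullback.snd f (Spec.map (CommRingCat.ofHom (Ideal.Quotient.mk I)))).appTop := by
    simp only [ψ, Category.assoc]
    rw [← Scheme.Hom.comp_appTop, pullback.condition, Scheme.Hom.comp_appTop, ← Category.assoc,
      ← Scheme.ΓSpecIso_inv_naturality, Category.assoc]
  have hKJ : K ≤ RingHom.ker (pullback.fst f
      (Spec.map (CommRingCat.ofHom (Ideal.Quotient.mk I)))).appTop.hom := by
    rw [hK, Ideal.map_le_iff_le_comap]
    intro a ha
    rw [Ideal.mem_comap, RingHom.mem_ker]
    have := congrArg (fun φ => φ.hom a) e1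
    simp only [CommRingCat.hom_comp, RingHom.coe_comp, Function.comp_apply,
      CommRingCat.hom_ofHom] at this
    rw [this, Ideal.Quotient.eq_zero_iff_mem.mpr ha, map_zero, map_zero]
  haveI : HenselianRing (Γ(X, ⊤) : Type u) K := henselianRing_of_le hKJ
  haveI : IsClosedImmersion (Spec.map (CommRingCat.ofHom (Ideal.Quotient.mk I))) :=
    IsClosedImmersion.spec_of_surjective _ Ideal.Quotient.mk_surjective
  have hpre : (Spec.map ψ) ⁻¹' (zeroLocus (I : Set A)) = zeroLocus (K : Set Γ(X, ⊤)) := by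
    have : (zeroLocus (K : Set Γ(X, ⊤)) : Set (PrimeSpectrum Γ(X, ⊤))) =
        zeroLocus (ψ.hom '' (I : Set A)) := by
      rw [hK, Ideal.map, zeroLocus_span]
    rw [this, ← PrimeSpectrum.preimage_comap_zeroLocus]
    rfl
  have hrange : Set.range (pullback.fst g (pullback.fst f
      (Spec.map (CommRingCat.ofHom (Ideal.Quotient.mk I))))) =
      (g ≫ X.toSpecΓ) ⁻¹' (zeroLocus (K : Set Γ(X, ⊤))) := by
    rw [Scheme.Pullback.range_fst, Scheme.Pullback.range_fst, range_SpecMap_quotient, ← hpre]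
    conv_lhs => rw [← hfac]
    rfl
  exact existsUnique_of_isClosedEmbedding
    (fun y => (pullback.fst g (pullback.fst f
      (Spec.map (CommRingCat.ofHom (Ideal.Quotient.mk I))))) y)
    (pullback.fst g (pullback.fst f
      (Spec.map (CommRingCat.ofHom (Ideal.Quotient.mk I))))).isClosedEmbedding _ hrange
    (fun V' h1 h2 h3 => main (Γ(X, ⊤) : Type u) K (g ≫ X.toSpecΓ) V' h1 h2 h3) V hV

end Groth.Agent.Lib.lead.HensClopen
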