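import Mathlib
import Groth.Agent.Lib.lead.HensClopenB
import Groth.Agent.Lib.Helper12.PairNoethB
import Groth.Agent.S2051

/-!
# Lemma K, step P1: from a Noetherian stage to the henselian pair
-/

set_option autoImplicit false
set_option linter.style.haveILetI false
universe u
open CategoryTheory CategoryTheory.Limits AlgebraicGeometry Opposite TopologicalSpace PrimeSpectrum

namespace Groth.Agent.Lib.lead.HensK

theorem preimage_SpecMap_zeroLocus {R S : Type u} [CommRing R] [CommRing S] (φ : R →+* S)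
    (K : Ideal R) :
    (Spec.map (CommRingCat.ofHom φ)) ⁻¹' (zeroLocus (K : Set R)) =
      zeroLocus ((K.map φ : Ideal S) : Set S) := by
  have : (zeroLocus ((K.map φ : Ideal S) : Set S) : Set (PrimeSpectrum S)) =
      zeroLocus (φ '' (K : Set R)) := by
    rw [Ideal.map, zeroLocus_span]
  rw [this, ← PrimeSpectrum.preimage_comap_zeroLocus]
  rfl

/-- From a Noetherian stage to a henselian pair: if `X → Spec A` maps compatibly to a proper
`Y → Spec T` with `T` Noetherian, `K ⊆ T` mapping into `I`, then relatively clopen subsets of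
`h⁻¹ V(K)` pull back to traces of clopen subsets of `X`. -/
theorem exists_clopen_of_noetherian_stage (A : Type u) [CommRing A] (I : Ideal A)
    [HenselianRing A I] (T : Type u) [CommRing T] [IsNoetherianRing T] (ρ : T →+* A)
    (K : Ideal T) (hK : K.map ρ ≤ I) {X Y : Scheme.{u}} (f : X ⟶ Spec (CommRingCat.of A))
    (h : Y ⟶ Spec (CommRingCat.of T)) [IsProper h] (g : X ⟶ Y)
    (hg : g ≫ h = f ≫ Spec.map (CommRingCat.ofHom ρ))
    (VY : Set Y) (hVY : VY ⊆ h ⁻¹' zeroLocus (K : Set T)) (hVYc : IsClosed VY)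
    (hWY : IsClosed (h ⁻¹' zeroLocus (K : Set T) \ VY)) :
    ∃ U : Set X, IsClopen U ∧
      U ∩ f ⁻¹' zeroLocus (I : Set A) = g ⁻¹' VY ∩ f ⁻¹' zeroLocus (I : Set A) := by
  obtain ⟨B, _, _, hB⟩ := Groth.Agent.S2051.result T K
  haveI : IsNoetherianRing B :=
    Groth.Agent.Lib.Helper12.PairNbhd.isNoetherianRing_of_isPairHenselization hB
  haveI : HenselianRing B (K.map (algebraMap T B)) := hB.1
  obtain ⟨σ, hσ, -⟩ := hB.2 A I ρ inferInstance hK
  have hσ : σ.comp (algebraMap T B) = ρ := hσ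
  let β : Spec (CommRingCat.of B) ⟶ Spec (CommRingCat.of T) :=
    Spec.map (CommRingCat.ofHom (algebraMap T B))
  let hB' : pullback h β ⟶ Spec (CommRingCat.of B) := pullback.snd h β
  haveI : IsProper hB' := inferInstanceAs (IsProper (pullback.snd h β))
  have hcomm : g ≫ h = (f ≫ Spec.map (CommRingCat.ofHom σ)) ≫ β := by
    rw [hg, Category.assoc, ← Spec.map_comp, ← CommRingCat.ofHom_comp, hσ]
  let gB : X ⟶ pullback h β := pullback.lift g (f ≫ Spec.map (CommRingCat.ofHom σ)) hcomm
  have hgB1 : gB ≫ pullback.fst h β = g := pullback.lift_fst _ _ _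
  have hgB2 : gB ≫ hB' = f ≫ Spec.map (CommRingCat.ofHom σ) := pullback.lift_snd _ _ _
  set KB : Ideal B := K.map (algebraMap T B) with hKB
  have hZB : hB' ⁻¹' zeroLocus (KB : Set B) =
      (pullback.fst h β) ⁻¹' (h ⁻¹' zeroLocus (K : Set T)) := by
    rw [hKB, ← preimage_SpecMap_zeroLocus]
    ext x
    change β (hB' x) ∈ zeroLocus (K : Set T) ↔ h (pullback.fst h β x) ∈ zeroLocus (K : Set T)
    rw [← Scheme.Hom.comp_apply, ← Scheme.Hom.comp_apply, pullback.condition]
  obtain ⟨UB, ⟨hUB, hUBV⟩, -⟩ := HensClopen.main B KB hB' ((pullback.fst h β) ⁻¹' VY)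
    (by rw [hZB]; exact Set.preimage_mono hVY)
    (hVYc.preimage (pullback.fst h β).continuous)
    (by
      rw [hZB, ← Set.preimage_sdiff]
      exact hWY.preimage (pullback.fst h β).continuous)
  refine ⟨gB ⁻¹' UB, hUB.preimage gB.continuous, ?_⟩
  ext x
  have hfst : pullback.fst h β (gB x) = g x := by
    rw [← Scheme.Hom.comp_apply, hgB1]
  constructor
  · rintro ⟨hxU, hxZ⟩
    refine ⟨?_, hxZ⟩
    have hxZB : gB x ∈ hB' ⁻¹' zeroLocus (KB : Set B) := by
      change hB' (gB x) ∈ zeroLocus (KB : Set B)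
      rw [← Scheme.Hom.comp_apply, hgB2, Scheme.Hom.comp_apply]
      have h1 : (KB.map σ : Ideal A) ≤ I := by
        rw [hKB, Ideal.map_map, hσ]; exact hK
      have h2 : f x ∈ zeroLocus ((KB.map σ : Ideal A) : Set A) :=
        zeroLocus_anti_mono_ideal h1 hxZ
      rw [← preimage_SpecMap_zeroLocus] at h2
      exact h2
    have : gB x ∈ UB ∩ hB' ⁻¹' zeroLocus (KB : Set B) := ⟨hxU, hxZB⟩
    rw [hUBV] at this
    change pullback.fst h β (gB x) ∈ VY at this
    rw [hfst] at this
    exact this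
  · rintro ⟨hxV, hxZ⟩
    refine ⟨?_, hxZ⟩
    have : gB x ∈ (pullback.fst h β) ⁻¹' VY := by
      change pullback.fst h β (gB x) ∈ VY
      rw [hfst]; exact hxV
    rw [← hUBV] at this
    exact this.1

end Groth.Agent.Lib.lead.HensK
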