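import Mathlib
import Groth.Agent.Lib.lead.HensKB
import Groth.Agent.Lib.lead.HensKC
import Groth.Agent.Lib.lead.HensKD

/-!
# Lemma K, step P2: the finitely presented case with finitely generated ideal
-/

set_option autoImplicit false
set_option linter.style.haveILetI false
universe u
open CategoryTheory CategoryTheory.Limits AlgebraicGeometry Opposite TopologicalSpace PrimeSpectrum

namespace Groth.Agent.Lib.lead.HensK

lemma map_inclusion_map_subtype {A : Type u} [CommRing A] {T₀ Tk : Subring A} (hle : T₀ ≤ Tk)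
    (K₀ : Ideal T₀) :
    (K₀.map (Subring.inclusion hle)).map Tk.subtype = K₀.map T₀.subtype := by
  rw [Ideal.map_map]; rfl

lemma preimage_preimage_zeroLocus_of_comm {R S : Type u} [CommRing R] [CommRing S] (φ : R →+* S)
    (K₀ : Ideal R) {Y Y' : Scheme.{u}} (a : Y' ⟶ Y) (p : Y ⟶ Spec (CommRingCat.of R))
    (q : Y' ⟶ Spec (CommRingCat.of S)) (h : a ≫ p = q ≫ Spec.map (CommRingCat.ofHom φ)) :
    a ⁻¹' (p ⁻¹' zeroLocus (K₀ : Set R)) = q ⁻¹' zeroLocus ((K₀.map φ : Ideal S) : Set S) := by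
  ext y
  change p (a y) ∈ zeroLocus (K₀ : Set R) ↔ q y ∈ zeroLocus ((K₀.map φ : Ideal S) : Set S)
  rw [← Scheme.Hom.comp_apply, h, Scheme.Hom.comp_apply, ← preimage_SpecMap_zeroLocus]
  rfl

theorem exists_clopen_of_fp_fg (A : Type u) [CommRing A] (I : Ideal A) [HenselianRing A I]
    (hI : I.FG) {X : Scheme.{u}} (f : X ⟶ Spec (CommRingCat.of A)) [IsProper f]
    [LocallyOfFinitePresentation f]
    (V : Set X) (hVZ : V ⊆ f ⁻¹' zeroLocus (I : Set A)) (hV : IsClosed V)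
    (hW : IsClosed (f ⁻¹' zeroLocus (I : Set A) \ V)) :
    ∃ U : Set X, IsClopen U ∧ U ∩ f ⁻¹' zeroLocus (I : Set A) = V := by
  classical
  obtain ⟨s₀, hs₀⟩ := hI
  let f' : X ⟶ (fgCone A).pt := f
  haveI : IsProper f' := ‹IsProper f›
  haveI : LocallyOfFinitePresentation f' := ‹LocallyOfFinitePresentation f›
  obtain ⟨j, Y, h, g, hh, hpb⟩ := exists_proper_model (fgDiag A) (fgCone A) (fgIsLimit A) f'
  haveI := hh
  let j₀ : (Finset A)ᵒᵖ := op (j.unop ∪ s₀)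
  let θ : j₀ ⟶ j := (homOfLE (Finset.subset_union_left : j.unop ≤ j.unop ∪ s₀)).op
  obtain ⟨g₀, hpb₀⟩ := model_pullback (fgDiag A) (fgCone A) θ f' h g hpb
  let Y₀ : Scheme.{u} := pullback ((fgDiag A).map θ) h
  let h₀ : Y₀ ⟶ (fgDiag A).obj j₀ := pullback.fst ((fgDiag A).map θ) h
  haveI : IsProper h₀ := inferInstanceAs (IsProper (pullback.fst ((fgDiag A).map θ) h))
  haveI : CompactSpace Y₀ := QuasiCompact.compactSpace_of_compactSpace h₀
  haveI : QuasiSeparatedSpace Y₀ := quasiSeparatedSpace_of_quasiSeparated h₀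
  -- the ideal at stage `j₀`
  let T₀ : Subring A := fgSub A j₀.unop
  let K₀ : Ideal T₀ := Ideal.span (T₀.subtype ⁻¹' (s₀ : Set A))
  have hK₀ : K₀.map T₀.subtype = I := by
    rw [Ideal.map_span, Set.image_preimage_eq_of_subset, hs₀]
    intro a ha
    exact ⟨⟨a, mem_fgSub A (Finset.mem_union_right _ (Finset.mem_coe.mp ha))⟩, rfl⟩
  let h₀' : Y₀ ⟶ Spec (CommRingCat.of T₀) := h₀
  let Z₀ : Set Y₀ := h₀' ⁻¹' zeroLocus (K₀ : Set T₀)
  have hZ₀ : IsClosed Z₀ := (isClosed_zeroLocus _).preimage h₀'.continuous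
  have hZ : g₀ ⁻¹' Z₀ = f ⁻¹' zeroLocus (I : Set A) := by
    ext x
    change h₀' (g₀ x) ∈ zeroLocus (K₀ : Set T₀) ↔ f x ∈ zeroLocus (I : Set A)
    have h1 : g₀ ≫ h₀' = f ≫ Spec.map (CommRingCat.ofHom T₀.subtype) := hpb₀.w
    rw [← Scheme.Hom.comp_apply, h1, Scheme.Hom.comp_apply, ← hK₀,
      ← preimage_SpecMap_zeroLocus]
    rfl
  obtain ⟨k, gk, Vk, hgk1, hgk2, hVk1, hVk2, hVk3, hVk4⟩ :=
    exists_descend_relClopen_bc (fgDiag A) (fgCone A) (fgIsLimit A) j₀ f' h₀ g₀ hpb₀ Z₀ hZ₀ V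
      (by rw [hZ]; exact hVZ) hV (by rw [hZ]; exact hW)
  let Tk : Subring A := fgSub A k.left.unop
  have hle : T₀ ≤ Tk := fgSub_mono A (leOfHom k.hom.unop)
  let incl : T₀ →+* Tk := Subring.inclusion hle
  let K : Ideal Tk := K₀.map incl
  have hK : K.map Tk.subtype ≤ I := by
    exact le_of_eq ((map_inclusion_map_subtype hle K₀).trans hK₀)
  let hk : pullback ((fgDiag A).map k.hom) h₀ ⟶ Spec (CommRingCat.of Tk) :=
    pullback.fst ((fgDiag A).map k.hom) h₀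
  haveI : IsProper hk := inferInstanceAs (IsProper (pullback.fst ((fgDiag A).map k.hom) h₀))
  have hgk : gk ≫ hk = f ≫ Spec.map (CommRingCat.ofHom Tk.subtype) := hgk1
  have hZk : (pullback.snd ((fgDiag A).map k.hom) h₀) ⁻¹' Z₀ = hk ⁻¹' zeroLocus (K : Set Tk) :=
    preimage_preimage_zeroLocus_of_comm incl K₀ (pullback.snd ((fgDiag A).map k.hom) h₀) h₀' hk
      pullback.condition.symm
  rw [hZk] at hVk1 hVk3
  obtain ⟨U, hU, hUV⟩ := exists_clopen_of_noetherian_stage A I Tk Tk.subtype K hK f hk gk hgk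
    Vk hVk1 hVk2 hVk3
  refine ⟨U, hU, ?_⟩
  rw [hUV, hVk4]
  exact Set.inter_eq_left.mpr hVZ

end Groth.Agent.Lib.lead.HensK
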