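import Mathlib
import Groth.Agent.Lib.lead.HensKE
import Groth.Agent.Lib.lead.HensClopenD

/-!
# Lemma K, step 1: finitely presented case, arbitrary ideal
-/

set_option autoImplicit false
set_option linter.style.haveILetI false
universe u
open CategoryTheory CategoryTheory.Limits AlgebraicGeometry Opposite TopologicalSpace PrimeSpectrum

namespace Groth.Agent.Lib.lead.HensK

/-- In a compact quasi-separated prespectral space, a relatively clopen subset of a directed
intersection of closed sets extends to a relatively clopen subset of one of them. -/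
theorem exists_relClopen_of_directed {X : Type*} [TopologicalSpace X] [CompactSpace X]
    [QuasiSeparatedSpace X] [PrespectralSpace X] {ι : Type*} [Nonempty ι] (F : ι → Set X)
    (hFc : ∀ i, IsClosed (F i)) (hdir : Directed (· ⊇ ·) F)
    (V : Set X) (hVF : V ⊆ ⋂ i, F i) (hV : IsClosed V) (hW : IsClosed ((⋂ i, F i) \ V)) :
    ∃ i, ∃ V' : Set X, V' ⊆ F i ∧ IsClosed V' ∧ IsClosed (F i \ V') ∧ V' ∩ ⋂ i, F i = V := by
  obtain ⟨O, hOc, hOo, hWO, hOV⟩ := PrespectralSpace.exists_isCompact_and_isOpen_between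
    hW.isCompact hV.isOpen_compl (fun x hx => hx.2)
  obtain ⟨O', hO'c, hO'o, hOO', hO'W⟩ := PrespectralSpace.exists_isCompact_and_isOpen_between
    hOo.isClosed_compl.isCompact hW.isOpen_compl (fun x hx hxW => hx (hWO hxW))
  have hcpt : IsCompact (O ∩ O') := QuasiSeparatedSpace.inter_isCompact O O' hOo hOc hO'o hO'c
  have hempty : (O ∩ O') ∩ ⋂ i, F i = ∅ := by
    ext x
    simp only [Set.mem_inter_iff, Set.mem_empty_iff_false, iff_false, not_and]
    rintro ⟨hx1, hx2⟩ hxF
    by_cases hxV : x ∈ V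
    · exact hOV hx1 hxV
    · exact hO'W hx2 ⟨hxF, hxV⟩
  obtain ⟨i, hi⟩ := hcpt.elim_directed_family_closed F hFc hempty hdir
  refine ⟨i, F i \ O, Set.sdiff_subset, ?_, ?_, ?_⟩
  · rw [Set.sdiff_eq]; exact (hFc i).inter hOo.isClosed_compl
  · have : F i \ (F i \ O) = F i ∩ O'ᶜ := by
      ext x
      constructor
      · rintro ⟨hxF, hx⟩
        refine ⟨hxF, fun hx2 => ?_⟩
        have hx1 : x ∈ O := by
          by_contra hx1
          exact hx ⟨hxF, hx1⟩
        have : x ∈ (O ∩ O') ∩ F i := ⟨⟨hx1, hx2⟩, hxF⟩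
        rw [hi] at this
        exact this
      · rintro ⟨hxF, hx2⟩
        refine ⟨hxF, fun hx => ?_⟩
        by_cases hx1 : x ∈ O
        · exact hx.2 hx1
        · exact hx2 (hOO' hx1)
    rw [this]
    exact (hFc i).inter hO'o.isClosed_compl
  · ext x
    constructor
    · rintro ⟨⟨_, hxO⟩, hxF⟩
      by_contra hxV
      exact hxO (hWO ⟨hxF, hxV⟩)
    · intro hxV
      exact ⟨⟨Set.mem_iInter.mp (hVF hxV) i, fun hxO => hOV hxO hxV⟩, hVF hxV⟩

/-- **Lemma K, finitely presented case**: existence of clopen extensions. -/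
theorem exists_clopen_of_fp (A : Type u) [CommRing A] (I : Ideal A) [HenselianRing A I]
    {X : Scheme.{u}} (f : X ⟶ Spec (CommRingCat.of A)) [IsProper f]
    [LocallyOfFinitePresentation f]
    (V : Set X) (hVZ : V ⊆ f ⁻¹' zeroLocus (I : Set A)) (hV : IsClosed V)
    (hW : IsClosed (f ⁻¹' zeroLocus (I : Set A) \ V)) :
    ∃ U : Set X, IsClopen U ∧ U ∩ f ⁻¹' zeroLocus (I : Set A) = V := by
  classical
  haveI : CompactSpace X := QuasiCompact.compactSpace_of_compactSpace f
  haveI : QuasiSeparatedSpace X := quasiSeparatedSpace_of_quasiSeparated f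
  let ι := {s : Finset A // (s : Set A) ⊆ I}
  haveI : Nonempty ι := ⟨⟨∅, by simp⟩⟩
  let F : ι → Set X := fun s => f ⁻¹' zeroLocus (s.1 : Set A)
  have hFc : ∀ s, IsClosed (F s) := fun s => (isClosed_zeroLocus _).preimage f.continuous
  have hdir : Directed (· ⊇ ·) F := by
    intro s t
    refine ⟨⟨s.1 ∪ t.1, by
      rw [Finset.coe_union]; exact Set.union_subset s.2 t.2⟩, ?_, ?_⟩
    · intro x hx
      exact zeroLocus_anti_mono (by simp) hx
    · intro x hx
      exact zeroLocus_anti_mono (by simp) hx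
  have hF : ⋂ s, F s = f ⁻¹' zeroLocus (I : Set A) := by
    ext x
    simp only [Set.mem_iInter]
    constructor
    · intro h
      change (I : Set A) ⊆ (f x).asIdeal
      intro a ha
      have := h ⟨{a}, by simpa using ha⟩
      change ((({a} : Finset A) : Set A)) ⊆ (f x).asIdeal at this
      exact this (by simp)
    · intro h s
      exact zeroLocus_anti_mono s.2 h
  obtain ⟨s, V', hV'F, hV'c, hW'c, hV'⟩ := exists_relClopen_of_directed F hFc hdir V
    (by rw [hF]; exact hVZ) hV (by rw [hF]; exact hW)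
  rw [hF] at hV'
  let Is : Ideal A := Ideal.span (s.1 : Set A)
  have hIs : Is ≤ I := Ideal.span_le.mpr s.2
  haveI : HenselianRing A Is := HensClopen.henselianRing_of_le hIs
  have hzero : zeroLocus (Is : Set A) = zeroLocus (s.1 : Set A) := zeroLocus_span _
  obtain ⟨U, hU, hUV⟩ := exists_clopen_of_fp_fg A Is ⟨s.1, rfl⟩ f V'
    (by rw [hzero]; exact hV'F) hV'c (by rw [hzero]; exact hW'c)
  rw [hzero] at hUV
  refine ⟨U, hU, ?_⟩
  have hsub : f ⁻¹' zeroLocus (I : Set A) ⊆ F s := by
    rw [← hF]; exact Set.iInter_subset _ s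
  calc U ∩ f ⁻¹' zeroLocus (I : Set A)
      = (U ∩ F s) ∩ f ⁻¹' zeroLocus (I : Set A) := by
        rw [Set.inter_assoc, Set.inter_eq_right.mpr hsub]
    _ = V' ∩ f ⁻¹' zeroLocus (I : Set A) := by rw [hUV]
    _ = V := hV'

/-- **Lemma K, finitely presented case**. -/
theorem existsUnique_clopen_of_fp (A : Type u) [CommRing A] (I : Ideal A) [HenselianRing A I]
    {X : Scheme.{u}} (f : X ⟶ Spec (CommRingCat.of A)) [IsProper f]
    [LocallyOfFinitePresentation f]
    (V : Set X) (hVZ : V ⊆ f ⁻¹' zeroLocus (I : Set A)) (hV : IsClosed V)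
    (hW : IsClosed (f ⁻¹' zeroLocus (I : Set A) \ V)) :
    ∃! U : Set X, IsClopen U ∧ U ∩ f ⁻¹' zeroLocus (I : Set A) = V := by
  refine existsUnique_of_exists_of_unique (exists_clopen_of_fp A I f V hVZ hV hW) ?_
  rintro U₁ U₂ ⟨hU₁, h₁⟩ ⟨hU₂, h₂⟩
  exact HensClopen.eq_of_inter_eq I HenselianRing.jac (fun y => f y) f.isClosedMap U₁ U₂ hU₁ hU₂
    (h₁.trans h₂.symm)

end Groth.Agent.Lib.lead.HensK
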