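import Mathlib

/-!
# Topological consequences of unique clopen extension along a closed embedding
-/

set_option autoImplicit false
universe u
open TopologicalSpace Set

namespace Groth.Agent.Lib.lead.HensK

/-- If clopen subsets extend uniquely along a closed embedding `i : X₀ → X`, then `X` is connected
iff `X₀` is. -/
theorem connectedSpace_iff_of_clopen_extension {X X₀ : Type*} [TopologicalSpace X]
    [TopologicalSpace X₀] (i : X₀ → X) (hi : Topology.IsClosedEmbedding i)
    (hE : ∀ V : Set X, V ⊆ range i → IsClosed V → IsClosed (range i \ V) →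
      ∃ U : Set X, IsClopen U ∧ U ∩ range i = V)
    (hU : ∀ U₁ U₂ : Set X, IsClopen U₁ → IsClopen U₂ → U₁ ∩ range i = U₂ ∩ range i → U₁ = U₂) :
    ConnectedSpace X ↔ ConnectedSpace X₀ := by
  rw [connectedSpace_iff_clopen, connectedSpace_iff_clopen]
  constructor
  · rintro ⟨hne, hX⟩
    refine ⟨?_, ?_⟩
    · by_contra hemp
      rw [not_nonempty_iff] at hemp
      have hr : range i = ∅ := range_eq_empty i
      have : (∅ : Set X) = univ := hU ∅ univ isClopen_empty isClopen_univ (by rw [hr]; simp)
      obtain ⟨x⟩ := hne
      have hx : x ∈ (univ : Set X) := mem_univ x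
      rw [← this] at hx
      exact hx
    · intro V₀ hV₀
      have h1 : IsClosed (i '' V₀) := hi.isClosedMap _ hV₀.1
      have h2 : range i \ (i '' V₀) = i '' V₀ᶜ := by
        rw [← image_univ, ← image_sdiff hi.injective, compl_eq_univ_sdiff]
      have h3 : IsClosed (range i \ (i '' V₀)) := by
        rw [h2]; exact hi.isClosedMap _ hV₀.2.isClosed_compl
      obtain ⟨U, hUc, hUV⟩ := hE (i '' V₀) (image_subset_range i V₀) h1 h3
      rcases hX U hUc with h | h
      · left
        rw [h, empty_inter] at hUV
        exact image_eq_empty.mp hUV.symm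
      · right
        rw [h, univ_inter] at hUV
        ext x
        simp only [mem_univ, iff_true]
        have : i x ∈ i '' V₀ := by rw [← hUV]; exact mem_range_self x
        obtain ⟨y, hy, hyx⟩ := this
        rwa [← hi.injective hyx]
  · rintro ⟨hne, hX₀⟩
    refine ⟨hne.map i, ?_⟩
    intro U hUc
    rcases hX₀ (i ⁻¹' U) (hUc.preimage hi.continuous) with h | h
    · left
      apply hU U ∅ hUc isClopen_empty
      rw [empty_inter]
      ext x
      simp only [mem_inter_iff, mem_range, mem_empty_iff_false, iff_false, not_and, not_exists]
      rintro hx y rfl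
      have : y ∈ i ⁻¹' U := hx
      rw [h] at this
      exact this
    · right
      apply hU U univ hUc isClopen_univ
      rw [univ_inter]
      ext x
      simp only [mem_inter_iff, mem_range, and_iff_right_iff_imp]
      rintro ⟨y, rfl⟩
      have : y ∈ i ⁻¹' U := by rw [h]; exact mem_univ y
      exact this

end Groth.Agent.Lib.lead.HensK
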