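import Mathlib
import Groth.Agent.Lib.lead.HensKF
import Groth.Agent.S2079

/-!
# Lemma K: the general proper case
-/

set_option autoImplicit false
set_option linter.style.haveILetI false
universe u
open CategoryTheory CategoryTheory.Limits AlgebraicGeometry Opposite TopologicalSpace PrimeSpectrum

namespace Groth.Agent.Lib.lead.HensK

/-- **Lemma K**: existence of clopen extensions for proper schemes over a henselian pair. -/
theorem exists_clopen (A : Type u) [CommRing A] (I : Ideal A) [HenselianRing A I]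
    {X : Scheme.{u}} (f : X ⟶ Spec (CommRingCat.of A)) [IsProper f]
    (V : Set X) (hVZ : V ⊆ f ⁻¹' zeroLocus (I : Set A)) (hV : IsClosed V)
    (hW : IsClosed (f ⁻¹' zeroLocus (I : Set A) \ V)) :
    ∃ U : Set X, IsClopen U ∧ U ∩ f ⁻¹' zeroLocus (I : Set A) = V := by
  classical
  obtain ⟨ι, _, _, D, c, hc, e, hcl, hprop⟩ := Groth.Agent.S2079.result f
  haveI : IsConnected ι := IsCofiltered.isConnected ι
  let D' : ι ⥤ Scheme.{u} := D ⋙ Over.forget _
  let c' : Cone D' := (Over.forget _).mapCone c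
  have hc' : IsLimit c' := isLimitOfPreserves (Over.forget _) hc
  let fi : ∀ i : ι, (D.obj i).left ⟶ Spec (CommRingCat.of A) := fun i => (D.obj i).hom
  have hfi1 : ∀ i, IsProper (fi i) := fun i => (hprop i).2.1
  have hfi2 : ∀ i, LocallyOfFinitePresentation (fi i) := fun i => (hprop i).2.2
  have hcpt : ∀ i, CompactSpace ↥(D.obj i).left := fun i => by
    haveI := hfi1 i
    exact QuasiCompact.compactSpace_of_compactSpace (fi i)
  have hqs : ∀ i, QuasiSeparatedSpace ↥(D.obj i).left := fun i => by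
    haveI := hfi1 i
    exact quasiSeparatedSpace_of_quasiSeparated (fi i)
  haveI : ∀ i, CompactSpace (D'.obj i) := hcpt
  haveI : ∀ i, QuasiSeparatedSpace (D'.obj i) := hqs
  have hmem : ∀ {a b : ↥(Spec (CommRingCat.of A))}, a = b →
      (a ∈ zeroLocus (I : Set A) ↔ b ∈ zeroLocus (I : Set A)) := fun h => h ▸ Iff.rfl
  haveI : ∀ {i j : ι} (a : i ⟶ j), IsAffineHom (D'.map a) := fun {i j} a => by
    haveI : IsClosedImmersion (D.map a).left := hcl _ _ a
    exact inferInstanceAs (IsAffineHom (D.map a).left)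
  obtain ⟨i₀⟩ := IsCofiltered.nonempty (C := ι)
  let P : Scheme.{u} := c.pt.left
  let ε : P ≅ X := (Over.forget _).mapIso e
  let fP : P ⟶ Spec (CommRingCat.of A) := c.pt.hom
  have hε : ε.hom ≫ f = fP := Over.w e.hom
  let pi : ∀ i, P ⟶ (D.obj i).left := fun i => (c.π.app i).left
  have hpi : ∀ i, pi i ≫ fi i = fP := fun i => Over.w (c.π.app i)
  have hfx : ∀ y : P, f (ε.hom y) = fP y := fun y => by
    rw [← Scheme.Hom.comp_apply, hε]
  have hfy : ∀ (i : ι) (y : P), fi i (pi i y) = fP y := fun i y => by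
    rw [← Scheme.Hom.comp_apply, hpi]
  let Z₀ : Set ↥(D'.obj i₀) := (fi i₀) ⁻¹' zeroLocus (I : Set A)
  have hZ₀ : IsClosed Z₀ := (isClosed_zeroLocus _).preimage (fi i₀).continuous
  obtain ⟨j, φ, Vj, h1, h2, h3, h4⟩ := exists_descend_relClopen' D' c' hc' i₀ Z₀ hZ₀
    (ε.hom ⁻¹' (f ⁻¹' zeroLocus (I : Set A)) : Set P)
    (fun y => by
      change f (ε.hom y) ∈ zeroLocus (I : Set A) ↔ fi i₀ (pi i₀ y) ∈ zeroLocus (I : Set A)
      exact hmem ((hfx y).trans (hfy i₀ y).symm))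
    (ε.hom ⁻¹' V : Set P) (Set.preimage_mono hVZ) (hV.preimage ε.hom.continuous)
    (by
      have := hW.preimage ε.hom.continuous
      rw [Set.preimage_sdiff] at this
      exact this)
  have hmap : D'.map φ ⁻¹' Z₀ = (fi j) ⁻¹' zeroLocus (I : Set A) := by
    ext y
    let m : (D.obj j).left ⟶ (D.obj i₀).left := (D.map φ).left
    have hm : m ≫ fi i₀ = fi j := Over.w (D.map φ)
    change fi i₀ (m y) ∈ zeroLocus (I : Set A) ↔ fi j y ∈ zeroLocus (I : Set A)
    refine hmem ?_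
    have := congrArg (fun g : (D.obj j).left ⟶ Spec (CommRingCat.of A) => g y) hm
    exact this
  rw [hmap] at h1 h3
  haveI := hfi1 j
  haveI := hfi2 j
  obtain ⟨Uj, hUj, hUjV⟩ := exists_clopen_of_fp A I (fi j) Vj h1 h2 h3
  refine ⟨(ε.inv ≫ pi j) ⁻¹' Uj, hUj.preimage (ε.inv ≫ pi j).continuous, ?_⟩
  ext x
  have hx : ε.hom (ε.inv x) = x := by
    rw [← Scheme.Hom.comp_apply, ε.inv_hom_id]; rfl
  have hfx' : fi j (pi j (ε.inv x)) = f x := by
    rw [hfy, ← hfx, hx]
  have h4' : pi j (ε.inv x) ∈ Vj ↔ x ∈ V := by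
    have := h4 (ε.inv x)
    change pi j (ε.inv x) ∈ Vj ↔ ε.hom (ε.inv x) ∈ V at this
    rw [hx] at this
    exact this
  change ((ε.inv ≫ pi j) x ∈ Uj ∧ f x ∈ zeroLocus (I : Set A)) ↔ x ∈ V
  rw [Scheme.Hom.comp_apply]
  constructor
  · rintro ⟨hxU, hxZ⟩
    have : pi j (ε.inv x) ∈ Uj ∩ (fi j) ⁻¹' zeroLocus (I : Set A) := by
      refine ⟨hxU, ?_⟩
      change fi j (pi j (ε.inv x)) ∈ zeroLocus (I : Set A)
      exact (hmem hfx').mpr hxZ
    rw [hUjV] at this
    exact h4'.mp this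
  · intro hxV
    have : pi j (ε.inv x) ∈ Vj := h4'.mpr hxV
    rw [← hUjV] at this
    exact ⟨this.1, hVZ hxV⟩

/-- **Lemma K**: proper schemes over a henselian pair are henselian couples (topological form),
without Noetherian hypotheses. -/
theorem existsUnique_clopen (A : Type u) [CommRing A] (I : Ideal A) [HenselianRing A I]
    {X : Scheme.{u}} (f : X ⟶ Spec (CommRingCat.of A)) [IsProper f]
    (V : Set X) (hVZ : V ⊆ f ⁻¹' zeroLocus (I : Set A)) (hV : IsClosed V)
    (hW : IsClosed (f ⁻¹' zeroLocus (I : Set A) \ V)) :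
    ∃! U : Set X, IsClopen U ∧ U ∩ f ⁻¹' zeroLocus (I : Set A) = V := by
  refine existsUnique_of_exists_of_unique (exists_clopen A I f V hVZ hV hW) ?_
  rintro U₁ U₂ ⟨hU₁, h₁⟩ ⟨hU₂, h₂⟩
  exact HensClopen.eq_of_inter_eq I HenselianRing.jac (fun y => f y) f.isClosedMap U₁ U₂ hU₁ hU₂
    (h₁.trans h₂.symm)

end Groth.Agent.Lib.lead.HensK
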