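import Mathlib
import Groth.Agent.Lib.Helper8.TorBal4

set_option autoImplicit false
universe u
open CategoryTheory CategoryTheory.Limits MonoidalCategory TensorProduct

namespace Groth.Agent.Lib.lead.TorFactorFree

section LA
variable {R : Type u} [CommRing R] {M M' : Type u} [AddCommGroup M] [Module R M]
  [AddCommGroup M'] [Module R M']

/-- final step: trivial vanishing gives the factorisation through a free module -/
theorem factor_of_vanish {n m : ℕ} (π : (Fin n → R) →ₗ[R] M) (hπ : Function.Surjective π)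
    (r : Fin m → (Fin n → R)) (hr : LinearMap.ker π = Submodule.span R (Set.range r))
    (α : M →ₗ[R] M')
    (L : Submodule R (Fin m → R)) (c : Fin n → L) (hc : ∀ j i, (c j : Fin m → R) i = r i j)
    (hspan : Submodule.span R (Set.range c) = ⊤)
    (hξ : ∑ j, c j ⊗ₜ[R] α (π (Pi.single j 1)) = 0) :
    ∃ (ι : Type u) (g : M →ₗ[R] (ι →₀ R)) (h : (ι →₀ R) →ₗ[R] M'), α = h ∘ₗ g := by
  obtain ⟨k, a, y, h1, h2⟩ := TensorProduct.vanishesTrivially_of_sum_tmul_eq_zero R hspan hξ
  let g0 : (Fin n → R) →ₗ[R] (ULift.{u} (Fin k) → R) :=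
    LinearMap.pi fun l => ∑ j, a j l.down • LinearMap.proj j
  let g' : (Fin n → R) →ₗ[R] (ULift.{u} (Fin k) →₀ R) :=
    (Finsupp.linearEquivFunOnFinite R R (ULift.{u} (Fin k))).symm.toLinearMap ∘ₗ g0
  let hh : (ULift.{u} (Fin k) →₀ R) →ₗ[R] M' := Finsupp.linearCombination R (fun l => y l.down)
  have hker : LinearMap.ker π ≤ LinearMap.ker g' := by
    rw [hr, Submodule.span_le]
    rintro _ ⟨i, rfl⟩
    simp only [SetLike.mem_coe, LinearMap.mem_ker]
    have : g0 (r i) = 0 := by
      ext l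
      simp only [g0, LinearMap.pi_apply, LinearMap.sum_apply, LinearMap.smul_apply,
        LinearMap.proj_apply, Pi.zero_apply, smul_eq_mul]
      have := congrArg (fun v : L => (v : Fin m → R) i) (h2 l.down)
      simp only [Submodule.coe_sum, Submodule.coe_smul, Finset.sum_apply, Pi.smul_apply,
        smul_eq_mul, Submodule.coe_zero, Pi.zero_apply, hc] at this
      exact this
    simp only [g', LinearMap.comp_apply, this, map_zero]
  let g : M →ₗ[R] (ULift.{u} (Fin k) →₀ R) :=
    ((LinearMap.ker π).liftQ g' hker) ∘ₗ (π.quotKerEquivOfSurjective hπ).symm.toLinearMap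
  have hg : ∀ v, g (π v) = g' v := by
    intro v
    simp only [g, LinearMap.comp_apply, LinearEquiv.coe_coe]
    have : (π.quotKerEquivOfSurjective hπ).symm (π v) = Submodule.Quotient.mk v := by
      rw [LinearEquiv.symm_apply_eq]
      rfl
    rw [this, Submodule.liftQ_apply]
  refine ⟨ULift.{u} (Fin k), g, hh, ?_⟩
  have key : α ∘ₗ π = hh ∘ₗ g' := by
    apply LinearMap.pi_ext'
    intro j
    ext
    simp only [LinearMap.comp_apply, LinearMap.coe_single, hh, g']
    rw [show α (π (Pi.single j 1)) = ∑ l, a j l • y l from h1 j]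
    rw [Finsupp.linearCombination_apply, Finsupp.sum_fintype _ _ (by simp)]
    rw [← Equiv.ulift.symm.sum_comp]
    refine Finset.sum_congr rfl fun l _ => ?_
    simp [g0, Pi.single_apply]
  ext x
  obtain ⟨v, rfl⟩ := hπ x
  rw [LinearMap.comp_apply, hg]
  exact LinearMap.congr_fun key v

end LA

section Cat
open Groth.Agent.Lib.Helper8.TorBal1 Groth.Agent.Lib.Helper8.TorBal2 Groth.Agent.Lib.Helper8.TorBal4

variable (R : Type u) [CommRing R]

/-- if `Tor₁(α, N) = 0` then `α ⊗ K N` kills the kernel of `M ⊗ K N ⟶ M ⊗ Φ N` -/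
theorem j₂_comp_eq_zero {M M' : ModuleCat.{u} R} (α : M ⟶ M') (N : ModuleCat.{u} R)
    (hT : ((Tor (ModuleCat.{u} R) 1).map α).app N = 0) :
    j₂ R M N ≫ α ▷ (K R).obj N = 0 := by
  have h1 := torIsoObj_natural_left R 1 α N
  rw [hT, zero_comp] at h1
  have h2 : ((B R 1).map α).app N = 0 := by
    rw [← cancel_epi (torIsoObj R 1 M N).hom, ← h1, comp_zero]
  rw [← j₂_natural_left, h2, zero_comp]

theorem whiskerRight_apply_eq_zero {M M' : ModuleCat.{u} R} (α : M ⟶ M') (N : ModuleCat.{u} R)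
    (hT : ((Tor (ModuleCat.{u} R) 1).map α).app N = 0)
    (ξ : (M ⊗ (K R).obj N : ModuleCat.{u} R)) (hξ : (M ◁ (ι R).app N).hom ξ = 0) :
    (α ▷ (K R).obj N).hom ξ = 0 := by
  let t : ModuleCat.of R R ⟶ M ⊗ (K R).obj N :=
    ModuleCat.ofHom (LinearMap.toSpanSingleton R _ ξ)
  have ht : t ≫ M ◁ (ι R).app N = 0 := by
    ext
    simp [t, hξ]
  obtain ⟨l, hl⟩ := (isKer_j₂ R M N).lift t ht
  have := j₂_comp_eq_zero R α N hT
  have h3 : t ≫ α ▷ (K R).obj N = 0 := by
    rw [← hl, Category.assoc, this, comp_zero]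
  have h4 := congrArg (fun f => f.hom (1 : R)) h3
  simpa [t] using h4

end Cat

section Compare
open Groth.Agent.Lib.Helper8.TorBal1 Groth.Agent.Lib.Helper8.TorBal2 Groth.Agent.Lib.Helper8.TorBal4

variable (R : Type u) [CommRing R] {m : ℕ} (L : Submodule R (Fin m → R))

instance : Projective (ModuleCat.of R (Fin m → R)) :=
  ModuleCat.projective_of_free (ι := Fin m) (M := ModuleCat.of R (Fin m → R)) (Pi.basisFun R (Fin m))

theorem exists_compare :
    ∃ (sL : ModuleCat.of R L ⟶ (K R).obj (ModuleCat.of R ((Fin m → R) ⧸ L)))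
      (s : ModuleCat.of R (Fin m → R) ⟶ (Φ R).obj (ModuleCat.of R ((Fin m → R) ⧸ L)))
      (rK : (K R).obj (ModuleCat.of R ((Fin m → R) ⧸ L)) ⟶ ModuleCat.of R L)
      (hL : ModuleCat.of R (Fin m → R) ⟶ ModuleCat.of R L),
      sL ≫ (ι R).app _ = ModuleCat.ofHom L.subtype ≫ s ∧
      sL ≫ rK = 𝟙 _ + ModuleCat.ofHom L.subtype ≫ hL := by
  set N := ModuleCat.of R ((Fin m → R) ⧸ L) with hN
  let i : ModuleCat.of R L ⟶ ModuleCat.of R (Fin m → R) := ModuleCat.ofHom L.subtype
  let q : ModuleCat.of R (Fin m → R) ⟶ N := ModuleCat.ofHom L.mkQ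
  have hiq : i ≫ q = 0 := by
    ext x
    simp only [i, q, ModuleCat.hom_comp, ModuleCat.hom_ofHom, LinearMap.comp_apply,
      Submodule.subtype_apply, ModuleCat.hom_zero, LinearMap.zero_apply]
    exact (Submodule.Quotient.mk_eq_zero L).2 x.2
  have : Epi q := (ModuleCat.epi_iff_surjective q).2 (Submodule.mkQ_surjective L)
  have : Mono i := (ModuleCat.mono_iff_injective i).2 (Submodule.injective_subtype L)
  let s : ModuleCat.of R (Fin m → R) ⟶ (Φ R).obj N := Projective.factorThru q ((ε R).app N)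
  have hs : s ≫ (ε R).app N = q := Projective.factorThru_comp _ _
  let r' : (Φ R).obj N ⟶ ModuleCat.of R (Fin m → R) := Projective.factorThru ((ε R).app N) q
  have hr' : r' ≫ q = (ε R).app N := Projective.factorThru_comp _ _
  let sL : ModuleCat.of R L ⟶ (K R).obj N := kernel.lift ((ε R).app N) (i ≫ s) (by
    rw [Category.assoc, hs, hiq])
  have hsL : sL ≫ (ι R).app N = i ≫ s := kernel.lift_ι _ _ _
  -- factor through `i`
  have fac : ∀ {T : ModuleCat.{u} R} (f : T ⟶ ModuleCat.of R (Fin m → R)), f ≫ q = 0 →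
      ∃ g : T ⟶ ModuleCat.of R L, g ≫ i = f := by
    intro T f hf
    refine ⟨ModuleCat.ofHom (LinearMap.codRestrict L f.hom (fun x => ?_)), ?_⟩
    · have := congrArg (fun φ => φ.hom x) hf
      simp only [q, ModuleCat.hom_comp, ModuleCat.hom_ofHom, LinearMap.comp_apply,
        ModuleCat.hom_zero, LinearMap.zero_apply] at this
      exact (Submodule.Quotient.mk_eq_zero L).1 this
    · ext x
      simp [i]
  obtain ⟨rK, hrK⟩ := fac ((ι R).app N ≫ r') (by rw [Category.assoc, hr', ι_ε])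
  obtain ⟨hL, hhL⟩ := fac (s ≫ r' - 𝟙 _) (by
    rw [Preadditive.sub_comp, Category.assoc, hr', hs, Category.id_comp, sub_self])
  refine ⟨sL, s, rK, hL, hsL, ?_⟩
  rw [← cancel_mono i, Category.assoc, hrK, ← Category.assoc, hsL, Category.assoc,
    Preadditive.add_comp, Category.id_comp, Category.assoc, hhL, Preadditive.comp_sub,
    Category.comp_id]
  abel

theorem eq_zero_of_compare (M' : ModuleCat.{u} R)
    (sL : ModuleCat.of R L ⟶ (K R).obj (ModuleCat.of R ((Fin m → R) ⧸ L)))
    (rK : (K R).obj (ModuleCat.of R ((Fin m → R) ⧸ L)) ⟶ ModuleCat.of R L)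
    (hL : ModuleCat.of R (Fin m → R) ⟶ ModuleCat.of R L)
    (hcomp : sL ≫ rK = 𝟙 _ + ModuleCat.ofHom L.subtype ≫ hL)
    (ξ : (M' ⊗ ModuleCat.of R L : ModuleCat.{u} R))
    (h1 : (M' ◁ ModuleCat.ofHom L.subtype).hom ξ = 0) (h2 : (M' ◁ sL).hom ξ = 0) : ξ = 0 := by
  have e : M' ◁ sL ≫ M' ◁ rK = 𝟙 _ + M' ◁ ModuleCat.ofHom L.subtype ≫ M' ◁ hL := by
    rw [← MonoidalCategory.whiskerLeft_comp, hcomp, MonoidalPreadditive.whiskerLeft_add,
      MonoidalCategory.whiskerLeft_id, MonoidalCategory.whiskerLeft_comp]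
  have := congrArg (fun φ => φ.hom ξ) e
  simp only [ModuleCat.hom_comp, LinearMap.comp_apply, h2, map_zero, ModuleCat.hom_add,
    LinearMap.add_apply, ModuleCat.hom_id, LinearMap.id_apply, h1, add_zero] at this
  exact this.symm

end Compare

section Main
open Groth.Agent.Lib.Helper8.TorBal1 Groth.Agent.Lib.Helper8.TorBal2 Groth.Agent.Lib.Helper8.TorBal4

theorem main (R : Type u) [CommRing R] (M M' : Type u) [AddCommGroup M] [Module R M]
    [Module.FinitePresentation R M] [AddCommGroup M'] [Module R M'] (α : M →ₗ[R] M')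
    (h : ∀ (N : Type u) [AddCommGroup N] [Module R N],
      ((CategoryTheory.Tor (ModuleCat.{u} R) 1).map (ModuleCat.ofHom α)).app (ModuleCat.of R N) = 0) :
    ∃ (ι : Type u) (g : M →ₗ[R] (ι →₀ R)) (h : (ι →₀ R) →ₗ[R] M'), α = h ∘ₗ g := by
  obtain ⟨n, π, hπ⟩ := Module.Finite.exists_fin' R M
  have hfg : (LinearMap.ker π).FG := Module.FinitePresentation.fg_ker π hπ
  obtain ⟨m, r, hr⟩ := Submodule.fg_iff_exists_fin_generating_family.1 hfg
  let cc : Fin n → (Fin m → R) := fun j i => r i j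
  let L : Submodule R (Fin m → R) := Submodule.span R (Set.range cc)
  let c : Fin n → L := fun j => ⟨cc j, Submodule.subset_span ⟨j, rfl⟩⟩
  have hspan : Submodule.span R (Set.range c) = ⊤ := by
    apply Submodule.map_injective_of_injective L.injective_subtype
    rw [Submodule.map_span, Submodule.map_top, Submodule.range_subtype, ← Set.range_comp]
    rfl
  -- the element ξ_M
  let Mc : ModuleCat.{u} R := ModuleCat.of R M
  let M'c : ModuleCat.{u} R := ModuleCat.of R M'
  let Lm : ModuleCat.{u} R := ModuleCat.of R L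
  let α' : Mc ⟶ M'c := ModuleCat.ofHom α
  let i : Lm ⟶ ModuleCat.of R (Fin m → R) := ModuleCat.ofHom L.subtype
  let ξM : (Mc ⊗ Lm : ModuleCat.{u} R) := ∑ j, (π (Pi.single j 1) : M) ⊗ₜ[R] (c j : L)
  have hA : (Mc ◁ i).hom ξM = 0 := by
    have h0 : ∀ i' : Fin m, π (r i') = 0 := fun i' => by
      have : r i' ∈ LinearMap.ker π := by rw [← hr]; exact Submodule.subset_span ⟨i', rfl⟩
      exact this
    have h1 : (Mc ◁ i).hom ξM = ∑ j, (π (Pi.single j 1) : M) ⊗ₜ[R] (cc j) := by
      simp only [ξM, map_sum]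
      rfl
    rw [h1]
    have h2 : ∀ j, cc j = ∑ i', r i' j • (Pi.single i' (1 : R) : Fin m → R) := by
      intro j
      ext i'
      simp [cc, Pi.single_apply]
    calc ∑ j, (π (Pi.single j 1) : M) ⊗ₜ[R] (cc j)
        = ∑ j, ∑ i', (r i' j • π (Pi.single j 1)) ⊗ₜ[R] (Pi.single i' (1 : R) : Fin m → R) := by
          refine Finset.sum_congr rfl fun j _ => ?_
          rw [h2 j, TensorProduct.tmul_sum]
          refine Finset.sum_congr rfl fun i' _ => ?_
          rw [TensorProduct.tmul_smul, TensorProduct.smul_tmul']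
      _ = ∑ i', (∑ j, r i' j • π (Pi.single j 1)) ⊗ₜ[R] (Pi.single i' (1 : R) : Fin m → R) := by
          rw [Finset.sum_comm]
          refine Finset.sum_congr rfl fun i' _ => ?_
          rw [TensorProduct.sum_tmul]
      _ = 0 := by
          refine Finset.sum_eq_zero fun i' _ => ?_
          have : ∑ j, r i' j • π (Pi.single j 1) = π (r i') := by
            have e2 : r i' = ∑ j, r i' j • (Pi.single j (1 : R) : Fin n → R) := by
              ext j'
              simp [Pi.single_apply]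
            conv_rhs => rw [e2]
            simp only [map_sum, map_smul]
          rw [this, h0, TensorProduct.zero_tmul]
  obtain ⟨sL, s, rK, hL, hsL, hcomp⟩ := exists_compare R L
  let N : ModuleCat.{u} R := ModuleCat.of R ((Fin m → R) ⧸ L)
  have hT := h ((Fin m → R) ⧸ L)
  -- ξ' in M ⊗ K N
  have h5 : (Mc ◁ (ι R).app N).hom ((Mc ◁ sL).hom ξM) = 0 := by
    have e : Mc ◁ sL ≫ Mc ◁ (ι R).app N = Mc ◁ i ≫ Mc ◁ s := by
      rw [← MonoidalCategory.whiskerLeft_comp, hsL, MonoidalCategory.whiskerLeft_comp]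
    have := congrArg (fun φ => φ.hom ξM) e
    simp only [ModuleCat.hom_comp, LinearMap.comp_apply, hA, map_zero] at this
    exact this
  have h6 := whiskerRight_apply_eq_zero R α' N hT _ h5
  let ξ : (M'c ⊗ Lm : ModuleCat.{u} R) := (α' ▷ Lm).hom ξM
  have h7 : (M'c ◁ sL).hom ξ = 0 := by
    have e := MonoidalCategory.whisker_exchange α' sL
    have := congrArg (fun φ => φ.hom ξM) e
    simp only [ModuleCat.hom_comp, LinearMap.comp_apply] at this
    rw [h6] at this
    exact this.symm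
  have h8 : (M'c ◁ i).hom ξ = 0 := by
    have e := MonoidalCategory.whisker_exchange α' i
    have := congrArg (fun φ => φ.hom ξM) e
    simp only [ModuleCat.hom_comp, LinearMap.comp_apply, hA, map_zero] at this
    exact this.symm
  have h9 : ξ = 0 := eq_zero_of_compare R L M'c sL rK hL hcomp ξ h8 h7
  have h10 : ξ = ∑ j, (α (π (Pi.single j 1)) : M') ⊗ₜ[R] (c j : L) := by
    simp only [ξ, ξM, map_sum]
    rfl
  have h11 : ∑ j, (c j : L) ⊗ₜ[R] (α (π (Pi.single j 1)) : M') = 0 := by
    have := congrArg (TensorProduct.comm R M' L) (h10.symm.trans h9)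
    simpa [map_sum] using this
  exact factor_of_vanish π hπ r hr.symm α L c (fun _ _ => rfl) hspan h11

end Main

end Groth.Agent.Lib.lead.TorFactorFree
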