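import Mathlib
import Groth.Agent.Lib.lead.WtM

set_option autoImplicit false
set_option linter.style.haveILetI false
set_option linter.unusedSectionVars false
universe u

namespace Groth.Agent.Lib.lead.WtN

open AlgebraicGeometry CategoryTheory Limits IsLocalRing Groth.Agent.Lib.lead.WtA
  Groth.Agent.Lib.lead.WtB Groth.Agent.Lib.lead.WtC Groth.Agent.Lib.lead.WtD
  Groth.Agent.Lib.lead.WtE Groth.Agent.Lib.lead.WtF Groth.Agent.Lib.lead.WtG

/-- Points of a pullback square are determined by their projections when the residue field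
extension is purely inseparable. -/
theorem eq_of_isPullback_of_pi {P T W V₁ : Scheme.{u}} {fst' : P ⟶ T} {snd' : P ⟶ V₁} {q : T ⟶ W}
    {b : V₁ ⟶ W} (hc : IsPullback fst' snd' q b) [LocallyQuasiFinite q] (z z' : P)
    (h1 : fst' z = fst' z') (h2 : snd' z = snd' z')
    (hpi : (q.residueFieldMap (fst' z)).hom.IsPurelyInseparable) : z = z' := by
  have e1 : hc.isoPullback.hom ≫ pullback.fst q b = fst' := hc.isoPullback_hom_fst
  have e2 : hc.isoPullback.hom ≫ pullback.snd q b = snd' := hc.isoPullback_hom_snd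
  have hf : ∀ x : P, pullback.fst q b (hc.isoPullback.hom x) = fst' x := fun x => by
    rw [← Scheme.Hom.comp_apply, e1]
  have hs : ∀ x : P, pullback.snd q b (hc.isoPullback.hom x) = snd' x := fun x => by
    rw [← Scheme.Hom.comp_apply, e2]
  have key := eq_of_isPurelyInseparable q b (hc.isoPullback.hom z) (hc.isoPullback.hom z')
    (by rw [hf, hf, h1]) (by rw [hs, hs, h2]) (by rw [hf]; exact hpi)
  have hinj : Function.Injective hc.isoPullback.hom := by
    intro x x' hx
    have := congrArg hc.isoPullback.inv hx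
    simpa [← Scheme.Hom.comp_apply] using this
  exact hinj key

/-- Unique point in the fibre after base change (purely inseparable case). -/
theorem exists_unique_point_pullback {T W V₃ : Scheme.{u}} (q : T ⟶ W) [LocallyQuasiFinite q]
    (c : V₃ ⟶ W) (t₀ : T) (v₃ : V₃) (h : q t₀ = c v₃) (huniq : ∀ t : T, q t = c v₃ → t = t₀)
    (hpi : (q.residueFieldMap t₀).hom.IsPurelyInseparable) :
    ∃ b₀ : ↑(pullback q c), pullback.snd q c b₀ = v₃ ∧ pullback.fst q c b₀ = t₀ ∧
      ∀ y : ↑(pullback q c), pullback.snd q c y = v₃ → y = b₀ := by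
  obtain ⟨b₀, hb₀1, hb₀2⟩ := Scheme.Pullback.exists_preimage_pullback t₀ v₃ h
  refine ⟨b₀, hb₀2, hb₀1, fun y hy => ?_⟩
  have hfy : pullback.fst q c y = t₀ := by
    apply huniq
    rw [← Scheme.Hom.comp_apply, pullback.condition, Scheme.Hom.comp_apply, hy]
  exact eq_of_isPurelyInseparable q c y b₀ (by rw [hfy, hb₀1]) (by rw [hy, hb₀2])
    (by rw [hfy]; exact hpi)

section chartBC

variable {X Y X' Y' : Scheme.{u}} {f : X ⟶ Y} {f' : X' ⟶ Y'} {h' : X' ⟶ X} {g₀ : Y' ⟶ Y}

/-- A chart of a base change is a chart of the original morphism. -/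
theorem _root_.Groth.Agent.Lib.lead.WtD.IsChart.of_isPullback (hc : IsPullback h' f' f g₀) {W T : Scheme.{u}} {τ : W ⟶ Y'}
    {b' : T ⟶ X'} {q : T ⟶ W} (hT : IsChart f' τ b' q) : IsChart f (τ ≫ g₀) (b' ≫ h') q := by
  have hpaste : IsPullback (pullback.fst f' τ ≫ h') (pullback.snd f' τ) f (τ ≫ g₀) :=
    (IsPullback.of_hasPullback f' τ).paste_horiz hc
  have comm : (b' ≫ h') ≫ f = q ≫ (τ ≫ g₀) := by
    rw [Category.assoc, hc.w, ← Category.assoc, hT.comm, Category.assoc]
  refine ⟨comm, ?_⟩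
  have : pullback.lift (b' ≫ h') q comm = hT.j ≫ hpaste.isoPullback.hom := by
    apply pullback.hom_ext
    · rw [pullback.lift_fst, Category.assoc, hpaste.isoPullback_hom_fst, ← Category.assoc,
        hT.j_fst]
    · rw [pullback.lift_snd, Category.assoc, hpaste.isoPullback_hom_snd, hT.j_snd]
  rw [this]
  infer_instance

end chartBC

section comp

variable {X Y Z : Scheme.{u}} {f : X ⟶ Y} {g : Y ⟶ Z} {V A : Scheme.{u}} {ρ : V ⟶ Z}
  {a : A ⟶ X} {p : A ⟶ V}

/-- The map from a chart of `f ≫ g` to the base change of `Y`. -/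
noncomputable def _root_.Groth.Agent.Lib.lead.WtD.IsChart.toY (hA : IsChart (f ≫ g) ρ a p) : A ⟶ pullback g ρ :=
  pullback.lift (a ≫ f) p (by rw [Category.assoc, hA.comm])

@[reassoc (attr := simp)]
theorem _root_.Groth.Agent.Lib.lead.WtD.IsChart.toY_fst (hA : IsChart (f ≫ g) ρ a p) : hA.toY ≫ pullback.fst g ρ = a ≫ f :=
  pullback.lift_fst _ _ _

@[reassoc (attr := simp)]
theorem _root_.Groth.Agent.Lib.lead.WtD.IsChart.toY_snd (hA : IsChart (f ≫ g) ρ a p) : hA.toY ≫ pullback.snd g ρ = p :=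
  pullback.lift_snd _ _ _

theorem _root_.Groth.Agent.Lib.lead.WtD.IsChart.toY_baseChange (hA : IsChart (f ≫ g) ρ a p) {V₁ : Scheme.{u}} (b : V₁ ⟶ V)
    (ρ₁ : V₁ ⟶ Z) (hρ : ρ₁ = b ≫ ρ) :
    (hA.baseChange b ρ₁ hρ).toY ≫ beta g ρ b ρ₁ hρ = pullback.fst p b ≫ hA.toY := by
  apply pullback.hom_ext
  · rw [Category.assoc, beta_fst, IsChart.toY_fst, Category.assoc, Category.assoc,
      IsChart.toY_fst]
  · rw [Category.assoc, beta_snd, IsChart.toY_snd_assoc, Category.assoc, IsChart.toY_snd,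
      pullback.condition]

/-- The base change of `X` to `V` is the base change of `X` along `Y_V → Y`. -/
theorem isPullback_fV (f : X ⟶ Y) (g : Y ⟶ Z) (ρ : V ⟶ Z) :
    IsPullback (pullback.fst (f ≫ g) ρ)
      (pullback.lift (pullback.fst (f ≫ g) ρ ≫ f) (pullback.snd (f ≫ g) ρ)
        (by rw [Category.assoc, pullback.condition]))
      f (pullback.fst g ρ) := by
  have hbig : IsPullback (pullback.fst (f ≫ g) ρ)
      (pullback.lift (pullback.fst (f ≫ g) ρ ≫ f) (pullback.snd (f ≫ g) ρ)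
        (by rw [Category.assoc, pullback.condition]) ≫ pullback.snd g ρ) (f ≫ g) ρ := by
    rw [pullback.lift_snd]
    exact IsPullback.of_hasPullback (f ≫ g) ρ
  exact IsPullback.of_bot hbig (pullback.lift_fst _ _ _).symm (IsPullback.of_hasPullback g ρ)

/-- A chart of `f ≫ g` mapping into a chart of `g` is a chart of `f` over the latter. -/
theorem _root_.Groth.Agent.Lib.lead.WtD.IsChart.of_comp {T : Scheme.{u}} {b : T ⟶ Y} {q : T ⟶ V} (hA : IsChart (f ≫ g) ρ a p)
    (hT : IsChart g ρ b q) (c : A ⟶ T) (hc : c ≫ hT.j = hA.toY) : IsChart f b a c := by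
  have comm : a ≫ f = c ≫ b := by
    rw [← hA.toY_fst, ← hc, Category.assoc, hT.j_fst]
  have hcq : c ≫ q = p := by
    rw [← hT.j_snd, ← Category.assoc, hc, hA.toY_snd]
  refine ⟨comm, ?_⟩
  have hΦc : pullback.fst f b ≫ f ≫ g = (pullback.snd f b ≫ q) ≫ ρ := by
    rw [← Category.assoc, pullback.condition, Category.assoc, hT.comm, Category.assoc]
  let Φ : pullback f b ⟶ pullback (f ≫ g) ρ :=
    pullback.lift (pullback.fst f b) (pullback.snd f b ≫ q) hΦc
  have hΦ1 : Φ ≫ pullback.fst (f ≫ g) ρ = pullback.fst f b := pullback.lift_fst _ _ _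
  have hΦ2 : Φ ≫ pullback.snd (f ≫ g) ρ = pullback.snd f b ≫ q := pullback.lift_snd _ _ _
  set fV := pullback.lift (pullback.fst (f ≫ g) ρ ≫ f) (pullback.snd (f ≫ g) ρ)
        (by rw [Category.assoc, pullback.condition]) with hfV
  have hR : IsPullback (pullback.fst (f ≫ g) ρ) fV f (pullback.fst g ρ) := isPullback_fV f g ρ
  have hfV1 : fV ≫ pullback.fst g ρ = pullback.fst (f ≫ g) ρ ≫ f := pullback.lift_fst _ _ _
  have hfV2 : fV ≫ pullback.snd g ρ = pullback.snd (f ≫ g) ρ := pullback.lift_snd _ _ _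
  have hcomm2 : Φ ≫ fV = pullback.snd f b ≫ hT.j := by
    apply pullback.hom_ext
    · rw [Category.assoc, hfV1, ← Category.assoc, hΦ1, Category.assoc, hT.j_fst,
        pullback.condition]
    · rw [Category.assoc, hfV2, hΦ2, Category.assoc, hT.j_snd]
  have hbig : IsPullback (Φ ≫ pullback.fst (f ≫ g) ρ) (pullback.snd f b) f
      (hT.j ≫ pullback.fst g ρ) := by
    rw [hΦ1, hT.j_fst]
    exact IsPullback.of_hasPullback f b
  have hleft : IsPullback Φ (pullback.snd f b) fV hT.j := IsPullback.of_right hbig hcomm2 hR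
  haveI : IsOpenImmersion Φ :=
    MorphismProperty.of_isPullback hleft.flip (inferInstanceAs (IsOpenImmersion hT.j))
  have hL : pullback.lift a c comm ≫ Φ = hA.j := by
    apply pullback.hom_ext
    · rw [Category.assoc, hΦ1, pullback.lift_fst, hA.j_fst]
    · rw [Category.assoc, hΦ2, ← Category.assoc, pullback.lift_snd, hcq, hA.j_snd]
  haveI : IsOpenImmersion (pullback.lift a c comm ≫ Φ) := by
    rw [hL]; infer_instance
  exact IsOpenImmersion.of_comp (pullback.lift a c comm) Φ

end comp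

end Groth.Agent.Lib.lead.WtN
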