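import Mathlib
import Groth.Agent.Lib.lead.WtN

set_option autoImplicit false
set_option linter.style.haveILetI false
set_option linter.unusedSectionVars false
universe u

namespace Groth.Agent.Lib.lead.WtO

open AlgebraicGeometry CategoryTheory Limits IsLocalRing Groth.Agent.Lib.lead.WtA
  Groth.Agent.Lib.lead.WtB Groth.Agent.Lib.lead.WtC Groth.Agent.Lib.lead.WtD
  Groth.Agent.Lib.lead.WtE Groth.Agent.Lib.lead.WtF Groth.Agent.Lib.lead.WtG
  Groth.Agent.Lib.lead.WtM Groth.Agent.Lib.lead.WtN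

theorem pi_of_comp {F E K : Type*} [Field F] [Field E] [Field K] (φ : F →+* E) (ψ : E →+* K)
    (h : (ψ.comp φ).IsPurelyInseparable) : φ.IsPurelyInseparable := by
  algebraize [φ, ψ, ψ.comp φ]
  exact IsPurelyInseparable.tower_bot F E K

/-- If all points of the fibre have the same value of `φ`, the factor can be pulled out. -/
theorem fibreIntegral_mul_const {T N : Scheme.{u}} (q : T ⟶ N) (G φ : T → ℤ) (n : N) (c₀ : ℤ)
    (h : ∀ t : T, q t = n → φ t = c₀) (hfin : Finite {t : T // q t = n}) :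
    MoreMor.fibreIntegral q (fun t => G t * φ t) n = c₀ * MoreMor.fibreIntegral q G n := by
  rw [fibreIntegral_eq_sdeg, fibreIntegral_eq_sdeg, mul_finsum' _ _ (Set.toFinite _)]
  refine finsum_congr fun t => ?_
  rw [h t.1 t.2]
  ring


section

variable {X Y Z : Scheme.{u}} (f : X ⟶ Y) (g : Y ⟶ Z) [LocallyQuasiFinite f]
  [LocallyOfFiniteType f] [LocallyQuasiFinite g] [LocallyOfFiniteType g]
  (wf : X → ℤ) (wg : Y → ℤ) (hf : MoreMor.IsWeighting f wf) (hg : MoreMor.IsWeighting g wg)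

include hf hg in
/-- The case where both charts are already arranged: a finite chart `A` of `f ≫ g` mapping
into a finite chart `T` of `g` which has a unique point over `v`. -/
theorem eventually_const_of_factor {V A T : Scheme.{u}} {ρ : V ⟶ Z} {a : A ⟶ X} {p : A ⟶ V}
    (hA : IsChart (f ≫ g) ρ a p) [IsFinite p] {b : T ⟶ Y} {q : T ⟶ V} (hT : IsChart g ρ b q)
    [IsFinite q] (c : A ⟶ T) (hc : c ≫ hT.j = hA.toY) (v : V) (t₀ : T)
    (hut : ∀ t : T, q t = v → t = t₀) :
    ∀ᶠ n in nhds v, MoreMor.fibreIntegral p ((fun x => wf x * wg (f x)) ∘ a) n =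
      MoreMor.fibreIntegral p ((fun x => wf x * wg (f x)) ∘ a) v := by
  have hcq : c ≫ q = p := by
    rw [← hT.j_snd, ← Category.assoc, hc, hA.toY_snd]
  have hcb : c ≫ b = a ≫ f := by
    rw [← hT.j_fst, ← Category.assoc, hc, hA.toY_fst]
  haveI : IsFinite (c ≫ q) := by rw [hcq]; infer_instance
  haveI : IsFinite c := IsFinite.of_comp c q
  have hD : IsChart f b a c := hA.of_comp hT c hc
  -- the inner integral
  set φ : T → ℤ := MoreMor.fibreIntegral c (wf ∘ a) with hφ
  have hφlc : IsLocallyConstant φ := isLocallyConstant_of_isChart hf hD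
  have hGlc : IsLocallyConstant (MoreMor.fibreIntegral q (wg ∘ b)) :=
    isLocallyConstant_of_isChart hg hT
  -- integration in stages
  have hstage : ∀ n : V, MoreMor.fibreIntegral p ((fun x => wf x * wg (f x)) ∘ a) n =
      MoreMor.fibreIntegral q (fun t => (wg ∘ b) t * φ t) n := by
    intro n
    have h1 := fibreIntegral_comp c q (wf ∘ a) (wg ∘ b) n (finite_fibre_of_isFinite q n)
      (fun t => finite_fibre_of_isFinite c t)
    have h2 : ((fun x => wf x * wg (f x)) ∘ a) = fun u => (wf ∘ a) u * (wg ∘ b) (c u) := by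
      funext u
      show wf (a u) * wg (f (a u)) = wf (a u) * wg (b (c u))
      have : f (a u) = b (c u) := by
        rw [← Scheme.Hom.comp_apply, ← Scheme.Hom.comp_apply, hcb]
      rw [this]
    rw [h2]
    have h3 : MoreMor.fibreIntegral p (fun u => (wf ∘ a) u * (wg ∘ b) (c u)) n =
        MoreMor.fibreIntegral (c ≫ q) (fun u => (wf ∘ a) u * (wg ∘ b) (c u)) n := by
      congr 1
      exact hcq.symm
    rw [h3, h1]
  -- near `v` the inner integral is constant on fibres
  have hopen : IsOpen (φ ⁻¹' {φ t₀}) := hφlc.isOpen_fiber _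
  have hcl : IsClosed (q '' (φ ⁻¹' {φ t₀})ᶜ) := q.isClosedMap _ hopen.isClosed_compl
  have hv : v ∉ q '' (φ ⁻¹' {φ t₀})ᶜ := by
    rintro ⟨t, ht, htv⟩
    exact ht (by rw [hut t htv]; rfl)
  have hG := hGlc.eventually_eq v
  filter_upwards [hcl.isOpen_compl.mem_nhds hv, hG] with n hn1 hn2
  have hconst : ∀ t : T, q t = n → φ t = φ t₀ := by
    intro t htn
    by_contra hne
    exact hn1 ⟨t, hne, htn⟩
  have hconst' : ∀ t : T, q t = v → φ t = φ t₀ := fun t htv => by rw [hut t htv]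
  rw [hstage n, hstage v, fibreIntegral_mul_const q (wg ∘ b) φ n (φ t₀) hconst
    (finite_fibre_of_isFinite q n), fibreIntegral_mul_const q (wg ∘ b) φ v (φ t₀) hconst'
    (finite_fibre_of_isFinite q v), hn2]


include hf hg in
/-- The case of a finite chart of `f ≫ g` with a unique purely inseparable point in the fibre. -/
theorem eventually_const_of_unique_pi {V A : Scheme.{u}} (ρ : V ⟶ Z) (a : A ⟶ X) (p : A ⟶ V)
    (hA : IsChart (f ≫ g) ρ a p) [IsFinite p] (v : V) (s : A) (hs : p s = v)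
    (hus : ∀ x : A, p x = v → x = s) (hpi : (p.residueFieldMap s).hom.IsPurelyInseparable) :
    ∀ᶠ n in nhds v, MoreMor.fibreIntegral p ((fun x => wf x * wg (f x)) ∘ a) n =
      MoreMor.fibreIntegral p ((fun x => wf x * wg (f x)) ∘ a) v := by
  classical
  -- Step 2: localize `Y_V → V` at the image of `s`
  set gV := pullback.snd g ρ with hgV
  have hyV : gV (hA.toY s) = v := by
    rw [hgV, ← Scheme.Hom.comp_apply, hA.toY_snd, hs]
  have hpiY : (gV.residueFieldMap (hA.toY s)).hom.IsPurelyInseparable := by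
    have h1 : hA.toY ≫ gV = p := hA.toY_snd
    have h2 := Scheme.residueFieldMap_comp hA.toY gV s
    have hpi' : ((hA.toY ≫ gV).residueFieldMap s).hom.IsPurelyInseparable := by
      rw [h1]; exact hpi
    rw [h2] at hpi'
    exact pi_of_comp _ _ hpi'
  obtain ⟨W, τ, w₀, hτ, T, t, hτw, ht, hTfin, htw, htuniq, htpi, htx⟩ :=
    exists_piece gV (hA.toY s)
  haveI := hτ
  haveI := hTfin
  have hτv : τ w₀ = v := by rw [hτw, hyV]
  -- `T` as a chart of `g` over `τ ≫ ρ`
  have hT' : IsChart g (τ ≫ ρ) ((T.ι ≫ pullback.fst gV τ) ≫ pullback.fst g ρ)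
      (T.ι ≫ pullback.snd gV τ) :=
    (IsChart.of_opens gV τ T).of_isPullback (IsPullback.of_hasPullback g ρ)
  have hjb : hT'.j ≫ beta g ρ τ (τ ≫ ρ) rfl = T.ι ≫ pullback.fst gV τ := by
    apply pullback.hom_ext
    · rw [Category.assoc, beta_fst, hT'.j_fst]
    · rw [Category.assoc, beta_snd, hT'.j_snd_assoc, Category.assoc, Category.assoc,
        pullback.condition]
  -- base change of the `A`-chart
  have hA' := hA.baseChange τ (τ ≫ ρ) rfl
  obtain ⟨s', hs'1, hs'2, hs'u⟩ := exists_unique_point_pullback p τ s w₀ (by rw [hs, hτv])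
    (fun x hx => hus x (by rw [hx, hτv])) hpi
  have hbs' : beta g ρ τ (τ ≫ ρ) rfl (hA'.toY s') = hA.toY s := by
    rw [← Scheme.Hom.comp_apply, hA.toY_baseChange τ (τ ≫ ρ) rfl, Scheme.Hom.comp_apply, hs'2]
  have hpts : hA'.toY s' = hT'.j ⟨t, ht⟩ := by
    apply eq_of_isPullback_of_pi (beta_isPullback g ρ τ (τ ≫ ρ) rfl)
    · rw [hbs', ← Scheme.Hom.comp_apply, hjb]
      exact htx.symm
    · rw [← Scheme.Hom.comp_apply, ← Scheme.Hom.comp_apply, hA'.toY_snd, hT'.j_snd]
      rw [hs'1]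
      exact htw.symm
    · rw [hbs']
      exact hpiY
  -- Step 3: shrink
  let A0 : (pullback p τ).Opens := hA'.toY ⁻¹ᵁ hT'.j.opensRange
  have hs'A0 : s' ∈ A0 := by
    show hA'.toY s' ∈ Set.range hT'.j
    rw [hpts]
    exact ⟨_, rfl⟩
  have hcl : IsClosed (pullback.snd p τ '' (A0 : Set ↑(pullback p τ))ᶜ) :=
    (pullback.snd p τ).isClosedMap _ A0.2.isClosed_compl
  have hw₀ : w₀ ∉ pullback.snd p τ '' (A0 : Set ↑(pullback p τ))ᶜ := by
    rintro ⟨x, hx, hxw⟩
    exact hx (by rw [hs'u x hxw]; exact hs'A0)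
  let N : W.Opens := ⟨(pullback.snd p τ '' (A0 : Set ↑(pullback p τ))ᶜ)ᶜ, hcl.isOpen_compl⟩
  have hw₀N : w₀ ∈ N := hw₀
  have hA'' := hA'.baseChange N.ι (N.ι ≫ τ ≫ ρ) rfl
  have hT'' := hT'.baseChange N.ι (N.ι ≫ τ ≫ ρ) rfl
  have hrange : Set.range hA''.toY ⊆ Set.range hT''.j := by
    rintro _ ⟨x, rfl⟩
    apply hT'.mem_range_baseChange_j N.ι (N.ι ≫ τ ≫ ρ) rfl
    have h1 : beta g (τ ≫ ρ) N.ι (N.ι ≫ τ ≫ ρ) rfl (hA''.toY x) =
        hA'.toY (pullback.fst (pullback.snd p τ) N.ι x) := by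
      rw [← Scheme.Hom.comp_apply, hA'.toY_baseChange N.ι _ rfl]
      rfl
    rw [h1]
    by_contra hne
    have hxN : pullback.snd p τ (pullback.fst (pullback.snd p τ) N.ι x) ∈ N := by
      rw [← Scheme.Hom.comp_apply, pullback.condition, Scheme.Hom.comp_apply]
      exact (pullback.snd (pullback.snd p τ) N.ι x).2
    exact hxN ⟨_, hne, rfl⟩
  let c := IsOpenImmersion.lift hT''.j hA''.toY hrange
  have hc : c ≫ hT''.j = hA''.toY := IsOpenImmersion.lift_fac _ _ _
  -- the unique point of `T''` over `w₀`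
  let w₀N : N.toScheme := ⟨w₀, hw₀N⟩
  obtain ⟨t'', ht''1, -, ht''u⟩ := exists_unique_point_pullback (T.ι ≫ pullback.snd gV τ) N.ι
    (⟨t, ht⟩ : T.toScheme) w₀N htw
    (fun t' ht' => Subtype.ext (htuniq t'.1 t'.2 ht'))
    (isPurelyInseparable_residueFieldMap_ι_comp (pullback.snd gV τ) T ⟨t, ht⟩ htpi)
  have key := eventually_const_of_factor f g wf wg hf hg hA'' hT'' c hc w₀N t'' ht''u
  -- Step 6: transfer back
  have htr : ∀ n : N.toScheme,
      MoreMor.fibreIntegral (pullback.snd (pullback.snd p τ) N.ι)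
        ((fun x => wf x * wg (f x)) ∘ (pullback.fst (pullback.snd p τ) N.ι ≫
          pullback.fst p τ ≫ a)) n =
      MoreMor.fibreIntegral p ((fun x => wf x * wg (f x)) ∘ a) ((N.ι ≫ τ) n) := by
    intro n
    have h1 := fibreIntegral_pullback (pullback.snd p τ) N.ι
      ((fun x => wf x * wg (f x)) ∘ (pullback.fst p τ ≫ a)) n
    have h2 := fibreIntegral_pullback p τ ((fun x => wf x * wg (f x)) ∘ a) (N.ι n)
    exact h1.trans h2
  have hεv : (N.ι ≫ τ) w₀N = v := hτv
  have hopen : IsOpenMap (N.ι ≫ τ) := (N.ι ≫ τ).isOpenMap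
  have hN := hopen.image_mem_nhds key
  rw [hεv] at hN
  filter_upwards [hN] with m' hm'
  obtain ⟨n, hn, rfl⟩ := hm'
  have hn' := hn
  change _ = _ at hn'
  rw [htr n, htr w₀N, hεv] at hn'
  exact hn'

include hf hg in
theorem isWeighting_comp :
    MoreMor.IsWeighting (f ≫ g) (fun x => wf x * wg (f x)) := by
  intro V ρ _ U hU
  haveI : IsFinite (U.ι ≫ pullback.snd (f ≫ g) ρ) := hU
  exact Groth.Agent.Lib.lead.WtL.isLocallyConstant_of_unique_pi (f ≫ g)
    (fun x => wf x * wg (f x))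
    (fun ρ' b q hB _ v b₀ hb₀ hub hpi =>
      eventually_const_of_unique_pi f g wf wg hf hg ρ' b q hB v b₀ hb₀ hub hpi)
    (IsChart.of_opens (f ≫ g) ρ U)

end

end Groth.Agent.Lib.lead.WtO
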