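import Mathlib
import Groth.Agent.Lib.lead.WtO
import Groth.Agent.Lib.Helper18.GeomFib.Count

set_option autoImplicit false
set_option linter.style.haveILetI false
set_option linter.unusedSectionVars false
universe u

namespace Groth.Agent.Lib.lead.GeomCount

open AlgebraicGeometry CategoryTheory Limits IsLocalRing Groth.Agent.Lib.lead.WtA
  Groth.Agent.Lib.lead.WtB Groth.Agent.Lib.lead.WtC Groth.Agent.Lib.lead.WtD
  Groth.Agent.Lib.lead.WtM

/-- Connected components of a totally disconnected space are its points. -/
theorem enatCard_connectedComponents (α : Type*) [TopologicalSpace α]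
    [TotallyDisconnectedSpace α] : ENat.card (ConnectedComponents α) = ENat.card α := by
  refine (ENat.card_congr (Equiv.ofBijective (ConnectedComponents.mk (α := α)) ⟨?_, ?_⟩)).symm
  · intro x y h
    have := ConnectedComponents.coe_eq_coe'.mp h
    rw [connectedComponent_eq_singleton] at this
    exact this
  · exact ConnectedComponents.surjective_coe

/-- Projection from a pullback along an isomorphism is a homeomorphism. -/
noncomputable def homeoOfIsIsoRight {A B C : Scheme.{u}} (a : A ⟶ B) (b : C ⟶ B) (hb : IsIso b) :
    ↥(pullback a b) ≃ₜ ↥A :=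
  (pullback.fst a b).homeomorph

section algClosed

variable {Ω : Type u} [Field Ω] [IsAlgClosed Ω]

instance isAlgClosed_residueField_spec (z : Spec (CommRingCat.of Ω)) :
    IsAlgClosed ((Spec (CommRingCat.of Ω)).residueField z) := by
  have hz : IsClosed ({z} : Set (Spec (CommRingCat.of Ω))) := isClosed_discrete _
  let e := (residueFieldIsoBase (𝟙 (Spec (CommRingCat.of Ω))) z hz).commRingCatIsoToRingEquiv
  exact IsAlgClosed.of_ringEquiv _ _ e.symm

variable {X' : Scheme.{u}} (f' : X' ⟶ Spec (CommRingCat.of Ω)) [LocallyQuasiFinite f']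

theorem sdeg_eq_one_of_isAlgClosed (x' : X') : sdeg f' x' = 1 := by
  unfold sdeg
  letI := (f'.residueFieldMap x').hom.toAlgebra
  haveI : Module.Finite ((Spec (CommRingCat.of Ω)).residueField (f' x')) (X'.residueField x') :=
    finite_residueFieldMap f' x'
  have := IsPurelyInseparable.finSepDegree_eq_one
    ((Spec (CommRingCat.of Ω)).residueField (f' x')) (X'.residueField x')
  exact_mod_cast this

theorem fibreIntegral_one_of_isAlgClosed (pt : Spec (CommRingCat.of Ω))
    (hfin : Finite {x' : X' // f' x' = pt}) :
    MoreMor.fibreIntegral f' (fun _ => 1) pt = (Nat.card {x' : X' // f' x' = pt} : ℤ) := by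
  rw [fibreIntegral_eq_sdeg]
  simp_rw [sdeg_eq_one_of_isAlgClosed, mul_one]
  letI : Fintype {x' : X' // f' x' = pt} := Fintype.ofFinite _
  rw [finsum_eq_sum_of_fintype, Finset.sum_const, Finset.card_univ, Nat.card_eq_fintype_card]
  simp

/-- Over an algebraically closed field, the geometric fibre is the fibre. -/
theorem nGeomConnComp_of_isAlgClosed (pt : Spec (CommRingCat.of Ω)) :
    MoreMor.nGeomConnComp f' pt = ENat.card {x' : X' // f' x' = pt} := by
  have hbij : Function.Bijective (algebraMap ((Spec (CommRingCat.of Ω)).residueField pt)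
      (SeparableClosure ((Spec (CommRingCat.of Ω)).residueField pt))) :=
    ⟨FaithfulSMul.algebraMap_injective _ _, IsSepClosed.algebraMap_surjective _ _⟩
  have h1 : IsIso (CommRingCat.ofHom (algebraMap ((Spec (CommRingCat.of Ω)).residueField pt)
      (SeparableClosure ((Spec (CommRingCat.of Ω)).residueField pt)))) := by
    rw [ConcreteCategory.isIso_iff_bijective]
    exact hbij
  have h2 : IsIso (Spec.map (CommRingCat.ofHom
      (algebraMap ((Spec (CommRingCat.of Ω)).residueField pt)
      (SeparableClosure ((Spec (CommRingCat.of Ω)).residueField pt))))) := inferInstance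
  let e1 : ↥(MoreMor.geomFiber f' pt) ≃ₜ ↥(f'.fiber pt) :=
    homeoOfIsIsoRight (f'.fiberToSpecResidueField pt) _ h2
  haveI : DiscreteTopology ↥(f'.fiber pt) := inferInstance
  haveI : DiscreteTopology ↥(MoreMor.geomFiber f' pt) := e1.symm.discreteTopology
  unfold MoreMor.nGeomConnComp
  rw [enatCard_connectedComponents]
  exact ENat.card_congr (e1.toEquiv.trans (f'.fiberHomeo pt).toEquiv)

end algClosed


/-- **Geometric point count**: for a locally quasi-finite morphism, the geometric number of
connected components of a finite fibre is the fibre integral of the constant function `1`. -/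
theorem nGeomConnComp_eq_fibreIntegral {X Y : Scheme.{u}} (f : X ⟶ Y) [LocallyQuasiFinite f]
    (y : Y) (hfin : Finite {x : X // f x = y}) :
    MoreMor.nGeomConnComp f y = ((MoreMor.fibreIntegral f (fun _ => 1) y).toNat : ℕ∞) := by
  let Ω := AlgebraicClosure (Y.residueField y)
  let g : Spec (CommRingCat.of Ω) ⟶ Y :=
    Spec.map (CommRingCat.ofHom (algebraMap (Y.residueField y) Ω)) ≫ Y.fromSpecResidueField y
  let pt : Spec (CommRingCat.of Ω) := IsLocalRing.closedPoint Ω
  have hg : g pt = y := by
    show Y.fromSpecResidueField y _ = y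
    exact Scheme.fromSpecResidueField_apply _ _
  have hc := IsPullback.of_hasPullback f g
  have h1 := Groth.Agent.Lib.Helper18.GeomFib.nGeomConnComp_eq f (pullback.snd f g)
    (pullback.fst f g) g hc pt
  have hfin0 : Finite {x : X // f x = g pt} := by rw [hg]; exact hfin
  have hfin' : Finite {x' : ↑(pullback f g) // pullback.snd f g x' = pt} :=
    finite_fibre_baseChange hc pt hfin0
  have h2 := fibreIntegral_baseChange hc (fun _ => (1 : ℤ)) pt hfin0
  have key : MoreMor.nGeomConnComp f (g pt) =
      ((MoreMor.fibreIntegral f (fun _ => 1) (g pt)).toNat : ℕ∞) := by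
    rw [← h1, ← h2]
    show _ = ((MoreMor.fibreIntegral (pullback.snd f g) (fun _ => 1) pt).toNat : ℕ∞)
    rw [nGeomConnComp_of_isAlgClosed, fibreIntegral_one_of_isAlgClosed _ pt hfin',
      Int.toNat_natCast, ENat.card_eq_coe_natCard]
  rw [hg] at key
  exact key

end Groth.Agent.Lib.lead.GeomCount
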