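import Mathlib

set_option autoImplicit false
set_option linter.style.haveILetI false
set_option linter.unusedSectionVars false
universe u v w

namespace Groth.Agent.Lib.lead.QfBoundAlg

open Polynomial

section one

variable {A : Type u} {R : Type v} [CommRing A] [CommRing R] [Algebra A R]

open Classical in
/-- The bound on the number of homomorphisms not killing `r`. -/
noncomputable def bound (A : Type u) {R : Type v} [CommRing A] [CommRing R] [Algebra A R]
    (s₀ : Finset R) (r : R) (m : R → ℕ) : ℕ :=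
  ∏ t ∈ insert r (s₀.image fun x => r ^ m x * x), (minpoly A t).natDegree

theorem finite_homs_ne_zero (s₀ : Finset R) (hs₀ : Algebra.adjoin A (s₀ : Set R) = ⊤) (r : R)
    (m : R → ℕ) (hr : IsIntegral A r) (hm : ∀ x, IsIntegral A (r ^ m x * x))
    (Ω : Type w) [Field Ω] [Algebra A Ω] :
    {φ : R →ₐ[A] Ω | φ r ≠ 0}.Finite ∧ {φ : R →ₐ[A] Ω | φ r ≠ 0}.ncard ≤ bound A s₀ r m := by
  classical
  set T : Finset R := insert r (s₀.image fun x => r ^ m x * x) with hT
  have hTint : ∀ t ∈ T, IsIntegral A t := by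
    intro t ht
    rcases Finset.mem_insert.mp ht with rfl | ht
    · exact hr
    · obtain ⟨x, -, rfl⟩ := Finset.mem_image.mp ht
      exact hm x
  let Ψ : (R →ₐ[A] Ω) → (T → Ω) := fun φ t => φ t.1
  let Z : Finset (T → Ω) :=
    Fintype.piFinset (fun t : T => ((minpoly A t.1).map (algebraMap A Ω)).roots.toFinset)
  have hmaps : ∀ φ : R →ₐ[A] Ω, Ψ φ ∈ Z := by
    intro φ
    rw [Fintype.mem_piFinset]
    intro t
    rw [Multiset.mem_toFinset, Polynomial.mem_roots', Polynomial.IsRoot.def, Polynomial.eval_map,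
      ← Polynomial.aeval_def]
    refine ⟨((minpoly.monic (hTint t.1 t.2)).map _).ne_zero, ?_⟩
    show Polynomial.aeval (φ t.1) (minpoly A t.1) = 0
    rw [Polynomial.aeval_algHom_apply, minpoly.aeval, map_zero]
  have hZ : Z.card ≤ bound A s₀ r m := by
    rw [Fintype.card_piFinset, bound, ← hT,
      ← Finset.prod_coe_sort T (fun t => (minpoly A t).natDegree)]
    refine Finset.prod_le_prod (fun t _ => Nat.zero_le _) fun t _ => ?_
    refine (Multiset.toFinset_card_le _).trans ((Polynomial.card_roots' _).trans ?_)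
    exact Polynomial.natDegree_map_le
  have hinj : Set.InjOn Ψ {φ : R →ₐ[A] Ω | φ r ≠ 0} := by
    intro φ hφ φ' hφ' h
    have hrT : r ∈ T := Finset.mem_insert_self _ _
    have h2 : φ r = φ' r := congrFun h ⟨r, hrT⟩
    refine AlgHom.ext_of_adjoin_eq_top hs₀ fun x hx => ?_
    have hxT : r ^ m x * x ∈ T :=
      Finset.mem_insert_of_mem (Finset.mem_image.mpr ⟨x, hx, rfl⟩)
    have h1 : φ (r ^ m x * x) = φ' (r ^ m x * x) := congrFun h ⟨_, hxT⟩
    rw [map_mul, map_mul, map_pow, map_pow, h2] at h1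
    exact mul_left_cancel₀ (pow_ne_zero _ hφ') h1
  have hfin : {φ : R →ₐ[A] Ω | φ r ≠ 0}.Finite :=
    Set.Finite.of_injOn (t := (Z : Set (T → Ω))) (fun φ _ => hmaps φ) hinj Z.finite_toSet
  refine ⟨hfin, ?_⟩
  refine (Set.ncard_le_ncard_of_injOn Ψ (fun φ _ => hmaps φ) hinj Z.finite_toSet).trans ?_
  rw [Set.ncard_coe_finset]
  exact hZ

end one

/-- **Uniform bound on geometric points** of a quasi-finite algebra of finite type. -/
theorem exists_bound_algHom (A : Type u) (R : Type v) [CommRing A] [CommRing R] [Algebra A R]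
    [Algebra.FiniteType A R] [Algebra.QuasiFinite A R] :
    ∃ d : ℕ, ∀ (Ω : Type w) [Field Ω] [Algebra A Ω],
      Finite (R →ₐ[A] Ω) ∧ Nat.card (R →ₐ[A] Ω) ≤ d := by
  classical
  obtain ⟨s₀, hs₀⟩ := Algebra.FiniteType.out (R := A) (A := R)
  let G : Set R := {r | IsIntegral A r ∧ ∀ x, ∃ m : ℕ, IsIntegral A (r ^ m * x)}
  have hG : Ideal.span G = ⊤ := by
    by_contra h
    obtain ⟨M, hM, hle⟩ := Ideal.exists_le_maximal _ h
    haveI := hM.isPrime
    obtain ⟨r, hrM, hr⟩ := Algebra.zariskisMainProperty_iff.mp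
      (Algebra.ZariskisMainProperty.of_finiteType (R := A) M)
    exact hrM (hle (Ideal.subset_span hr))
  obtain ⟨S, hSG, hS⟩ := (Ideal.span_eq_top_iff_finite G).mp hG
  have hex : ∀ r : R, ∃ m : R → ℕ, r ∈ G → ∀ x, IsIntegral A (r ^ m x * x) := by
    intro r
    by_cases hr : r ∈ G
    · choose m hm using hr.2
      exact ⟨m, fun _ => hm⟩
    · exact ⟨fun _ => 0, fun h => absurd h hr⟩
  choose m hm using hex
  refine ⟨∑ r ∈ S, bound A s₀ r (m r), fun Ω _ _ => ?_⟩
  have hcover : (Set.univ : Set (R →ₐ[A] Ω)) = ⋃ r ∈ S, {φ : R →ₐ[A] Ω | φ r ≠ 0} := by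
    symm
    rw [Set.eq_univ_iff_forall]
    intro φ
    simp only [Set.mem_iUnion, Set.mem_ofPred_eq, exists_prop]
    by_contra h
    push Not at h
    have h1 : Ideal.span (S : Set R) ≤ RingHom.ker (φ : R →+* Ω) :=
      Ideal.span_le.mpr fun r hr => (RingHom.mem_ker).mpr (h r hr)
    have h2 : (1 : R) ∈ RingHom.ker (φ : R →+* Ω) := h1 (hS ▸ Submodule.mem_top)
    rw [RingHom.mem_ker] at h2
    simp at h2
  have hfinr : ∀ r ∈ S, {φ : R →ₐ[A] Ω | φ r ≠ 0}.Finite ∧
      {φ : R →ₐ[A] Ω | φ r ≠ 0}.ncard ≤ bound A s₀ r (m r) := fun r hr =>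
    finite_homs_ne_zero s₀ hs₀ r (m r) (hSG hr).1 (hm r (hSG hr)) Ω
  have hfin : (Set.univ : Set (R →ₐ[A] Ω)).Finite := by
    rw [hcover]
    exact S.finite_toSet.biUnion fun r hr => (hfinr r hr).1
  refine ⟨Set.finite_univ_iff.mp hfin, ?_⟩
  rw [← Set.ncard_univ, hcover]
  exact (Finset.set_ncard_biUnion_le S _).trans (Finset.sum_le_sum fun r hr => (hfinr r hr).2)

end Groth.Agent.Lib.lead.QfBoundAlg
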