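import Mathlib
import Groth.Agent.Lib.lead.QfBoundAlg
import Groth.Agent.Lib.lead.GeomCount

set_option autoImplicit false
set_option linter.style.haveILetI false
set_option linter.unusedSectionVars false
universe u

namespace Groth.Agent.Lib.lead.QfBound

open AlgebraicGeometry CategoryTheory Limits IsLocalRing Groth.Agent.Lib.lead.WtA
  Groth.Agent.Lib.lead.WtB Groth.Agent.Lib.lead.WtC Groth.Agent.Lib.lead.GeomCount
  Groth.Agent.Lib.lead.QfBoundAlg

/-! ### Part 1: irreducible components of a discrete space -/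

theorem encard_irreducibleComponents_of_t2 (α : Type*) [TopologicalSpace α] [T2Space α] :
    (irreducibleComponents α).encard = ENat.card α := by
  have h : irreducibleComponents α = Set.range (fun x : α => ({x} : Set α)) := by
    ext s
    constructor
    · intro hs
      obtain ⟨x, rfl⟩ := isIrreducible_iff_singleton.mp hs.prop
      exact ⟨x, rfl⟩
    · rintro ⟨x, rfl⟩
      refine ⟨isIrreducible_singleton, ?_⟩
      intro t ht hle
      obtain ⟨z, rfl⟩ := isIrreducible_iff_singleton.mp ht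
      have hxz : x = z := by simpa using hle
      rw [hxz]
  rw [h, ← Set.image_univ, Set.singleton_injective.encard_image, Set.encard_univ]

theorem discrete_geomFiber {X Y : Scheme.{u}} (f : X ⟶ Y) [LocallyQuasiFinite f] (y : Y) :
    DiscreteTopology ↥(MoreMor.geomFiber f y) := by
  haveI : IsLocallyArtinian (Spec (CommRingCat.of (SeparableClosure (Y.residueField y)))) :=
    Scheme.isLocallyArtinianScheme_Spec.mpr inferInstance
  haveI : LocallyQuasiFinite (f.fiberToSpecResidueField y) := by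
    unfold Scheme.Hom.fiberToSpecResidueField
    exact MorphismProperty.pullback_snd (P := @LocallyQuasiFinite) _ _ ‹_›
  have h := IsLocallyArtinian.of_locallyQuasiFinite
    (pullback.snd (f.fiberToSpecResidueField y)
      (Spec.map (CommRingCat.ofHom
        (algebraMap (Y.residueField y) (SeparableClosure (Y.residueField y))))))
  exact h.discreteTopology

theorem part1 {X Y : Scheme.{u}} (f : X ⟶ Y) [LocallyQuasiFinite f] (y : Y) :
    MoreMor.nGeomIrredComp f y = MoreMor.nGeomConnComp f y := by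
  haveI := discrete_geomFiber f y
  unfold MoreMor.nGeomIrredComp MoreMor.nGeomConnComp
  rw [encard_irreducibleComponents_of_t2, enatCard_connectedComponents]

/-! ### Part 2 -/

theorem exists_bound_geomPts_spec {A R : CommRingCat.{u}} (φ : A ⟶ R) (hft : φ.hom.FiniteType)
    (hqf : φ.hom.QuasiFinite) :
    ∃ d : ℕ, ∀ (Y : Scheme.{u}) (j : Spec A ⟶ Y) [Mono j] (y : Y) (Ω : Type u) [Field Ω]
      (ι : Y.residueField y ⟶ CommRingCat.of Ω),
      Finite (GeomPts (Spec.map φ ≫ j) y Ω ι) ∧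
        Nat.card (GeomPts (Spec.map φ ≫ j) y Ω ι) ≤ d := by
  letI := φ.hom.toAlgebra
  haveI : Algebra.FiniteType A R := hft
  haveI : Algebra.QuasiFinite A R := hqf
  obtain ⟨d, hd⟩ := exists_bound_algHom.{u, u, u} A R
  refine ⟨d, fun Y j _ y Ω _ ι => ?_⟩
  by_cases hne : Nonempty (GeomPts (Spec.map φ ≫ j) y Ω ι)
  swap
  · rw [not_nonempty_iff] at hne
    exact ⟨inferInstance, by rw [Nat.card_of_isEmpty]; exact Nat.zero_le _⟩
  obtain ⟨σ₀⟩ := hne
  let ψ : GeomPts (Spec.map φ ≫ j) y Ω ι → (R ⟶ CommRingCat.of Ω) := fun σ => Spec.preimage σ.1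
  have hψ : ∀ σ, Spec.map (ψ σ) = σ.1 := fun σ => Spec.map_preimage _
  letI : Algebra A Ω := (φ ≫ ψ σ₀).hom.toAlgebra
  have hcomp : ∀ σ, φ ≫ ψ σ = φ ≫ ψ σ₀ := by
    intro σ
    apply Spec.map_injective
    rw [Spec.map_comp, Spec.map_comp, hψ, hψ, ← cancel_mono j, Category.assoc, Category.assoc,
      σ.2, σ₀.2]
  let Φ : GeomPts (Spec.map φ ≫ j) y Ω ι → (R →ₐ[A] Ω) := fun σ =>
    { (ψ σ).hom with
      commutes' := fun a => by
        show (φ ≫ ψ σ).hom a = (φ ≫ ψ σ₀).hom a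
        rw [hcomp] }
  have hΦ : Function.Injective Φ := by
    intro σ τ h
    apply Subtype.ext
    rw [← hψ σ, ← hψ τ]
    congr 1
    ext r
    exact DFunLike.congr_fun h r
  obtain ⟨hfin, hcard⟩ := hd Ω
  exact ⟨Finite.of_injective Φ hΦ, (Nat.card_le_card_of_injective Φ hΦ).trans hcard⟩

theorem exists_cover {X Y : Scheme.{u}} (f : X ⟶ Y) (x : X) :
    ∃ (U : X.Opens) (V : Y.Opens), IsAffineOpen U ∧ IsAffineOpen V ∧ U ≤ f ⁻¹ᵁ V ∧ x ∈ U := by
  obtain ⟨_, ⟨V, hV, rfl⟩, hfxV, -⟩ := Y.isBasis_affineOpens.exists_subset_of_mem_open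
    (Set.mem_univ (f x)) isOpen_univ
  obtain ⟨_, ⟨U, hU, rfl⟩, hxU, hUV⟩ := X.isBasis_affineOpens.exists_subset_of_mem_open
    (show x ∈ ((f ⁻¹ᵁ V : X.Opens) : Set X) from hfxV) (f ⁻¹ᵁ V).isOpen
  exact ⟨U, V, hU, hV, hUV, hxU⟩

theorem exists_bound_geomPts {X Y : Scheme.{u}} (f : X ⟶ Y) [LocallyQuasiFinite f]
    [LocallyOfFiniteType f] [CompactSpace X] :
    ∃ d : ℕ, ∀ (y : Y) (Ω : Type u) [Field Ω] (ι : Y.residueField y ⟶ CommRingCat.of Ω),
      Finite (GeomPts f y Ω ι) ∧ Nat.card (GeomPts f y Ω ι) ≤ d := by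
  choose U V hU hV e hxU using exists_cover f
  obtain ⟨t, ht⟩ := CompactSpace.elim_nhds_subcover (fun x => (U x : Set X))
    (fun x => (U x).isOpen.mem_nhds (hxU x))
  have hb : ∀ x : X, ∃ d : ℕ, ∀ (y : Y) (Ω : Type u) [Field Ω]
      (ι : Y.residueField y ⟶ CommRingCat.of Ω),
      Finite (GeomPts ((hU x).fromSpec ≫ f) y Ω ι) ∧
        Nat.card (GeomPts ((hU x).fromSpec ≫ f) y Ω ι) ≤ d := by
    intro x
    obtain ⟨d, hd⟩ := exists_bound_geomPts_spec (f.appLE (V x) (U x) (e x))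
      (f.finiteType_appLE (hV x) (hU x) (e x))
      (HasRingHomProperty.appLE (P := @LocallyQuasiFinite) f inferInstance ⟨V x, hV x⟩
        ⟨U x, hU x⟩ (e x))
    refine ⟨d, fun y Ω _ ι => ?_⟩
    have := hd Y (hV x).fromSpec y Ω ι
    rw [(hV x).SpecMap_appLE_fromSpec f (hU x) (e x)] at this
    exact this
  choose d hd using hb
  refine ⟨∑ x ∈ t, d x, fun y Ω _ ι => ?_⟩
  have hcover : (Set.univ : Set (GeomPts f y Ω ι)) =
      ⋃ x ∈ t, {σ : GeomPts f y Ω ι | (σ.pt).1 ∈ Set.range (hU x).fromSpec} := by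
    symm
    rw [Set.eq_univ_iff_forall]
    intro σ
    have h1 : (σ.pt).1 ∈ ⋃ x ∈ t, (U x : Set X) := by rw [ht]; trivial
    simp only [Set.mem_iUnion, exists_prop] at h1 ⊢
    obtain ⟨x, hxt, hx⟩ := h1
    refine ⟨x, hxt, ?_⟩
    show (σ.pt).1 ∈ Set.range (hU x).fromSpec
    rw [(hU x).range_fromSpec]
    exact hx
  have hpiece : ∀ x, {σ : GeomPts f y Ω ι | (σ.pt).1 ∈ Set.range (hU x).fromSpec}.Finite ∧
      {σ : GeomPts f y Ω ι | (σ.pt).1 ∈ Set.range (hU x).fromSpec}.ncard ≤ d x := by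
    intro x
    have eq := geomPtsOpenEquiv (hU x).fromSpec f y Ω ι
    obtain ⟨h1, h2⟩ := hd x y Ω ι
    have hfin : Finite ↥{σ : GeomPts f y Ω ι | (σ.pt).1 ∈ Set.range (hU x).fromSpec} :=
      Finite.of_equiv _ eq
    refine ⟨Set.finite_coe_iff.mp hfin, ?_⟩
    rw [← Nat.card_coe_set_eq]
    exact (Nat.card_congr eq.symm).trans_le h2
  have hfin : (Set.univ : Set (GeomPts f y Ω ι)).Finite := by
    rw [hcover]
    exact t.finite_toSet.biUnion fun x _ => (hpiece x).1
  refine ⟨Set.finite_univ_iff.mp hfin, ?_⟩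
  rw [← Set.ncard_univ, hcover]
  exact (Finset.set_ncard_biUnion_le t _).trans (Finset.sum_le_sum fun x _ => (hpiece x).2)

theorem part2 {X Y : Scheme.{u}} (f : X ⟶ Y) [LocallyQuasiFinite f] [LocallyOfFiniteType f]
    (hX : CompactSpace X) : ∃ d : ℕ, ∀ y : Y, MoreMor.nGeomConnComp f y ≤ d := by
  classical
  obtain ⟨d, hd⟩ := exists_bound_geomPts f
  refine ⟨d, fun y => ?_⟩
  let Ω := AlgebraicClosure (Y.residueField y)
  let ι : Y.residueField y ⟶ CommRingCat.of Ω :=
    CommRingCat.ofHom (algebraMap (Y.residueField y) Ω)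
  obtain ⟨h1, h2⟩ := hd y Ω ι
  have hfd := fun u : {u : X // f u = y} => finite_residueFieldMap f u.1
  have hfin : Finite {x : X // f x = y} := Finite.of_surjective _ (pt_surjective (ι := ι) hfd)
  letI : Fintype (GeomPts f y Ω ι) := Fintype.ofFinite _
  rw [nGeomConnComp_eq_fibreIntegral f y hfin, fibreIntegral_eq_finsum (ι := ι) hfin hfd,
    finsum_eq_sum_of_fintype, Finset.sum_const, Finset.card_univ, ← Nat.card_eq_fintype_card]
  simp only [nsmul_eq_mul, mul_one, Int.toNat_natCast]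
  exact_mod_cast h2

theorem S1415 {X Y : Scheme.{u}} (f : X ⟶ Y) [LocallyQuasiFinite f] [LocallyOfFiniteType f] :
    (∀ y : Y, MoreMor.nGeomIrredComp f y = MoreMor.nGeomConnComp f y) ∧
      (CompactSpace ↑X → ∃ d : ℕ, ∀ y : Y, MoreMor.nGeomConnComp f y ≤ d) :=
  ⟨part1 f, part2 f⟩

end Groth.Agent.Lib.lead.QfBound
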