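import Mathlib
import Groth.Agent.Lib.lead.GeomCount
import Groth.Prelude.Def_EGA43

set_option autoImplicit false
set_option linter.style.haveILetI false
set_option linter.unusedSectionVars false
universe u

namespace Groth.Agent.Lib.lead.QfCount

open AlgebraicGeometry CategoryTheory Limits IsLocalRing Groth.Agent.Lib.lead.WtA
  Groth.Agent.Lib.lead.WtB Groth.Agent.Lib.lead.WtC Groth.Agent.Lib.lead.WtD
  Groth.Agent.Lib.lead.WtE Groth.Agent.Lib.lead.WtF Groth.Agent.Lib.lead.WtG
  Groth.Agent.Lib.lead.WtI Groth.Agent.Lib.lead.WtJ Groth.Agent.Lib.lead.WtM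

variable {X Y : Scheme.{u}}

section

variable (f : X ⟶ Y) [LocallyQuasiFinite f] [LocallyOfFiniteType f] [IsSeparated f]
  (hfin : ∀ y : Y, (f ⁻¹' {y}).Finite)

include hfin in
/-- Étale local structure of a separated locally quasi-finite morphism with finite fibres
(no weighting involved). -/
theorem local_structure' (y : Y) :
    ∃ (W : Scheme.{u}) (g : W ⟶ Y) (w₀ : W) (_ : Etale g) (K : Type) (_ : Fintype K)
      (T : K → (pullback f g).Opens) (R : (pullback f g).Opens) (t : K → ↑(pullback f g)),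
      g w₀ = y ∧
      (∀ k, IsFinite ((T k).ι ≫ pullback.snd f g)) ∧
      (∀ u : ↑(pullback f g), u ∈ R ↔ ∀ k, u ∉ T k) ∧
      (∀ k k', ((T k : Set ↑(pullback f g)) ∩ (T k')).Nonempty → k = k') ∧
      (∀ k, t k ∈ T k ∧ pullback.snd f g (t k) = w₀ ∧
        (∀ z : ↑(pullback f g), z ∈ T k → pullback.snd f g z = w₀ → z = t k) ∧
        ((pullback.snd f g).residueFieldMap (t k)).hom.IsPurelyInseparable) ∧
      (∀ u : ↑(pullback f g), u ∈ R → pullback.snd f g u ≠ w₀) := by
  classical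
  haveI := (hfin y).to_subtype
  let e : Fin (Nat.card (f ⁻¹' {y})) ≃ (f ⁻¹' {y}) := (Finite.equivFin (f ⁻¹' {y})).symm
  obtain ⟨W, g, w₀, hg, hgw, J, hJ, V, v, hclopen, hdisj, hV, hall⟩ :=
    Groth.Agent.Lib.Helper19.PI12.main_pi_sep f y (fun i => (e i).1)
      (fun a b h => e.injective (Subtype.ext h)) (fun i => (e i).2) (fun i => f.quasiFiniteAt _)
  haveI := hg
  haveI := hJ
  letI : Fintype (Σ i, J i) := Fintype.ofFinite _
  let T : (Σ i, J i) → (pullback f g).Opens := fun k => V k.1 k.2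
  have hclosed : IsClosed (⋃ k, (T k : Set ↑(pullback f g))) :=
    isClosed_iUnion_of_finite fun k => (hclopen k.1 k.2).1
  let R : (pullback f g).Opens := ⟨(⋃ k, (T k : Set ↑(pullback f g)))ᶜ, hclosed.isOpen_compl⟩
  have hR : ∀ u : ↑(pullback f g), u ∈ R ↔ ∀ k, u ∉ T k := by
    intro u
    show u ∈ (⋃ k, (T k : Set ↑(pullback f g)))ᶜ ↔ _
    simp
  have hTdisj : ∀ k k', ((T k : Set ↑(pullback f g)) ∩ (T k')).Nonempty → k = k' := by
    rintro ⟨i, j⟩ ⟨i', j'⟩ h
    obtain ⟨h1, h2⟩ := hdisj i j i' j' h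
    exact Sigma.ext h1 h2
  refine ⟨W, g, w₀, hg, _, inferInstance, T, R, fun k => v k.1 k.2, hgw,
    fun k => (hV k.1 k.2).2.1, hR, hTdisj, ?_, ?_⟩
  · rintro ⟨i, j⟩
    obtain ⟨h1, h2, h3, h4, h5, h6⟩ := hV i j
    exact ⟨h1, h3, h4, h5⟩
  · intro u huR hu'
    have hfu : f (pullback.fst f g u) = y := by
      rw [← Scheme.Hom.comp_apply, pullback.condition, Scheme.Hom.comp_apply, hu', hgw]
    obtain ⟨j, hj⟩ := hall u (e.symm ⟨pullback.fst f g u, hfu⟩) hu'
      (by rw [Equiv.apply_symm_apply])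
    exact (hR u).mp huR ⟨_, j⟩ hj


/-- If over an open `N₀` of an étale neighbourhood `W` the base change is covered by finitely
many opens finite over `W`, then `f` is finite over the image of `N₀`. -/
theorem isFinite_restrict_of_cover {W : Scheme.{u}} (g : W ⟶ Y) [Etale g] {K : Type} [Fintype K]
    (T : K → (pullback f g).Opens) (hTfin : ∀ k, IsFinite ((T k).ι ≫ pullback.snd f g))
    (N₀ : Set W) (hN₀ : IsOpen N₀)
    (hcover : ∀ u : ↑(pullback f g), pullback.snd f g u ∈ N₀ → ∃ k, u ∈ T k) :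
    IsFinite (f ∣_ (⟨g '' N₀, g.isOpenMap _ hN₀⟩ : Y.Opens)) := by
  classical
  let N : W.Opens := ⟨N₀, hN₀⟩
  have hTc : ∀ k, IsClosed ((T k : (pullback f g).Opens) : Set ↑(pullback f g)) := fun k =>
    Groth.Agent.Lib.Helper19.QFL6.isClosed_of_finite (pullback.snd f g) (T k) (hTfin k)
  obtain ⟨-, hVVfin⟩ := Groth.Agent.Lib.Helper19.QFL6.finite_finsetSup (pullback.snd f g) T hTc
    hTfin Finset.univ
  haveI := hVVfin
  have hle : (pullback.snd f g) ⁻¹ᵁ N ≤ Finset.univ.sup T := by
    intro u hu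
    obtain ⟨k, hk⟩ := hcover u hu
    exact (Finset.le_sup (f := T) (Finset.mem_univ k)) hk
  haveI : IsFinite (pullback.snd f g ∣_ N) :=
    isFinite_restrict_of_le (pullback.snd f g) (Finset.univ.sup T) N hle
  exact isFinite_restrict_of_etale f g N _ rfl

/-- The geometric number of points of the fibre (as an integer). -/
noncomputable def cnt (y : Y) : ℤ := MoreMor.fibreIntegral f (fun _ => 1) y

include hfin in
/-- Key local statement: if `f` is universally open at all points of the fibre over `y`, then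
near `y` the count is at least the count at `y`, and `f` is finite over a neighbourhood of `y`
as soon as the count is locally constant at `y`. -/
theorem count_local (y : Y) (h : ∀ x : X, f x = y → EGA43.IsUnivOpenAt f x) :
    (∀ᶠ y' in nhds y, cnt f y ≤ cnt f y') ∧
    ((∀ᶠ y' in nhds y, cnt f y' = cnt f y) → ∃ O : Y.Opens, y ∈ O ∧ IsFinite (f ∣_ O)) := by
  classical
  obtain ⟨W, g, w₀, hg, K, hK, T, R, t, hgw, hTfin, hR, hTdisj, ht, hRw₀⟩ :=
    local_structure' f hfin y
  haveI := hg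
  have hc : IsPullback (pullback.fst f g) (pullback.snd f g) f g := IsPullback.of_hasPullback f g
  have hfibfin : ∀ n : W, Finite {u : ↑(pullback f g) // pullback.snd f g u = n} := fun n =>
    finite_fibre_baseChange hc n (hfin (g n)).to_subtype
  -- decomposition
  have hdecomp : ∀ n : W, cnt f (g n) =
      MoreMor.fibreIntegral (R.ι ≫ pullback.snd f g) (fun _ => 1) n +
        ∑ k, MoreMor.fibreIntegral ((T k).ι ≫ pullback.snd f g) (fun _ => 1) n := by
    intro n
    unfold cnt
    rw [← fibreIntegral_baseChange hc (fun _ => (1 : ℤ)) n (hfin (g n)).to_subtype]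
    exact fibreIntegral_eq_sum_add (pullback.snd f g) T R hTdisj hR _ n (hfibfin n)
  -- the pieces at `w₀`
  have hpiece₀ : ∀ k, MoreMor.fibreIntegral ((T k).ι ≫ pullback.snd f g) (fun _ => 1) w₀ = 1 := by
    intro k
    obtain ⟨h1, h2, h3, h4⟩ := ht k
    let t' : (T k).toScheme := ⟨t k, h1⟩
    exact fibreIntegral_of_unique_pi ((T k).ι ≫ pullback.snd f g) w₀ t' h2
      (fun z hz => Subtype.ext (h3 z.1 z.2 hz))
      (isPurelyInseparable_residueFieldMap_ι_comp _ (T k) t' h4) (fun _ => 1)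
  have hR₀ : MoreMor.fibreIntegral (R.ι ≫ pullback.snd f g) (fun _ => 1) w₀ = 0 := by
    haveI : IsEmpty {u : R.toScheme // (R.ι ≫ pullback.snd f g) u = w₀} :=
      ⟨fun u => hRw₀ u.1.1 u.1.2 u.2⟩
    exact finsum_of_isEmpty _
  have hcnt₀ : cnt f y = Fintype.card K := by
    have := hdecomp w₀
    rw [hgw, hR₀, zero_add] at this
    rw [this, Finset.sum_congr rfl (fun k _ => hpiece₀ k)]
    simp
  -- the pieces near `w₀`
  have hpiece : ∀ k, ∀ᶠ n in nhds w₀,
      1 ≤ MoreMor.fibreIntegral ((T k).ι ≫ pullback.snd f g) (fun _ => 1) n := by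
    intro k
    obtain ⟨h1, h2, h3, h4⟩ := ht k
    have hx : f (pullback.fst f g (t k)) = y := by
      rw [← Scheme.Hom.comp_apply, pullback.condition, Scheme.Hom.comp_apply, h2, hgw]
    have hopen := h _ hx W g (t k) rfl ((T k : Set ↑(pullback f g))) ((T k).2.mem_nhds h1)
    rw [h2] at hopen
    filter_upwards [hopen] with n hn
    obtain ⟨u, hu, rfl⟩ := hn
    haveI : IsFinite ((T k).ι ≫ pullback.snd f g) := hTfin k
    exact le_fibreIntegral ((T k).ι ≫ pullback.snd f g) (fun _ => 1) (fun _ => zero_le_one)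
      _ (finite_fibre_of_isFinite _ _) (⟨u, hu⟩ : (T k).toScheme) rfl
  have hall := Filter.eventually_all.mpr hpiece
  have hRnn : ∀ n, 0 ≤ MoreMor.fibreIntegral (R.ι ≫ pullback.snd f g) (fun _ => 1) n := fun n =>
    fibreIntegral_nonneg _ _ (fun _ => zero_le_one) n
  have hsumge : ∀ n, (∀ k, 1 ≤ MoreMor.fibreIntegral ((T k).ι ≫ pullback.snd f g)
      (fun _ => 1) n) → (Fintype.card K : ℤ) ≤
        ∑ k, MoreMor.fibreIntegral ((T k).ι ≫ pullback.snd f g) (fun _ => 1) n := by
    intro n hn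
    calc (Fintype.card K : ℤ) = ∑ _k : K, (1 : ℤ) := by simp
      _ ≤ _ := Finset.sum_le_sum fun k _ => hn k
  have hopenmap : IsOpenMap g := g.isOpenMap
  constructor
  · have himg := hopenmap.image_mem_nhds hall
    rw [hgw] at himg
    filter_upwards [himg] with y' hy'
    obtain ⟨n, hn, rfl⟩ := hy'
    rw [hcnt₀, hdecomp n]
    have := hsumge n hn
    have := hRnn n
    linarith
  · intro hconst
    have hpre : ∀ᶠ n in nhds w₀, cnt f (g n) = cnt f y := by
      have : Filter.Tendsto g (nhds w₀) (nhds y) := by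
        rw [← hgw]; exact g.continuous.continuousAt
      exact this.eventually hconst
    obtain ⟨N₀, hN₀sub, hN₀o, hw₀N⟩ := mem_nhds_iff.mp (Filter.inter_mem hall hpre)
    refine ⟨⟨g '' N₀, hopenmap _ hN₀o⟩, ⟨w₀, hw₀N, hgw⟩, ?_⟩
    refine isFinite_restrict_of_cover f g T hTfin N₀ hN₀o fun u hu => ?_
    by_contra hne
    push Not at hne
    have huR : u ∈ R := (hR u).mpr hne
    obtain ⟨h1, h2⟩ := hN₀sub hu
    have h1' : ∀ k, 1 ≤ MoreMor.fibreIntegral ((T k).ι ≫ pullback.snd f g)
      (fun _ => 1) (pullback.snd f g u) := h1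
    have h2' : cnt f (g (pullback.snd f g u)) = cnt f y := h2
    have h3 := hdecomp (pullback.snd f g u)
    have h4 := hsumge _ h1'
    have hle := le_fibreIntegral (R.ι ≫ pullback.snd f g) (fun _ => 1)
      (fun _ => zero_le_one) (pullback.snd f g u)
      (finite_fibre_comp_openImmersion R.ι (pullback.snd f g) _ (hfibfin _))
      (⟨u, huR⟩ : R.toScheme) rfl
    rw [h2', hcnt₀] at h3
    linarith

end

end Groth.Agent.Lib.lead.QfCount
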