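import Mathlib
import Groth.Agent.Lib.lead.QfCount

set_option autoImplicit false
set_option linter.style.haveILetI false
set_option linter.unusedSectionVars false
universe u

namespace Groth.Agent.Lib.lead.QfCountMain

open AlgebraicGeometry CategoryTheory Limits IsLocalRing Groth.Agent.Lib.lead.WtG
  Groth.Agent.Lib.lead.QfCount Groth.Agent.Lib.lead.GeomCount

variable {X Y : Scheme.{u}}

section

variable (f : X ⟶ Y) [IsSeparated f] [LocallyQuasiFinite f] [LocallyOfFiniteType f]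
  [QuasiCompact f]

theorem cnt_nonneg (y : Y) : 0 ≤ cnt f y :=
  fibreIntegral_nonneg f _ (fun _ => zero_le_one) y

theorem nGeom_eq (y : Y) : MoreMor.nGeomConnComp f y = ((cnt f y).toNat : ℕ∞) :=
  nGeomConnComp_eq_fibreIntegral f y (f.finite_preimage_singleton y).to_subtype

theorem nGeom_le_iff (y z : Y) :
    MoreMor.nGeomConnComp f y ≤ MoreMor.nGeomConnComp f z ↔ cnt f y ≤ cnt f z := by
  rw [nGeom_eq, nGeom_eq, Nat.cast_le]
  have h1 := cnt_nonneg f y
  have h2 := cnt_nonneg f z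
  omega

theorem nGeom_eq_iff (y z : Y) :
    MoreMor.nGeomConnComp f y = MoreMor.nGeomConnComp f z ↔ cnt f y = cnt f z := by
  rw [nGeom_eq, nGeom_eq, Nat.cast_inj]
  have h1 := cnt_nonneg f y
  have h2 := cnt_nonneg f z
  omega

theorem S3411 (y : Y) (h : ∀ x : X, f.base x = y → EGA43.IsUnivOpenAt f x) :
    ∃ V ∈ nhds y, ∀ z ∈ V, MoreMor.nGeomConnComp f y ≤ MoreMor.nGeomConnComp f z := by
  have h1 := (count_local f (fun y => f.finite_preimage_singleton y) y (fun x hx => h x hx)).1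
  refine ⟨_, h1, fun z hz => ?_⟩
  rw [nGeom_le_iff]
  exact hz

theorem S3412 (y : Y) (h : ∀ x : X, f.base x = y → EGA43.IsUnivOpenAt f x)
    (hc : ∃ V ∈ nhds y, ∀ z ∈ V, MoreMor.nGeomConnComp f z = MoreMor.nGeomConnComp f y) :
    ∃ U : Y.Opens, y ∈ U ∧ IsProper (f ∣_ U) := by
  have h2 := (count_local f (fun y => f.finite_preimage_singleton y) y (fun x hx => h x hx)).2
  obtain ⟨V, hV, hVc⟩ := hc
  have hev : ∀ᶠ y' in nhds y, cnt f y' = cnt f y := by
    filter_upwards [hV] with z hz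
    exact (nGeom_eq_iff f z y).mp (hVc z hz)
  obtain ⟨O, hyO, hO⟩ := h2 hev
  exact ⟨O, hyO, inferInstance⟩

end

theorem isUnivOpenAt_of_universallyOpen (f : X ⟶ Y) [UniversallyOpen f] (x : X) :
    EGA43.IsUnivOpenAt f x := by
  intro Y' g x' _ U hU
  exact (pullback.snd f g).isOpenMap.image_mem_nhds hU

theorem S3418 (f : X ⟶ Y) [Flat f]
    [LocallyOfFinitePresentation f] [IsSeparated f] [LocallyQuasiFinite f] [QuasiCompact f] :
    LowerSemicontinuous (fun z : Y => MoreMor.nGeomConnComp f z) ∧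
      ∀ y₀ : Y, (∃ V ∈ nhds y₀, ∀ z ∈ V, MoreMor.nGeomConnComp f z = MoreMor.nGeomConnComp f y₀) →
        ∃ U : Y.Opens, y₀ ∈ U ∧ IsProper (f ∣_ U) := by
  refine ⟨fun y c hc => ?_, fun y₀ h0 => ?_⟩
  · obtain ⟨V, hV, hVle⟩ := S3411 f y (fun x _ => isUnivOpenAt_of_universallyOpen f x)
    filter_upwards [hV] with z hz
    exact lt_of_lt_of_le hc (hVle z hz)
  · exact S3412 f y₀ (fun x _ => isUnivOpenAt_of_universallyOpen f x) h0

end Groth.Agent.Lib.lead.QfCountMain
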