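import Mathlib
import Groth.Agent.Lib.lead.StdWt
import Groth.Agent.Lib.lead.QfCountMain
import Groth.Agent.Lib.lead.QfBound

set_option autoImplicit false
set_option linter.style.haveILetI false
set_option linter.unusedSectionVars false
universe u

namespace Groth.Agent.Lib.lead.EtCount

open AlgebraicGeometry CategoryTheory Limits IsLocalRing Groth.Agent.Lib.lead.WtA
  Groth.Agent.Lib.lead.WtB Groth.Agent.Lib.lead.WtM Groth.Agent.Lib.Helper18.CycPull
  Groth.Agent.Lib.lead.StdWt Groth.Agent.Lib.lead.QfCount Groth.Agent.Lib.lead.QfCountMain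
  Groth.Agent.Lib.lead.QfBound Groth.Agent.Lib.lead.GeomCount

variable {X Y : Scheme.{u}}

theorem stdw_eq_one_of_etale (π : X ⟶ Y) [Etale π] (u : X) : stdw π u = 1 := by
  unfold stdw
  rw [fibLen_eq_one_of_unramified π u, ideg_eq_one_of_unramified π u]
  simp

/-- For a finite étale morphism the number of geometric points of a fibre is the degree. -/
theorem cnt_eq_finrank (π : X ⟶ Y) [IsFinite π] [Etale π] (v : Y) :
    cnt π v = (π.finrank v : ℤ) := by
  rw [← fibreIntegral_stdw_eq_finrank π v]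
  unfold cnt
  congr 1
  funext u
  exact (stdw_eq_one_of_etale π u).symm

theorem enatCard_geomFiber (f : X ⟶ Y) [LocallyQuasiFinite f] (y : Y) :
    ENat.card ↥(MoreMor.geomFiber f y) = MoreMor.nGeomConnComp f y := by
  haveI := discrete_geomFiber f y
  unfold MoreMor.nGeomConnComp
  rw [enatCard_connectedComponents]

section

variable (f : X ⟶ Y) [Etale f] [IsSeparated f] [LocallyOfFiniteType f] [QuasiCompact f]

theorem S5051 : LowerSemicontinuous (fun y : Y => ENat.card ↥(MoreMor.geomFiber f y)) := by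
  haveI := locallyQuasiFinite_of_etale f
  have h : (fun y : Y => ENat.card ↥(MoreMor.geomFiber f y)) =
      fun y => MoreMor.nGeomConnComp f y := funext (enatCard_geomFiber f)
  rw [h]
  exact (QfCountMain.S3418 f).1

/-- The count is unchanged by restricting to an open of the base. -/
theorem nGeom_restrict (U : Y.Opens) (y : U) :
    MoreMor.nGeomConnComp (f ∣_ U) y = MoreMor.nGeomConnComp f y.1 :=
  Groth.Agent.Lib.Helper18.GeomFib.nGeomConnComp_eq f (f ∣_ U) (f ⁻¹ᵁ U).ι U.ι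
    (isPullback_morphismRestrict f U).flip y

theorem finite_restrict_iff_const (y : Y) :
    (∃ V ∈ nhds y, ∀ z ∈ V, MoreMor.nGeomConnComp f z = MoreMor.nGeomConnComp f y) ↔
      ∃ U : Y.Opens, y ∈ U ∧ IsFinite (f ∣_ U) := by
  haveI := locallyQuasiFinite_of_etale f
  constructor
  · intro h
    obtain ⟨U, hyU, hU⟩ := (QfCountMain.S3418 f).2 y h
    exact ⟨U, hyU, IsFinite.of_isProper_of_locallyQuasiFinite _⟩
  · rintro ⟨U, hyU, hU⟩
    have hlc : IsLocallyConstant (fun z : U => ((f ∣_ U).finrank z)) :=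
      Scheme.Hom.isLocallyConstant_finrank (f ∣_ U)
    have hcnt : ∀ z : U, MoreMor.nGeomConnComp f z.1 = (((f ∣_ U).finrank z : ℕ) : ℕ∞) := by
      intro z
      rw [← nGeom_restrict f U z, nGeom_eq (f ∣_ U) z, cnt_eq_finrank, Int.toNat_natCast]
    have hopen := hlc.isOpen_fiber ((f ∣_ U).finrank ⟨y, hyU⟩)
    have hopen' : IsOpen (Subtype.val '' {z : U | (f ∣_ U).finrank z = (f ∣_ U).finrank ⟨y, hyU⟩}) :=
      U.2.isOpenMap_subtype_val _ hopen
    refine ⟨_, hopen'.mem_nhds ⟨⟨y, hyU⟩, rfl, rfl⟩, ?_⟩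
    rintro _ ⟨z, hz, rfl⟩
    rw [hcnt z, hcnt ⟨y, hyU⟩, hz]

theorem S5052 (y : Y) :
    (∃ U : Y.Opens, y ∈ U ∧ ∀ y' : Y, y' ∈ U →
        ENat.card ↥(MoreMor.geomFiber f y') = ENat.card ↥(MoreMor.geomFiber f y)) ↔
      ∃ U : Y.Opens, y ∈ U ∧ IsFinite (f ∣_ U) := by
  haveI := locallyQuasiFinite_of_etale f
  rw [← finite_restrict_iff_const f y]
  simp_rw [enatCard_geomFiber f]
  constructor
  · rintro ⟨U, hyU, hU⟩
    exact ⟨U, U.2.mem_nhds hyU, hU⟩
  · rintro ⟨V, hV, hVc⟩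
    obtain ⟨W, hWV, hW, hyW⟩ := mem_nhds_iff.mp hV
    exact ⟨⟨W, hW⟩, hyW, fun y' hy' => hVc y' (hWV hy')⟩

theorem S5053 [ConnectedSpace ↥Y] :
    IsFinite f ↔ ∃ n : ℕ∞, ∀ y : Y, ENat.card ↥(MoreMor.geomFiber f y) = n := by
  haveI := locallyQuasiFinite_of_etale f
  simp_rw [enatCard_geomFiber f]
  constructor
  · intro hfin
    have hlc : IsLocallyConstant (fun z : Y => f.finrank z) :=
      Scheme.Hom.isLocallyConstant_finrank f
    obtain ⟨y₀⟩ : Nonempty Y := inferInstance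
    refine ⟨MoreMor.nGeomConnComp f y₀, fun y => ?_⟩
    rw [nGeom_eq f y, nGeom_eq f y₀, cnt_eq_finrank, cnt_eq_finrank,
      hlc.apply_eq_of_preconnectedSpace y y₀]
  · rintro ⟨n, hn⟩
    have hloc : ∀ y : Y, ∃ U : Y.Opens, y ∈ U ∧ IsFinite (f ∣_ U) := fun y =>
      (finite_restrict_iff_const f y).mp ⟨Set.univ, Filter.univ_mem, fun z _ => by rw [hn, hn]⟩
    choose U hyU hU using hloc
    exact IsZariskiLocalAtTarget.of_iSup_eq_top (P := @IsFinite) U
      (top_le_iff.mp fun y _ => TopologicalSpace.Opens.mem_iSup.mpr ⟨y, hyU y⟩) hU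

end

end Groth.Agent.Lib.lead.EtCount
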