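import Mathlib
import Groth.Agent.Lib.lead.QfBound

set_option autoImplicit false
set_option linter.style.haveILetI false
set_option linter.unusedSectionVars false
universe u

namespace Groth.Agent.Lib.lead.DvrCountA

open AlgebraicGeometry CategoryTheory Limits IsLocalRing Groth.Agent.Lib.lead.WtA
  Groth.Agent.Lib.lead.WtB Groth.Agent.Lib.lead.WtC Groth.Agent.Lib.lead.GeomCount

/-! ### Field lemma -/

section field

variable {k E Ω Ωb : Type*} [Field k] [Field E] [Field Ω] [Field Ωb] [Algebra k E] [Algebra k Ω]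
  [Algebra Ω Ωb] [Algebra k Ωb] [IsScalarTower k Ω Ωb] [Module.Finite k E]

open Polynomial in
/-- The product of the minimal polynomials of a basis. -/
noncomputable def splitPoly (k E : Type*) [Field k] [Field E] [Algebra k E] [Module.Finite k E] :
    k[X] :=
  ∏ i, minpoly k (Module.finBasis k E i)

open Polynomial in
theorem splitPoly_monic : (splitPoly k E).Monic :=
  monic_prod_of_monic _ _ fun i _ => minpoly.monic (Algebra.IsIntegral.isIntegral _)

open Polynomial in
theorem mem_range_of_splits (hs : ((splitPoly k E).map (algebraMap k Ω)).Splits)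
    (φ : E →ₐ[k] Ωb) (e : E) : φ e ∈ (algebraMap Ω Ωb).range := by
  have hb : ∀ i, φ (Module.finBasis k E i) ∈ (algebraMap Ω Ωb).range := by
    intro i
    have hdvd : minpoly k (Module.finBasis k E i) ∣ splitPoly k E :=
      Finset.dvd_prod_of_mem _ (Finset.mem_univ i)
    have hs' : ((minpoly k (Module.finBasis k E i)).map (algebraMap k Ω)).Splits :=
      hs.of_dvd (Polynomial.map_ne_zero splitPoly_monic.ne_zero) (Polynomial.map_dvd _ hdvd)
    have hne : (minpoly k (Module.finBasis k E i)).map (algebraMap k Ω) ≠ 0 :=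
      Polynomial.map_ne_zero (minpoly.ne_zero (Algebra.IsIntegral.isIntegral _))
    refine hs'.mem_range_of_isRoot hne (i := algebraMap Ω Ωb) ?_
    rw [Polynomial.IsRoot.def, Polynomial.map_map, ← IsScalarTower.algebraMap_eq,
      Polynomial.eval_map, ← Polynomial.aeval_def, Polynomial.aeval_algHom_apply, minpoly.aeval,
      map_zero]
  have hrepr := (Module.finBasis k E).sum_repr e
  rw [← hrepr, map_sum]
  refine Subring.sum_mem _ fun i _ => ?_
  rw [map_smul, Algebra.smul_def]
  refine Subring.mul_mem _ ?_ (hb i)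
  rw [IsScalarTower.algebraMap_apply k Ω Ωb]
  exact ⟨_, rfl⟩

end field

/-! ### Counting points of a fibre of a base change -/

section count

variable {X Y X' T : Scheme.{u}} {π : X ⟶ Y} {π' : X' ⟶ T} {h : X' ⟶ X} {g : T ⟶ Y}

/-- The hypothesis that all geometric points of the fibre of `π` over `g t` are defined over
`κ(t)`. -/
def AllRational (π : X ⟶ Y) (g : T ⟶ Y) (t : T) : Prop :=
  ∀ (x : X) (hx : π x = g t) (φb : X.residueField x ⟶
      CommRingCat.of (AlgebraicClosure (T.residueField t))),
    π.residueFieldMap x ≫ φb = (Y.residueFieldCongr hx).hom ≫ g.residueFieldMap t ≫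
      CommRingCat.ofHom (algebraMap (T.residueField t) (AlgebraicClosure (T.residueField t))) →
    ∃ φ : X.residueField x ⟶ T.residueField t, φb = φ ≫
      CommRingCat.ofHom (algebraMap (T.residueField t) (AlgebraicClosure (T.residueField t)))

theorem pt_injective_of_allRational [LocallyQuasiFinite π] (hc : IsPullback h π' π g) (t : T)
    (hH : AllRational π g t) :
    Function.Injective (fun σ : GeomPts π' t (AlgebraicClosure (T.residueField t))
      (CommRingCat.ofHom (algebraMap (T.residueField t) (AlgebraicClosure (T.residueField t)))) =>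
        σ.pt) := by
  set Ωb := AlgebraicClosure (T.residueField t) with hΩb
  set c : T.residueField t ⟶ CommRingCat.of Ωb :=
    CommRingCat.ofHom (algebraMap (T.residueField t) Ωb) with hcdef
  intro σ₁ σ₂ hpt
  set u' : {x' : X' // π' x' = t} := σ₁.pt with hu'
  have hpt2 : σ₂.pt = u' := hpt.symm
  obtain ⟨ψ₁, hψ₁⟩ := (Emb.toGeomPts_bijective (ι := c) u').2 ⟨σ₁, rfl⟩
  obtain ⟨ψ₂, hψ₂⟩ := (Emb.toGeomPts_bijective (ι := c) u').2 ⟨σ₂, hpt2⟩
  have e1 : Spec.map ψ₁.1 ≫ X'.fromSpecResidueField u'.1 = σ₁.1 :=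
    congrArg (fun s => s.1.1) hψ₁
  have e2 : Spec.map ψ₂.1 ≫ X'.fromSpecResidueField u'.1 = σ₂.1 :=
    congrArg (fun s => s.1.1) hψ₂
  have hx : π (h u'.1) = g t := by
    rw [← Scheme.Hom.comp_apply, hc.w, Scheme.Hom.comp_apply, u'.2]
  let u : {x : X // π x = g t} := ⟨h u'.1, hx⟩
  let E := geomPtsEquiv hc t Ωb c
  have hE1 : (E σ₁).pt = u := Subtype.ext (geomPtsEquiv_pt hc t Ωb c σ₁)
  have hE2 : (E σ₂).pt = u := by
    apply Subtype.ext
    rw [geomPtsEquiv_pt hc t Ωb c σ₂, hpt2]
  obtain ⟨φb₁, hφb₁⟩ := (Emb.toGeomPts_bijective (ι := g.residueFieldMap t ≫ c) u).2 ⟨E σ₁, hE1⟩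
  obtain ⟨φb₂, hφb₂⟩ := (Emb.toGeomPts_bijective (ι := g.residueFieldMap t ≫ c) u).2 ⟨E σ₂, hE2⟩
  have f1 : Spec.map φb₁.1 ≫ X.fromSpecResidueField u.1 = σ₁.1 ≫ h :=
    congrArg (fun s => s.1.1) hφb₁
  have f2 : Spec.map φb₂.1 ≫ X.fromSpecResidueField u.1 = σ₂.1 ≫ h :=
    congrArg (fun s => s.1.1) hφb₂
  have r1 : φb₁.1 = h.residueFieldMap u'.1 ≫ ψ₁.1 := by
    apply specMap_fromSpecResidueField_inj (h u'.1)
    rw [f1, ← e1, Spec.map_comp_assoc, Category.assoc,
      Scheme.Hom.SpecMap_residueFieldMap_fromSpecResidueField]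
  have r2 : φb₂.1 = h.residueFieldMap u'.1 ≫ ψ₂.1 := by
    apply specMap_fromSpecResidueField_inj (h u'.1)
    rw [f2, ← e2, Spec.map_comp_assoc, Category.assoc,
      Scheme.Hom.SpecMap_residueFieldMap_fromSpecResidueField]
  obtain ⟨φ₁, hφ₁⟩ := hH u.1 u.2 φb₁.1 φb₁.2
  obtain ⟨φ₂, hφ₂⟩ := hH u.1 u.2 φb₂.1 φb₂.2
  have hc1 : c = (T.residueFieldCongr u'.2).inv ≫ π'.residueFieldMap u'.1 ≫ ψ₁.1 := by
    rw [ψ₁.2, Iso.inv_hom_id_assoc]
  have hc2 : c = (T.residueFieldCongr u'.2).inv ≫ π'.residueFieldMap u'.1 ≫ ψ₂.1 := by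
    rw [ψ₂.2, Iso.inv_hom_id_assoc]
  haveI m1 : Mono ψ₁.1 := ConcreteCategory.mono_of_injective _ ψ₁.1.hom.injective
  haveI m2 : Mono ψ₂.1 := ConcreteCategory.mono_of_injective _ ψ₂.1.hom.injective
  haveI m3 : Mono ((T.residueFieldCongr u'.2).inv ≫ π'.residueFieldMap u'.1) :=
    ConcreteCategory.mono_of_injective _
      ((T.residueFieldCongr u'.2).inv ≫ π'.residueFieldMap u'.1).hom.injective
  have k1 : φ₁ ≫ (T.residueFieldCongr u'.2).inv ≫ π'.residueFieldMap u'.1 =
      h.residueFieldMap u'.1 := by
    rw [← cancel_mono ψ₁.1, Category.assoc, Category.assoc, ← hc1, ← hφ₁, r1]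
  have k2 : φ₂ ≫ (T.residueFieldCongr u'.2).inv ≫ π'.residueFieldMap u'.1 =
      h.residueFieldMap u'.1 := by
    rw [← cancel_mono ψ₂.1, Category.assoc, Category.assoc, ← hc2, ← hφ₂, r2]
  have hφ : φ₁ = φ₂ := by
    rw [← cancel_mono ((T.residueFieldCongr u'.2).inv ≫ π'.residueFieldMap u'.1), k1, k2]
  have hφb : φb₁ = φb₂ := Subtype.ext (by rw [hφ₁, hφ₂, hφ])
  have hEσ : E σ₁ = E σ₂ := by
    have := hφb₁.symm.trans ((congrArg (Emb.toGeomPts u) hφb).trans hφb₂)
    exact congrArg Subtype.val this
  exact E.injective hEσ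

/-- If all geometric points of the fibre over `g t` are `κ(t)`-rational, the fibre of the base
change over `t` has exactly as many points as the geometric fibre. -/
theorem card_fiber_eq_nGeom (f : X ⟶ Y) [LocallyQuasiFinite f] (g : T ⟶ Y) (t : T)
    (hfin : Finite {x : X // f x = g t}) (hH : AllRational f g t) :
    ENat.card ↥((pullback.snd f g).fiber t) = MoreMor.nGeomConnComp f (g t) := by
  classical
  have hc := IsPullback.of_hasPullback f g
  set Ωb := AlgebraicClosure (T.residueField t) with hΩb
  set c : T.residueField t ⟶ CommRingCat.of Ωb :=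
    CommRingCat.ofHom (algebraMap (T.residueField t) Ωb) with hcdef
  have hfd := fun u : {u : X // f u = g t} => finite_residueFieldMap f u.1
  haveI hfinG : Finite (GeomPts f (g t) Ωb (g.residueFieldMap t ≫ c)) :=
    finite_geomPts hfin hfd
  let E := geomPtsEquiv hc t Ωb c
  haveI : Finite (GeomPts (pullback.snd f g) t Ωb c) := Finite.of_equiv _ E.symm
  have hbij : Function.Bijective (fun σ : GeomPts (pullback.snd f g) t Ωb c => σ.pt) :=
    ⟨pt_injective_of_allRational hc t hH,
      pt_surjective (ι := c) (fun u => finite_residueFieldMap (pullback.snd f g) u.1)⟩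
  have h1 : ENat.card ↥((pullback.snd f g).fiber t) =
      ENat.card (GeomPts f (g t) Ωb (g.residueFieldMap t ≫ c)) := by
    rw [ENat.card_congr ((pullback.snd f g).fiberHomeo t).toEquiv]
    exact (ENat.card_congr ((Equiv.ofBijective _ hbij).symm.trans E))
  letI : Fintype (GeomPts f (g t) Ωb (g.residueFieldMap t ≫ c)) := Fintype.ofFinite _
  rw [h1, nGeomConnComp_eq_fibreIntegral f (g t) hfin,
    fibreIntegral_eq_finsum (ι := g.residueFieldMap t ≫ c) hfin hfd,
    finsum_eq_sum_of_fintype, Finset.sum_const, Finset.card_univ, ← Nat.card_eq_fintype_card]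
  simp only [nsmul_eq_mul, mul_one, Int.toNat_natCast]
  exact ENat.card_eq_coe_natCard _

end count

section poly

open Polynomial

variable {X Y : Scheme.{u}}

/-- The splitting polynomial of the residue field extension at `x`. -/
noncomputable def fibPoly (f : X ⟶ Y) [LocallyQuasiFinite f] (x : X) :
    Polynomial (Y.residueField (f x)) :=
  letI := (f.residueFieldMap x).hom.toAlgebra
  haveI : Module.Finite (Y.residueField (f x)) (X.residueField x) := finite_residueFieldMap f x
  splitPoly (Y.residueField (f x)) (X.residueField x)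

theorem fibPoly_monic (f : X ⟶ Y) [LocallyQuasiFinite f] (x : X) : (fibPoly f x).Monic := by
  letI := (f.residueFieldMap x).hom.toAlgebra
  haveI : Module.Finite (Y.residueField (f x)) (X.residueField x) := finite_residueFieldMap f x
  exact splitPoly_monic

/-- A polynomial over `κ(y)` whose splitting in `κ(t)` forces all geometric points of the fibre
over `y` to be `κ(t)`-rational. -/
theorem exists_poly (f : X ⟶ Y) [LocallyQuasiFinite f] (y : Y)
    (hfin : Finite {x : X // f x = y}) :
    ∃ P : Polynomial (Y.residueField y), P.Monic ∧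
      ∀ (T : Scheme.{u}) (g : T ⟶ Y) (t : T) (hgt : g t = y),
        (P.map ((Y.residueFieldCongr hgt).inv ≫ g.residueFieldMap t).hom).Splits →
          AllRational f g t := by
  classical
  letI : Fintype {x : X // f x = y} := Fintype.ofFinite _
  obtain ⟨Px, hPxdef⟩ : ∃ Px : ∀ x : X, Polynomial (Y.residueField (f x)), ∀ x, Px x = fibPoly f x :=
    ⟨_, fun _ => rfl⟩
  have hPx : ∀ x, (Px x).Monic := fun x => hPxdef x ▸ fibPoly_monic f x
  refine ⟨∏ x : {x : X // f x = y}, (Px x.1).map (Y.residueFieldCongr x.2).hom.hom,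
    monic_prod_of_monic _ _ fun x _ => (hPx x.1).map _, ?_⟩
  intro T g t hgt hs x hx φb hφb
  have hx' : f x = y := hx.trans hgt
  letI a1 : Algebra (Y.residueField (f x)) (X.residueField x) := (f.residueFieldMap x).hom.toAlgebra
  haveI : Module.Finite (Y.residueField (f x)) (X.residueField x) := finite_residueFieldMap f x
  letI a2 : Algebra (Y.residueField (f x)) (T.residueField t) :=
    ((Y.residueFieldCongr hx).hom ≫ g.residueFieldMap t).hom.toAlgebra
  -- the splitting
  have hsx : ((splitPoly (Y.residueField (f x)) (X.residueField x)).map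
      (algebraMap (Y.residueField (f x)) (T.residueField t))).Splits := by
    have hPxx : Px x = splitPoly (Y.residueField (f x)) (X.residueField x) := hPxdef x
    rw [← hPxx]
    have hdvd := Finset.dvd_prod_of_mem (fun x : {x : X // f x = y} =>
        (Px x.1).map (Y.residueFieldCongr x.2).hom.hom)
        (Finset.mem_univ (⟨x, hx'⟩ : {x : X // f x = y}))
    have h1 := hs.of_dvd (Polynomial.map_ne_zero
      (monic_prod_of_monic _ _ fun x _ => (hPx x.1).map _).ne_zero) (Polynomial.map_dvd _ hdvd)
    rw [Polynomial.map_map] at h1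
    have h2 : ((Y.residueFieldCongr hgt).inv ≫ g.residueFieldMap t).hom.comp
        (Y.residueFieldCongr hx').hom.hom =
        ((Y.residueFieldCongr hx).hom ≫ g.residueFieldMap t).hom := by
      rw [← CommRingCat.hom_comp, ← Category.assoc, Scheme.residueFieldCongr_inv,
        Scheme.residueFieldCongr_trans_hom]
    rw [h2] at h1
    exact h1
  let φA : X.residueField x →ₐ[Y.residueField (f x)] AlgebraicClosure (T.residueField t) :=
    { φb.hom with
      commutes' := fun r => by
        have := congrArg (fun m => m.hom r) hφb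
        simp only [CommRingCat.hom_comp, RingHom.comp_apply, CommRingCat.hom_ofHom] at this
        rw [IsScalarTower.algebraMap_apply (Y.residueField (f x)) (T.residueField t)
          (AlgebraicClosure (T.residueField t))]
        exact this }
  have hmem : ∀ e : X.residueField x, φb.hom e ∈
      (algebraMap (T.residueField t) (AlgebraicClosure (T.residueField t))).range :=
    fun e => mem_range_of_splits hsx φA e
  set c := algebraMap (T.residueField t) (AlgebraicClosure (T.residueField t)) with hc
  have hcinj : Function.Injective c := c.injective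
  let ec : T.residueField t ≃+* c.range := RingEquiv.ofBijective c.rangeRestrict
    ⟨fun a b hab => hcinj (congrArg Subtype.val hab), c.rangeRestrict_surjective⟩
  let φ' : X.residueField x →+* T.residueField t :=
    ec.symm.toRingHom.comp (φb.hom.codRestrict c.range hmem)
  refine ⟨CommRingCat.ofHom φ', ?_⟩
  ext e
  show φb.hom e = c (φ' e)
  have : (ec (φ' e) : AlgebraicClosure (T.residueField t)) = φb.hom e := by
    show (ec (ec.symm _) : AlgebraicClosure (T.residueField t)) = _
    rw [RingEquiv.apply_symm_apply]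
    rfl
  exact this.symm

end poly

end Groth.Agent.Lib.lead.DvrCountA
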