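import Mathlib
import Groth.Agent.Lib.lead.DvrCountA
import Groth.Agent.S4450

set_option autoImplicit false
set_option linter.style.haveILetI false
set_option linter.unusedSectionVars false
universe u

namespace Groth.Agent.Lib.lead.DvrCountB

open AlgebraicGeometry CategoryTheory Limits IsLocalRing Groth.Agent.Lib.lead.WtA
  Groth.Agent.Lib.lead.WtB Groth.Agent.Lib.lead.DvrCountA Polynomial

variable {Y : Scheme.{u}}

/-- The kernel of `O_{Y,y} → κ(y')` is not the maximal ideal when `y' ≠ y`. -/
theorem ker_ne_maximalIdeal {y y' : Y} (hgen : y' ⤳ y) (hne : y' ≠ y) :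
    RingHom.ker (Y.presheaf.stalkSpecializes hgen ≫ Y.residue y').hom ≠
      maximalIdeal (Y.presheaf.stalk y) := by
  intro hker
  apply hne
  have h1 : (maximalIdeal (Y.presheaf.stalk y')).comap
      (Y.presheaf.stalkSpecializes hgen).hom = maximalIdeal (Y.presheaf.stalk y) := by
    rw [← hker]
    ext a
    rw [Ideal.mem_comap, RingHom.mem_ker]
    simp only [CommRingCat.hom_comp, RingHom.comp_apply]
    change _ ↔ IsLocalRing.residue _ _ = 0
    rw [IsLocalRing.residue_eq_zero_iff]
  have h2 : (Spec.map (Y.presheaf.stalkSpecializes hgen)).base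
      (closedPoint (Y.presheaf.stalk y')) = closedPoint (Y.presheaf.stalk y) := by
    apply PrimeSpectrum.ext
    exact h1
  have h3 := Y.fromSpecStalk_closedPoint (x := y)
  rw [← h2, ← Scheme.Hom.comp_apply, Scheme.SpecMap_stalkSpecializes_fromSpecStalk,
    Y.fromSpecStalk_closedPoint] at h3
  exact h3

/-- A discrete valuation ring of a finite extension `L` of `κ(y')` dominating `O_{Y,y}`. -/
theorem exists_dvr_data [IsLocallyNoetherian Y] {y y' : Y} (hgen : y' ⤳ y) (hne : y' ≠ y)
    (L : Type u) [Field L] [Algebra (Y.residueField y') L]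
    [FiniteDimensional (Y.residueField y') L] :
    ∃ (R : ValuationSubring L) (toR : Y.presheaf.stalk y ⟶ CommRingCat.of R),
      IsDiscreteValuationRing R ∧ IsLocalHom toR.hom ∧
      toR ≫ CommRingCat.ofHom R.subtype = Y.presheaf.stalkSpecializes hgen ≫ Y.residue y' ≫
        CommRingCat.ofHom (algebraMap (Y.residueField y') L) := by
  let ψ : Y.presheaf.stalk y ⟶ CommRingCat.of L :=
    Y.presheaf.stalkSpecializes hgen ≫ Y.residue y' ≫
      CommRingCat.ofHom (algebraMap (Y.residueField y') L)
  have hess : ψ.hom.EssFiniteType := by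
    have h1 := Groth.Agent.S4450.stalkSpecializes_essFiniteType hgen
    have h3 : (Y.residue y').hom.EssFiniteType := by
      apply RingHom.FiniteType.essFiniteType
      apply RingHom.FiniteType.of_surjective
      exact IsLocalRing.residue_surjective
    have h4 : (algebraMap (Y.residueField y') L).EssFiniteType := by
      apply RingHom.FiniteType.essFiniteType
      apply RingHom.Finite.finiteType
      exact RingHom.finite_algebraMap.mpr inferInstance
    exact h1.comp (h3.comp h4)
  obtain ⟨T, hT⟩ := Groth.Agent.S4450.exists_finset_closure_of_essFiniteType ψ.hom hess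
  have hker : RingHom.ker ψ.hom ≠ maximalIdeal (Y.presheaf.stalk y) := by
    have h0 := ker_ne_maximalIdeal hgen hne
    intro h
    apply h0
    rw [← h]
    ext a
    simp only [RingHom.mem_ker, ψ, CommRingCat.hom_comp, RingHom.comp_apply]
    constructor
    · intro ha
      show algebraMap (Y.residueField y') L _ = 0
      rw [ha, map_zero]
    · intro ha
      exact (algebraMap (Y.residueField y') L).injective (ha.trans (map_zero _).symm)
  obtain ⟨R, hR, hRmem, hRlt⟩ := Groth.Agent.Lib.Helper13.Dvr.exists_dvr_dominating_ringHom _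
    ψ.hom hker T hT
  have hlocal : IsLocalHom (ψ.hom.codRestrict R.toSubring hRmem) := by
    constructor
    intro a ha
    by_contra hnu
    have h1 : a ∈ maximalIdeal (Y.presheaf.stalk y) := (IsLocalRing.mem_maximalIdeal _).mpr hnu
    have h2 := hRlt a h1
    have h3 := (R.valuation_lt_one_iff ⟨ψ.hom a, hRmem a⟩).mpr h2
    exact (IsLocalRing.mem_maximalIdeal _).mp h3 ha
  exact ⟨R, CommRingCat.ofHom (ψ.hom.codRestrict R.toSubring hRmem), hR, hlocal, rfl⟩

section data

variable {y y' : Y} (hgen : y' ⤳ y) {L : Type u} [Field L] [Algebra (Y.residueField y') L]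
  (R : ValuationSubring L) (toR : Y.presheaf.stalk y ⟶ CommRingCat.of R)
  (hcomp : toR ≫ CommRingCat.ofHom R.subtype = Y.presheaf.stalkSpecializes hgen ≫ Y.residue y' ≫
        CommRingCat.ofHom (algebraMap (Y.residueField y') L))

/-- The morphism from the spectrum of the valuation ring. -/
noncomputable abbrev gmap : Spec (CommRingCat.of R) ⟶ Y := Spec.map toR ≫ Y.fromSpecStalk y

theorem gmap_closedPoint [IsLocalHom toR.hom] : (gmap R toR) (closedPoint R) = y := by
  have : Spec.map toR (closedPoint R) = closedPoint (Y.presheaf.stalk y) :=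
    IsLocalRing.comap_closedPoint (S := R) toR.hom
  show (Spec.map toR ≫ Y.fromSpecStalk y) (closedPoint R) = y
  rw [Scheme.Hom.comp_apply, this, Y.fromSpecStalk_closedPoint]

include hcomp in
theorem specMap_subtype_gmap :
    Spec.map (CommRingCat.ofHom R.subtype) ≫ gmap R toR =
      Spec.map (CommRingCat.ofHom (algebraMap (Y.residueField y') L)) ≫
        Y.fromSpecResidueField y' := by
  calc Spec.map (CommRingCat.ofHom R.subtype) ≫ (Spec.map toR ≫ Y.fromSpecStalk y)
      = Spec.map (toR ≫ CommRingCat.ofHom R.subtype) ≫ Y.fromSpecStalk y := by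
        rw [Spec.map_comp, Category.assoc]
    _ = Spec.map (CommRingCat.ofHom (algebraMap (Y.residueField y') L)) ≫
          Spec.map (Y.residue y') ≫ Spec.map (Y.presheaf.stalkSpecializes hgen) ≫
            Y.fromSpecStalk y := by
        rw [hcomp, Spec.map_comp, Spec.map_comp, Category.assoc, Category.assoc]
        rfl
    _ = _ := by
        rw [Scheme.SpecMap_stalkSpecializes_fromSpecStalk hgen]
        rfl

theorem specMap_subtype_closedPoint :
    Spec.map (CommRingCat.ofHom R.subtype) (closedPoint L) =
      genericPoint (Spec (CommRingCat.of R)) := by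
  rw [genericPoint_eq_bot_of_affine]
  apply PrimeSpectrum.ext
  show Ideal.comap R.subtype (maximalIdeal L) = ⊥
  rw [IsLocalRing.maximalIdeal_eq_bot, Ideal.comap_bot_of_injective]
  exact Subtype.val_injective

include hcomp in
theorem gmap_genericPoint : (gmap R toR) (genericPoint (Spec (CommRingCat.of R))) = y' := by
  rw [← specMap_subtype_closedPoint R, ← Scheme.Hom.comp_apply,
    specMap_subtype_gmap hgen R toR hcomp, Scheme.Hom.comp_apply,
    Scheme.fromSpecResidueField_apply]

/-- Evaluation at a point of an affine scheme, as a ring homomorphism. -/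
noncomputable def evPt (A : CommRingCat.{u}) (z : Spec A) : A ⟶ (Spec A).residueField z :=
  Spec.preimage ((Spec A).fromSpecResidueField z)

theorem specMap_evPt (A : CommRingCat.{u}) (z : Spec A) :
    Spec.map (evPt A z) = (Spec A).fromSpecResidueField z := Spec.map_preimage _

theorem toR_evPt (z : Spec (CommRingCat.of R)) (hz : gmap R toR z = y) :
    toR ≫ evPt (CommRingCat.of R) z =
      Y.residue y ≫ (Y.residueFieldCongr hz).inv ≫ (gmap R toR).residueFieldMap z := by
  apply Spec.map_injective
  rw [← cancel_mono (Y.fromSpecStalk y)]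
  calc Spec.map (toR ≫ evPt (CommRingCat.of R) z) ≫ Y.fromSpecStalk y
      = (Spec (CommRingCat.of R)).fromSpecResidueField z ≫ gmap R toR := by
        rw [Spec.map_comp, specMap_evPt, Category.assoc]
    _ = Spec.map ((gmap R toR).residueFieldMap z) ≫ Y.fromSpecResidueField (gmap R toR z) := by
        rw [Scheme.Hom.SpecMap_residueFieldMap_fromSpecResidueField]
    _ = Spec.map ((gmap R toR).residueFieldMap z) ≫ Spec.map (Y.residueFieldCongr hz).inv ≫
          Y.fromSpecResidueField y := by
        rw [Scheme.residueFieldCongr_inv, Scheme.residueFieldCongr_fromSpecResidueField]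
    _ = _ := by
        rw [Scheme.fromSpecResidueField, Spec.map_comp, Spec.map_comp, Category.assoc,
          Category.assoc]

theorem splits_closedPoint [hdvr : IsDiscreteValuationRing R]
    (Pl : Polynomial (Y.presheaf.stalk y)) (hPl : Pl.Monic)
    (hs : (Pl.map (toR ≫ CommRingCat.ofHom R.subtype).hom).Splits)
    (z : Spec (CommRingCat.of R)) (hz : gmap R toR z = y) :
    ((Pl.map (Y.residue y).hom).map
      ((Y.residueFieldCongr hz).inv ≫ (gmap R toR).residueFieldMap z).hom).Splits := by
  have hR : (Pl.map toR.hom).Splits := by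
    refine Splits.of_splits_map_of_injective (i := R.subtype) Subtype.val_injective ?_ ?_
    · rw [Polynomial.map_map]
      exact hs
    · intro r hr
      rw [Polynomial.map_map] at hr
      have hint : IsIntegral R r := by
        refine ⟨Pl.map toR.hom, hPl.map _, ?_⟩
        have h0 := (Polynomial.mem_roots'.mp hr).2
        rw [Polynomial.IsRoot.def, Polynomial.eval_map] at h0
        rw [Polynomial.eval₂_map]
        exact h0
      obtain ⟨r', hr'⟩ := IsIntegrallyClosed.isIntegral_iff.mp hint
      exact ⟨r', hr'⟩
  have := toR_evPt R toR z hz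
  rw [Polynomial.map_map, ← CommRingCat.hom_comp, ← Category.assoc] at *
  rw [← this, CommRingCat.hom_comp, ← Polynomial.map_map]
  exact hR.map _

include hcomp in
theorem splits_genericPoint (Q : Polynomial (Y.residueField y'))
    (hs : (Q.map (algebraMap (Y.residueField y') L)).Splits)
    (hη : gmap R toR (genericPoint (Spec (CommRingCat.of R))) = y') :
    (Q.map ((Y.residueFieldCongr hη).inv ≫
      (gmap R toR).residueFieldMap (genericPoint (Spec (CommRingCat.of R)))).hom).Splits := by
  have key : ∀ (η : Spec (CommRingCat.of R))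
      (_ : Spec.map (CommRingCat.ofHom R.subtype) (closedPoint L) = η) (hη : gmap R toR η = y'),
      (Q.map ((Y.residueFieldCongr hη).inv ≫ (gmap R toR).residueFieldMap η).hom).Splits := by
    rintro _ rfl hη
    set j := Spec.map (CommRingCat.ofHom R.subtype) with hj
    set z := j (closedPoint L) with hz
    let δ : (Spec (CommRingCat.of R)).residueField z ⟶ CommRingCat.of L :=
      Scheme.descResidueField (Scheme.stalkClosedPointTo j)
    have hδ : Spec.map δ ≫ (Spec (CommRingCat.of R)).fromSpecResidueField z = j :=
      Scheme.descResidueField_stalkClosedPointTo_fromSpecResidueField L _ j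
    have c1 : (Y.residueFieldCongr hη).inv ≫ (gmap R toR).residueFieldMap z ≫ δ =
        CommRingCat.ofHom (algebraMap (Y.residueField y') L) := by
      apply specMap_fromSpecResidueField_inj y'
      rw [← specMap_subtype_gmap hgen R toR hcomp, ← hj, ← hδ, Spec.map_comp, Spec.map_comp,
        Category.assoc, Category.assoc, Category.assoc, Scheme.residueFieldCongr_inv,
        Scheme.residueFieldCongr_fromSpecResidueField,
        Scheme.Hom.SpecMap_residueFieldMap_fromSpecResidueField]
    have c2 : evPt (CommRingCat.of R) z ≫ δ = CommRingCat.ofHom R.subtype := by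
      apply Spec.map_injective
      rw [Spec.map_comp, specMap_evPt, hδ]
    have hsurj : Function.Surjective δ.hom := by
      intro l
      obtain ⟨r, s, hs0, rfl⟩ := IsFractionRing.div_surjective (A := R) l
      have hr : δ.hom ((evPt (CommRingCat.of R) z).hom r) = algebraMap R L r :=
        congrArg (fun m => m.hom r) c2
      have hs' : δ.hom ((evPt (CommRingCat.of R) z).hom s) = algebraMap R L s :=
        congrArg (fun m => m.hom s) c2
      refine ⟨(evPt (CommRingCat.of R) z).hom r / (evPt (CommRingCat.of R) z).hom s, ?_⟩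
      rw [map_div₀, hr, hs']
    refine Splits.of_splits_map δ.hom ?_ fun a _ => hsurj a
    rw [Polynomial.map_map, ← CommRingCat.hom_comp, Category.assoc, c1]
    exact hs
  exact key _ (specMap_subtype_closedPoint R) hη

end data

theorem S4950 {X Y : Scheme.{u}} [IsLocallyNoetherian Y] (f : X ⟶ Y)
    [IsSeparated f] [LocallyQuasiFinite f] [LocallyOfFiniteType f] [QuasiCompact f] (y y' : Y)
    (hne : y' ≠ y) (hgen : y' ⤳ y) :
    ∃ (A : Type u) (_ : CommRing A) (_ : IsDomain A) (_ : IsDiscreteValuationRing A)
      (g : Spec (CommRingCat.of A) ⟶ Y),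
      g.base (IsLocalRing.closedPoint A) = y ∧
      g.base (genericPoint (Spec (CommRingCat.of A))) = y' ∧
      MoreMor.nGeomConnComp f y =
        ENat.card ↥((pullback.snd f g).fiber (IsLocalRing.closedPoint A)) ∧
      MoreMor.nGeomConnComp f y' =
        ENat.card ↥((pullback.snd f g).fiber (genericPoint (Spec (CommRingCat.of A)))) := by
  have hfin : ∀ z : Y, Finite {x : X // f x = z} := fun z =>
    (f.finite_preimage_singleton z).to_subtype
  obtain ⟨P, hP, hPH⟩ := exists_poly f y (hfin y)
  obtain ⟨Q, hQ, hQH⟩ := exists_poly f y' (hfin y')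
  obtain ⟨Pl, hPlmap, -, hPl⟩ := Polynomial.lifts_and_natDegree_eq_and_monic
    ((Polynomial.mem_lifts _).mpr
      (Polynomial.map_surjective (Y.residue y).hom IsLocalRing.residue_surjective P)) hP
  obtain ⟨ψ₀, hψ₀⟩ : ∃ ψ₀ : Y.presheaf.stalk y →+* Y.residueField y',
      ψ₀ = (Y.presheaf.stalkSpecializes hgen ≫ Y.residue y').hom := ⟨_, rfl⟩
  obtain ⟨F, hF⟩ : ∃ F : Polynomial (Y.residueField y'), F = Pl.map ψ₀ * Q := ⟨_, rfl⟩
  obtain ⟨R, toR, hdvr, hloc, hcomp⟩ := exists_dvr_data hgen hne F.SplittingField
  haveI := hdvr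
  haveI := hloc
  have hFs : (F.map (algebraMap _ F.SplittingField)).Splits := Polynomial.SplittingField.splits F
  have hFm : F.Monic := hF ▸ (hPl.map _).mul hQ
  have hF0 : F.map (algebraMap _ F.SplittingField) ≠ 0 := Polynomial.map_ne_zero hFm.ne_zero
  have hs1 : (Pl.map (toR ≫ CommRingCat.ofHom R.subtype).hom).Splits := by
    have h1 : (Pl.map ψ₀).map (algebraMap _ F.SplittingField) ∣
        F.map (algebraMap _ F.SplittingField) :=
      Polynomial.map_dvd _ (hF ▸ dvd_mul_right _ _)
    have h2 := hFs.of_dvd hF0 h1
    rw [Polynomial.map_map] at h2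
    rw [hcomp]
    have h3 : (Y.presheaf.stalkSpecializes hgen ≫ Y.residue y' ≫
        CommRingCat.ofHom (algebraMap (Y.residueField y') F.SplittingField)).hom =
        (algebraMap (Y.residueField y') F.SplittingField).comp ψ₀ := by
      rw [hψ₀]
      rfl
    rw [h3]
    exact h2
  have hs2 : (Q.map (algebraMap _ F.SplittingField)).Splits :=
    hFs.of_dvd hF0 (Polynomial.map_dvd _ (hF ▸ dvd_mul_left _ _))
  have ha := gmap_closedPoint R toR
  have hη := gmap_genericPoint hgen R toR hcomp
  refine ⟨R, inferInstance, inferInstance, hdvr, gmap R toR, ha, hη, ?_, ?_⟩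
  · have hsp := splits_closedPoint R toR Pl hPl hs1 (closedPoint R) ha
    rw [hPlmap] at hsp
    have hH := hPH _ (gmap R toR) (closedPoint R) ha hsp
    have := card_fiber_eq_nGeom f (gmap R toR) (closedPoint R) (hfin _) hH
    rw [this, ha]
  · have hsp := splits_genericPoint hgen R toR hcomp Q hs2 hη
    have hH := hQH _ (gmap R toR) _ hη hsp
    have := card_fiber_eq_nGeom f (gmap R toR) _ (hfin _) hH
    rw [this, hη]

end Groth.Agent.Lib.lead.DvrCountB
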