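import Mathlib
import Groth.Prelude.Def_Found
import Groth.Agent.Lib.lead.GROpenG

/-!
# Openness of the locus of geometrically reduced fibres (proper case), in Mathlib's terms
-/

set_option autoImplicit false
set_option linter.style.haveILetI false
set_option linter.unusedSectionVars false
universe u
open CategoryTheory CategoryTheory.Limits AlgebraicGeometry TensorProduct IsLocalRing Topology
  TopologicalSpace

namespace Groth.Agent.Lib.lead.GROpen

variable {X Y : Scheme.{u}}

/-- a `k`-scheme is geometrically reduced iff it is geometrically reduced at all its points. -/
theorem geometricallyReduced_iff_forall_isGeomReducedAt {k : Type u} [Field k] {Z : Scheme.{u}}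
    (φ : Z ⟶ Spec (CommRingCat.of k)) :
    GeometricallyReduced φ ↔ ∀ z : Z, FBase.IsGeomReducedAt φ z := by
  constructor
  · intro h z K _ _ x' _
    haveI : IsReduced (FBase.bc φ K) :=
      GeometricallyReduced.geometrically_isReduced
        (Spec.map (CommRingCat.ofHom (algebraMap k K))) _ _
        (IsPullback.of_hasPullback φ (Spec.map (CommRingCat.ofHom (algebraMap k K))))
    infer_instance
  · intro h
    rw [geometricallyReduced_iff, geometrically_iff_of_isClosedUnderIsomorphisms]
    intro K _ t
    let ψ : CommRingCat.of k ⟶ CommRingCat.of K := Spec.preimage t
    have ht : t = Spec.map ψ := (Spec.map_preimage t).symm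
    letI : Algebra k K := ψ.hom.toAlgebra
    have ht' : t = Spec.map (CommRingCat.ofHom (algebraMap k K)) := ht
    rw [ht']
    have hst : ∀ x' : ↥(pullback φ (Spec.map (CommRingCat.ofHom (algebraMap k K)))),
        _root_.IsReduced ((pullback φ
          (Spec.map (CommRingCat.ofHom (algebraMap k K)))).presheaf.stalk x') := by
      intro x'
      exact h _ K x' rfl
    exact isReduced_of_isReduced_stalk _

/-- **the locus of geometrically reduced fibres of a proper flat morphism of finite
presentation is open**. -/
theorem isOpen_geometricallyReduced_fiber (f : X ⟶ Y) [IsProper f] [Flat f]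
    [LocallyOfFinitePresentation f] :
    IsOpen {y : Y | GeometricallyReduced (f.fiberToSpecResidueField y)} := by
  have h := isOpen_gr_of_proper f
  convert h using 1
  ext y
  exact geometricallyReduced_iff_forall_isGeomReducedAt (f.fiberToSpecResidueField y)

end Groth.Agent.Lib.lead.GROpen
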