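import Mathlib

/-!
# Ring-level lemmas for S6083 (lead)

* `exists_dvd_all`, `exists_eq_C_mul`: the content trick over a valuation ring.
* `eq_bot_of_le_ker_map_residue`: a prime of `V[T]` meeting `V` in `0` and contained in
  `𝔪_V V[T]` is zero.
* `comap_eq_bot_of_mem_minimalPrimes`: minimal primes of `P' ⊗[P] F` contract to `0`.
* `isAlgebraic_of_quasiFinite`, `injective_of_trdeg`.
-/

set_option autoImplicit false
set_option linter.style.haveILetI false

universe u

open TensorProduct

namespace Groth.Agent.Lib.lead.QfAff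

section Scaling

variable {V : Type u} [CommRing V] [IsDomain V] [ValuationRing V]

theorem exists_dvd_all (s : Finset V) (hs : s.Nonempty) : ∃ a ∈ s, ∀ b ∈ s, a ∣ b := by
  classical
  induction s using Finset.induction_on with
  | empty => exact absurd hs (by simp)
  | insert x t hx ih =>
    by_cases ht : t.Nonempty
    · obtain ⟨a, hat, ha⟩ := ih ht
      rcases ValuationRing.dvd_total x a with h | h
      · refine ⟨x, Finset.mem_insert_self _ _, fun b hb => ?_⟩
        rcases Finset.mem_insert.mp hb with rfl | hb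
        · exact dvd_rfl
        · exact h.trans (ha b hb)
      · refine ⟨a, Finset.mem_insert_of_mem hat, fun b hb => ?_⟩
        rcases Finset.mem_insert.mp hb with rfl | hb
        · exact h
        · exact ha b hb
    · rw [Finset.not_nonempty_iff_eq_empty] at ht
      subst ht
      exact ⟨x, Finset.mem_insert_self _ _, fun b hb => by
        rw [Finset.mem_insert] at hb
        rcases hb with rfl | hb
        · exact dvd_rfl
        · simp at hb⟩

variable {σ : Type u}

/-- every nonzero polynomial over a valuation ring is a nonzero constant times a polynomial with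
a coefficient equal to `1` -/
theorem exists_eq_C_mul (g : MvPolynomial σ V) (hg : g ≠ 0) :
    ∃ (c : V) (g₀ : MvPolynomial σ V) (m : σ →₀ ℕ), c ≠ 0 ∧ g = MvPolynomial.C c * g₀ ∧
      g₀.coeff m = 1 := by
  classical
  have hsupp : g.support.Nonempty := by
    rwa [Finset.nonempty_iff_ne_empty, Ne, MvPolynomial.support_eq_empty]
  obtain ⟨c, hc, hdvd⟩ := exists_dvd_all (g.support.image (fun m => g.coeff m))
    (hsupp.image _)
  obtain ⟨m₀, hm₀, rfl⟩ := Finset.mem_image.mp hc
  have hc0 : g.coeff m₀ ≠ 0 := MvPolynomial.mem_support_iff.mp hm₀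
  have hdvd' : ∀ m, g.coeff m₀ ∣ g.coeff m := by
    intro m
    by_cases hm : m ∈ g.support
    · exact hdvd _ (Finset.mem_image_of_mem _ hm)
    · rw [MvPolynomial.notMem_support_iff.mp hm]
      exact dvd_zero _
  choose b hb using hdvd'
  let g₀ : MvPolynomial σ V := ∑ m ∈ g.support, MvPolynomial.monomial m (b m)
  have hcoeff : ∀ m, g₀.coeff m = if m ∈ g.support then b m else 0 := by
    intro m
    simp only [g₀, MvPolynomial.coeff_sum, MvPolynomial.coeff_monomial]
    rw [Finset.sum_ite_eq' g.support m (fun j => b j)]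
  refine ⟨g.coeff m₀, g₀, m₀, hc0, ?_, ?_⟩
  · ext m
    rw [MvPolynomial.coeff_C_mul, hcoeff]
    by_cases hm : m ∈ g.support
    · rw [if_pos hm]
      exact hb m
    · rw [if_neg hm, mul_zero]
      exact MvPolynomial.notMem_support_iff.mp hm
  · rw [hcoeff, if_pos hm₀]
    have h1 := hb m₀
    have h2 : g.coeff m₀ * 1 = g.coeff m₀ * b m₀ := by rw [mul_one]; exact h1
    exact (mul_left_cancel₀ hc0 h2).symm

/-- a prime of `V[T]` meeting `V` in zero and contained in `𝔪_V V[T]` is zero -/
theorem eq_bot_of_le_ker_map_residue (𝔞 : Ideal (MvPolynomial σ V)) [𝔞.IsPrime]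
    (h0 : 𝔞.comap (MvPolynomial.C (σ := σ) (R := V)) = ⊥)
    (hle : 𝔞 ≤ RingHom.ker (MvPolynomial.map (σ := σ) (IsLocalRing.residue V))) : 𝔞 = ⊥ := by
  rw [eq_bot_iff]
  intro g hg
  rw [Ideal.mem_bot]
  by_contra hne
  obtain ⟨c, g₀, m, hc, hgc, hm⟩ := exists_eq_C_mul g hne
  have hC : MvPolynomial.C c ∉ 𝔞 := by
    intro hmem
    have : c ∈ 𝔞.comap (MvPolynomial.C (σ := σ) (R := V)) := hmem
    rw [h0, Ideal.mem_bot] at this
    exact hc this
  have hg₀ : g₀ ∈ 𝔞 := by
    rw [hgc] at hg
    exact (‹𝔞.IsPrime›.mem_or_mem hg).resolve_left hC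
  have h1 := hle hg₀
  rw [RingHom.mem_ker] at h1
  have h2 := congrArg (MvPolynomial.coeff m) h1
  rw [MvPolynomial.coeff_map, hm, map_one, MvPolynomial.coeff_zero] at h2
  exact one_ne_zero h2

end Scaling

section FibreLemma

variable {P P' F : Type u} [CommRing P] [CommRing P'] [Algebra P P']
  [Module.Flat P P'] [CommRing F] [IsDomain F] [Algebra P F]

/-- multiplication by `1 ⊗ b`, `b ≠ 0`, is injective on `P' ⊗[P] F` -/
theorem tmul_right_injective (b : F) (hb : b ≠ 0) (x : P' ⊗[P] F)
    (hx : x * ((1 : P') ⊗ₜ[P] b) = 0) : x = 0 := by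
  let μ : F →ₗ[P] F := LinearMap.mulRight P b
  have hμ : Function.Injective μ := by
    intro a a' h
    exact mul_right_cancel₀ hb h
  have hinj : Function.Injective (LinearMap.lTensor P' μ) :=
    Module.Flat.lTensor_preserves_injective_linearMap μ hμ
  have hmul : ∀ y : P' ⊗[P] F, LinearMap.lTensor P' μ y = y * ((1 : P') ⊗ₜ[P] b) := by
    intro y
    induction y using TensorProduct.induction_on with
    | zero => simp
    | tmul p f =>
      rw [LinearMap.lTensor_tmul, Algebra.TensorProduct.tmul_mul_tmul, mul_one]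
      rfl
    | add y z hy hz => rw [map_add, hy, hz, add_mul]
  apply hinj
  rw [hmul, hx, map_zero]

variable [IsDomain P] [IsDomain P']

/-- multiplication by `g ⊗ 1`, `g ≠ 0`, is injective on `P' ⊗[P] F` when `P → F` is injective -/
theorem tmul_left_injective (hinj : Function.Injective (algebraMap P F)) (g : P') (hg : g ≠ 0)
    (x : P' ⊗[P] F) (hx : x * (g ⊗ₜ[P] (1 : F)) = 0) : x = 0 := by
  let L := FractionRing F
  have hPL : Function.Injective (algebraMap P L) := by
    rw [IsScalarTower.algebraMap_eq P F L]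
    exact (IsFractionRing.injective F L).comp hinj
  haveI : FaithfulSMul P L := (faithfulSMul_iff_algebraMap_injective P L).mpr hPL
  letI : Algebra (FractionRing P) L := FractionRing.liftAlgebra P L
  haveI : IsScalarTower P (FractionRing P) L := FractionRing.isScalarTower_liftAlgebra P L
  haveI : Module.Flat P (FractionRing P) := IsLocalization.flat (FractionRing P) (nonZeroDivisors P)
  haveI : Module.Flat P L := Module.Flat.trans P (FractionRing P) L
  let ι : F →ₗ[P] L := (IsScalarTower.toAlgHom P F L).toLinearMap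
  have hι : Function.Injective ι := IsFractionRing.injective F L
  have h1 : Function.Injective (LinearMap.lTensor P' ι) :=
    Module.Flat.lTensor_preserves_injective_linearMap ι hι
  let μ : P' →ₗ[P] P' := LinearMap.mulRight P g
  have hμ : Function.Injective μ := by
    intro a a' h
    exact mul_right_cancel₀ hg h
  have h2 : Function.Injective (LinearMap.rTensor L μ) :=
    Module.Flat.rTensor_preserves_injective_linearMap μ hμ
  have hcomm : ∀ y : P' ⊗[P] F, LinearMap.rTensor L μ (LinearMap.lTensor P' ι y) =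
      LinearMap.lTensor P' ι (y * (g ⊗ₜ[P] (1 : F))) := by
    intro y
    induction y using TensorProduct.induction_on with
    | zero => simp
    | tmul p f =>
      rw [LinearMap.lTensor_tmul, LinearMap.rTensor_tmul, Algebra.TensorProduct.tmul_mul_tmul,
        mul_one, LinearMap.lTensor_tmul]
      rfl
    | add y z hy hz => rw [map_add, map_add, hy, hz, add_mul, map_add]
  apply h1
  apply h2
  rw [hcomm, hx, map_zero, map_zero]

/-- minimal primes of `P' ⊗[P] F` contract to zero in both factors -/
theorem comap_eq_bot_of_mem_minimalPrimes (hinj : Function.Injective (algebraMap P F))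
    (Z : Ideal (P' ⊗[P] F)) (hZ : Z ∈ minimalPrimes (P' ⊗[P] F)) :
    Z.comap (Algebra.TensorProduct.includeLeftRingHom : P' →+* P' ⊗[P] F) = ⊥ ∧
      Z.comap (Algebra.TensorProduct.includeRight : F →ₐ[P] P' ⊗[P] F).toRingHom = ⊥ := by
  have hdisj := Ideal.disjoint_nonZeroDivisors_of_mem_minimalPrimes hZ
  constructor
  · rw [eq_bot_iff]
    intro g hg
    rw [Ideal.mem_bot]
    by_contra hne
    have hnzd : (g ⊗ₜ[P] (1 : F) : P' ⊗[P] F) ∈ nonZeroDivisors (P' ⊗[P] F) := by
      rw [mem_nonZeroDivisors_iff_right]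
      intro x hx
      exact tmul_left_injective hinj g hne x hx
    exact Set.disjoint_left.mp hdisj hg hnzd
  · rw [eq_bot_iff]
    intro b hb
    rw [Ideal.mem_bot]
    by_contra hne
    have hnzd : ((1 : P') ⊗ₜ[P] b : P' ⊗[P] F) ∈ nonZeroDivisors (P' ⊗[P] F) := by
      rw [mem_nonZeroDivisors_iff_right]
      intro x hx
      exact tmul_right_injective b hne x hx
    exact Set.disjoint_left.mp hdisj hb hnzd

end FibreLemma

section Algebraic

/-- a quasi-finite injective extension of domains is algebraic -/
theorem isAlgebraic_of_quasiFinite (R S : Type u) [CommRing R] [IsDomain R] [CommRing S]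
    [IsDomain S] [Algebra R S] (hinj : Function.Injective (algebraMap R S))
    [Algebra.QuasiFinite R S] : Algebra.IsAlgebraic R S := by
  let K := FractionRing R
  haveI : Module.Finite K (K ⊗[R] S) := Module.Finite.of_quasiFinite
  haveI : Algebra.IsIntegral K (K ⊗[R] S) := Algebra.IsIntegral.of_finite K _
  letI : Algebra S (K ⊗[R] S) := Algebra.TensorProduct.rightAlgebra
  haveI : IsLocalization (Algebra.algebraMapSubmonoid S (nonZeroDivisors R)) (K ⊗[R] S) :=
    IsLocalization.tensorRight (R := R) (S := S) (A := K) (nonZeroDivisors R)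
  have hM : Algebra.algebraMapSubmonoid S (nonZeroDivisors R) ≤ nonZeroDivisors S := by
    rintro _ ⟨r, hr, rfl⟩
    apply mem_nonZeroDivisors_of_ne_zero
    intro h0
    have : r = 0 := hinj (by rw [h0, map_zero])
    exact (nonZeroDivisors.ne_zero hr) this
  have hinjT : Function.Injective (algebraMap S (K ⊗[R] S)) := IsLocalization.injective _ hM
  haveI : Algebra.IsAlgebraic R K := IsLocalization.isAlgebraic K (nonZeroDivisors R)
  constructor
  intro s
  have h1 : IsAlgebraic K ((1 : K) ⊗ₜ[R] s) :=
    (Algebra.IsIntegral.isIntegral ((1 : K) ⊗ₜ[R] s)).isAlgebraic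
  have h2 : IsAlgebraic R ((1 : K) ⊗ₜ[R] s) := h1.restrictScalars R
  exact (isAlgebraic_algHom_iff (Algebra.TensorProduct.includeRight : S →ₐ[R] K ⊗[R] S)
    hinjT).mp h2

open Cardinal in
/-- if a domain `Ft` is quasi-finite over `D[T]` (finitely many variables) and has transcendence
degree at least the number of variables over `D`, then `D[T] → Ft` is injective -/
theorem injective_algebraMap_of_le_trdeg {D Ft : Type u} [CommRing D] [IsDomain D] [CommRing Ft]
    [IsDomain Ft] [Algebra D Ft] (hinj : Function.Injective (algebraMap D Ft))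
    {σ : Type u} [Finite σ] [Algebra (MvPolynomial σ D) Ft] [IsScalarTower D (MvPolynomial σ D) Ft]
    [Algebra.QuasiFinite (MvPolynomial σ D) Ft] (htr : #σ ≤ Algebra.trdeg D Ft) :
    Function.Injective (algebraMap (MvPolynomial σ D) Ft) := by
  let φ : MvPolynomial σ D →ₐ[D] Ft := IsScalarTower.toAlgHom D (MvPolynomial σ D) Ft
  let t : σ → Ft := fun i => φ (MvPolynomial.X i)
  have hφ : φ = MvPolynomial.aeval t := MvPolynomial.aeval_unique φ
  haveI : FaithfulSMul D Ft := (faithfulSMul_iff_algebraMap_injective D Ft).mpr hinj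
  -- `Ft` is algebraic over the subalgebra generated by `t`
  let R₁ : Subalgebra D Ft := Algebra.adjoin D (Set.range t)
  have hR₁ : R₁ = φ.range := by
    rw [hφ]
    exact Algebra.adjoin_range_eq_range_aeval D t
  let ψ : MvPolynomial σ D →ₐ[D] R₁ := φ.codRestrict R₁ (fun x => by
    rw [hR₁]
    exact ⟨x, rfl⟩)
  letI : Algebra (MvPolynomial σ D) R₁ := ψ.toRingHom.toAlgebra
  haveI : IsScalarTower (MvPolynomial σ D) R₁ Ft := IsScalarTower.of_algebraMap_eq fun x => rfl
  haveI : Algebra.QuasiFinite R₁ Ft := Algebra.QuasiFinite.of_restrictScalars (MvPolynomial σ D) R₁ Ft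
  haveI : Algebra.IsAlgebraic R₁ Ft :=
    isAlgebraic_of_quasiFinite R₁ Ft Subtype.val_injective
  have hbasis : IsTranscendenceBasis D t :=
    Algebra.IsAlgebraic.isTranscendenceBasis_of_le_trdeg_of_finite D t htr
  have hai : AlgebraicIndependent D t := hbasis.1
  have h1 : Function.Injective (MvPolynomial.aeval t : MvPolynomial σ D →ₐ[D] Ft) := hai
  rw [← hφ] at h1
  exact h1

end Algebraic

end Groth.Agent.Lib.lead.QfAff
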