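import Mathlib
import Groth.Agent.Lib.lead.QfAffA
import Groth.Agent.Lib.Helper5.StalkBCF

/-!
# S6083, ring level (lead): a generic point of the closed fibre below a given point
-/

set_option autoImplicit false
set_option linter.style.haveILetI false

universe u

open TensorProduct IsLocalRing

namespace Groth.Agent.Lib.lead.QfAff

attribute [local instance] MvPolynomial.algebraMvPolynomial Algebra.TensorProduct.rightAlgebra

section

variable {A B V : Type u} [CommRing A] [CommRing B] [CommRing V] [IsDomain V] [ValuationRing V]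
  (σ : Type u) [Finite σ]
  [Algebra A B] [Algebra (MvPolynomial σ A) B] [IsScalarTower A (MvPolynomial σ A) B]
  [Algebra A V]

/-- flatness of a field over a domain injecting into it -/
theorem flat_of_injective_field (D κ : Type u) [CommRing D] [IsDomain D] [Field κ] [Algebra D κ]
    (h : Function.Injective (algebraMap D κ)) : Module.Flat D κ := by
  haveI : FaithfulSMul D κ := (faithfulSMul_iff_algebraMap_injective D κ).mpr h
  letI : Algebra (FractionRing D) κ := FractionRing.liftAlgebra D κ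
  haveI : IsScalarTower D (FractionRing D) κ := FractionRing.isScalarTower_liftAlgebra D κ
  haveI : Module.Flat D (FractionRing D) := IsLocalization.flat (FractionRing D) (nonZeroDivisors D)
  exact Module.Flat.trans D (FractionRing D) κ

open Cardinal in
set_option maxHeartbeats 1600000 in
/-- **Step S2**: below a prime `Q'` of `B ⊗ V[T]` lying over `𝔪_V V[T]` and over a prime containing
`pz`, there is a prime `Z'` lying exactly over `pz` and over `𝔪_V V[T]`. -/
theorem exists_fibre_generic [Algebra.QuasiFinite (MvPolynomial σ A) B]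
    (ps : Ideal A) [ps.IsPrime] (pz : Ideal B) [pz.IsPrime] [pz.LiesOver ps]
    (hV : (maximalIdeal V).comap (algebraMap A V) = ps)
    (htr : #σ ≤ Algebra.trdeg (A ⧸ ps) (B ⧸ pz))
    (Q' : Ideal (B ⊗[MvPolynomial σ A] MvPolynomial σ V)) [Q'.IsPrime]
    (hQ'B : pz ≤ Q'.comap (algebraMap B (B ⊗[MvPolynomial σ A] MvPolynomial σ V)))
    (hQ'V : RingHom.ker (MvPolynomial.map (σ := σ) (residue V)) ≤
      Q'.comap (algebraMap (MvPolynomial σ V) (B ⊗[MvPolynomial σ A] MvPolynomial σ V))) :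
    ∃ Z' : Ideal (B ⊗[MvPolynomial σ A] MvPolynomial σ V), Z'.IsPrime ∧ Z' ≤ Q' ∧
      Z'.comap (algebraMap B (B ⊗[MvPolynomial σ A] MvPolynomial σ V)) = pz ∧
      Z'.comap (algebraMap (MvPolynomial σ V) (B ⊗[MvPolynomial σ A] MvPolynomial σ V)) =
        RingHom.ker (MvPolynomial.map (σ := σ) (residue V)) := by
  classical
  -- `D = A/ps → κ = V/𝔪`
  have hps : ∀ a ∈ ps, ((residue V).comp (algebraMap A V)) a = 0 := by
    intro a ha
    rw [RingHom.comp_apply, residue_eq_zero_iff]
    have h1 : a ∈ (maximalIdeal V).comap (algebraMap A V) := hV ▸ ha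
    exact h1
  let ρ : (A ⧸ ps) →+* ResidueField V :=
    Ideal.Quotient.lift ps ((residue V).comp (algebraMap A V)) hps
  letI algDκ : Algebra (A ⧸ ps) (ResidueField V) := ρ.toAlgebra
  have hρmk : ∀ a : A, algebraMap (A ⧸ ps) (ResidueField V) (Ideal.Quotient.mk ps a) =
      residue V (algebraMap A V a) := fun a => rfl
  have hρinj : Function.Injective (algebraMap (A ⧸ ps) (ResidueField V)) := by
    rw [injective_iff_map_eq_zero]
    intro d hd
    obtain ⟨a, rfl⟩ := Ideal.Quotient.mk_surjective d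
    rw [hρmk, residue_eq_zero_iff] at hd
    have h1 : a ∈ ps := by rw [← hV]; exact hd
    exact Ideal.Quotient.eq_zero_iff_mem.mpr h1
  haveI : Module.Flat (A ⧸ ps) (ResidueField V) := flat_of_injective_field _ _ hρinj
  haveI : Module.Flat (MvPolynomial σ (A ⧸ ps)) (MvPolynomial σ (ResidueField V)) :=
    Groth.Agent.Lib.Helper5.StalkBC.flat_of_isPushout (A ⧸ ps) (ResidueField V)
      (MvPolynomial σ (A ⧸ ps)) (MvPolynomial σ (ResidueField V))
  -- `P = D[T] → Ft = B/pz`
  let tB : σ → B ⧸ pz := fun i =>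
    Ideal.Quotient.mk pz (algebraMap (MvPolynomial σ A) B (MvPolynomial.X i))
  let θ : MvPolynomial σ (A ⧸ ps) →+* B ⧸ pz :=
    MvPolynomial.eval₂Hom (algebraMap (A ⧸ ps) (B ⧸ pz)) tB
  letI algPFt : Algebra (MvPolynomial σ (A ⧸ ps)) (B ⧸ pz) := θ.toAlgebra
  have hθC : ∀ d : A ⧸ ps, θ (MvPolynomial.C d) = algebraMap (A ⧸ ps) (B ⧸ pz) d := fun d => by
    simp [θ]
  have hθX : ∀ i, θ (MvPolynomial.X i) = tB i := fun i => by simp [θ]
  haveI : IsScalarTower (A ⧸ ps) (MvPolynomial σ (A ⧸ ps)) (B ⧸ pz) :=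
    IsScalarTower.of_algebraMap_eq fun d => (hθC d).symm
  let mkP : MvPolynomial σ A →+* MvPolynomial σ (A ⧸ ps) :=
    MvPolynomial.map (Ideal.Quotient.mk ps)
  letI algA'P : Algebra (MvPolynomial σ A) (MvPolynomial σ (A ⧸ ps)) := mkP.toAlgebra
  have hcomp : (algebraMap (MvPolynomial σ (A ⧸ ps)) (B ⧸ pz)).comp
      (algebraMap (MvPolynomial σ A) (MvPolynomial σ (A ⧸ ps))) =
      algebraMap (MvPolynomial σ A) (B ⧸ pz) := by
    apply MvPolynomial.ringHom_ext
    · intro a
      show θ (mkP (MvPolynomial.C a)) = _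
      rw [MvPolynomial.map_C, hθC, Ideal.Quotient.algebraMap_mk_of_liesOver,
        IsScalarTower.algebraMap_apply (MvPolynomial σ A) B (B ⧸ pz),
        IsScalarTower.algebraMap_apply A (MvPolynomial σ A) B]
      rfl
    · intro i
      show θ (mkP (MvPolynomial.X i)) = _
      rw [MvPolynomial.map_X, hθX]
      rfl
  haveI : IsScalarTower (MvPolynomial σ A) (MvPolynomial σ (A ⧸ ps)) (B ⧸ pz) :=
    IsScalarTower.of_algebraMap_eq' hcomp.symm
  haveI : Algebra.QuasiFinite (MvPolynomial σ (A ⧸ ps)) (B ⧸ pz) :=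
    Algebra.QuasiFinite.of_restrictScalars (MvPolynomial σ A) (MvPolynomial σ (A ⧸ ps)) (B ⧸ pz)
  have hDFt : Function.Injective (algebraMap (A ⧸ ps) (B ⧸ pz)) :=
    FaithfulSMul.algebraMap_injective _ _
  have hθinj : Function.Injective (algebraMap (MvPolynomial σ (A ⧸ ps)) (B ⧸ pz)) :=
    injective_algebraMap_of_le_trdeg hDFt htr
  -- towers in `BV`
  have hBV : ∀ a' : MvPolynomial σ A,
      algebraMap B (B ⊗[MvPolynomial σ A] MvPolynomial σ V) (algebraMap (MvPolynomial σ A) B a') =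
      algebraMap (MvPolynomial σ V) (B ⊗[MvPolynomial σ A] MvPolynomial σ V)
        (algebraMap (MvPolynomial σ A) (MvPolynomial σ V) a') := fun a' =>
    (IsScalarTower.algebraMap_apply (MvPolynomial σ A) B _ a').symm.trans
      (IsScalarTower.algebraMap_apply (MvPolynomial σ A) (MvPolynomial σ V) _ a')
  -- the closed-fibre ring `Gt = P' ⊗[P] Ft`, as an `A'`-algebra
  letI algA'Gt : Algebra (MvPolynomial σ A)
      (MvPolynomial σ (ResidueField V) ⊗[MvPolynomial σ (A ⧸ ps)] (B ⧸ pz)) :=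
    ((algebraMap (MvPolynomial σ (A ⧸ ps))
      (MvPolynomial σ (ResidueField V) ⊗[MvPolynomial σ (A ⧸ ps)] (B ⧸ pz))).comp
      (algebraMap (MvPolynomial σ A) (MvPolynomial σ (A ⧸ ps)))).toAlgebra
  have hρcomp : (algebraMap (A ⧸ ps) (ResidueField V)).comp (Ideal.Quotient.mk ps) =
      (residue V).comp (algebraMap A V) := Ideal.Quotient.lift_comp_mk ps _ hps
  let f : B →ₐ[MvPolynomial σ A]
      (MvPolynomial σ (ResidueField V) ⊗[MvPolynomial σ (A ⧸ ps)] (B ⧸ pz)) :=
    { toRingHom := (Algebra.TensorProduct.includeRight (R := MvPolynomial σ (A ⧸ ps))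
          (A := MvPolynomial σ (ResidueField V)) (B := B ⧸ pz)).toRingHom.comp
          (Ideal.Quotient.mk pz)
      commutes' := fun a' => by
        show Algebra.TensorProduct.includeRight (Ideal.Quotient.mk pz (algebraMap _ B a')) = _
        have h1 : Ideal.Quotient.mk pz (algebraMap (MvPolynomial σ A) B a') =
            algebraMap (MvPolynomial σ (A ⧸ ps)) (B ⧸ pz)
              (algebraMap (MvPolynomial σ A) (MvPolynomial σ (A ⧸ ps)) a') :=
          (congrArg (fun φ : MvPolynomial σ A →+* B ⧸ pz => φ a') hcomp).symm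
        rw [h1, AlgHom.commutes]
        rfl }
  let g : MvPolynomial σ V →ₐ[MvPolynomial σ A]
      (MvPolynomial σ (ResidueField V) ⊗[MvPolynomial σ (A ⧸ ps)] (B ⧸ pz)) :=
    { toRingHom := (Algebra.TensorProduct.includeLeftRingHom :
          MvPolynomial σ (ResidueField V) →+*
            MvPolynomial σ (ResidueField V) ⊗[MvPolynomial σ (A ⧸ ps)] (B ⧸ pz)).comp
          (MvPolynomial.map (residue V))
      commutes' := fun a' => by
        show Algebra.TensorProduct.includeLeftRingHom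
          (MvPolynomial.map (residue V) (MvPolynomial.map (algebraMap A V) a')) =
          algebraMap (MvPolynomial σ (A ⧸ ps)) _ (MvPolynomial.map (Ideal.Quotient.mk ps) a')
        rw [Algebra.TensorProduct.algebraMap_apply, MvPolynomial.map_map]
        show _ = Algebra.TensorProduct.includeLeftRingHom
          (MvPolynomial.map (algebraMap (A ⧸ ps) (ResidueField V))
            (MvPolynomial.map (Ideal.Quotient.mk ps) a'))
        rw [MvPolynomial.map_map, hρcomp] }
  let Φ := Algebra.TensorProduct.productMap f g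
  have hΦB : ∀ b : B, Φ (algebraMap B _ b) =
      Algebra.TensorProduct.includeRight (Ideal.Quotient.mk pz b) := fun b => by
    show Φ (b ⊗ₜ 1) = _
    rw [Algebra.TensorProduct.productMap_left_apply]
    rfl
  have hΦV : ∀ v : MvPolynomial σ V, Φ (algebraMap (MvPolynomial σ V) _ v) =
      Algebra.TensorProduct.includeLeftRingHom (MvPolynomial.map (residue V) v) := fun v => by
    show Φ (1 ⊗ₜ v) = _
    rw [Algebra.TensorProduct.productMap_right_apply]
    rfl
  -- the residue domain `L = BV/Q'` and the map `Ψ : Gt → L`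
  obtain ⟨L, _, _, mkQ, hmkQ⟩ : ∃ (L : Type u) (_ : CommRing L) (_ : IsDomain L)
      (mkQ : (B ⊗[MvPolynomial σ A] MvPolynomial σ V) →+* L), RingHom.ker mkQ = Q' :=
    ⟨(B ⊗[MvPolynomial σ A] MvPolynomial σ V) ⧸ Q', inferInstance, inferInstance,
      Ideal.Quotient.mk Q', Ideal.mk_ker⟩
  have hmkQ0 : ∀ x, mkQ x = 0 ↔ x ∈ Q' := fun x => by rw [← RingHom.mem_ker, hmkQ]
  let ψ2r : (B ⧸ pz) →+* L :=
    Ideal.Quotient.lift pz (mkQ.comp (algebraMap B _))
      (fun b hb => (hmkQ0 _).mpr (hQ'B hb))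
  have hCker : ∀ v ∈ maximalIdeal V,
      (mkQ.comp ((algebraMap (MvPolynomial σ V) _).comp MvPolynomial.C)) v = 0 := by
    intro v hv
    apply (hmkQ0 _).mpr
    apply hQ'V
    rw [RingHom.mem_ker, MvPolynomial.map_C, (residue_eq_zero_iff v).mpr hv, map_zero]
  let κL : ResidueField V →+* L :=
    Ideal.Quotient.lift (maximalIdeal V)
      (mkQ.comp ((algebraMap (MvPolynomial σ V) _).comp MvPolynomial.C)) hCker
  have hκL : ∀ v : V, κL (residue V v) = mkQ (algebraMap (MvPolynomial σ V) _ (MvPolynomial.C v)) :=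
    fun v => rfl
  let ψ1r : MvPolynomial σ (ResidueField V) →+* L :=
    MvPolynomial.eval₂Hom κL (fun i => mkQ (algebraMap (MvPolynomial σ V) _ (MvPolynomial.X i)))
  have hψ1C : ∀ c, ψ1r (MvPolynomial.C c) = κL c := fun c => by simp [ψ1r]
  have hψ1X : ∀ i, ψ1r (MvPolynomial.X i) =
      mkQ (algebraMap (MvPolynomial σ V) _ (MvPolynomial.X i)) := fun i => by simp [ψ1r]
  have hψ1 : ψ1r.comp (MvPolynomial.map (residue V)) =
      mkQ.comp (algebraMap (MvPolynomial σ V) _) := by
    apply MvPolynomial.ringHom_ext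
    · intro v
      rw [RingHom.comp_apply, MvPolynomial.map_C, hψ1C, hκL]
      rfl
    · intro i
      rw [RingHom.comp_apply, MvPolynomial.map_X, hψ1X]
      rfl
  letI algPL : Algebra (MvPolynomial σ (A ⧸ ps)) L :=
    (ψ1r.comp (algebraMap (MvPolynomial σ (A ⧸ ps)) (MvPolynomial σ (ResidueField V)))).toAlgebra
  let ψ1 : MvPolynomial σ (ResidueField V) →ₐ[MvPolynomial σ (A ⧸ ps)] L :=
    { toRingHom := ψ1r, commutes' := fun _ => rfl }
  have hψ2comm : ψ2r.comp (algebraMap (MvPolynomial σ (A ⧸ ps)) (B ⧸ pz)) =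
      ψ1r.comp (algebraMap (MvPolynomial σ (A ⧸ ps)) (MvPolynomial σ (ResidueField V))) := by
    apply MvPolynomial.ringHom_ext
    · intro d
      obtain ⟨a, rfl⟩ := Ideal.Quotient.mk_surjective d
      show ψ2r (θ (MvPolynomial.C (Ideal.Quotient.mk ps a))) =
        ψ1r (MvPolynomial.map (algebraMap (A ⧸ ps) (ResidueField V))
          (MvPolynomial.C (Ideal.Quotient.mk ps a)))
      rw [hθC, Ideal.Quotient.algebraMap_mk_of_liesOver, MvPolynomial.map_C, hψ1C, hρmk, hκL]
      show mkQ (algebraMap B _ (algebraMap A B a)) = _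
      rw [IsScalarTower.algebraMap_apply A (MvPolynomial σ A) B, hBV]
      congr 2
      show MvPolynomial.map (algebraMap A V) (MvPolynomial.C a) = _
      rw [MvPolynomial.map_C]
    · intro i
      show ψ2r (θ (MvPolynomial.X i)) =
        ψ1r (MvPolynomial.map (algebraMap (A ⧸ ps) (ResidueField V)) (MvPolynomial.X i))
      rw [hθX, MvPolynomial.map_X, hψ1X]
      show mkQ (algebraMap B _ (algebraMap (MvPolynomial σ A) B (MvPolynomial.X i))) = _
      rw [hBV]
      congr 2
      show MvPolynomial.map (algebraMap A V) (MvPolynomial.X i) = _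
      rw [MvPolynomial.map_X]
  let ψ2 : (B ⧸ pz) →ₐ[MvPolynomial σ (A ⧸ ps)] L :=
    { toRingHom := ψ2r
      commutes' := fun p => congrArg (fun φ : MvPolynomial σ (A ⧸ ps) →+* _ => φ p) hψ2comm }
  let Ψ := Algebra.TensorProduct.productMap ψ1 ψ2
  have hΨΦ : ∀ x, Ψ (Φ x) = mkQ x := by
    intro x
    induction x using TensorProduct.induction_on with
    | zero => simp
    | tmul b v =>
      have h1 : (b ⊗ₜ[MvPolynomial σ A] v : B ⊗[MvPolynomial σ A] MvPolynomial σ V) =
          algebraMap B _ b * algebraMap (MvPolynomial σ V) _ v := by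
        show _ = (b ⊗ₜ 1) * (1 ⊗ₜ v)
        rw [Algebra.TensorProduct.tmul_mul_tmul, mul_one, one_mul]
      rw [h1, map_mul, map_mul, map_mul, hΦB, hΦV]
      congr 1
      · show Ψ ((1 : MvPolynomial σ (ResidueField V)) ⊗ₜ (Ideal.Quotient.mk pz b)) = _
        rw [Algebra.TensorProduct.productMap_right_apply]
        rfl
      · show Ψ ((MvPolynomial.map (residue V) v) ⊗ₜ (1 : B ⧸ pz)) = _
        rw [Algebra.TensorProduct.productMap_left_apply]
        exact congrArg (fun φ : MvPolynomial σ V →+* _ => φ v) hψ1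
    | add x y hx hy => rw [map_add, map_add, hx, hy, map_add]
  -- the prime `Q̃ = ker Ψ` of `Gt` and a minimal prime below it
  let Qt : Ideal (MvPolynomial σ (ResidueField V) ⊗[MvPolynomial σ (A ⧸ ps)] (B ⧸ pz)) :=
    RingHom.ker Ψ.toRingHom
  haveI : Qt.IsPrime := RingHom.ker_isPrime Ψ.toRingHom
  have hQt : Qt.comap Φ.toRingHom = Q' := by
    ext x
    rw [Ideal.mem_comap, RingHom.mem_ker]
    show Ψ (Φ x) = 0 ↔ _
    rw [hΨΦ, hmkQ0]
  obtain ⟨Zt, hZtmin, hZtle⟩ := Ideal.exists_minimalPrimes_le (show (⊥ : Ideal _) ≤ Qt from bot_le)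
  obtain ⟨hZt1, hZt2⟩ := comap_eq_bot_of_mem_minimalPrimes hθinj Zt hZtmin
  haveI : Zt.IsPrime := hZtmin.1.1
  refine ⟨Zt.comap Φ.toRingHom, inferInstance, ?_, ?_, ?_⟩
  · rw [← hQt]
    exact Ideal.comap_mono hZtle
  · ext b
    rw [Ideal.mem_comap, Ideal.mem_comap]
    show Φ (algebraMap B _ b) ∈ Zt ↔ _
    rw [hΦB]
    have h1 : (Algebra.TensorProduct.includeRight (Ideal.Quotient.mk pz b) :
        MvPolynomial σ (ResidueField V) ⊗[MvPolynomial σ (A ⧸ ps)] (B ⧸ pz)) ∈ Zt ↔
        Ideal.Quotient.mk pz b ∈ Zt.comap (Algebra.TensorProduct.includeRight :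
          (B ⧸ pz) →ₐ[MvPolynomial σ (A ⧸ ps)] _).toRingHom := Iff.rfl
    rw [h1, hZt2, Ideal.mem_bot, Ideal.Quotient.eq_zero_iff_mem]
  · ext v
    rw [Ideal.mem_comap, Ideal.mem_comap]
    show Φ (algebraMap (MvPolynomial σ V) _ v) ∈ Zt ↔ _
    rw [hΦV]
    have h1 : (Algebra.TensorProduct.includeLeftRingHom (MvPolynomial.map (residue V) v) :
        MvPolynomial σ (ResidueField V) ⊗[MvPolynomial σ (A ⧸ ps)] (B ⧸ pz)) ∈ Zt ↔
        MvPolynomial.map (residue V) v ∈ Zt.comap (Algebra.TensorProduct.includeLeftRingHom :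
          MvPolynomial σ (ResidueField V) →+* _) := Iff.rfl
    rw [h1, hZt1, Ideal.mem_bot, RingHom.mem_ker]

end

end Groth.Agent.Lib.lead.QfAff
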