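import Mathlib
import Groth.Prelude.Def_EGA43
import Groth.Agent.S4935
import Groth.Agent.Lib.lead.OpenAtSch

set_option autoImplicit false
set_option linter.style.haveILetI false
open CategoryTheory CategoryTheory.Limits AlgebraicGeometry TensorProduct Topology

universe u

namespace Groth.Agent.Lib.lead.UnibranchGD

/-- going down for an integral extension of the reduction of a unibranch local ring -/
theorem goingDown_red (O : Type u) [CommRing O] [IsLocalRing O] (hO : CAlg2.IsUnibranch O)
    (B : Type u) [CommRing B] [IsDomain B] [Algebra (CAlg2.red O) B]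
    (hinjA₁B : Function.Injective (algebraMap (CAlg2.red O) B))
    [hintA₁B : Algebra.IsIntegral (CAlg2.red O) B]
    (n : Ideal B) [n.IsPrime] (hnmax : (n.comap (algebraMap (CAlg2.red O) B)).IsMaximal)
    (p₁ : Ideal (CAlg2.red O)) [p₁.IsPrime] :
    ∃ q : Ideal B, q.IsPrime ∧ q ≤ n ∧ q.comap (algebraMap (CAlg2.red O) B) = p₁ := by
  classical
  obtain ⟨hdom, hloc⟩ := hO
  haveI : IsDomain (CAlg2.red O) := hdom
  haveI : IsLocalRing (CAlg2.normRed O) := hloc
  haveI : IsScalarTower (CAlg2.red O) B (FractionRing B) := inferInstance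
  have hinjA₁L : Function.Injective (algebraMap (CAlg2.red O) (FractionRing B)) := by
    rw [IsScalarTower.algebraMap_eq (CAlg2.red O) B (FractionRing B)]
    exact (IsFractionRing.injective B (FractionRing B)).comp hinjA₁B
  letI algK₁L : Algebra (FractionRing (CAlg2.red O)) (FractionRing B) :=
    (IsFractionRing.lift hinjA₁L).toAlgebra
  haveI : IsScalarTower (CAlg2.red O) (FractionRing (CAlg2.red O)) (FractionRing B) :=
    IsScalarTower.of_algebraMap_eq (fun x => (IsFractionRing.lift_algebraMap hinjA₁L x).symm)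
  let C : Subalgebra (CAlg2.red O) (FractionRing B) :=
    integralClosure (CAlg2.red O) (FractionRing B)
  let jB : B →ₐ[CAlg2.red O] C :=
    (IsScalarTower.toAlgHom (CAlg2.red O) B (FractionRing B)).codRestrict C (fun b =>
      (Algebra.IsIntegral.isIntegral (R := CAlg2.red O) b).map
        (IsScalarTower.toAlgHom (CAlg2.red O) B (FractionRing B)))
  let jA' : CAlg2.normRed O →ₐ[CAlg2.red O] C :=
    (IsScalarTower.toAlgHom (CAlg2.red O) (CAlg2.normRed O) (FractionRing B)).codRestrict C
      (fun a' => by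
        have h1 : IsIntegral (CAlg2.red O) (a' : FractionRing (CAlg2.red O)) := a'.2
        exact h1.map (IsScalarTower.toAlgHom (CAlg2.red O) (FractionRing (CAlg2.red O))
          (FractionRing B)))
  letI algBC : Algebra B C := jB.toRingHom.toAlgebra
  letI algA'C : Algebra (CAlg2.normRed O) C := jA'.toRingHom.toAlgebra
  haveI : IsScalarTower (CAlg2.red O) B C :=
    IsScalarTower.of_algebraMap_eq (fun x => (jB.commutes x).symm)
  haveI : IsScalarTower (CAlg2.red O) (CAlg2.normRed O) C :=
    IsScalarTower.of_algebraMap_eq (fun x => (jA'.commutes x).symm)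
  have hBC : Function.Injective (algebraMap B C) := by
    intro x y hxy
    apply IsFractionRing.injective B (FractionRing B)
    exact congrArg Subtype.val hxy
  haveI : FaithfulSMul (CAlg2.normRed O) C := by
    rw [faithfulSMul_iff_algebraMap_injective]
    intro x y hxy
    have h1 : algebraMap (FractionRing (CAlg2.red O)) (FractionRing B) (x : FractionRing (CAlg2.red O)) =
        algebraMap (FractionRing (CAlg2.red O)) (FractionRing B) (y : FractionRing (CAlg2.red O)) :=
      congrArg Subtype.val hxy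
    exact Subtype.ext ((algebraMap (FractionRing (CAlg2.red O)) (FractionRing B)).injective h1)
  haveI : Algebra.IsIntegral (CAlg2.normRed O) C :=
    ⟨fun x => (Algebra.IsIntegral.isIntegral (R := CAlg2.red O) x).tower_top⟩
  haveI : Algebra.IsIntegral B C :=
    ⟨fun x => (Algebra.IsIntegral.isIntegral (R := CAlg2.red O) x).tower_top⟩
  haveI : IsIntegrallyClosed (CAlg2.normRed O) :=
    integralClosure.isIntegrallyClosedOfFiniteExtension (R := CAlg2.red O)
      (FractionRing (CAlg2.red O)) (L := FractionRing (CAlg2.red O))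
  exact Groth.Agent.S4935.core (A₁ := CAlg2.red O) (A' := CAlg2.normRed O) (B := B) (C := C)
    hBC n hnmax p₁

/-- going down for an integral domain extension of a unibranch local ring (kernel nilpotent) -/
theorem goingDown_unibranch (O : Type u) [CommRing O] [IsLocalRing O] (hO : CAlg2.IsUnibranch O)
    (D : Type u) [CommRing D] [IsDomain D] [Algebra O D] [Algebra.IsIntegral O D]
    (hker : ∀ a : O, algebraMap O D a = 0 → a ∈ nilradical O)
    (n : Ideal D) [n.IsPrime] (hn : n.comap (algebraMap O D) = IsLocalRing.maximalIdeal O)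
    (P : Ideal O) [P.IsPrime] :
    ∃ n' : Ideal D, n'.IsPrime ∧ n' ≤ n ∧ n'.comap (algebraMap O D) = P := by
  have h0 : ∀ a ∈ nilradical O, algebraMap O D a = 0 := by
    intro a ha
    obtain ⟨k, hk⟩ := ha
    have h1 : (algebraMap O D a) ^ k = 0 := by rw [← map_pow, hk, map_zero]
    exact IsNilpotent.eq_zero ⟨k, h1⟩
  let g : CAlg2.red O →+* D := Ideal.Quotient.lift (nilradical O) (algebraMap O D) h0
  letI : Algebra (CAlg2.red O) D := g.toAlgebra
  have hg : ∀ a, algebraMap (CAlg2.red O) D (Ideal.Quotient.mk _ a) = algebraMap O D a :=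
    fun a => Ideal.Quotient.lift_mk _ _ _
  have hcomp : (algebraMap (CAlg2.red O) D).comp (Ideal.Quotient.mk (nilradical O)) =
      algebraMap O D := by
    ext a; exact hg a
  have hinj : Function.Injective (algebraMap (CAlg2.red O) D) := by
    rw [injective_iff_map_eq_zero]
    intro x hx
    obtain ⟨a, rfl⟩ := Ideal.Quotient.mk_surjective x
    rw [hg] at hx
    exact Ideal.Quotient.eq_zero_iff_mem.mpr (hker a hx)
  haveI : Algebra.IsIntegral (CAlg2.red O) D := ⟨fun b => by
    obtain ⟨Pol, hP, hPb⟩ := Algebra.IsIntegral.isIntegral (R := O) b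
    refine ⟨Pol.map (Ideal.Quotient.mk (nilradical O)), hP.map _, ?_⟩
    rw [Polynomial.eval₂_map, hcomp]
    exact hPb⟩
  have hcomap : (n.comap (algebraMap (CAlg2.red O) D)).comap (Ideal.Quotient.mk (nilradical O)) =
      IsLocalRing.maximalIdeal O := by
    rw [Ideal.comap_comap, hcomp, hn]
  have hnmax : (n.comap (algebraMap (CAlg2.red O) D)).IsMaximal := by
    have h1 := Ideal.map_comap_of_surjective _ Ideal.Quotient.mk_surjective
      (n.comap (algebraMap (CAlg2.red O) D))
    rw [hcomap] at h1
    rcases Ideal.map_eq_top_or_isMaximal_of_surjective _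
      (Ideal.Quotient.mk_surjective (I := nilradical O))
      (IsLocalRing.maximalIdeal.isMaximal O) with h | h
    · rw [h1] at h
      exact absurd h (Ideal.IsPrime.ne_top inferInstance)
    · rwa [h1] at h
  have hPle : nilradical O ≤ P := nilradical_le_prime P
  let p₁ := P.map (Ideal.Quotient.mk (nilradical O))
  haveI : p₁.IsPrime := Ideal.map_isPrime_of_surjective Ideal.Quotient.mk_surjective
    (by rwa [Ideal.mk_ker])
  have hp₁ : p₁.comap (Ideal.Quotient.mk (nilradical O)) = P :=
    Ideal.comap_map_of_surjective' _ Ideal.Quotient.mk_surjective _ |>.trans (by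
      rw [Ideal.mk_ker]; exact sup_eq_left.mpr hPle)
  obtain ⟨q, hq, hqn, hqp⟩ := goingDown_red O hO D hinj n hnmax p₁
  refine ⟨q, hq, hqn, ?_⟩
  rw [← hcomp, ← Ideal.comap_comap, hqp, hp₁]

/-- transfer of a smaller prime of a subalgebra through `S'[1/r] = S[1/r]` -/
theorem exists_prime_of_awayMap_bijective {R T : Type u} [CommRing R] [CommRing T] [Algebra R T]
    (D : Subalgebra R T) (r : D)
    (hbij : Function.Bijective (Localization.awayMap D.val.toRingHom r))
    (Q : Ideal T) [Q.IsPrime] (hr : (r : T) ∉ Q) (n' : Ideal D) [n'.IsPrime]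
    (hn' : n' ≤ Q.comap D.val.toRingHom) :
    ∃ Q' : Ideal T, Q'.IsPrime ∧ Q' ≤ Q ∧ Q'.comap D.val.toRingHom = n' := by
  have hrn' : r ∉ n' := fun h => hr (hn' h)
  let Dr := Localization.Away r
  let Tr := Localization.Away (D.val.toRingHom r)
  let φ : Dr →+* Tr := Localization.awayMap D.val.toRingHom r
  let e : Dr ≃+* Tr := RingEquiv.ofBijective φ hbij
  have hφ : ∀ x : D, φ (algebraMap D Dr x) = algebraMap T Tr (x : T) := by
    intro x
    exact IsLocalization.map_eq _ x
  have hdisj : Disjoint (Submonoid.powers r : Set D) (n' : Set D) := by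
    rw [Set.disjoint_left]
    rintro _ ⟨k, rfl⟩ h
    exact hrn' (Ideal.IsPrime.mem_of_pow_mem inferInstance k h)
  let J' := n'.map (algebraMap D Dr)
  haveI : J'.IsPrime :=
    IsLocalization.isPrime_of_isPrime_disjoint (Submonoid.powers r) Dr n' inferInstance hdisj
  have hJ' : J'.comap (algebraMap D Dr) = n' :=
    IsLocalization.under_map_of_isPrime_disjoint (Submonoid.powers r) Dr inferInstance hdisj
  let Q' := (J'.comap (e.symm : Tr →+* Dr)).comap (algebraMap T Tr)
  refine ⟨Q', inferInstance, ?_, ?_⟩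
  · have hdisjQ : Disjoint (Submonoid.powers (D.val.toRingHom r) : Set T) (Q : Set T) := by
      rw [Set.disjoint_left]
      rintro _ ⟨k, rfl⟩ h
      exact hr (Ideal.IsPrime.mem_of_pow_mem inferInstance k h)
    let I := Q.map (algebraMap T Tr)
    have hI : I.comap (algebraMap T Tr) = Q :=
      IsLocalization.under_map_of_isPrime_disjoint (Submonoid.powers (D.val.toRingHom r)) Tr
        inferInstance hdisjQ
    have h1 : J' ≤ I.comap (e : Dr →+* Tr) := by
      rw [Ideal.map_le_iff_le_comap]
      intro x hx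
      rw [Ideal.mem_comap, Ideal.mem_comap]
      change φ (algebraMap D Dr x) ∈ I
      rw [hφ]
      exact Ideal.mem_map_of_mem _ (hn' hx)
    intro x hx
    have h2 : e.symm (algebraMap T Tr x) ∈ J' := hx
    have h3 := h1 h2
    rw [Ideal.mem_comap] at h3
    have h4 : (e : Dr →+* Tr) (e.symm (algebraMap T Tr x)) = algebraMap T Tr x :=
      e.apply_symm_apply _
    rw [h4] at h3
    rw [← hI]
    exact h3
  · ext x
    rw [Ideal.mem_comap]
    change e.symm (algebraMap T Tr (x : T)) ∈ J' ↔ _
    rw [← hφ, show φ (algebraMap D Dr x) = e (algebraMap D Dr x) from rfl, e.symm_apply_apply,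
      ← Ideal.mem_comap, hJ']

set_option maxHeartbeats 1600000 in
/-- ring-level: generalizations lift along a quasi-finite dominant map of irreducible spectra at a
point with unibranch image -/
theorem exists_prime_le_of_unibranch {A B : Type u} [CommRing A] [CommRing B] [Algebra A B]
    [Algebra.FiniteType A B] [Algebra.QuasiFinite A B]
    (hB : (nilradical B).IsPrime) (hdom : (nilradical B).comap (algebraMap A B) ≤ nilradical A)
    (q : Ideal B) [q.IsPrime] (p : Ideal A) [p.IsPrime] (hpq : q.comap (algebraMap A B) = p)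
    (O : Type u) [CommRing O] [IsLocalRing O] [Algebra A O] [IsLocalization.AtPrime O p]
    (hO : CAlg2.IsUnibranch O) (p' : Ideal A) [p'.IsPrime] (hp' : p' ≤ p) :
    ∃ q' : Ideal B, q'.IsPrime ∧ q' ≤ q ∧ q'.comap (algebraMap A B) = p' := by
  classical
  haveI := hB
  let B₁ := B ⧸ nilradical B
  let mkB : B →+* B₁ := Ideal.Quotient.mk _
  have hnq : nilradical B ≤ q := nilradical_le_prime q
  let q₁ : Ideal B₁ := q.map mkB
  haveI : q₁.IsPrime := Ideal.map_isPrime_of_surjective Ideal.Quotient.mk_surjective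
    (by rwa [Ideal.mk_ker])
  have hq₁ : q₁.comap mkB = q :=
    (Ideal.comap_map_of_surjective' _ Ideal.Quotient.mk_surjective _).trans (by
      rw [Ideal.mk_ker]; exact sup_eq_left.mpr hnq)
  have hAB₁ : ∀ a : A, algebraMap A B₁ a = mkB (algebraMap A B a) := fun a => rfl
  have hzero : ∀ a : A, algebraMap A B₁ a = 0 → a ∈ nilradical A := by
    intro a ha
    apply hdom
    rw [Ideal.mem_comap]
    exact Ideal.Quotient.eq_zero_iff_mem.mp ha
  let T := O ⊗[A] B₁
  letI algB₁T : Algebra B₁ T := Algebra.TensorProduct.rightAlgebra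
  let M := Algebra.algebraMapSubmonoid B₁ p.primeCompl
  haveI : IsLocalization M T := IsLocalization.tensorRight O p.primeCompl
  have hM : M ≤ nonZeroDivisors B₁ := by
    rintro _ ⟨s, hs, rfl⟩
    apply mem_nonZeroDivisors_of_ne_zero
    intro h0
    exact hs (nilradical_le_prime p (hzero s h0))
  haveI : IsDomain T := IsLocalization.isDomain_of_le_nonZeroDivisors T hM
  have hinjT : Function.Injective (algebraMap B₁ T) := IsLocalization.injective T hM
  have hdisj : Disjoint (M : Set B₁) (q₁ : Set B₁) := by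
    rw [Set.disjoint_left]
    rintro _ ⟨s, hs, rfl⟩ h
    apply hs
    change s ∈ p
    rw [← hpq, Ideal.mem_comap, ← hq₁, Ideal.mem_comap]
    exact h
  let Q := q₁.map (algebraMap B₁ T)
  haveI : Q.IsPrime := IsLocalization.isPrime_of_isPrime_disjoint M T q₁ inferInstance hdisj
  have hQ : Q.comap (algebraMap B₁ T) = q₁ :=
    IsLocalization.under_map_of_isPrime_disjoint M T inferInstance hdisj
  have hAT : ∀ a : A, algebraMap O T (algebraMap A O a) = algebraMap B₁ T (algebraMap A B₁ a) := by
    intro a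
    rw [← IsScalarTower.algebraMap_apply, ← IsScalarTower.algebraMap_apply]
  obtain ⟨r, hrQ, hbij⟩ := Algebra.ZariskisMainProperty.of_finiteType (R := O) Q
  let D := integralClosure O T
  let n := Q.comap D.val.toRingHom
  have hkerT : ∀ a : O, algebraMap O T a = 0 → a ∈ nilradical O := by
    intro a ha
    obtain ⟨x, s, rfl⟩ := IsLocalization.exists_mk'_eq p.primeCompl a
    have h1 : algebraMap O T (algebraMap A O x) = 0 := by
      rw [← IsLocalization.mk'_spec O x s, map_mul, ha, zero_mul]
    rw [hAT] at h1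
    have h2 : algebraMap A B₁ x = 0 := hinjT (by rw [h1, map_zero])
    have h3 : x ∈ nilradical A := hzero x h2
    rw [IsLocalization.mk'_eq_mul_mk'_one x s]
    exact Ideal.mul_mem_right _ _ (IsNilpotent.map h3 (algebraMap A O))
  have hkerD : ∀ a : O, algebraMap O D a = 0 → a ∈ nilradical O := by
    intro a ha
    exact hkerT a (congrArg Subtype.val ha)
  have hn : n.comap (algebraMap O D) = IsLocalRing.maximalIdeal O := by
    apply le_antisymm
    · exact IsLocalRing.le_maximalIdeal (Ideal.IsPrime.ne_top inferInstance)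
    · intro a ha
      obtain ⟨x, s, rfl⟩ := IsLocalization.exists_mk'_eq p.primeCompl a
      rw [IsLocalization.AtPrime.mk'_mem_maximal_iff O p] at ha
      rw [IsLocalization.mk'_eq_mul_mk'_one x s]
      apply Ideal.mul_mem_right
      change algebraMap O T (algebraMap A O x) ∈ Q
      rw [hAT]
      apply Ideal.mem_map_of_mem
      rw [← hpq, Ideal.mem_comap] at ha
      exact Ideal.mem_map_of_mem mkB ha
  have hdisjP : Disjoint (p.primeCompl : Set A) (p' : Set A) := by
    rw [Set.disjoint_left]
    intro a ha h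
    exact ha (hp' h)
  let P := p'.map (algebraMap A O)
  haveI : P.IsPrime :=
    IsLocalization.isPrime_of_isPrime_disjoint p.primeCompl O p' inferInstance hdisjP
  have hP : P.comap (algebraMap A O) = p' :=
    IsLocalization.under_map_of_isPrime_disjoint p.primeCompl O inferInstance hdisjP
  obtain ⟨n', hn'prime, hn'le, hn'P⟩ := goingDown_unibranch O hO D hkerD n hn P
  obtain ⟨Q', hQ'prime, hQ'le, hQ'n'⟩ :=
    exists_prime_of_awayMap_bijective D r hbij Q hrQ n' hn'le
  refine ⟨(Q'.comap (algebraMap B₁ T)).comap mkB, inferInstance, ?_, ?_⟩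
  · rw [← hq₁, ← hQ]
    exact Ideal.comap_mono (Ideal.comap_mono hQ'le)
  · rw [Ideal.comap_comap, Ideal.comap_comap]
    have hcomp : (algebraMap B₁ T).comp (mkB.comp (algebraMap A B)) =
        D.val.toRingHom.comp ((algebraMap O D).comp (algebraMap A O)) := by
      ext a
      exact (hAT a).symm
    rw [hcomp, ← Ideal.comap_comap, ← Ideal.comap_comap, hQ'n', hn'P, hP]

open EGA43 Groth.Agent.Lib.lead.OpenAt Groth.Agent.Lib.lead.OpenAtSch in
set_option maxHeartbeats 1600000 in
theorem isOpenAt_of_unibranch {X Y : Scheme.{u}} [IrreducibleSpace X] [IrreducibleSpace Y]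
    (f : X ⟶ Y) [LocallyOfFinitePresentation f] [LocallyQuasiFinite f] [IsDominant f]
    (x : X) (hy : CAlg2.IsUnibranch (Y.presheaf.stalk (f.base x))) :
    EGA43.IsOpenAt f.base x := by
  obtain ⟨V, U, hV, hU, e, hxU, -⟩ := exists_affine_chart f x ⊤ trivial
  have hcomm := hV.SpecMap_appLE_fromSpec f hU e
  have hcomm' : ∀ a, f (hU.fromSpec a) = hV.fromSpec ((Spec.map (f.appLE V U e)) a) := by
    intro a
    rw [← Scheme.Hom.comp_apply, ← Scheme.Hom.comp_apply, hcomm]
  obtain ⟨x₀, hx₀x⟩ : ∃ x₀, hU.fromSpec x₀ = x := ⟨_, hU.fromSpec_primeIdealOf ⟨x, hxU⟩⟩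
  subst hx₀x
  have hfx : f (hU.fromSpec x₀) ∈ V := e hxU
  letI algO : Algebra Γ(Y, V) (Y.presheaf.stalk (f (hU.fromSpec x₀))) :=
    Y.presheaf.algebra_section_stalk ⟨f (hU.fromSpec x₀), hfx⟩
  have hloc : IsLocalization.AtPrime (Y.presheaf.stalk (f (hU.fromSpec x₀)))
      (hV.primeIdealOf ⟨f (hU.fromSpec x₀), hfx⟩).asIdeal := hV.isLocalization_stalk ⟨_, hfx⟩
  have hp : PrimeSpectrum.comap (f.appLE V U e).hom x₀ =
      hV.primeIdealOf ⟨f (hU.fromSpec x₀), hfx⟩ := by
    apply hV.fromSpec.isOpenEmbedding.injective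
    rw [hV.fromSpec_primeIdealOf]
    exact (hcomm' x₀).symm
  have hloc' : IsLocalization.AtPrime (Y.presheaf.stalk (f (hU.fromSpec x₀)))
      (PrimeSpectrum.comap (f.appLE V U e).hom x₀).asIdeal := by
    rw [hp]; exact hloc
  -- generic points
  have hξU : genericPoint X ∈ U :=
    (genericPoint_specializes (hU.fromSpec x₀)).mem_open U.isOpen hxU
  obtain ⟨ξ₀, hξ₀⟩ : genericPoint X ∈ Set.range hU.fromSpec := by
    rw [hU.range_fromSpec]; exact hξU
  have hnilB : nilradical Γ(X, U) = ξ₀.asIdeal := by
    apply le_antisymm (nilradical_le_prime _)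
    rw [nilradical_eq_sInf]
    apply le_sInf
    intro P hP
    have hPprime : P.IsPrime := hP
    have h1 : genericPoint X ⤳ hU.fromSpec ⟨P, hPprime⟩ := genericPoint_specializes _
    rw [← hξ₀] at h1
    have h2 : ξ₀ ⤳ ⟨P, hPprime⟩ :=
      hU.fromSpec.isOpenEmbedding.isInducing.specializes_iff.mp h1
    exact (PrimeSpectrum.le_iff_specializes _ _).mpr h2
  have hgen : ∀ y : Y, f (genericPoint X) ⤳ y := by
    intro y
    have h1 : IsGenericPoint (f (genericPoint X)) (closure (f.base '' ⊤)) :=
      (genericPoint_spec X).image f.continuous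
    rw [Set.top_eq_univ, Set.image_univ, f.denseRange.closure_range] at h1
    exact h1.specializes (Set.mem_univ y)
  have hdom : (nilradical Γ(X, U)).comap (f.appLE V U e).hom ≤ nilradical Γ(Y, V) := by
    rw [hnilB, nilradical_eq_sInf]
    apply le_sInf
    intro P hP
    have hPprime : P.IsPrime := hP
    have h1 : f (genericPoint X) ⤳ hV.fromSpec ⟨P, hPprime⟩ := hgen _
    rw [← hξ₀, hcomm'] at h1
    have h2 := hV.fromSpec.isOpenEmbedding.isInducing.specializes_iff.mp h1
    exact (PrimeSpectrum.le_iff_specializes _ _).mpr h2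
  have hBprime : (nilradical Γ(X, U)).IsPrime := by rw [hnilB]; exact ξ₀.isPrime
  have hft : (f.appLE V U e).hom.FiniteType := f.finiteType_appLE hV hU e
  have hqf : (f.appLE V U e).hom.QuasiFinite :=
    HasRingHomProperty.appLE @LocallyQuasiFinite f inferInstance ⟨V, hV⟩ ⟨U, hU⟩ e
  refine isOpenAt_of_chart (F₀ := (Spec.map (f.appLE V U e)).base) (j := hU.fromSpec.base)
    (ι := hV.fromSpec.base) hU.fromSpec.continuous hV.fromSpec.isOpenEmbedding.isOpenMap
    hcomm' x₀ ?_
  change IsOpenAt (PrimeSpectrum.comap (f.appLE V U e).hom) x₀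
  apply isOpenAt_comap_of_generalizing _ (f.finitePresentation_appLE hV hU e) x₀
  intro p' hp'
  have hle : p'.asIdeal ≤ (PrimeSpectrum.comap (f.appLE V U e).hom x₀).asIdeal :=
    (PrimeSpectrum.le_iff_specializes _ _).mpr hp'
  algebraize [(f.appLE V U e).hom]
  haveI : Algebra.QuasiFinite Γ(Y, V) Γ(X, U) := hqf
  obtain ⟨q', hq'prime, hq'le, hq'⟩ := exists_prime_le_of_unibranch (A := Γ(Y, V)) (B := Γ(X, U))
    hBprime hdom x₀.asIdeal (PrimeSpectrum.comap (f.appLE V U e).hom x₀).asIdeal rfl
    (Y.presheaf.stalk (f (hU.fromSpec x₀))) hy p'.asIdeal hle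
  refine ⟨⟨q', hq'prime⟩, (PrimeSpectrum.le_iff_specializes _ _).mp hq'le, ?_⟩
  exact PrimeSpectrum.ext hq'

end Groth.Agent.Lib.lead.UnibranchGD
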