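import Mathlib
import Groth.Prelude.Def_EGA43
import Groth.Agent.Lib.lead.UnibranchGD
import Groth.Agent.Lib.lead.GUPoly
import Groth.Agent.Lib.lead.UnivOpenAffine
import Groth.Agent.Lib.lead.OpenAtSch
import Groth.Agent.Lib.lead.FlatEquidimGen

set_option autoImplicit false
set_option linter.style.haveILetI false
open CategoryTheory CategoryTheory.Limits AlgebraicGeometry TensorProduct Topology

universe u

namespace Groth.Agent.Lib.lead.UnibranchUnivOpen

open Groth.Agent.Lib.lead.UnibranchGD

set_option maxHeartbeats 1600000 in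
/-- ring-level: generalizations lift along a quasi-finite dominant map of irreducible spectra at a
point with unibranch image -/
theorem exists_prime_le_of_unibranch' {A B : Type u} [CommRing A] [CommRing B] [Algebra A B]
    [Algebra.FiniteType A B] [Algebra.QuasiFinite A B]
    (hB : (nilradical B).IsPrime)
    (q : Ideal B) [q.IsPrime] (p : Ideal A) [p.IsPrime] (hpq : q.comap (algebraMap A B) = p)
    (O : Type u) [CommRing O] [IsLocalRing O] [Algebra A O] [IsLocalization.AtPrime O p]
    (hdom : ∀ a : A, algebraMap A B a ∈ nilradical B → algebraMap A O a ∈ nilradical O)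
    (hO : CAlg2.IsUnibranch O) (p' : Ideal A) [p'.IsPrime] (hp' : p' ≤ p) :
    ∃ q' : Ideal B, q'.IsPrime ∧ q' ≤ q ∧ q'.comap (algebraMap A B) = p' := by
  classical
  haveI := hB
  let B₁ := B ⧸ nilradical B
  let mkB : B →+* B₁ := Ideal.Quotient.mk _
  have hnq : nilradical B ≤ q := nilradical_le_prime q
  let q₁ : Ideal B₁ := q.map mkB
  haveI : q₁.IsPrime := Ideal.map_isPrime_of_surjective Ideal.Quotient.mk_surjective
    (by rwa [Ideal.mk_ker])
  have hq₁ : q₁.comap mkB = q :=
    (Ideal.comap_map_of_surjective' _ Ideal.Quotient.mk_surjective _).trans (by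
      rw [Ideal.mk_ker]; exact sup_eq_left.mpr hnq)
  have hAB₁ : ∀ a : A, algebraMap A B₁ a = mkB (algebraMap A B a) := fun a => rfl
  have hzero : ∀ a : A, algebraMap A B₁ a = 0 → algebraMap A O a ∈ nilradical O := by
    intro a ha
    apply hdom
    exact Ideal.Quotient.eq_zero_iff_mem.mp ha
  let T := O ⊗[A] B₁
  letI algB₁T : Algebra B₁ T := Algebra.TensorProduct.rightAlgebra
  let M := Algebra.algebraMapSubmonoid B₁ p.primeCompl
  haveI : IsLocalization M T := IsLocalization.tensorRight O p.primeCompl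
  have hM : M ≤ nonZeroDivisors B₁ := by
    rintro _ ⟨s, hs, rfl⟩
    apply mem_nonZeroDivisors_of_ne_zero
    intro h0
    obtain ⟨k, hk⟩ := mem_nilradical.mp (hzero s h0)
    have hu : IsUnit ((algebraMap A O s) ^ k) :=
      (IsLocalization.map_units O (⟨s, hs⟩ : p.primeCompl)).pow k
    rw [hk] at hu
    exact not_isUnit_zero hu
  haveI : IsDomain T := IsLocalization.isDomain_of_le_nonZeroDivisors T hM
  have hinjT : Function.Injective (algebraMap B₁ T) := IsLocalization.injective T hM
  have hdisj : Disjoint (M : Set B₁) (q₁ : Set B₁) := by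
    rw [Set.disjoint_left]
    rintro _ ⟨s, hs, rfl⟩ h
    apply hs
    change s ∈ p
    rw [← hpq, Ideal.mem_comap, ← hq₁, Ideal.mem_comap]
    exact h
  let Q := q₁.map (algebraMap B₁ T)
  haveI : Q.IsPrime := IsLocalization.isPrime_of_isPrime_disjoint M T q₁ inferInstance hdisj
  have hQ : Q.comap (algebraMap B₁ T) = q₁ :=
    IsLocalization.under_map_of_isPrime_disjoint M T inferInstance hdisj
  have hAT : ∀ a : A, algebraMap O T (algebraMap A O a) = algebraMap B₁ T (algebraMap A B₁ a) := by
    intro a
    rw [← IsScalarTower.algebraMap_apply, ← IsScalarTower.algebraMap_apply]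
  obtain ⟨r, hrQ, hbij⟩ := Algebra.ZariskisMainProperty.of_finiteType (R := O) Q
  let D := integralClosure O T
  let n := Q.comap D.val.toRingHom
  have hkerT : ∀ a : O, algebraMap O T a = 0 → a ∈ nilradical O := by
    intro a ha
    obtain ⟨x, s, rfl⟩ := IsLocalization.exists_mk'_eq p.primeCompl a
    have h1 : algebraMap O T (algebraMap A O x) = 0 := by
      rw [← IsLocalization.mk'_spec O x s, map_mul, ha, zero_mul]
    rw [hAT] at h1
    have h2 : algebraMap A B₁ x = 0 := hinjT (by rw [h1, map_zero])
    have h3 : algebraMap A O x ∈ nilradical O := hzero x h2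
    rw [IsLocalization.mk'_eq_mul_mk'_one x s]
    exact Ideal.mul_mem_right _ _ h3
  have hkerD : ∀ a : O, algebraMap O D a = 0 → a ∈ nilradical O := by
    intro a ha
    exact hkerT a (congrArg Subtype.val ha)
  have hn : n.comap (algebraMap O D) = IsLocalRing.maximalIdeal O := by
    apply le_antisymm
    · exact IsLocalRing.le_maximalIdeal (Ideal.IsPrime.ne_top inferInstance)
    · intro a ha
      obtain ⟨x, s, rfl⟩ := IsLocalization.exists_mk'_eq p.primeCompl a
      rw [IsLocalization.AtPrime.mk'_mem_maximal_iff O p] at ha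
      rw [IsLocalization.mk'_eq_mul_mk'_one x s]
      apply Ideal.mul_mem_right
      change algebraMap O T (algebraMap A O x) ∈ Q
      rw [hAT]
      apply Ideal.mem_map_of_mem
      rw [← hpq, Ideal.mem_comap] at ha
      exact Ideal.mem_map_of_mem mkB ha
  have hdisjP : Disjoint (p.primeCompl : Set A) (p' : Set A) := by
    rw [Set.disjoint_left]
    intro a ha h
    exact ha (hp' h)
  let P := p'.map (algebraMap A O)
  haveI : P.IsPrime :=
    IsLocalization.isPrime_of_isPrime_disjoint p.primeCompl O p' inferInstance hdisjP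
  have hP : P.comap (algebraMap A O) = p' :=
    IsLocalization.under_map_of_isPrime_disjoint p.primeCompl O inferInstance hdisjP
  obtain ⟨n', hn'prime, hn'le, hn'P⟩ := goingDown_unibranch O hO D hkerD n hn P
  obtain ⟨Q', hQ'prime, hQ'le, hQ'n'⟩ :=
    exists_prime_of_awayMap_bijective D r hbij Q hrQ n' hn'le
  refine ⟨(Q'.comap (algebraMap B₁ T)).comap mkB, inferInstance, ?_, ?_⟩
  · rw [← hq₁, ← hQ]
    exact Ideal.comap_mono (Ideal.comap_mono hQ'le)
  · rw [Ideal.comap_comap, Ideal.comap_comap]
    have hcomp : (algebraMap B₁ T).comp (mkB.comp (algebraMap A B)) =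
        D.val.toRingHom.comp ((algebraMap O D).comp (algebraMap A O)) := by
      ext a
      exact (hAT a).symm
    rw [hcomp, ← Ideal.comap_comap, ← Ideal.comap_comap, hQ'n', hn'P, hP]


section MvPoly

attribute [local instance] MvPolynomial.algebraMvPolynomial

theorem quasiFinite_mvPolynomial (A B : Type u) [CommRing A] [CommRing B] [Algebra A B]
    [Algebra.QuasiFinite A B] (σ : Type u) :
    Algebra.QuasiFinite (MvPolynomial σ A) (MvPolynomial σ B) :=
  (Algebra.QuasiFinite.iff_of_algEquiv
    (Algebra.IsPushout.equiv A (MvPolynomial σ A) B (MvPolynomial σ B))).mp inferInstance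

theorem finiteType_mvPolynomial (A B : Type u) [CommRing A] [CommRing B] [Algebra A B]
    [Algebra.FiniteType A B] (σ : Type u) :
    Algebra.FiniteType (MvPolynomial σ A) (MvPolynomial σ B) :=
  Algebra.FiniteType.equiv inferInstance
    (Algebra.IsPushout.equiv A (MvPolynomial σ A) B (MvPolynomial σ B))

open Groth.Agent.Lib.lead.GUPoly in
set_option maxHeartbeats 1600000 in
/-- going down for `A[T] → B[T]`, for `A → B` quasi-finite over a geometrically unibranch base
with minimal primes contracting to minimal primes -/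
theorem exists_prime_le_mvPolynomial {A B : Type u} [CommRing A] [CommRing B] [Algebra A B]
    [Algebra.FiniteType A B] [Algebra.QuasiFinite A B]
    (hGU : ∀ (p : Ideal A) [p.IsPrime], CAlg2.IsGeomUnibranch (Localization.AtPrime p))
    (hmin : ∀ P ∈ minimalPrimes B, P.comap (algebraMap A B) ∈ minimalPrimes A)
    (σ : Type u) (q' : Ideal (MvPolynomial σ B)) [q'.IsPrime]
    (p'' : Ideal (MvPolynomial σ A)) [p''.IsPrime]
    (hle : p'' ≤ q'.comap (algebraMap (MvPolynomial σ A) (MvPolynomial σ B))) :
    ∃ q'' : Ideal (MvPolynomial σ B), q''.IsPrime ∧ q'' ≤ q' ∧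
      q''.comap (algebraMap (MvPolynomial σ A) (MvPolynomial σ B)) = p'' := by
  classical
  let p' : Ideal (MvPolynomial σ A) :=
    q'.comap (algebraMap (MvPolynomial σ A) (MvPolynomial σ B))
  let q₀ : Ideal B := q'.comap (MvPolynomial.C (σ := σ) (R := B))
  obtain ⟨P, hPmin, hPle⟩ := Ideal.exists_minimalPrimes_le (show (⊥ : Ideal B) ≤ q₀ from bot_le)
  haveI hPprime : P.IsPrime := hPmin.1.1
  let p₀ : Ideal A := P.comap (algebraMap A B)
  have hp₀ : p₀ ∈ minimalPrimes A := hmin P hPmin
  let B' := B ⧸ P
  let B₁ := MvPolynomial σ B'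
  let π : MvPolynomial σ B →+* B₁ := MvPolynomial.map (Ideal.Quotient.mk P)
  have hπsurj : Function.Surjective π :=
    MvPolynomial.map_surjective _ Ideal.Quotient.mk_surjective
  have hkerπ : RingHom.ker π = P.map (MvPolynomial.C (σ := σ) (R := B)) := by
    rw [MvPolynomial.ker_map, Ideal.mk_ker]
  have hkerle : RingHom.ker π ≤ q' := by
    rw [hkerπ, Ideal.map_le_iff_le_comap]
    exact hPle
  let q₁ : Ideal B₁ := q'.map π
  haveI : q₁.IsPrime := Ideal.map_isPrime_of_surjective hπsurj hkerle
  have hq₁ : q₁.comap π = q' :=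
    (Ideal.comap_map_of_surjective' π hπsurj q').trans (sup_eq_left.mpr hkerle)
  haveI : Algebra.QuasiFinite (MvPolynomial σ A) B₁ := quasiFinite_mvPolynomial A B' σ
  haveI : Algebra.FiniteType (MvPolynomial σ A) B₁ := finiteType_mvPolynomial A B' σ
  have hcomp : algebraMap (MvPolynomial σ A) B₁ =
      π.comp (algebraMap (MvPolynomial σ A) (MvPolynomial σ B)) := by
    rw [MvPolynomial.algebraMap_def, MvPolynomial.algebraMap_def]
    refine RingHom.ext fun x => ?_
    rw [RingHom.comp_apply]
    change _ = MvPolynomial.map _ (MvPolynomial.map _ x)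
    rw [MvPolynomial.map_map]
    rfl
  have hB : (nilradical B₁).IsPrime := by
    rw [nilradical_eq_zero]
    exact Ideal.isPrime_bot
  have hpq : q₁.comap (algebraMap (MvPolynomial σ A) B₁) = p' := by
    rw [hcomp, ← Ideal.comap_comap, hq₁]
  let p : Ideal A := p'.comap (algebraMap A (MvPolynomial σ A))
  have hGUO : CAlg2.IsGeomUnibranch (Localization.AtPrime p') :=
    isGeomUnibranch_mvPolynomial p (Localization.AtPrime p) (hGU p) σ p' rfl _
  -- the nilradical of A_p is prime and contracts to p₀
  haveI hNprime : (nilradical (Localization.AtPrime p)).IsPrime := by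
    have := (hGU p).1.1
    exact (Ideal.Quotient.isDomain_iff_prime _).mp this
  have hp₀p : p₀ ≤ p := by
    intro c hc
    change algebraMap (MvPolynomial σ A) (MvPolynomial σ B) (algebraMap A (MvPolynomial σ A) c) ∈ q'
    rw [MvPolynomial.algebraMap_def, MvPolynomial.algebraMap_eq, MvPolynomial.map_C]
    exact hPle hc
  haveI hp₀prime : p₀.IsPrime := hp₀.1.1
  have hdisj₀ : Disjoint (p.primeCompl : Set A) (p₀ : Set A) := by
    rw [Set.disjoint_left]
    intro a ha h
    exact ha (hp₀p h)
  have hnil₀ : ∀ c ∈ p₀, IsNilpotent (algebraMap A (Localization.AtPrime p) c) := by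
    intro c hc
    let N' : Ideal A := (nilradical (Localization.AtPrime p)).comap (algebraMap A _)
    have h1 : N' ≤ p₀ := by
      haveI : (p₀.map (algebraMap A (Localization.AtPrime p))).IsPrime :=
        IsLocalization.isPrime_of_isPrime_disjoint p.primeCompl _ p₀ inferInstance hdisj₀
      have h2 : nilradical (Localization.AtPrime p) ≤ p₀.map (algebraMap A _) :=
        nilradical_le_prime _
      have h3 := Ideal.comap_mono (f := algebraMap A (Localization.AtPrime p)) h2
      have h4 : (p₀.map (algebraMap A (Localization.AtPrime p))).comap (algebraMap A _) = p₀ :=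
        IsLocalization.under_map_of_isPrime_disjoint p.primeCompl _ inferInstance hdisj₀
      rw [h4] at h3
      exact h3
    have h4 : p₀ ≤ N' := hp₀.2 ⟨inferInstance, bot_le⟩ h1
    exact mem_nilradical.mp (h4 hc)
  have hdom : ∀ a : MvPolynomial σ A, algebraMap (MvPolynomial σ A) B₁ a ∈ nilradical B₁ →
      algebraMap (MvPolynomial σ A) (Localization.AtPrime p') a ∈
        nilradical (Localization.AtPrime p') := by
    intro a ha
    rw [nilradical_eq_zero, Ideal.zero_eq_bot, Ideal.mem_bot, MvPolynomial.algebraMap_def] at ha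
    let I : Ideal (MvPolynomial σ A) :=
      (nilradical (Localization.AtPrime p')).comap (algebraMap (MvPolynomial σ A) _)
    have hI : p₀.map (MvPolynomial.C (σ := σ) (R := A)) ≤ I := by
      rw [Ideal.map_le_iff_le_comap]
      intro c hc
      obtain ⟨k, hk⟩ := hnil₀ c hc
      rw [← map_pow, IsLocalization.map_eq_zero_iff p.primeCompl] at hk
      obtain ⟨⟨s, hs⟩, hsc⟩ := hk
      simp only at hsc
      rw [Ideal.mem_comap, Ideal.mem_comap, mem_nilradical]
      refine ⟨k, ?_⟩
      have hsu : IsUnit (algebraMap (MvPolynomial σ A) (Localization.AtPrime p')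
          (MvPolynomial.C s)) :=
        IsLocalization.map_units _ (⟨MvPolynomial.C s, hs⟩ : p'.primeCompl)
      have h5 : algebraMap (MvPolynomial σ A) (Localization.AtPrime p') (MvPolynomial.C s) *
          (algebraMap (MvPolynomial σ A) (Localization.AtPrime p') (MvPolynomial.C c)) ^ k = 0 := by
        rw [← map_pow, ← map_mul, ← map_pow, ← map_mul, hsc, map_zero, map_zero]
      exact hsu.mul_right_eq_zero.mp h5
    have haI : a ∈ p₀.map (MvPolynomial.C (σ := σ) (R := A)) := by
      rw [MvPolynomial.mem_map_C_iff]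
      intro m
      have h6 := congrArg (MvPolynomial.coeff m) ha
      rw [MvPolynomial.coeff_map, MvPolynomial.coeff_zero] at h6
      change algebraMap A B (MvPolynomial.coeff m a) ∈ P
      exact Ideal.Quotient.eq_zero_iff_mem.mp h6
    exact hI haI
  obtain ⟨q₁', hq₁'prime, hq₁'le, hq₁'⟩ := exists_prime_le_of_unibranch'
    (A := MvPolynomial σ A) (B := B₁) hB q₁ p' hpq (Localization.AtPrime p') hdom hGUO.1 p'' hle
  refine ⟨q₁'.comap π, inferInstance, ?_, ?_⟩
  · rw [← hq₁]
    exact Ideal.comap_mono hq₁'le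
  · rw [Ideal.comap_comap, ← hcomp, hq₁']

/-- openness of `Spec B[T] → Spec A[T]` -/
theorem isOpenMap_comap_mvPolynomial {A B : Type u} [CommRing A] [CommRing B] [Algebra A B]
    [IsNoetherianRing A] [Algebra.FiniteType A B] [Algebra.QuasiFinite A B]
    (hGU : ∀ (p : Ideal A) [p.IsPrime], CAlg2.IsGeomUnibranch (Localization.AtPrime p))
    (hmin : ∀ P ∈ minimalPrimes B, P.comap (algebraMap A B) ∈ minimalPrimes A)
    (σ : Type u) [Finite σ] :
    IsOpenMap (PrimeSpectrum.comap
      (MvPolynomial.map (algebraMap A B) : MvPolynomial σ A →+* MvPolynomial σ B)) := by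
  haveI : Algebra.FiniteType (MvPolynomial σ A) (MvPolynomial σ B) := finiteType_mvPolynomial A B σ
  haveI : Algebra.FinitePresentation (MvPolynomial σ A) (MvPolynomial σ B) :=
    Algebra.FinitePresentation.of_finiteType.mp inferInstance
  haveI : Algebra.HasGoingDown (MvPolynomial σ A) (MvPolynomial σ B) := by
    rw [Algebra.HasGoingDown.iff_generalizingMap_primeSpectrumComap]
    intro Q p hp
    rw [← PrimeSpectrum.le_iff_specializes] at hp
    obtain ⟨q'', hq''prime, hq''le, hq''⟩ :=
      exists_prime_le_mvPolynomial hGU hmin σ Q.asIdeal p.asIdeal hp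
    exact ⟨⟨q'', hq''prime⟩, (PrimeSpectrum.le_iff_specializes _ _).mp hq''le,
      PrimeSpectrum.ext hq''⟩
  exact PrimeSpectrum.isOpenMap_comap_of_hasGoingDown_of_finitePresentation
    (R := MvPolynomial σ A) (S := MvPolynomial σ B)

end MvPoly

section Scheme

open AlgebraicGeometry.AffineSpace Groth.Agent.Lib.lead.UnivOpenAffine
  Groth.Agent.Lib.lead.OpenAtSch Groth.Agent.Lib.lead.GUPack

/-- ring-level openness of all polynomial extensions gives universal openness of `Spec.map` -/
theorem universallyOpen_SpecMap_of_isOpenMap_comap {R S : CommRingCat.{u}} (φ : R ⟶ S)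
    (H : ∀ (n : Type u) [Finite n], IsOpenMap (PrimeSpectrum.comap
      (MvPolynomial.map φ.hom : MvPolynomial n R →+* MvPolynomial n S))) :
    UniversallyOpen (Spec.map φ) := by
  apply universallyOpen_of_affOpen
  intro n _
  rw [map_SpecMap, Scheme.Hom.comp_base, Scheme.Hom.comp_base]
  exact ((SpecIso n R).inv.homeomorph.isOpenMap.comp (H n)).comp
    (SpecIso n S).hom.homeomorph.isOpenMap

set_option maxHeartbeats 1600000 in
theorem universallyOpen_of_lqf_of_gu {X Y : Scheme.{u}} (f : X ⟶ Y) [LocallyQuasiFinite f]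
    [LocallyOfFiniteType f] [IsLocallyNoetherian Y]
    (hY : ∀ y : Y, CAlg2.IsGeomUnibranch (Y.presheaf.stalk y))
    (hdom : ∀ Z ∈ irreducibleComponents ↑X, ∀ x : X, IsGenericPoint x Z →
      ∃ W ∈ irreducibleComponents ↑Y, IsGenericPoint (f x) W) :
    UniversallyOpen f := by
  have hmax : ∀ x : X, (∀ x', x' ⤳ x → x' = x) → ∀ y', y' ⤳ f x → y' = f x := by
    intro x hx y' hy'
    have hZ := Groth.Agent.Lib.lead.FlatEquidimGen.closure_singleton_mem_irreducibleComponents x hx
    obtain ⟨W, hW, hWgen⟩ := hdom _ hZ x isGenericPoint_closure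
    have h1 : W ⊆ closure {y'} := by
      rw [← hWgen.def]
      exact specializes_iff_closure_subset.mp hy'
    have h2 : closure {y'} ⊆ W := hW.2 isIrreducible_singleton.closure h1
    have h3 : IsGenericPoint y' W := le_antisymm h2 h1
    exact h3.eq hWgen
  have key : ∀ x : X, ∃ U : X.Opens, x ∈ U ∧ UniversallyOpen (U.ι ≫ f) := by
    intro x
    obtain ⟨V, U, hV, hU, e, hxU, -⟩ := exists_affine_chart f x ⊤ trivial
    refine ⟨U, hxU, ?_⟩
    have hcomm := hV.SpecMap_appLE_fromSpec f hU e
    have hcomm' : ∀ a, f (hU.fromSpec a) = hV.fromSpec ((Spec.map (f.appLE V U e)) a) := by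
      intro a
      rw [← Scheme.Hom.comp_apply, ← Scheme.Hom.comp_apply, hcomm]
    have hfac : U.ι ≫ f = hU.isoSpec.hom ≫ Spec.map (f.appLE V U e) ≫ hV.fromSpec := by
      rw [hcomm, ← Category.assoc, hU.isoSpec_hom_fromSpec]
    rw [hfac]
    have hft : (f.appLE V U e).hom.FiniteType := f.finiteType_appLE hV hU e
    have hqf : (f.appLE V U e).hom.QuasiFinite :=
      HasRingHomProperty.appLE @LocallyQuasiFinite f inferInstance ⟨V, hV⟩ ⟨U, hU⟩ e
    haveI : IsNoetherianRing Γ(Y, V) := IsLocallyNoetherian.component_noetherian ⟨V, hV⟩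
    algebraize [(f.appLE V U e).hom]
    haveI : Algebra.QuasiFinite Γ(Y, V) Γ(X, U) := hqf
    have hGU : ∀ (p : Ideal Γ(Y, V)) [p.IsPrime],
        CAlg2.IsGeomUnibranch (Localization.AtPrime p) := by
      intro p hp
      let y : PrimeSpectrum Γ(Y, V) := ⟨p, hp⟩
      have hy : hV.fromSpec y ∈ V := by
        have := hV.range_fromSpec
        rw [← SetLike.mem_coe, ← this]
        exact ⟨y, rfl⟩
      letI := TopCat.Presheaf.algebra_section_stalk Y.presheaf ⟨hV.fromSpec y, hy⟩
      haveI : IsLocalization.AtPrime (Y.presheaf.stalk (hV.fromSpec y)) y.asIdeal :=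
        hV.isLocalization_stalk' y hy
      exact of_ringEquiv (IsLocalization.algEquiv p.primeCompl (Localization.AtPrime p)
        (Y.presheaf.stalk (hV.fromSpec y))).toRingEquiv (hY _)
    have hmin : ∀ P ∈ minimalPrimes Γ(X, U),
        P.comap (algebraMap Γ(Y, V) Γ(X, U)) ∈ minimalPrimes Γ(Y, V) := by
      intro P hP
      haveI hPprime : P.IsPrime := hP.1.1
      let xP : PrimeSpectrum Γ(X, U) := ⟨P, hPprime⟩
      have hxPU : hU.fromSpec xP ∈ U := by
        have := hU.range_fromSpec
        rw [← SetLike.mem_coe, ← this]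
        exact ⟨xP, rfl⟩
      have hxmax : ∀ x', x' ⤳ hU.fromSpec xP → x' = hU.fromSpec xP := by
        intro x' hx'
        have hx'U : x' ∈ U := hx'.mem_open U.isOpen hxPU
        obtain ⟨P', rfl⟩ : x' ∈ Set.range hU.fromSpec := by
          rw [hU.range_fromSpec]; exact hx'U
        have h2 : P' ⤳ xP := hU.fromSpec.isOpenEmbedding.isInducing.specializes_iff.mp hx'
        have h3 : P'.asIdeal ≤ P := (PrimeSpectrum.le_iff_specializes _ _).mpr h2
        have h4 : P ≤ P'.asIdeal := hP.2 ⟨P'.isPrime, bot_le⟩ h3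
        congr 1
        exact PrimeSpectrum.ext (le_antisymm h3 h4)
      have hymax := hmax _ hxmax
      refine ⟨⟨inferInstance, bot_le⟩, ?_⟩
      rintro p' ⟨hp'prime, -⟩ hle
      let yp' : PrimeSpectrum Γ(Y, V) := ⟨p', hp'prime⟩
      have h5 : yp' ⤳ Spec.map (f.appLE V U e) xP :=
        (PrimeSpectrum.le_iff_specializes yp' (Spec.map (f.appLE V U e) xP)).mp hle
      have h6 : hV.fromSpec yp' ⤳ f (hU.fromSpec xP) := by
        rw [hcomm']
        exact h5.map hV.fromSpec.continuous
      have h7 := hymax _ h6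
      rw [hcomm'] at h7
      have h8 := hV.fromSpec.isOpenEmbedding.injective h7
      have h9 : p' = P.comap (algebraMap Γ(Y, V) Γ(X, U)) := congrArg PrimeSpectrum.asIdeal h8
      rw [h9]
    haveI : UniversallyOpen (Spec.map (f.appLE V U e)) :=
      universallyOpen_SpecMap_of_isOpenMap_comap _ (fun n _ =>
        isOpenMap_comap_mvPolynomial hGU hmin n)
    infer_instance
  choose U hxU hU using key
  refine IsZariskiLocalAtSource.of_iSup_eq_top U ?_ hU
  rw [eq_top_iff]
  intro x _
  exact TopologicalSpace.Opens.mem_iSup.mpr ⟨x, hxU x⟩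

end Scheme

end Groth.Agent.Lib.lead.UnibranchUnivOpen

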