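import Mathlib
import Groth.Prelude.Def_CAlg2
import Groth.Agent.Lib.lead.QfAffB
import Groth.Agent.Lib.lead.UnibranchUnivOpen
import Groth.Agent.Lib.lead.GUPoly
import Groth.Agent.Lib.Helper22.UnramPSE

/-!
# S6083, ring level (lead): the core going-down statement over a valuation ring

`V₀` is the valuation ring (an `A`-algebra); `V` is a copy of it (via a bijective `V₀ → V`) which
carries the `A[T]`-algebra structure.  Keeping the two apart prevents Lean from finding the
coefficientwise `A[T]`-module structure on `V₀[T]`.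
-/

set_option autoImplicit false
set_option linter.style.haveILetI false
set_option linter.unusedSectionVars false

universe u

open TensorProduct IsLocalRing

namespace Groth.Agent.Lib.lead.QfAff

attribute [local instance] MvPolynomial.algebraMvPolynomial Algebra.TensorProduct.rightAlgebra

section

variable {A B V₀ V : Type u} [CommRing A] [CommRing B] [CommRing V₀] [IsDomain V₀]
  [ValuationRing V₀] [CommRing V]
  (σ : Type u) [Finite σ]
  [Algebra A B] [Algebra (MvPolynomial σ A) B] [IsScalarTower A (MvPolynomial σ A) B]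
  [Algebra A V₀]
  [Algebra A V] [Algebra (MvPolynomial σ A) V] [IsScalarTower A (MvPolynomial σ A) V]
  [Algebra V₀ V] [IsScalarTower A V₀ V]

/-- evaluation `V₀[T] → V` at the images of the variables, as an `A[T]`-algebra map -/
noncomputable def evA : MvPolynomial σ V₀ →ₐ[MvPolynomial σ A] V :=
  { toRingHom := (MvPolynomial.aeval (fun i => algebraMap (MvPolynomial σ A) V (MvPolynomial.X i)) :
      MvPolynomial σ V₀ →ₐ[V₀] V).toRingHom
    commutes' := fun a' => by
      have h : ((MvPolynomial.aeval (fun i => algebraMap (MvPolynomial σ A) V (MvPolynomial.X i)) :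
          MvPolynomial σ V₀ →ₐ[V₀] V).toRingHom).comp
          (algebraMap (MvPolynomial σ A) (MvPolynomial σ V₀)) = algebraMap (MvPolynomial σ A) V := by
        apply MvPolynomial.ringHom_ext
        · intro a
          show MvPolynomial.aeval _ (MvPolynomial.map (algebraMap A V₀) (MvPolynomial.C a)) = _
          rw [MvPolynomial.map_C, MvPolynomial.aeval_C, ← IsScalarTower.algebraMap_apply A V₀ V]
          exact (IsScalarTower.algebraMap_apply A (MvPolynomial σ A) V a)
        · intro i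
          show MvPolynomial.aeval _ (MvPolynomial.map (algebraMap A V₀) (MvPolynomial.X i)) = _
          rw [MvPolynomial.map_X, MvPolynomial.aeval_X]
      exact congrArg (fun φ : MvPolynomial σ A →+* V => φ a') h }

theorem evA_C (v : V₀) : evA (A := A) (V := V) σ (MvPolynomial.C v) = algebraMap V₀ V v := by
  show MvPolynomial.aeval _ (MvPolynomial.C v) = _
  rw [MvPolynomial.aeval_C]

theorem evA_surjective (hbij : Function.Bijective (algebraMap V₀ V)) :
    Function.Surjective (evA (A := A) (V₀ := V₀) (V := V) σ) :=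
  fun v => by
    obtain ⟨w, hw⟩ := hbij.2 v
    exact ⟨MvPolynomial.C w, (evA_C σ w).trans hw⟩

open Cardinal in
set_option maxHeartbeats 3200000 in
/-- **Core**: generizations of the closed point of `V` lift to `B ⊗[A[T]] V` at primes over `px`. -/
theorem core [Algebra.FiniteType (MvPolynomial σ A) B] [Algebra.QuasiFinite (MvPolynomial σ A) B]
    (hbij : Function.Bijective (algebraMap V₀ V))
    (ps : Ideal A) [ps.IsPrime] (pz px : Ideal B) [pz.IsPrime] [px.IsPrime] (hzx : pz ≤ px)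
    [pz.LiesOver ps] (hxs : px.comap (algebraMap A B) = ps)
    (htr : #σ ≤ Algebra.trdeg (A ⧸ ps) (B ⧸ pz))
    (hopen : ∀ (W : Type u) [CommRing W] [Algebra A W] [Algebra V₀ W] [Algebra B W]
      [IsScalarTower A V₀ W] [IsScalarTower A B W] [Algebra.IsPushout A V₀ B W]
      (Z' : Ideal W) [Z'.IsPrime], Z'.comap (algebraMap B W) = pz →
        ∃ Z1 : Ideal W, Z1.IsPrime ∧ Z1 ≤ Z' ∧ Z1.comap (algebraMap V₀ W) = ⊥)
    (Q : Ideal (B ⊗[MvPolynomial σ A] V)) [Q.IsPrime]
    (hQx : Q.comap (algebraMap B (B ⊗[MvPolynomial σ A] V)) = px)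
    (hQV : (Q.comap (algebraMap V (B ⊗[MvPolynomial σ A] V))).comap (algebraMap V₀ V) =
      maximalIdeal V₀) :
    ∃ Q1 : Ideal (B ⊗[MvPolynomial σ A] V), Q1.IsPrime ∧ Q1 ≤ Q ∧
      (Q1.comap (algebraMap V (B ⊗[MvPolynomial σ A] V))).comap (algebraMap V₀ V) = ⊥ := by
  classical
  -- the surjection `π : B ⊗ V₀[T] → B ⊗ V`
  let π : (B ⊗[MvPolynomial σ A] MvPolynomial σ V₀) →ₐ[MvPolynomial σ A]
      (B ⊗[MvPolynomial σ A] V) :=
    Algebra.TensorProduct.map (AlgHom.id (MvPolynomial σ A) B) (evA σ)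
  have hπsurj : Function.Surjective π :=
    Algebra.TensorProduct.map_surjective (f := AlgHom.id (MvPolynomial σ A) B) (g := evA σ)
      Function.surjective_id (evA_surjective σ hbij)
  have hπker : RingHom.ker π = (RingHom.ker (evA (A := A) (V₀ := V₀) (V := V) σ)).map
      (Algebra.TensorProduct.includeRight :
        MvPolynomial σ V₀ →ₐ[MvPolynomial σ A] B ⊗[MvPolynomial σ A] MvPolynomial σ V₀) :=
    Algebra.TensorProduct.lTensor_ker (evA σ) (evA_surjective σ hbij)
  have hπB : ∀ b : B, π (algebraMap B _ b) = algebraMap B _ b := fun b => by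
    show π (b ⊗ₜ 1) = b ⊗ₜ 1
    rw [Algebra.TensorProduct.map_tmul, map_one]
    rfl
  have hπV : ∀ v : MvPolynomial σ V₀, π (algebraMap (MvPolynomial σ V₀) _ v) =
      algebraMap V _ (evA (A := A) (V := V) σ v) := fun v => by
    show π (1 ⊗ₜ v) = 1 ⊗ₜ (evA (A := A) (V := V) σ v)
    rw [Algebra.TensorProduct.map_tmul, map_one]
  -- the prime `Q'` of `B ⊗ V₀[T]`
  let Q' : Ideal (B ⊗[MvPolynomial σ A] MvPolynomial σ V₀) := Q.comap π.toRingHom
  haveI hQ'prime : Q'.IsPrime := Ideal.comap_isPrime _ _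
  have hQ'B : Q'.comap (algebraMap B (B ⊗[MvPolynomial σ A] MvPolynomial σ V₀)) = px := by
    rw [← hQx]
    ext b
    show π (algebraMap B _ b) ∈ Q ↔ _
    rw [hπB]
    rfl
  have hmem_max : ∀ m : V₀, m ∈ maximalIdeal V₀ →
      algebraMap V (B ⊗[MvPolynomial σ A] V) (algebraMap V₀ V m) ∈ Q := by
    intro m hm
    rw [← hQV] at hm
    exact hm
  have hQ'V : RingHom.ker (MvPolynomial.map (σ := σ) (residue V₀)) ≤
      Q'.comap (algebraMap (MvPolynomial σ V₀) (B ⊗[MvPolynomial σ A] MvPolynomial σ V₀)) := by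
    rw [MvPolynomial.ker_map, Ideal.map_le_iff_le_comap]
    intro m hm
    have hm' : m ∈ maximalIdeal V₀ := by
      rw [← IsLocalRing.ker_residue]; exact hm
    show π (algebraMap (MvPolynomial σ V₀) _ (MvPolynomial.C m)) ∈ Q
    rw [hπV, evA_C]
    exact hmem_max m hm'
  -- `𝔪_V ∩ A = ps`
  have hAC : ∀ a : A, algebraMap V (B ⊗[MvPolynomial σ A] V) (algebraMap V₀ V (algebraMap A V₀ a)) =
      algebraMap B (B ⊗[MvPolynomial σ A] V) (algebraMap A B a) := by
    intro a
    rw [← IsScalarTower.algebraMap_apply A V₀ V, IsScalarTower.algebraMap_apply A (MvPolynomial σ A) V,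
      IsScalarTower.algebraMap_apply A (MvPolynomial σ A) B,
      ← IsScalarTower.algebraMap_apply (MvPolynomial σ A) V (B ⊗[MvPolynomial σ A] V),
      ← IsScalarTower.algebraMap_apply (MvPolynomial σ A) B (B ⊗[MvPolynomial σ A] V)]
  have hV : (maximalIdeal V₀).comap (algebraMap A V₀) = ps := by
    rw [← hxs, ← hQx, ← hQV]
    ext a
    simp only [Ideal.mem_comap]
    rw [hAC]
  obtain ⟨Z', hZ'prime, hZ'Q', hZ'B, hZ'V⟩ :=
    exists_fibre_generic σ ps pz hV htr Q' (hQ'B ▸ hzx) hQ'V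
  -- `B ⊗ V₀[T]` as the pushout of `A → B`, `A → V₀`
  letI algV₀BV : Algebra V₀ (B ⊗[MvPolynomial σ A] MvPolynomial σ V₀) :=
    ((algebraMap (MvPolynomial σ V₀) (B ⊗[MvPolynomial σ A] MvPolynomial σ V₀)).comp
      (MvPolynomial.C (σ := σ) (R := V₀))).toAlgebra
  have hV₀BV : ∀ v : V₀, algebraMap V₀ (B ⊗[MvPolynomial σ A] MvPolynomial σ V₀) v =
      algebraMap (MvPolynomial σ V₀) _ (MvPolynomial.C v) := fun v => rfl
  have hABV : ∀ a : A, algebraMap A (B ⊗[MvPolynomial σ A] MvPolynomial σ V₀) a =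
      algebraMap (MvPolynomial σ A) _ (algebraMap A (MvPolynomial σ A) a) := fun a =>
    IsScalarTower.algebraMap_apply A (MvPolynomial σ A) _ a
  haveI tV₀VTBV : IsScalarTower V₀ (MvPolynomial σ V₀)
      (B ⊗[MvPolynomial σ A] MvPolynomial σ V₀) :=
    IsScalarTower.of_algebraMap_eq fun a => rfl
  haveI tAVTBV : IsScalarTower A (MvPolynomial σ V₀) (B ⊗[MvPolynomial σ A] MvPolynomial σ V₀) :=
    IsScalarTower.of_algebraMap_eq fun a => by
      rw [hABV, IsScalarTower.algebraMap_apply (MvPolynomial σ A) (MvPolynomial σ V₀)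
        (B ⊗[MvPolynomial σ A] MvPolynomial σ V₀)]
      congr 1
      show MvPolynomial.map (algebraMap A V₀) (MvPolynomial.C a) = MvPolynomial.C (algebraMap A V₀ a)
      rw [MvPolynomial.map_C]
  haveI tAV₀BV : IsScalarTower A V₀ (B ⊗[MvPolynomial σ A] MvPolynomial σ V₀) :=
    IsScalarTower.of_algebraMap_eq fun a => by
      rw [IsScalarTower.algebraMap_apply A (MvPolynomial σ V₀), hV₀BV]
      rfl
  haveI hpush : Algebra.IsPushout A V₀ B (B ⊗[MvPolynomial σ A] MvPolynomial σ V₀) :=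
    ((Algebra.IsPushout.comp_iff A (MvPolynomial σ A) V₀ (S' := MvPolynomial σ V₀) (T := B)
      (T' := B ⊗[MvPolynomial σ A] MvPolynomial σ V₀)).mpr inferInstance).symm
  obtain ⟨Z1, hZ1prime, hZ1le, hZ1V⟩ :=
    hopen (B ⊗[MvPolynomial σ A] MvPolynomial σ V₀) Z' hZ'B
  -- `Z1 ∩ V₀[T] = 0`
  have h𝔞 : Z1.comap (algebraMap (MvPolynomial σ V₀) (B ⊗[MvPolynomial σ A] MvPolynomial σ V₀)) =
      ⊥ := by
    haveI : (Z1.comap (algebraMap (MvPolynomial σ V₀)
        (B ⊗[MvPolynomial σ A] MvPolynomial σ V₀))).IsPrime := Ideal.comap_isPrime _ _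
    apply eq_bot_of_le_ker_map_residue
    · rw [← hZ1V]
      rfl
    · rw [← hZ'V]
      exact Ideal.comap_mono hZ1le
  -- finiteness of `B ⊗ V₀[T]` over `V₀[T]`
  let e : MvPolynomial σ V₀ ⊗[MvPolynomial σ A] B ≃ₐ[MvPolynomial σ V₀]
      B ⊗[MvPolynomial σ A] MvPolynomial σ V₀ :=
    Algebra.IsPushout.equiv (MvPolynomial σ A) (MvPolynomial σ V₀) B
      (B ⊗[MvPolynomial σ A] MvPolynomial σ V₀)
  haveI hft : Algebra.FiniteType (MvPolynomial σ V₀) (B ⊗[MvPolynomial σ A] MvPolynomial σ V₀) :=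
    Algebra.FiniteType.equiv inferInstance e
  haveI hqf : Algebra.QuasiFinite (MvPolynomial σ V₀)
      (B ⊗[MvPolynomial σ A] MvPolynomial σ V₀) :=
    (Algebra.QuasiFinite.iff_of_algEquiv e).mp inferInstance
  -- the domain `D1 = (B ⊗ V₀[T]) / Z1`, quasi-finite and dominant over the normal domain `V₀[T]`
  haveI := hZ1prime
  have hZ1Q' : Z1 ≤ Q' := hZ1le.trans hZ'Q'
  obtain ⟨q', hq'prime, hq'le, hq'⟩ : ∃ q' : Ideal (B ⊗[MvPolynomial σ A] MvPolynomial σ V₀),
      q'.IsPrime ∧ q' ≤ Q' ∧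
      q'.comap (algebraMap (MvPolynomial σ V₀) (B ⊗[MvPolynomial σ A] MvPolynomial σ V₀)) =
        RingHom.ker (evA (A := A) (V₀ := V₀) (V := V) σ) := by
    let mk1 : (B ⊗[MvPolynomial σ A] MvPolynomial σ V₀) →+*
        (B ⊗[MvPolynomial σ A] MvPolynomial σ V₀) ⧸ Z1 := Ideal.Quotient.mk Z1
    let q : Ideal ((B ⊗[MvPolynomial σ A] MvPolynomial σ V₀) ⧸ Z1) := Q'.map mk1
    haveI : q.IsPrime := Ideal.map_isPrime_of_surjective Ideal.Quotient.mk_surjective
      (by rwa [Ideal.mk_ker])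
    have hq : q.comap mk1 = Q' :=
      (Ideal.comap_map_of_surjective' _ Ideal.Quotient.mk_surjective _).trans (by
        rw [Ideal.mk_ker]; exact sup_eq_left.mpr hZ1Q')
    let p : Ideal (MvPolynomial σ V₀) :=
      Q'.comap (algebraMap (MvPolynomial σ V₀) (B ⊗[MvPolynomial σ A] MvPolynomial σ V₀))
    haveI : p.IsPrime := Ideal.comap_isPrime _ _
    have hpq : q.comap (algebraMap (MvPolynomial σ V₀)
        ((B ⊗[MvPolynomial σ A] MvPolynomial σ V₀) ⧸ Z1)) = p := by
      show q.comap (mk1.comp (algebraMap (MvPolynomial σ V₀)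
        (B ⊗[MvPolynomial σ A] MvPolynomial σ V₀))) = p
      rw [← Ideal.comap_comap, hq]
    haveI : IsIntegrallyClosed (MvPolynomial σ V₀) :=
      Groth.Agent.Lib.lead.GUPoly.isIntegrallyClosed_mvPolynomial σ V₀
    haveI : IsIntegrallyClosed (Localization.AtPrime p) :=
      isIntegrallyClosed_of_isLocalization (Localization.AtPrime p) p.primeCompl
        p.primeCompl_le_nonZeroDivisors
    have hO : CAlg2.IsUnibranch (Localization.AtPrime p) :=
      (Groth.Agent.Lib.Helper22.UnramPS.isGeomUnibranch_of_isIntegrallyClosed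
        (Localization.AtPrime p)).1
    have hB : (nilradical ((B ⊗[MvPolynomial σ A] MvPolynomial σ V₀) ⧸ Z1)).IsPrime := by
      rw [nilradical_eq_zero]; exact Ideal.isPrime_bot
    have hdom : ∀ a : MvPolynomial σ V₀,
        algebraMap (MvPolynomial σ V₀) ((B ⊗[MvPolynomial σ A] MvPolynomial σ V₀) ⧸ Z1) a ∈
          nilradical ((B ⊗[MvPolynomial σ A] MvPolynomial σ V₀) ⧸ Z1) →
        algebraMap (MvPolynomial σ V₀) (Localization.AtPrime p) a ∈
          nilradical (Localization.AtPrime p) := by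
      intro a ha
      rw [nilradical_eq_zero, Ideal.zero_eq_bot, Ideal.mem_bot] at ha
      have h1 : a ∈ Z1.comap (algebraMap (MvPolynomial σ V₀)
          (B ⊗[MvPolynomial σ A] MvPolynomial σ V₀)) := by
        have h2 : mk1 (algebraMap (MvPolynomial σ V₀)
          (B ⊗[MvPolynomial σ A] MvPolynomial σ V₀) a) = 0 := ha
        show algebraMap (MvPolynomial σ V₀) (B ⊗[MvPolynomial σ A] MvPolynomial σ V₀) a ∈ Z1
        exact Ideal.Quotient.eq_zero_iff_mem.mp h2
      rw [h𝔞, Ideal.mem_bot] at h1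
      rw [h1, map_zero]; exact zero_mem _
    haveI : IsDomain V :=
      MulEquiv.isDomain V₀ (RingEquiv.ofBijective (algebraMap V₀ V) hbij).symm.toMulEquiv
    haveI : (RingHom.ker (evA (A := A) (V₀ := V₀) (V := V) σ)).IsPrime := RingHom.ker_isPrime _
    have hp' : RingHom.ker (evA (A := A) (V₀ := V₀) (V := V) σ) ≤ p := by
      intro a ha
      show π (algebraMap (MvPolynomial σ V₀) _ a) ∈ Q
      rw [hπV, (RingHom.mem_ker.mp ha : evA (A := A) (V₀ := V₀) (V := V) σ a = 0), map_zero]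
      exact zero_mem _
    obtain ⟨q₁, hq₁prime, hq₁le, hq₁⟩ :=
      Groth.Agent.Lib.lead.UnibranchUnivOpen.exists_prime_le_of_unibranch' hB q p hpq
        (Localization.AtPrime p) hdom hO (RingHom.ker (evA (A := A) (V₀ := V₀) (V := V) σ)) hp'
    refine ⟨q₁.comap mk1, Ideal.comap_isPrime _ _, ?_, ?_⟩
    · rw [← hq]; exact Ideal.comap_mono hq₁le
    · rw [← hq₁, Ideal.comap_comap]
      rfl
  -- push `q'` forward along `π`
  haveI := hq'prime
  have hkerle : RingHom.ker π.toRingHom ≤ q' := by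
    have h0 : RingHom.ker π.toRingHom = RingHom.ker π := rfl
    rw [h0, hπker, Ideal.map_le_iff_le_comap]
    intro a ha
    have h1 : a ∈ q'.comap (algebraMap (MvPolynomial σ V₀)
        (B ⊗[MvPolynomial σ A] MvPolynomial σ V₀)) := by rw [hq']; exact ha
    exact h1
  have hπsurj' : Function.Surjective π.toRingHom := hπsurj
  refine ⟨q'.map π.toRingHom, Ideal.map_isPrime_of_surjective hπsurj' hkerle, ?_, ?_⟩
  · rw [Ideal.map_le_iff_le_comap]
    exact hq'le
  · have hcm : (q'.map π.toRingHom).comap π.toRingHom = q' :=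
      (Ideal.comap_map_of_surjective' _ hπsurj' _).trans (sup_eq_left.mpr hkerle)
    rw [eq_bot_iff]
    intro v hv
    rw [Ideal.mem_bot]
    have h1 : π (algebraMap (MvPolynomial σ V₀) _ (MvPolynomial.C v)) ∈ q'.map π.toRingHom := by
      rw [hπV, evA_C]
      exact hv
    have h2 : algebraMap (MvPolynomial σ V₀) (B ⊗[MvPolynomial σ A] MvPolynomial σ V₀)
        (MvPolynomial.C v) ∈ (q'.map π.toRingHom).comap π.toRingHom := h1
    rw [hcm] at h2
    have h3 : MvPolynomial.C v ∈ q'.comap (algebraMap (MvPolynomial σ V₀)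
        (B ⊗[MvPolynomial σ A] MvPolynomial σ V₀)) := h2
    rw [hq', RingHom.mem_ker, evA_C] at h3
    exact hbij.1 (h3.trans (map_zero _).symm)

end

end Groth.Agent.Lib.lead.QfAff
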