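import Mathlib
import Groth.Prelude.Def_EGA43
import Groth.Agent.Lib.lead.OpenAtSch

open CategoryTheory CategoryTheory.Limits AlgebraicGeometry TensorProduct Topology

universe u

namespace Groth.Agent.Lib.lead.UnivOpenAtLocal

open EGA43 Groth.Agent.Lib.lead.UnivOpenAffine Groth.Agent.Lib.lead.OpenAt
  Groth.Agent.Lib.lead.OpenAtSch

/-- universal openness at a point gives openness at points of any pullback square -/
theorem isOpenAt_of_isUnivOpenAt_of_isPullback {P X Y Y' : Scheme.{u}} {f : X ⟶ Y} {g : Y' ⟶ Y}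
    {p₁ : P ⟶ X} {p₂ : P ⟶ Y'} (hP : IsPullback p₁ p₂ f g) (x : X) (h : IsUnivOpenAt f x)
    (p : P) (hp : p₁.base p = x) : IsOpenAt p₂.base p := by
  have h1 : IsOpenAt (pullback.snd f g).base (hP.isoPullback.hom.base p) := by
    apply h
    rw [← Scheme.Hom.comp_apply, IsPullback.isoPullback_hom_fst, hp]
  have h2 : p = hP.isoPullback.inv.base (hP.isoPullback.hom.base p) := by
    rw [← Scheme.Hom.comp_apply, Iso.hom_inv_id]
    rfl
  rw [h2]
  refine isOpenAt_of_chart (F₀ := (pullback.snd f g).base) (j := hP.isoPullback.inv.base)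
    (ι := id) (Scheme.Hom.continuous _) IsOpenMap.id (fun a => ?_) _ h1
  rw [← Scheme.Hom.comp_apply, IsPullback.isoPullback_inv_snd]
  rfl

/-- base change of universal openness at a point -/
theorem isUnivOpenAt_snd {X Y Y₁ : Scheme.{u}} (f : X ⟶ Y) (g : Y₁ ⟶ Y) (x : X)
    (x₁ : ↥(pullback f g)) (hx₁ : (pullback.fst f g).base x₁ = x) (h : IsUnivOpenAt f x) :
    IsUnivOpenAt (pullback.snd f g) x₁ := by
  intro Y' g' x' hx'
  have hP : IsPullback (pullback.fst (pullback.snd f g) g' ≫ pullback.fst f g)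
      (pullback.snd (pullback.snd f g) g') f (g' ≫ g) :=
    IsPullback.paste_horiz (IsPullback.of_hasPullback (pullback.snd f g) g')
      (IsPullback.of_hasPullback f g)
  apply isOpenAt_of_isUnivOpenAt_of_isPullback hP x h x'
  rw [Scheme.Hom.comp_apply, hx', hx₁]

open AlgebraicGeometry.AffineSpace in
/-- universal openness at `x` descends along a preimmersion whose range contains all
generalizations of `f x` (e.g. the local scheme at `f x`). -/
theorem isUnivOpenAt_of_snd_preimmersion {X Y Y₁ : Scheme.{u}} (f : X ⟶ Y)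
    [LocallyOfFinitePresentation f] (ι : Y₁ ⟶ Y) [IsPreimmersion ι] (x : X)
    (hrange : ∀ y', y' ⤳ f.base x → y' ∈ Set.range ι.base)
    (x₁ : ↥(pullback f ι)) (hx₁ : (pullback.fst f ι).base x₁ = x)
    (h₁ : IsUnivOpenAt (pullback.snd f ι) x₁) : IsUnivOpenAt f x := by
  apply isUnivOpenAt_of_affOpenAt
  intro n _ q hq
  have : LocallyOfFinitePresentation (AffineSpace.map n f) :=
    MorphismProperty.of_isPullback (P := @LocallyOfFinitePresentation) (isPullback_map f).flip
      inferInstance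
  apply isOpenAt_of_generalizing
  intro t₁ ht₁
  -- the point `q₁` of `𝔸ⁿ_{X₁}` over `q` and `x₁`
  obtain ⟨q₁, hq₁, hq₁x⟩ := Scheme.exists_preimage_of_isPullback
    (isPullback_map (n := n) (pullback.fst f ι)) q x₁ (hq.trans hx₁.symm)
  -- `map n f₁` is open at `q₁`, hence generalizing there
  have hopen : IsOpenAt (AffineSpace.map n (pullback.snd f ι)).base q₁ :=
    isOpenAt_of_isUnivOpenAt_of_isPullback (isPullback_map (n := n) (pullback.snd f ι)).flip x₁ h₁
      q₁ hq₁x
  have hcomm : AffineSpace.map n (pullback.snd f ι) ≫ AffineSpace.map n ι =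
      AffineSpace.map n (pullback.fst f ι) ≫ AffineSpace.map n f := by
    rw [← map_comp, ← map_comp, pullback.condition]
  have hFq : (AffineSpace.map n ι).base ((AffineSpace.map n (pullback.snd f ι)).base q₁) =
      (AffineSpace.map n f).base q := by
    rw [← Scheme.Hom.comp_apply, hcomm, Scheme.Hom.comp_apply, hq₁]
  -- `t₁` comes from `𝔸ⁿ` over the local scheme
  have hover : (𝔸(n; Y) ↘ Y).base t₁ ⤳ f.base x := by
    have := ht₁.map (𝔸(n; Y) ↘ Y).continuous
    rwa [← Scheme.Hom.comp_apply, map_over, Scheme.Hom.comp_apply, hq] at this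
  obtain ⟨s, hs⟩ := hrange _ hover
  obtain ⟨t₁', ht₁', -⟩ := Scheme.exists_preimage_of_isPullback
    (isPullback_map (n := n) ι) t₁ s hs.symm
  have hpre : IsPreimmersion (AffineSpace.map n ι) :=
    MorphismProperty.of_isPullback (P := @IsPreimmersion) (isPullback_map ι).flip inferInstance
  have hsp : t₁' ⤳ (AffineSpace.map n (pullback.snd f ι)).base q₁ := by
    rw [← (AffineSpace.map n ι).isEmbedding.isInducing.specializes_iff, ht₁', hFq]
    exact ht₁
  obtain ⟨q₁', hq₁', hq₁'t⟩ := exists_specializes_of_isOpenAt _ q₁ hopen t₁' hsp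
  refine ⟨(AffineSpace.map n (pullback.fst f ι)).base q₁', ?_, ?_⟩
  · rw [← hq₁]
    exact hq₁'.map (Scheme.Hom.continuous _)
  · rw [← Scheme.Hom.comp_apply, ← hcomm, Scheme.Hom.comp_apply, hq₁'t, ht₁']

theorem S4928 {X Y : Scheme.{u}} (f : X ⟶ Y) [LocallyOfFinitePresentation f]
    (x : X) (x₁ : ↥(pullback f (Y.fromSpecStalk (f.base x))))
    (hx₁ : (pullback.fst f (Y.fromSpecStalk (f.base x))).base x₁ = x) :
    EGA43.IsUnivOpenAt f x ↔ EGA43.IsUnivOpenAt (pullback.snd f (Y.fromSpecStalk (f.base x))) x₁ := by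
  refine ⟨isUnivOpenAt_snd f _ x x₁ hx₁, fun h₁ => ?_⟩
  refine isUnivOpenAt_of_snd_preimmersion f (Y.fromSpecStalk (f.base x)) x ?_ x₁ hx₁ h₁
  intro y' hy'
  rw [Scheme.range_fromSpecStalk]
  exact hy'


end Groth.Agent.Lib.lead.UnivOpenAtLocal
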