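import Mathlib
import Groth.Prelude.Def_EGA43
import Groth.Agent.Lib.lead.OpenAtSch
import Groth.Agent.Lib.lead.UnivOpenAtLocal

/-!
# S6083, scheme level (lead): a valuative criterion for universal openness at a point
-/

set_option autoImplicit false
set_option linter.style.haveILetI false

universe u

open CategoryTheory CategoryTheory.Limits AlgebraicGeometry IsLocalRing

namespace Groth.Agent.Lib.lead.QfAff

/-- the generic point of the spectrum of a domain -/
noncomputable def genPt (V : Type u) [CommRing V] [IsDomain V] : ↥(Spec (CommRingCat.of V)) :=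
  (⟨⊥, Ideal.isPrime_bot⟩ : PrimeSpectrum V)

/-- the closed point of the spectrum of a local ring -/
noncomputable def clPt (V : Type u) [CommRing V] [IsLocalRing V] : ↥(Spec (CommRingCat.of V)) :=
  (closedPoint V : PrimeSpectrum V)

/-- **V1**: a specialization `y1 ⤳ y0` is witnessed by a valuation ring. -/
theorem exists_valuationRing_of_specializes {Y : Scheme.{u}} {y1 y0 : Y} (h : y1 ⤳ y0) :
    ∃ (V : Type u) (_ : CommRing V) (_ : IsDomain V) (_ : ValuationRing V)
      (φ : Spec (CommRingCat.of V) ⟶ Y),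
      φ.base (clPt V) = y0 ∧ φ.base (genPt V) = y1 := by
  let K := Y.residueField y1
  let ψ : Y.presheaf.stalk y0 ⟶ K := Y.presheaf.stalkSpecializes h ≫ Y.residue y1
  obtain ⟨A, hA, hA_local⟩ := exists_factor_valuationRing ψ.hom
  let ψA : Y.presheaf.stalk y0 ⟶ CommRingCat.of A :=
    CommRingCat.ofHom (ψ.hom.codRestrict A.toSubring hA)
  refine ⟨A, inferInstance, inferInstance, inferInstance, Spec.map ψA ≫ Y.fromSpecStalk y0, ?_, ?_⟩
  · change (Y.fromSpecStalk y0).base ((Spec.map ψA).base (clPt A)) = y0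
    have h1 : (Spec.map ψA).base (clPt A) = closedPoint (Y.presheaf.stalk y0) :=
      comap_closedPoint (S := A) (ψ.hom.codRestrict A.toSubring hA)
    rw [h1]
    exact Y.fromSpecStalk_closedPoint
  · -- the generic point is the image of `Spec K`
    let ι : Spec (CommRingCat.of K) ⟶ Spec (CommRingCat.of A) :=
      Spec.map (CommRingCat.ofHom (algebraMap A K))
    have hfac : ι ≫ Spec.map ψA ≫ Y.fromSpecStalk y0 = Y.fromSpecResidueField y1 := by
      rw [Scheme.fromSpecResidueField, ← Scheme.SpecMap_stalkSpecializes_fromSpecStalk h,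
        ← Spec.map_comp_assoc, ← Spec.map_comp_assoc]
      rfl
    have hgen : ι.base (clPt K) = genPt A := by
      apply PrimeSpectrum.ext
      show Ideal.comap (algebraMap A K) (closedPoint K).asIdeal = ⊥
      have h0 : (closedPoint K).asIdeal = ⊥ := IsLocalRing.maximalIdeal_eq_bot
      rw [h0]
      exact (RingHom.injective_iff_ker_eq_bot _).mp (FaithfulSMul.algebraMap_injective A K)
    rw [← hgen]
    change (ι ≫ Spec.map ψA ≫ Y.fromSpecStalk y0).base (clPt K) = y1
    rw [hfac]
    exact Scheme.fromSpecResidueField_apply _ _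

/-- **V2**: universal openness at a point of a morphism locally of finite presentation can be
tested on valuation rings. -/
theorem isUnivOpenAt_of_valuative {X Y : Scheme.{u}} (g : X ⟶ Y) [LocallyOfFinitePresentation g]
    (x : X)
    (H : ∀ (V : Type u) [CommRing V] [IsDomain V] [ValuationRing V]
      (ψ : Spec (CommRingCat.of V) ⟶ Y) (p : ↥(pullback g ψ)),
      (pullback.fst g ψ).base p = x → (pullback.snd g ψ).base p = clPt V →
      ∃ p1 : ↥(pullback g ψ), p1 ⤳ p ∧ (pullback.snd g ψ).base p1 = genPt V) :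
    EGA43.IsUnivOpenAt g x := by
  intro Y' h x' hx'
  apply Groth.Agent.Lib.lead.OpenAtSch.isOpenAt_of_generalizing
  intro y1 hy1
  obtain ⟨V, _, _, _, φ, hφ0, hφ1⟩ := exists_valuationRing_of_specializes hy1
  obtain ⟨p, hp1, hp2⟩ := Scheme.Pullback.exists_preimage_pullback (f := pullback.snd g h)
    (g := φ) x' (clPt V) hφ0.symm
  have sq : IsPullback (pullback.fst (pullback.snd g h) φ ≫ pullback.fst g h)
      (pullback.snd (pullback.snd g h) φ) g (φ ≫ h) :=
    IsPullback.paste_horiz (IsPullback.of_hasPullback (pullback.snd g h) φ)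
      (IsPullback.of_hasPullback g h)
  have he1 : sq.isoPullback.hom ≫ pullback.fst g (φ ≫ h) =
      pullback.fst (pullback.snd g h) φ ≫ pullback.fst g h := sq.isoPullback_hom_fst
  have he2 : sq.isoPullback.hom ≫ pullback.snd g (φ ≫ h) =
      pullback.snd (pullback.snd g h) φ := sq.isoPullback_hom_snd
  have he3 : sq.isoPullback.inv ≫ pullback.snd (pullback.snd g h) φ =
      pullback.snd g (φ ≫ h) := sq.isoPullback_inv_snd
  obtain ⟨q1, hq1, hq1gen⟩ := H V (φ ≫ h) (sq.isoPullback.hom.base p)
    (by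
      change (sq.isoPullback.hom ≫ pullback.fst g (φ ≫ h)).base p = x
      rw [he1]
      change (pullback.fst g h).base ((pullback.fst (pullback.snd g h) φ).base p) = x
      rw [hp1, hx'])
    (by
      change (sq.isoPullback.hom ≫ pullback.snd g (φ ≫ h)).base p = clPt V
      rw [he2, hp2])
  have hinv : sq.isoPullback.inv.base (sq.isoPullback.hom.base p) = p := by
    change (sq.isoPullback.hom ≫ sq.isoPullback.inv).base p = p
    rw [Iso.hom_inv_id]
    rfl
  refine ⟨(pullback.fst (pullback.snd g h) φ).base (sq.isoPullback.inv.base q1), ?_, ?_⟩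
  · rw [← hp1]
    refine Specializes.map ?_ (pullback.fst (pullback.snd g h) φ).base.hom.2
    rw [← hinv]
    exact Specializes.map hq1 sq.isoPullback.inv.base.hom.2
  · change (pullback.fst (pullback.snd g h) φ ≫ pullback.snd g h).base
      (sq.isoPullback.inv.base q1) = y1
    rw [pullback.condition]
    change φ.base ((sq.isoPullback.inv ≫ pullback.snd (pullback.snd g h) φ).base q1) = y1
    rw [he3, hq1gen, hφ1]

section Affine

open TensorProduct

attribute [local instance] Algebra.TensorProduct.rightAlgebra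

/-- **V4**: universal openness of `Spec B ⟶ Spec A` at `pz` lifts the generic point of any domain
`V₀` to any pushout `W` of `B` and `V₀`, below a given prime over `pz`. -/
theorem hopen_of_isUnivOpenAt {A B : Type u} [CommRing A] [CommRing B] [Algebra A B]
    (pz : Ideal B) [pz.IsPrime]
    (h : EGA43.IsUnivOpenAt (Spec.map (CommRingCat.ofHom (algebraMap A B)))
      (⟨pz, inferInstance⟩ : PrimeSpectrum B))
    (V₀ : Type u) [CommRing V₀] [IsDomain V₀] [Algebra A V₀]
    (W : Type u) [CommRing W] [Algebra A W] [Algebra V₀ W] [Algebra B W]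
    [IsScalarTower A V₀ W] [IsScalarTower A B W] [Algebra.IsPushout A V₀ B W]
    (Z' : Ideal W) [Z'.IsPrime] (hZ' : Z'.comap (algebraMap B W) = pz) :
    ∃ Z1 : Ideal W, Z1.IsPrime ∧ Z1 ≤ Z' ∧ Z1.comap (algebraMap V₀ W) = ⊥ := by
  have sq : IsPullback (Spec.map (CommRingCat.ofHom (algebraMap B W)))
      (Spec.map (CommRingCat.ofHom (algebraMap V₀ W)))
      (Spec.map (CommRingCat.ofHom (algebraMap A B)))
      (Spec.map (CommRingCat.ofHom (algebraMap A V₀))) :=
    (isPullback_SpecMap_of_isPushout _ _ _ _ (CommRingCat.isPushout_of_isPushout A V₀ B W)).flip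
  let w : ↥(Spec (CommRingCat.of W)) := (⟨Z', inferInstance⟩ : PrimeSpectrum W)
  have hw : (Spec.map (CommRingCat.ofHom (algebraMap B W))).base w =
      (⟨pz, inferInstance⟩ : PrimeSpectrum B) := by
    apply PrimeSpectrum.ext
    exact hZ'
  have hopenat : EGA43.IsOpenAt (Spec.map (CommRingCat.ofHom (algebraMap V₀ W))).base w :=
    Groth.Agent.Lib.lead.UnivOpenAtLocal.isOpenAt_of_isUnivOpenAt_of_isPullback sq _ h w hw
  obtain ⟨w1, hw1, hw1gen⟩ := Groth.Agent.Lib.lead.OpenAtSch.exists_specializes_of_isOpenAt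
    (Spec.map (CommRingCat.ofHom (algebraMap V₀ W))) w hopenat (genPt V₀) (by
      refine (PrimeSpectrum.le_iff_specializes (R := V₀) (genPt V₀) _).mp ?_
      exact (bot_le : (⊥ : Ideal V₀) ≤ _))
  refine ⟨w1.asIdeal, w1.isPrime, ?_, ?_⟩
  · exact (PrimeSpectrum.le_iff_specializes w1 w).mpr hw1
  · exact congrArg PrimeSpectrum.asIdeal hw1gen

set_option maxHeartbeats 1600000 in
/-- **V3**: the valuative criterion for `Spec S ⟶ Spec R`, in terms of primes of `S ⊗[R] V`. -/
theorem isUnivOpenAt_SpecMap_of_valuative {R S : Type u} [CommRing R] [CommRing S] [Algebra R S]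
    [Algebra.FinitePresentation R S] (px : Ideal S) [px.IsPrime]
    (H : ∀ (V : Type u) [CommRing V] [IsDomain V] [ValuationRing V] [Algebra R V]
      (Q : Ideal (S ⊗[R] V)) [Q.IsPrime],
      Q.comap (algebraMap S (S ⊗[R] V)) = px →
      Q.comap (algebraMap V (S ⊗[R] V)) = maximalIdeal V →
      ∃ Q1 : Ideal (S ⊗[R] V), Q1.IsPrime ∧ Q1 ≤ Q ∧ Q1.comap (algebraMap V (S ⊗[R] V)) = ⊥) :
    EGA43.IsUnivOpenAt (Spec.map (CommRingCat.ofHom (algebraMap R S)))
      (⟨px, inferInstance⟩ : PrimeSpectrum S) := by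
  haveI : LocallyOfFinitePresentation (Spec.map (CommRingCat.ofHom (algebraMap R S))) := by
    rw [HasRingHomProperty.Spec_iff (P := @LocallyOfFinitePresentation)]
    exact RingHom.finitePresentation_algebraMap.mpr inferInstance
  apply isUnivOpenAt_of_valuative
  intro V _ _ _ ψ p hp1 hp2
  obtain ⟨ψ₀, rfl⟩ : ∃ ψ₀ : R →+* V, ψ = Spec.map (CommRingCat.ofHom ψ₀) :=
    ⟨(Spec.preimage ψ).hom, (Spec.map_preimage ψ).symm⟩
  letI : Algebra R V := ψ₀.toAlgebra
  let e : pullback (Spec.map (CommRingCat.ofHom (algebraMap R S)))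
      (Spec.map (CommRingCat.ofHom (algebraMap R V))) ≅ Spec (CommRingCat.of (S ⊗[R] V)) :=
    pullbackSpecIso R S V
  have he1 : e.hom ≫ Spec.map (CommRingCat.ofHom
      (Algebra.TensorProduct.includeLeftRingHom : S →+* S ⊗[R] V)) = pullback.fst _ _ :=
    pullbackSpecIso_hom_fst R S V
  have he2 : e.hom ≫ Spec.map (CommRingCat.ofHom (R := V) (S := S ⊗[R] V)
      (RingHomClass.toRingHom Algebra.TensorProduct.includeRight)) = pullback.snd _ _ :=
    pullbackSpecIso_hom_snd R S V
  have he3 : e.inv ≫ pullback.snd _ _ = Spec.map (CommRingCat.ofHom (R := V) (S := S ⊗[R] V)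
      (RingHomClass.toRingHom Algebra.TensorProduct.includeRight)) :=
    pullbackSpecIso_inv_snd R S V
  let p' : ↥(pullback (Spec.map (CommRingCat.ofHom (algebraMap R S)))
      (Spec.map (CommRingCat.ofHom (algebraMap R V)))) := p
  let Q : PrimeSpectrum (S ⊗[R] V) := e.hom.base p'
  have hQS : Q.asIdeal.comap (algebraMap S (S ⊗[R] V)) = px := by
    have h1 : (e.hom ≫ Spec.map (CommRingCat.ofHom
      (Algebra.TensorProduct.includeLeftRingHom : S →+* S ⊗[R] V))).base p' =
        (⟨px, inferInstance⟩ : PrimeSpectrum S) := by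
      rw [he1]; exact hp1
    exact congrArg PrimeSpectrum.asIdeal h1
  have hQV : Q.asIdeal.comap (algebraMap V (S ⊗[R] V)) = maximalIdeal V := by
    have h1 : (e.hom ≫ Spec.map (CommRingCat.ofHom (R := V) (S := S ⊗[R] V)
      (RingHomClass.toRingHom Algebra.TensorProduct.includeRight))).base p' = clPt V := by
      rw [he2]; exact hp2
    exact congrArg PrimeSpectrum.asIdeal h1
  obtain ⟨Q1, hQ1prime, hQ1le, hQ1V⟩ := H V Q.asIdeal hQS hQV
  let q1 : ↥(Spec (CommRingCat.of (S ⊗[R] V))) := (⟨Q1, hQ1prime⟩ : PrimeSpectrum (S ⊗[R] V))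
  have hinv : e.inv.base (e.hom.base p') = p' := by
    change (e.hom ≫ e.inv).base p' = p'
    rw [Iso.hom_inv_id]
    rfl
  refine ⟨e.inv.base q1, ?_, ?_⟩
  · have h1 : q1 ⤳ e.hom.base p' :=
      (PrimeSpectrum.le_iff_specializes (R := S ⊗[R] V) ⟨Q1, hQ1prime⟩ Q).mp hQ1le
    have h2 : e.inv.base q1 ⤳ e.inv.base (e.hom.base p') :=
      Specializes.map h1 e.inv.base.hom.2
    rw [hinv] at h2
    exact h2
  · change (e.inv ≫ pullback.snd _ _).base q1 = genPt V
    rw [he3]
    apply PrimeSpectrum.ext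
    exact hQ1V

end Affine

end Groth.Agent.Lib.lead.QfAff
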