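import Mathlib
import Groth.Agent.Lib.lead.QfAffC
import Groth.Agent.Lib.lead.QfAffD

/-!
# S6083 (lead): the affine statement
-/

set_option autoImplicit false
set_option linter.style.haveILetI false
set_option linter.unusedSectionVars false

universe u

open CategoryTheory CategoryTheory.Limits AlgebraicGeometry IsLocalRing TensorProduct

namespace Groth.Agent.Lib.lead.QfAff

attribute [local instance] Algebra.TensorProduct.rightAlgebra

open Cardinal in
set_option maxHeartbeats 1600000 in
/-- the affine form of S6083 -/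
theorem affine_main {A B : Type u} [CommRing A] [CommRing B] (σ : Type u) [Finite σ]
    [Algebra A B] [Algebra (MvPolynomial σ A) B] [IsScalarTower A (MvPolynomial σ A) B]
    [Algebra.FinitePresentation (MvPolynomial σ A) B] [Algebra.QuasiFinite (MvPolynomial σ A) B]
    (ps : Ideal A) [ps.IsPrime] (pz px : Ideal B) [pz.IsPrime] [px.IsPrime] (hzx : pz ≤ px)
    [pz.LiesOver ps] (hxs : px.comap (algebraMap A B) = ps)
    (htr : #σ ≤ Algebra.trdeg (A ⧸ ps) (B ⧸ pz))
    (hz : EGA43.IsUnivOpenAt (Spec.map (CommRingCat.ofHom (algebraMap A B)))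
      (⟨pz, inferInstance⟩ : PrimeSpectrum B)) :
    EGA43.IsUnivOpenAt (Spec.map (CommRingCat.ofHom (algebraMap (MvPolynomial σ A) B)))
      (⟨px, inferInstance⟩ : PrimeSpectrum B) := by
  apply isUnivOpenAt_SpecMap_of_valuative
  intro V _ _ _ _ Q _ hQx hQV
  letI : Algebra A V := ((algebraMap (MvPolynomial σ A) V).comp
    (algebraMap A (MvPolynomial σ A))).toAlgebra
  haveI : IsScalarTower A (MvPolynomial σ A) V := IsScalarTower.of_algebraMap_eq fun a => rfl
  have hbij : Function.Bijective (algebraMap V V) := Function.bijective_id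
  have hcore := core (A := A) (B := B) (V₀ := V) (V := V) σ hbij ps pz px hzx hxs htr
    (fun W _ _ _ _ _ _ _ Z' _ hZ' => hopen_of_isUnivOpenAt pz hz V W Z' hZ') Q hQx
    (by rw [Algebra.algebraMap_self, Ideal.comap_id]; exact hQV)
  obtain ⟨Q1, hQ1p, hQ1le, hQ1⟩ := hcore
  refine ⟨Q1, hQ1p, hQ1le, ?_⟩
  rw [Algebra.algebraMap_self, Ideal.comap_id] at hQ1
  exact hQ1

end Groth.Agent.Lib.lead.QfAff
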