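import Mathlib
import Groth.Agent.Lib.lead.QfAffE
import Groth.Agent.Lib.Helper9.UnivOpen2
import Groth.Agent.Lib.Helper24.FibreDim.Main3456

/-!
# S6083 (lead): reduction to charts
-/

set_option autoImplicit false
set_option linter.style.haveILetI false

universe u

open CategoryTheory CategoryTheory.Limits AlgebraicGeometry

namespace Groth.Agent.Lib.lead.QfAff

theorem isUnivOpenAt_of_universallyOpen {X Y : Scheme.{u}} (f : X ⟶ Y) [UniversallyOpen f]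
    (z : X) : EGA43.IsUnivOpenAt f z := by
  intro Y' g x' _
  have hopen : IsOpenMap (pullback.snd f g).base := (pullback.snd f g).isOpenMap
  intro U hU
  exact hopen.image_mem_nhds hU

/-- the chart of `u : X ⟶ 𝔸(σ; S)` on affine opens `U ⊆ f⁻¹ W` -/
theorem exists_chart_hom {X S : Scheme.{u}} (f : X ⟶ S) (σ : Type u) (u : X ⟶ 𝔸(σ; S))
    (hu : u ≫ (𝔸(σ; S) ↘ S) = f)
    {W : S.Opens} (hW : IsAffineOpen W) {U : X.Opens} (hU : IsAffineOpen U) (e : U ≤ f ⁻¹ᵁ W) :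
    ∃ (φu : CommRingCat.of (MvPolynomial σ Γ(S, W)) ⟶ Γ(X, U)),
      Spec.map φu ≫ (AffineSpace.SpecIso σ Γ(S, W)).inv ≫ AffineSpace.map σ hW.fromSpec =
        hU.fromSpec ≫ u ∧
      CommRingCat.ofHom (MvPolynomial.C) ≫ φu = f.appLE W U e := by
  have hcomm : Spec.map (f.appLE W U e) ≫ hW.fromSpec = hU.fromSpec ≫ f :=
    hW.SpecMap_appLE_fromSpec f hU e
  have sq := AffineSpace.isPullback_map (n := σ) hW.fromSpec
  have w : (hU.fromSpec ≫ u) ≫ (𝔸(σ; S) ↘ S) = Spec.map (f.appLE W U e) ≫ hW.fromSpec := by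
    rw [Category.assoc, hu, hcomm]
  let u' : Spec Γ(X, U) ⟶ 𝔸(σ; Spec Γ(S, W)) := sq.lift (hU.fromSpec ≫ u)
    (Spec.map (f.appLE W U e)) w
  have hu'1 : u' ≫ AffineSpace.map σ hW.fromSpec = hU.fromSpec ≫ u := sq.lift_fst _ _ _
  have hu'2 : u' ≫ (𝔸(σ; Spec Γ(S, W)) ↘ Spec Γ(S, W)) = Spec.map (f.appLE W U e) :=
    sq.lift_snd _ _ _
  refine ⟨Spec.preimage (u' ≫ (AffineSpace.SpecIso σ Γ(S, W)).hom), ?_, ?_⟩
  · rw [Spec.map_preimage, Category.assoc, Iso.hom_inv_id_assoc, hu'1]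
  · apply Spec.map_injective
    rw [Spec.map_comp, Spec.map_preimage, Category.assoc, ← AffineSpace.SpecIso_inv_over,
      Iso.hom_inv_id_assoc, hu'2]

open Cardinal Groth.Agent.Lib.Helper24.FibreDim in
set_option maxHeartbeats 1600000 in
/-- S6083 with the fibre data packaged as `z ⤳ x`, `f z = f x`, `n ≤ tr f z` -/
theorem main (X S : Scheme.{u}) (f : X ⟶ S) [LocallyOfFinitePresentation f]
    (x : X) (n : ℕ)
    (u : X ⟶ 𝔸(ULift.{u} (Fin n); S)) [LocallyQuasiFinite u]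
    (hu : u ≫ (𝔸(ULift.{u} (Fin n); S) ↘ S) = f)
    (z : X) (hzx : z ⤳ x) (hzs : f.base z = f.base x) (hopen : EGA43.IsUnivOpenAt f z)
    (htr : n ≤ tr f z) :
    EGA43.IsUnivOpenAt u x := by
  obtain ⟨W, U, hW, hU, e, hxU, -⟩ :=
    Groth.Agent.Lib.lead.OpenAtSch.exists_affine_chart f x ⊤ trivial
  have hzU : z ∈ U := hzx.mem_open U.isOpen hxU
  obtain ⟨φu, hφu1, hφu2⟩ := exists_chart_hom f (ULift.{u} (Fin n)) u hu hW hU e
  letI algAB : Algebra Γ(S, W) Γ(X, U) := (f.appLE W U e).hom.toAlgebra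
  letI algA'B : Algebra (MvPolynomial (ULift.{u} (Fin n)) Γ(S, W)) Γ(X, U) := φu.hom.toAlgebra
  haveI : IsScalarTower Γ(S, W) (MvPolynomial (ULift.{u} (Fin n)) Γ(S, W)) Γ(X, U) :=
    IsScalarTower.of_algebraMap_eq fun a => by
      have := congrArg (fun ψ => ψ.hom a) hφu2
      exact this.symm
  -- finiteness
  haveI : Algebra.FinitePresentation Γ(S, W) Γ(X, U) := f.finitePresentation_appLE hW hU e
  haveI : Algebra.FinitePresentation (MvPolynomial (ULift.{u} (Fin n)) Γ(S, W)) Γ(X, U) :=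
    Algebra.FinitePresentation.of_restrict_scalars_finitePresentation Γ(S, W) _ _
  -- quasi-finiteness
  haveI : IsOpenImmersion (AffineSpace.map (ULift.{u} (Fin n)) hW.fromSpec) :=
    MorphismProperty.of_isPullback (P := @IsOpenImmersion)
      (AffineSpace.isPullback_map hW.fromSpec).flip inferInstance
  haveI : LocallyQuasiFinite (Spec.map φu) := by
    haveI : LocallyQuasiFinite (Spec.map φu ≫ (AffineSpace.SpecIso (ULift.{u} (Fin n))
        Γ(S, W)).inv ≫ AffineSpace.map (ULift.{u} (Fin n)) hW.fromSpec) := by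
      rw [hφu1]; infer_instance
    exact LocallyQuasiFinite.of_comp _ ((AffineSpace.SpecIso (ULift.{u} (Fin n)) Γ(S, W)).inv ≫
      AffineSpace.map (ULift.{u} (Fin n)) hW.fromSpec)
  haveI : Algebra.QuasiFinite (MvPolynomial (ULift.{u} (Fin n)) Γ(S, W)) Γ(X, U) :=
    (HasRingHomProperty.Spec_iff (P := @LocallyQuasiFinite)).mp
      ‹LocallyQuasiFinite (Spec.map φu)›
  -- the primes
  let x₀ : ↥(Spec Γ(X, U)) := hU.primeIdealOf ⟨x, hxU⟩
  let z₀ : ↥(Spec Γ(X, U)) := hU.primeIdealOf ⟨z, hzU⟩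
  have hx₀ : hU.fromSpec.base x₀ = x := hU.fromSpec_primeIdealOf ⟨x, hxU⟩
  have hz₀ : hU.fromSpec.base z₀ = z := hU.fromSpec_primeIdealOf ⟨z, hzU⟩
  let ps : Ideal Γ(S, W) := (hW.primeIdealOf ⟨f.base x, e hxU⟩).asIdeal
  have hzx₀ : z₀ ⤳ x₀ := by
    rw [← hU.fromSpec.isOpenEmbedding.isInducing.specializes_iff, hx₀, hz₀]
    exact hzx
  have hle : z₀.asIdeal ≤ x₀.asIdeal :=
    (PrimeSpectrum.le_iff_specializes (R := Γ(X, U)) z₀ x₀).mpr hzx₀
  have hxs : x₀.asIdeal.comap (algebraMap Γ(S, W) Γ(X, U)) = ps :=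
    congrArg PrimeSpectrum.asIdeal
      (IsAffineOpen.comap_primeIdealOf_appLE (f := f) (x := x) W hW U hU e hxU)
  have hWz : (hW.primeIdealOf ⟨f.base z, e hzU⟩) = hW.primeIdealOf ⟨f.base x, e hxU⟩ := by
    congr 1
    exact Subtype.ext hzs
  have hzs' : z₀.asIdeal.comap (algebraMap Γ(S, W) Γ(X, U)) = ps := by
    have h1 := congrArg PrimeSpectrum.asIdeal
      (IsAffineOpen.comap_primeIdealOf_appLE (f := f) (x := z) W hW U hU e hzU)
    rw [hWz] at h1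
    exact h1
  haveI : z₀.asIdeal.LiesOver ps := ⟨hzs'.symm⟩
  have htrdeg : Algebra.trdeg (Γ(S, W) ⧸ ps) (Γ(X, U) ⧸ z₀.asIdeal) = tr f z :=
    trdeg_chart f hW hU e z hzU rfl ps (congrArg PrimeSpectrum.asIdeal hWz.symm)
  have hcard : #(ULift.{u} (Fin n)) ≤ Algebra.trdeg (Γ(S, W) ⧸ ps) (Γ(X, U) ⧸ z₀.asIdeal) := by
    rw [htrdeg]
    simp only [Cardinal.mk_uLift, Cardinal.mk_fin, Cardinal.lift_natCast]
    exact_mod_cast htr
  -- `Spec Γ(X,U) ⟶ Spec Γ(S,W)` is universally open at `z₀`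
  have hcomm : Spec.map (f.appLE W U e) ≫ hW.fromSpec = hU.fromSpec ≫ f :=
    hW.SpecMap_appLE_fromSpec f hU e
  have hz1 : EGA43.IsUnivOpenAt (hU.fromSpec ≫ f) z₀ :=
    Groth.Agent.Lib.Helper9.UnivOpen.isUnivOpenAt_comp hU.fromSpec f z₀
      (isUnivOpenAt_of_universallyOpen hU.fromSpec z₀) (hz₀.symm ▸ hopen)
  rw [← hcomm] at hz1
  have sqm : IsPullback (𝟙 (Spec Γ(X, U))) (Spec.map (f.appLE W U e))
      (Spec.map (f.appLE W U e) ≫ hW.fromSpec) hW.fromSpec := by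
    have h1 : IsPullback (Spec.map (f.appLE W U e)) (𝟙 (Spec Γ(X, U))) (𝟙 (Spec Γ(S, W)))
        (Spec.map (f.appLE W U e)) := IsPullback.id_vert _
    have h2 : IsPullback (𝟙 (Spec Γ(S, W))) (𝟙 (Spec Γ(S, W))) hW.fromSpec hW.fromSpec :=
      IsKernelPair.id_of_mono hW.fromSpec
    have h3 := h1.paste_horiz h2
    simp only [Category.comp_id] at h3
    exact h3.flip
  have hz2 : EGA43.IsUnivOpenAt (Spec.map (f.appLE W U e)) z₀ :=
    Groth.Agent.Lib.Helper9.UnivOpen.isUnivOpenAt_of_isPullback hz1 sqm z₀ rfl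
  -- apply the affine statement
  have hmain : EGA43.IsUnivOpenAt (Spec.map φu) x₀ :=
    affine_main (A := Γ(S, W)) (B := Γ(X, U)) (ULift.{u} (Fin n)) ps z₀.asIdeal x₀.asIdeal hle
      hxs hcard hz2
  -- back to `u`
  have hj : EGA43.IsUnivOpenAt ((AffineSpace.SpecIso (ULift.{u} (Fin n)) Γ(S, W)).inv ≫
      AffineSpace.map (ULift.{u} (Fin n)) hW.fromSpec) ((Spec.map φu).base x₀) :=
    isUnivOpenAt_of_universallyOpen _ _
  have h4 := Groth.Agent.Lib.Helper9.UnivOpen.isUnivOpenAt_comp (Spec.map φu) _ x₀ hmain hj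
  rw [hφu1] at h4
  have h5 := Groth.Agent.Lib.Helper9.UnivOpen.isUnivOpenAt_right_of_comp hU.fromSpec u x₀ h4
  rw [hx₀] at h5
  exact h5

open Groth.Agent.Lib.Helper24.FibreDim Topology in
/-- the fibre data of S6083 -/
theorem fibre_data {X S : Scheme.{u}} (f : X ⟶ S) [LocallyOfFiniteType f]
    (s : S) (x : X) (n : ℕ)
    (Z : Set ↥(f.base ⁻¹' {s})) (hZ : Z ∈ irreducibleComponents ↥(f.base ⁻¹' {s}))
    (hxZ : x ∈ (Subtype.val '' Z))
    (z : X) (hz : z ∈ Subtype.val '' Z ∧ Subtype.val '' Z ⊆ closure {z})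
    (hdimZ : topologicalKrullDim ↥Z = n) :
    z ⤳ x ∧ f.base z = s ∧ n = tr f z := by
  have hzx : z ⤳ x := specializes_iff_mem_closure.mpr (hz.2 hxZ)
  obtain ⟨a, haZ, haz⟩ := hz.1
  have hzs : f.base z = s := by
    rw [← haz]; exact a.2
  refine ⟨hzx, hzs, ?_⟩
  -- `val '' Z = closure {z} ∩ f⁻¹ {f z}`
  have hZcl : IsClosed Z := isClosed_of_mem_irreducibleComponents Z hZ
  obtain ⟨C, hC, hCZ⟩ := isClosed_induced_iff.mp hZcl
  have hzC : z ∈ C := by
    have : a ∈ Subtype.val ⁻¹' C := hCZ ▸ haZ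
    rw [← haz]; exact this
  have hset : Subtype.val '' Z = closure ({z} : Set X) ∩ f.base ⁻¹' {f.base z} := by
    apply Set.Subset.antisymm
    · rintro _ ⟨b, hbZ, rfl⟩
      refine ⟨hz.2 ⟨b, hbZ, rfl⟩, ?_⟩
      show f.base b.1 = f.base z
      rw [hzs]; exact b.2
    · rintro y ⟨hy1, hy2⟩
      have hys : f.base y = s := by
        have : f.base y = f.base z := hy2
        rw [this, hzs]
      have hyC : y ∈ C := (closure_minimal (Set.singleton_subset_iff.mpr hzC) hC) hy1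
      refine ⟨⟨y, hys⟩, ?_, rfl⟩
      rw [← hCZ]
      exact hyC
  let ψ : ↥Z → X := fun b => b.1.1
  have hψ : IsEmbedding ψ := IsEmbedding.subtypeVal.comp IsEmbedding.subtypeVal
  have hrange : Set.range ψ = Subtype.val '' Z := by
    ext y
    constructor
    · rintro ⟨b, rfl⟩
      exact ⟨b.1, b.2, rfl⟩
    · rintro ⟨b, hbZ, rfl⟩
      exact ⟨⟨b, hbZ⟩, rfl⟩
  have h2 : topologicalKrullDim ↥Z = topologicalKrullDim ↥(Set.range ψ) :=
    IsHomeomorph.topologicalKrullDim_eq _ hψ.toHomeomorph.isHomeomorph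
  rw [hrange, hset] at h2
  have h3 := dim_closure_inter_fibre f z
  rw [hdimZ] at h2
  have h4 : ((n : ℕ) : WithBot ℕ∞) = ((tr f z : ℕ) : WithBot ℕ∞) := h2.trans h3
  exact_mod_cast h4

end Groth.Agent.Lib.lead.QfAff
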