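import Mathlib
import Groth.Prelude.Def_EGA43
import Groth.Agent.Lib.Helper21.SteinUH1
import Groth.Agent.Lib.Helper21.ProperGamma2

/-!
# Universal openness at a point descends along a surjective first factor (lead)

If `t : X ⟶ S'` is surjective and `t ≫ g` is universally open at every point of `t ⁻¹ {s'}`,
then `g` is universally open at `s'`.
-/

set_option autoImplicit false
universe u
open CategoryTheory CategoryTheory.Limits AlgebraicGeometry

namespace Groth.Agent.Lib.lead.SteinLsc

theorem isUnivOpenAt_of_comp {X S' Y : Scheme.{u}} (t : X ⟶ S') (g : S' ⟶ Y) [Surjective t]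
    (s' : S') (h : ∀ x : X, t.base x = s' → EGA43.IsUnivOpenAt (t ≫ g) x) :
    EGA43.IsUnivOpenAt g s' := by
  intro Y' p s'' hs''
  let e := pullbackRightPullbackFstIso g p t
  obtain ⟨x, hx⟩ := t.surjective s'
  obtain ⟨z, hz1, hz2⟩ := Scheme.Pullback.exists_preimage_pullback (f := t)
    (g := pullback.fst g p) x s'' (by rw [hx]; exact hs''.symm)
  have hfst : (pullback.fst (t ≫ g) p).base (e.hom.base z) = x := by
    have : (e.hom ≫ pullback.fst (t ≫ g) p).base z = x := by
      rw [pullbackRightPullbackFstIso_hom_fst]; exact hz1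
    simpa using this
  have hopen := h x hx Y' p (e.hom.base z) hfst
  intro W hW
  let ρ : pullback (t ≫ g) p ⟶ pullback g p := e.inv ≫ pullback.snd t (pullback.fst g p)
  have hρ : ρ.base (e.hom.base z) = s'' := by
    have : (e.hom ≫ ρ).base z = s'' := by
      simp only [ρ, Iso.hom_inv_id_assoc]; exact hz2
    simpa using this
  have hρsnd : ρ ≫ pullback.snd g p = pullback.snd (t ≫ g) p := by
    simp only [ρ, Category.assoc]
    exact pullbackRightPullbackFstIso_inv_snd_snd g p t
  have hW' : ρ.base ⁻¹' W ∈ nhds (e.hom.base z) :=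
    ρ.base.hom.continuous.continuousAt (by rw [hρ]; exact hW)
  have h1 := hopen _ hW'
  have h2 : (pullback.snd (t ≫ g) p).base (e.hom.base z) = (pullback.snd g p).base s'' := by
    rw [← hρsnd, ← hρ]; rfl
  rw [h2] at h1
  refine Filter.mem_of_superset h1 ?_
  rintro _ ⟨w, hw, rfl⟩
  refine ⟨ρ.base w, hw, ?_⟩
  rw [← hρsnd]; rfl

end Groth.Agent.Lib.lead.SteinLsc
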