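import Mathlib
import Groth.Prelude.Def_MoreMor
import Groth.Agent.Lib.helper11.H0Model
import Groth.Agent.Lib.lead.QfAffF
import Groth.Agent.S3415
import Groth.Agent.S1335

/-!
# Lower semicontinuity of the number of geometric connected components for proper flat morphisms
of finite presentation, without Noetherian hypotheses (lead, S1363)
-/

set_option autoImplicit false
set_option linter.style.haveILetI false
universe u
open CategoryTheory CategoryTheory.Limits AlgebraicGeometry Opposite TopologicalSpace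

namespace Groth.Agent.Lib.lead.LscFlatProper

open Groth.Agent.Lib.lead.HensK Groth.Agent.Lib.helper11.H0

/-- affine base -/
theorem lsc_Spec (B : Type u) [CommRing B] {X : Scheme.{u}}
    (f : X ⟶ Spec (CommRingCat.of B)) [IsProper f] [Flat f] [LocallyOfFinitePresentation f]
    (s : Spec (CommRingCat.of B)) :
    ∃ V ∈ nhds s, ∀ z ∈ V, MoreMor.nGeomConnComp f s ≤ MoreMor.nGeomConnComp f z := by
  let D := fgDiag B
  let c := fgCone B
  have hc : IsLimit c := fgIsLimit B
  haveI : ∀ i, CompactSpace (D.obj i) := fun i => inferInstance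
  haveI : ∀ i, QuasiSeparatedSpace (D.obj i) := fun i => inferInstance
  haveI : ∀ (i j : (Finset B)ᵒᵖ) (a : i ⟶ j), IsAffineHom (D.map a) := fun i j a => inferInstance
  let f' : X ⟶ c.pt := f
  haveI : IsProper f' := ‹IsProper f›
  haveI : Flat f' := ‹Flat f›
  haveI : LocallyOfFinitePresentation f' := ‹LocallyOfFinitePresentation f›
  obtain ⟨j₀, Y₀, h₀, g₀, hprop, hflat, hfp, hpb⟩ := exists_proper_flat_fp_model D c hc f'
  haveI := hprop
  haveI := hflat
  haveI := hfp
  haveI : IsLocallyNoetherian (D.obj j₀) := by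
    show IsLocallyNoetherian (Spec (CommRingCat.of (fgSub B j₀.unop)))
    infer_instance
  let g : c.pt ⟶ D.obj j₀ := c.π.app j₀
  have hpb' : IsPullback g₀ f' h₀ g := hpb
  have hs : (s : c.pt) = s := rfl
  obtain ⟨V, hV, hVle⟩ := Groth.Agent.S3415.result h₀ (g.base s)
    (fun x _ => Groth.Agent.Lib.lead.QfAff.isUnivOpenAt_of_universallyOpen h₀ x)
  refine ⟨g.base ⁻¹' V, g.base.hom.continuous.continuousAt hV, fun z hz => ?_⟩
  have e1 := Groth.Agent.S1335.result h₀ f' g₀ g hpb' s
  have e2 := Groth.Agent.S1335.result h₀ f' g₀ g hpb' z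
  change MoreMor.nGeomConnComp f' s ≤ MoreMor.nGeomConnComp f' z
  rw [e1, e2]
  exact hVle _ hz

/-- general base -/
theorem lsc_at {X S : Scheme.{u}} (f : X ⟶ S) [IsProper f] [Flat f] [LocallyOfFinitePresentation f]
    (s : S) : ∃ V ∈ nhds s, ∀ z ∈ V, MoreMor.nGeomConnComp f s ≤ MoreMor.nGeomConnComp f z := by
  obtain ⟨U, hU, hsU⟩ : ∃ U : S.Opens, IsAffineOpen U ∧ s ∈ U := by
    obtain ⟨U, hU, hsU, -⟩ := TopologicalSpace.Opens.isBasis_iff_nbhd.mp S.isBasis_affineOpens
      (U := ⊤) (x := s) trivial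
    exact ⟨U, hU, hsU⟩
  let g : Spec Γ(S, U) ⟶ S := hU.fromSpec
  let s' : Spec Γ(S, U) := hU.primeIdealOf ⟨s, hsU⟩
  have hs' : g.base s' = s := hU.fromSpec_primeIdealOf ⟨s, hsU⟩
  have hpb : IsPullback (pullback.fst f g) (pullback.snd f g) f g := IsPullback.of_hasPullback f g
  obtain ⟨V, hV, hVle⟩ := lsc_Spec Γ(S, U) (pullback.snd f g) s'
  refine ⟨g.base '' V, ?_, ?_⟩
  · rw [← hs']
    exact g.isOpenEmbedding.image_mem_nhds.mpr hV
  · rintro _ ⟨z', hz', rfl⟩
    have e1 := Groth.Agent.S1335.result f (pullback.snd f g) (pullback.fst f g) g hpb s'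
    have e2 := Groth.Agent.S1335.result f (pullback.snd f g) (pullback.fst f g) g hpb z'
    rw [← hs', ← e1, ← e2]
    exact hVle z' hz'

theorem main {X S : Scheme.{u}} (f : X ⟶ S) [IsProper f] [Flat f] [LocallyOfFinitePresentation f] :
    LowerSemicontinuous (fun s : ↑S => MoreMor.nGeomConnComp f s) := by
  intro s a ha
  obtain ⟨V, hV, hVle⟩ := lsc_at f s
  filter_upwards [hV] with z hz
  exact lt_of_lt_of_le ha (hVle z hz)

end Groth.Agent.Lib.lead.LscFlatProper
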