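import Mathlib
import Groth.Agent.Lib.helper11.FibDim
import Groth.Agent.Lib.Helper7.ClosedPointDim

set_option autoImplicit false
universe u
open TensorProduct

namespace Groth.Agent.Lib.lead.KaehlerFibreDim

open Groth.Agent.Lib.Helper7 Groth.Agent.Lib.helper11

open scoped IntermediateField.algebraAdjoinAdjoin in
/-- For a finitely generated field extension, `trdeg ≤ dim Ω`. -/
theorem trdeg_le_finrank_kaehler (k K : Type u) [Field k] [Field K] [Algebra k K]
    [Algebra.EssFiniteType k K] :
    Algebra.trdeg k K ≤ (Module.finrank K Ω[K⁄k] : Cardinal.{u}) := by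
  classical
  set s : Set Ω[K⁄k] := Set.range (KaehlerDifferential.D k K) with hs
  have hspan : Submodule.span K s = ⊤ := KaehlerDifferential.span_range_derivation k K
  obtain ⟨f, hfs, hfspan, -⟩ := Submodule.exists_fun_fin_finrank_span_eq K s
  choose x hx using hfs
  set S : Set K := Set.range x with hS
  let L := IntermediateField.adjoin k S
  have hsub : Subsingleton Ω[K⁄L] := by
    have hsurj := KaehlerDifferential.map_surjective k L K
    have hker : ∀ ω, KaehlerDifferential.map k L K K ω = 0 := by
      intro ω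
      have hω : ω ∈ Submodule.span K (Set.range f) := by rw [hfspan, hspan]; trivial
      induction hω using Submodule.span_induction with
      | mem ω h =>
        obtain ⟨i, rfl⟩ := h
        rw [← hx i, KaehlerDifferential.map_D]
        have hmem : x i ∈ L := IntermediateField.subset_adjoin k S ⟨i, rfl⟩
        have : algebraMap K K (x i) = algebraMap L K ⟨x i, hmem⟩ := rfl
        rw [this, Derivation.map_algebraMap]
      | zero => simp
      | add a b _ _ ha hb => rw [map_add, ha, hb, add_zero]
      | smul c a _ ha => rw [map_smul, ha, smul_zero]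
    refine ⟨fun a b => ?_⟩
    obtain ⟨a', rfl⟩ := hsurj a
    obtain ⟨b', rfl⟩ := hsurj b
    rw [hker, hker]
  haveI : Algebra.FormallyUnramified L K := ⟨hsub⟩
  haveI : Algebra.EssFiniteType L K := Algebra.EssFiniteType.of_comp k L K
  haveI : Algebra.IsSeparable L K := Algebra.FormallyUnramified.isSeparable L K
  haveI : Algebra.IsAlgebraic L K := Algebra.IsSeparable.isAlgebraic L K
  haveI : Algebra.IsAlgebraic (Algebra.adjoin k S) K :=
    Algebra.IsAlgebraic.trans (Algebra.adjoin k S) L K
  have h1 := Algebra.IsAlgebraic.trdeg_le_cardinalMk k S (A := K)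
  have h2 : Cardinal.mk S ≤ (Module.finrank K Ω[K⁄k] : Cardinal.{u}) := by
    have := Cardinal.mk_range_le_lift (f := x)
    rw [Cardinal.lift_uzero, Cardinal.mk_fin, Cardinal.lift_natCast] at this
    have hr : Module.finrank K ↥(Submodule.span K s) = Module.finrank K Ω[K⁄k] := by
      rw [hspan, finrank_top]
    rw [← hr]
    exact this
  exact h1.trans h2

/-- The fibre of `Ω[A/k]` at `q` surjects onto `Ω[κ(q)/k]`. -/
theorem finrank_kaehler_residueField_le (k A : Type u) [Field k] [CommRing A] [Algebra k A]
    [Algebra.FiniteType k A] (q : Ideal A) [q.IsPrime] :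
    Module.finrank q.ResidueField Ω[q.ResidueField⁄k] ≤
      Module.finrank q.ResidueField (q.ResidueField ⊗[A] Ω[A⁄k]) := by
  haveI : Algebra.FormallyUnramified A (Localization.AtPrime q) :=
    Algebra.FormallyUnramified.of_isLocalization q.primeCompl
  haveI : Algebra.FormallyUnramified A q.ResidueField :=
    Algebra.FormallyUnramified.comp A (Localization.AtPrime q) q.ResidueField
  have hsurj : Function.Surjective (KaehlerDifferential.mapBaseChange k A q.ResidueField) := by
    rw [← LinearMap.range_eq_top, KaehlerDifferential.range_mapBaseChange, LinearMap.ker_eq_top]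
    apply LinearMap.ext
    intro ω
    exact Subsingleton.elim _ _
  haveI : Module.Finite A Ω[A⁄k] := inferInstance
  exact LinearMap.finrank_le_finrank_of_surjective hsurj

theorem main (k : Type u) [Field k]
    (A : Type u) [CommRing A] [Algebra k A] [Algebra.FiniteType k A] (n : ℕ)
    (P : Ideal A) [P.IsPrime] (q : Ideal A) [q.IsPrime] (hqP : q ≤ P)
    (hq : (n : WithBot ℕ∞) ≤ ringKrullDim (A ⧸ q)) :
    n ≤ Module.finrank P.ResidueField (P.ResidueField ⊗[A] (Ω[A⁄k])) := by
  -- semicontinuity
  obtain ⟨U, hU, hPU, hle⟩ := FibDim.exists_open_fibDim_le (R := A) Ω[A⁄k] ⟨P, inferInstance⟩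
  have hsp : (⟨q, inferInstance⟩ : PrimeSpectrum A) ⤳ ⟨P, inferInstance⟩ :=
    (PrimeSpectrum.le_iff_specializes _ _).1 hqP
  have h1 : FibDim.fibDim Ω[A⁄k] (⟨q, inferInstance⟩ : PrimeSpectrum A) ≤
      FibDim.fibDim Ω[A⁄k] (⟨P, inferInstance⟩ : PrimeSpectrum A) :=
    hle _ (hsp.mem_open hU hPU)
  refine le_trans ?_ h1
  show n ≤ Module.finrank q.ResidueField (q.ResidueField ⊗[A] Ω[A⁄k])
  refine le_trans ?_ (finrank_kaehler_residueField_le k A q)
  haveI : Algebra.EssFiniteType k q.ResidueField := Algebra.EssFiniteType.comp k A q.ResidueField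
  have h2 := trdeg_le_finrank_kaehler k q.ResidueField
  -- trdeg = dim A/q
  have hinj : Function.Injective (algebraMap (A ⧸ q) q.ResidueField) :=
    IsFractionRing.injective _ _
  obtain ⟨m, hm1, hm2, -⟩ := ClosedPtDim.exists_nat_trdeg_eq k (A ⧸ q) q.ResidueField hinj
  rw [hm2] at hq
  have hnm : n ≤ m := by exact_mod_cast hq
  rw [hm1] at h2
  have : m ≤ Module.finrank q.ResidueField Ω[q.ResidueField⁄k] := by exact_mod_cast h2
  exact hnm.trans this

end Groth.Agent.Lib.lead.KaehlerFibreDim

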