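import Mathlib
import Groth.Agent.Lib.lead.SmoothRelDim
import Groth.Agent.Lib.lead.FlatRelDimSp
import Groth.Agent.Lib.Helper24.LocalDim.Scheme
import Groth.Prelude.Def_AlgSp4
import Groth.Prelude.Def_AlgSpDec
import Groth.Prelude.Def_Flat

set_option autoImplicit false
set_option linter.style.haveILetI false
universe u
open CategoryTheory CategoryTheory.Limits AlgebraicGeometry Topology TopologicalSpace

namespace Groth.Agent.Lib.lead.SmoothDimSp

open Groth.Agent.Lib.lead Groth.Agent.Lib.Helper18 Groth.Agent.Lib.Helper3 Groth.Agent.Lib.Helper24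
open AlgSp

/-- for a smooth morphism the fibre dimension is locally constant -/
theorem exists_nat_fibreDimAt_const {U V : Scheme.{u}} (h : U ⟶ V) [Smooth h] (u : U) :
    ∃ (W : U.Opens) (n : ℕ), u ∈ W ∧ ∀ v ∈ W, FlatMor.fibreDimAt h v = (n : WithBot ℕ∞) := by
  obtain ⟨V', hV', W, hW, huW, e, hφ⟩ := Smooth.exists_isStandardSmooth h u
  obtain ⟨n, hn⟩ : ∃ n, (h.appLE V' W e).hom.IsStandardSmoothOfRelativeDimension n := by
    obtain ⟨ι, σ, hσ, hι, ⟨P⟩⟩ := hφ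
    letI := (h.appLE V' W e).hom.toAlgebra
    exact ⟨P.dimension, ⟨ι, σ, hσ, hι, P, rfl⟩⟩
  refine ⟨W, n, huW, fun v hv => ?_⟩
  haveI : LocallyOfFiniteType h := inferInstance
  have hxr : v ∈ Set.range hW.fromSpec := by rw [hW.range_fromSpec]; exact hv
  obtain ⟨w, rfl⟩ := hxr
  have comm := IsAffineOpen.SpecMap_appLE_fromSpec h hV' hW e
  have hfp : (h.appLE V' W e).hom.FinitePresentation :=
    HasRingHomProperty.appLE (P := @LocallyOfFinitePresentation) h inferInstance ⟨V', hV'⟩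
      ⟨W, hW⟩ e
  haveI : LocallyOfFiniteType (Spec.map (h.appLE V' W e)) := by
    rw [HasRingHomProperty.Spec_iff (P := @LocallyOfFiniteType)]
    exact RingHom.FiniteType.of_finitePresentation hfp
  rw [Chev.fibreDimAt_eq_of_openImmersion_square _ hV'.fromSpec hW.fromSpec h comm w]
  exact SmoothRelDim.fibreDimAt_of_isStandardSmoothOfRelativeDimension (h.appLE V' W e).hom n hn w

/-- dimension formula for a smooth morphism of locally Noetherian schemes -/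
theorem localDim_of_smooth {U V : Scheme.{u}} [IsLocallyNoetherian U] [IsLocallyNoetherian V]
    (h : U ⟶ V) [Smooth h] (u : U) :
    FlatMor.localDim U u = FlatMor.localDim V (h u) + FlatMor.fibreDimAt h u := by
  obtain ⟨W, n, huW, hn⟩ := exists_nat_fibreDimAt_const h u
  haveI : LocallyOfFiniteType h := inferInstance
  haveI : Smooth (W.ι ≫ h) := inferInstance
  haveI : Flat (W.ι ≫ h) := inferInstance
  haveI : LocallyOfFiniteType (W.ι ≫ h) := inferInstance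
  have key : ∀ w : W.toScheme, FlatMor.fibreDimAt (W.ι ≫ h) w = (n : WithBot ℕ∞) := by
    intro w
    have comm : (W.ι ≫ h) ≫ 𝟙 V = W.ι ≫ h := Category.comp_id _
    rw [← Chev.fibreDimAt_eq_of_openImmersion_square (W.ι ≫ h) (𝟙 V) W.ι h comm w]
    exact hn _ w.2
  have hrel : Cyc.HasRelDim (W.ι ≫ h) n := by
    intro y T hT
    obtain ⟨ζ, hζ⟩ := QuasiSober.sober hT.1 (isClosed_of_mem_irreducibleComponents T hT)
    have hy : (W.ι ≫ h) ((W.ι ≫ h).fiberι y ζ) = y := by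
      have : (W.ι ≫ h).fiberι y ζ ∈ Set.range ((W.ι ≫ h).fiberι y) := ⟨ζ, rfl⟩
      rw [(W.ι ≫ h).range_fiberι] at this
      exact this
    rw [FibreCompDimOne.dim_component_aux (W.ι ≫ h) _ y hy T hT ζ hζ rfl]
    exact key _
  have h1 := FlatRelDim.S9359 (W.ι ≫ h) n hrel ⟨u, huW⟩
  have h2 : FlatMor.localDim W.toScheme ⟨u, huW⟩ = FlatMor.localDim U u :=
    LocalDim.localDim_eq_of_isOpenEmbedding _ W.ι.isOpenEmbedding (⟨u, huW⟩ : W.toScheme)
  rw [← h2, h1, hn u huW]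
  rfl

variable {S : Scheme.{u}}

theorem S10315 {X Y : AlgSp.Space S} (f : X ⟶ Y)
    (hX : AlgSp.IsLocNoethSp X.obj) (hY : AlgSp.IsLocNoethSp Y.obj) (hf : AlgSp.LocP @Smooth f.hom)
    (x : AlgSp.Points X.obj) (d dX dY : WithBot ℕ∞)
    (hd : AlgSp.HasAtMor (fun _ _ h u => FlatMor.fibreDimAt h u = d) f.hom x)
    (hx : AlgSp.HasAt (fun U u => FlatMor.localDim ↥U u = dX) X.obj x)
    (hy : AlgSp.HasAt (fun U u => FlatMor.localDim ↥U u = dY) Y.obj (AlgSp.Points.map f.hom x)) :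
    dX = dY + d := by
  obtain ⟨U₁, V₁, a₁, b₁, h₁, u₁, ha₁, hb₁, w₁, hu₁, hd₁⟩ := hd
  obtain ⟨U₂, a₂, u₂, ha₂, hu₂, hdX⟩ := hx
  obtain ⟨V₃, b₃, v₃, hb₃, hv₃, hdY⟩ := hy
  haveI : Smooth h₁.left := hf a₁ b₁ h₁ ha₁ hb₁ w₁
  haveI : IsLocallyNoetherian U₁.left := isLocallyNoetherian_of_isLocNoethSp hX a₁ ha₁
  haveI : IsLocallyNoetherian V₁.left := isLocallyNoetherian_of_isLocNoethSp hY b₁ hb₁
  have e1 : FlatMor.localDim U₁.left u₁ = dX := by
    rw [← hdX]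
    exact localDim_eq_of_ofPt_eq a₁ a₂ ha₁ ha₂ u₁ u₂ (hu₁.trans hu₂.symm)
  have e2 : FlatMor.localDim V₁.left (h₁.left u₁) = dY := by
    rw [← hdY]
    apply localDim_eq_of_ofPt_eq b₁ b₃ hb₁ hb₃
    rw [ofPt_map_of_comm f.hom a₁ b₁ h₁ w₁ u₁, hu₁, hv₃]
  rw [← e1, ← e2, ← hd₁]
  exact localDim_of_smooth h₁.left u₁

end Groth.Agent.Lib.lead.SmoothDimSp
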