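import Mathlib

/-!
Inverse limits of modules over an adically complete ring (EGA 0_I 7.2.9).
-/

namespace Groth.Agent.AdicLim

open Function

universe u v

variable {A : Type u} [CommRing A] (I : Ideal A)

/-- vectors with all coordinates in `I ^ m` -/
def InZ {r : ℕ} (m : ℕ) (v : Fin r → A) : Prop := ∀ i, v i ∈ I ^ m

variable {I}

lemma InZ.add {r m : ℕ} {v w : Fin r → A} (hv : InZ I m v) (hw : InZ I m w) : InZ I m (v + w) :=
  fun i => Ideal.add_mem _ (hv i) (hw i)

lemma InZ.sub {r m : ℕ} {v w : Fin r → A} (hv : InZ I m v) (hw : InZ I m w) : InZ I m (v - w) :=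
  fun i => Ideal.sub_mem _ (hv i) (hw i)

lemma InZ.zero {r m : ℕ} : InZ I m (0 : Fin r → A) := fun _ => Ideal.zero_mem _

lemma InZ.mono {r m n : ℕ} (h : m ≤ n) {v : Fin r → A} (hv : InZ I n v) : InZ I m v :=
  fun i => Ideal.pow_le_pow_right h (hv i)

/-- the image of `I^m`-vectors under a surjection covers `I^m • ⊤` -/
lemma exists_inZ_of_mem_smul_top {r : ℕ} {M' : Type v} [AddCommGroup M'] [Module A M']
    (u' : (Fin r → A) →ₗ[A] M') (hu' : Surjective u') (m : ℕ) {x : M'}
    (hx : x ∈ (I ^ m) • (⊤ : Submodule A M')) : ∃ v, InZ I m v ∧ u' v = x := by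
  refine Submodule.smul_induction_on hx (fun a ha y _ => ?_) (fun x y hx hy => ?_)
  · obtain ⟨w, rfl⟩ := hu' y
    exact ⟨a • w, fun i => Ideal.mul_mem_right _ _ ha, map_smul _ _ _⟩
  · obtain ⟨v, hv, rfl⟩ := hx
    obtain ⟨w, hw, rfl⟩ := hy
    exact ⟨v + w, hv.add hw, map_add _ _ _⟩

/-- the image of an `I^m`-vector lies in `I^m • ⊤` -/
lemma map_mem_smul_top {r : ℕ} {M' : Type v} [AddCommGroup M'] [Module A M']
    (u' : (Fin r → A) →ₗ[A] M') (m : ℕ) {v : Fin r → A} (hv : InZ I m v) :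
    u' v ∈ (I ^ m) • (⊤ : Submodule A M') := by
  classical
  have : v = ∑ i, v i • (Pi.single i (1 : A) : Fin r → A) := by
    ext j
    simp [Finset.sum_apply, Pi.single_apply]
  rw [this, map_sum]
  refine Submodule.sum_mem _ fun i _ => ?_
  rw [map_smul]
  exact Submodule.smul_mem_smul (hv i) Submodule.mem_top

section system

variable {M : ℕ → Type v} [∀ n, AddCommGroup (M n)] [∀ n, Module A (M n)]
  (f : ∀ n, M (n + 1) →ₗ[A] M n)
  {L : Type v} [AddCommGroup L] [Module A L] (π : ∀ n, L →ₗ[A] M n)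

include f in
lemma pi_zero_surjective (hf : ∀ n, Surjective (f n))
    (hlift : ∀ y : (∀ n, M n), (∀ n, f n (y (n + 1)) = y n) → ∃ x : L, ∀ n, π n x = y n) :
    Surjective (π 0) := by
  intro m₀
  let y : ∀ n, M n := fun n => Nat.rec (motive := M) m₀ (fun k yk => Classical.choose (hf k yk)) n
  have hy : ∀ n, f n (y (n + 1)) = y n := fun n => Classical.choose_spec (hf n (y n))
  obtain ⟨x, hx⟩ := hlift y hy
  exact ⟨x, hx 0⟩

lemma pi_eq_of_le (hπ : ∀ n, f n ∘ₗ π (n + 1) = π n) {a b : L} {n m : ℕ} (hnm : n ≤ m)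
    (h : π m a = π m b) : π n a = π n b := by
  induction m, hnm using Nat.le_induction with
  | base => exact h
  | succ m _ ih =>
    apply ih
    rw [← hπ m, LinearMap.comp_apply, LinearMap.comp_apply, h]

variable {r : ℕ} (t : Fin r → L)

/-- the map `A^r → L` given by a family -/
noncomputable def uMap : (Fin r → A) →ₗ[A] L := Fintype.linearCombination A t

lemma uMap_apply (v : Fin r → A) : uMap t v = ∑ i, v i • t i := rfl

lemma uMap_mem_smul_top (m : ℕ) {v : Fin r → A} (hv : InZ I m v) :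
    uMap t v ∈ (I ^ m) • (⊤ : Submodule A L) := map_mem_smul_top (uMap t) m hv

/-- all the composites `A^r → L → M n` are surjective -/
lemma comp_surjective (hk : ∀ n, I ^ (n + 1) • (⊤ : Submodule A (M n)) = ⊥)
    (hker : ∀ n, LinearMap.ker (f n) = I ^ (n + 1) • (⊤ : Submodule A (M (n + 1))))
    (hπ : ∀ n, f n ∘ₗ π (n + 1) = π n)
    (h0 : Surjective (π 0 ∘ₗ uMap t)) : ∀ n, Surjective (π n ∘ₗ uMap t) := by
  intro n
  induction n with
  | zero => exact h0
  | succ n ih =>
    rw [← LinearMap.range_eq_top]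
    set N := LinearMap.range (π (n + 1) ∘ₗ uMap t) with hN
    have hsup : N ⊔ I ^ (n + 1) • (⊤ : Submodule A (M (n + 1))) = ⊤ := by
      rw [eq_top_iff]
      intro m _
      obtain ⟨a, ha⟩ := ih (f n m)
      have hmem : m - (π (n + 1) ∘ₗ uMap t) a ∈ LinearMap.ker (f n) := by
        rw [LinearMap.mem_ker, map_sub, ← ha, LinearMap.comp_apply, LinearMap.comp_apply,
          ← hπ n, LinearMap.comp_apply, sub_self]
      rw [hker n] at hmem
      have : m = (π (n + 1) ∘ₗ uMap t) a + (m - (π (n + 1) ∘ₗ uMap t) a) := by abel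
      rw [this]
      exact Submodule.add_mem_sup (LinearMap.mem_range_self _ a) hmem
    have hsmall : I ^ (n + 1) • (⊤ : Submodule A (M (n + 1))) ≤ N := by
      have h1 : I ^ (n + 1) • (⊤ : Submodule A (M (n + 1))) =
          I ^ (n + 1) • (N ⊔ I ^ (n + 1) • (⊤ : Submodule A (M (n + 1)))) := by rw [hsup]
      rw [h1, Submodule.smul_sup, ← Submodule.mul_smul]
      have h2 : (I ^ (n + 1) * I ^ (n + 1)) • (⊤ : Submodule A (M (n + 1))) = ⊥ := by
        rw [eq_bot_iff, ← hk (n + 1)]
        apply Submodule.smul_mono_left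
        rw [← pow_add]
        exact Ideal.pow_le_pow_right (by omega)
      rw [h2, sup_bot_eq]
      exact Submodule.smul_le_right
    rw [← hsup]
    exact (sup_eq_left.mpr hsmall).symm

end system

end Groth.Agent.AdicLim
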