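import Mathlib
import Groth.Agent.Lib.lead.AdicLim

/-!
Inverse limits of modules over an adically complete ring (EGA 0_I 7.2.9): successive approximation.
-/

namespace Groth.Agent.AdicLim

open Function

universe u v

variable {A : Type u} [CommRing A] {I : Ideal A}

lemma mem_smul_top_self (J : Ideal A) (a : A) : a ∈ (J • (⊤ : Submodule A A)) ↔ a ∈ J := by
  rw [smul_eq_mul, Ideal.mul_top]

variable {M : ℕ → Type v} [∀ n, AddCommGroup (M n)] [∀ n, Module A (M n)]
  (f : ∀ n, M (n + 1) →ₗ[A] M n)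
  {L : Type v} [AddCommGroup L] [Module A L] (π : ∀ n, L →ₗ[A] M n)
  {r : ℕ} (t : Fin r → L)

lemma pi_uMap_eq_zero (hk : ∀ n, I ^ (n + 1) • (⊤ : Submodule A (M n)) = ⊥) (n : ℕ)
    {v : Fin r → A} (hv : InZ I (n + 1) v) : π n (uMap t v) = 0 := by
  have := map_mem_smul_top (π n ∘ₗ uMap t) (n + 1) hv
  rw [hk n, Submodule.mem_bot] at this
  exact this

include f in
theorem exists_approx [IsAdicComplete I A]
    (hk : ∀ n, I ^ (n + 1) • (⊤ : Submodule A (M n)) = ⊥)
    (hker : ∀ n, LinearMap.ker (f n) = I ^ (n + 1) • (⊤ : Submodule A (M (n + 1))))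
    (hπ : ∀ n, f n ∘ₗ π (n + 1) = π n)
    (hinj : ∀ x : L, (∀ n, π n x = 0) → x = 0)
    (hsurj : ∀ n, Surjective (π n ∘ₗ uMap t))
    (x : L) (n₀ : ℕ) (y₀ : Fin r → A) (hy₀ : π n₀ (uMap t y₀) = π n₀ x) :
    ∃ y : Fin r → A, uMap t y = x ∧ InZ I (n₀ + 1) (y - y₀) := by
  classical
  -- one step of the approximation
  have step : ∀ (k : ℕ) (yk : Fin r → A), π (n₀ + k) (uMap t yk) = π (n₀ + k) x →
      ∃ y' : Fin r → A, π (n₀ + k + 1) (uMap t y') = π (n₀ + k + 1) x ∧
        InZ I (n₀ + k + 1) (y' - yk) := by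
    intro k yk hyk
    have hd : π (n₀ + k + 1) x - π (n₀ + k + 1) (uMap t yk) ∈ LinearMap.ker (f (n₀ + k)) := by
      rw [LinearMap.mem_ker, map_sub, ← LinearMap.comp_apply, ← LinearMap.comp_apply, hπ, hyk,
        sub_self]
    rw [hker] at hd
    obtain ⟨z, hz, hzd⟩ := exists_inZ_of_mem_smul_top (π (n₀ + k + 1) ∘ₗ uMap t)
      (hsurj (n₀ + k + 1)) (n₀ + k + 1) hd
    refine ⟨yk + z, ?_, ?_⟩
    · rw [map_add, map_add]
      rw [LinearMap.comp_apply] at hzd
      rw [hzd]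
      abel
    · rw [add_sub_cancel_left]
      exact hz
  -- the sequence
  let S : ℕ → Type u := fun k => {y : Fin r → A // π (n₀ + k) (uMap t y) = π (n₀ + k) x}
  let seq : ∀ k, S k := fun k => Nat.rec (motive := S) ⟨y₀, hy₀⟩
    (fun k yk => ⟨Classical.choose (step k yk.1 yk.2), (Classical.choose_spec (step k yk.1 yk.2)).1⟩) k
  let Y : ℕ → Fin r → A := fun k => (seq k).1
  have hY0 : Y 0 = y₀ := rfl
  have hYprop : ∀ k, π (n₀ + k) (uMap t (Y k)) = π (n₀ + k) x := fun k => (seq k).2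
  have hYstep : ∀ k, InZ I (n₀ + k + 1) (Y (k + 1) - Y k) := fun k =>
    (Classical.choose_spec (step k (seq k).1 (seq k).2)).2
  have hdiff : ∀ k j, k ≤ j → InZ I (n₀ + k + 1) (Y j - Y k) := by
    intro k j hkj
    induction j, hkj using Nat.le_induction with
    | base => rw [sub_self]; exact InZ.zero
    | succ j hkj ih =>
      have : Y (j + 1) - Y k = (Y (j + 1) - Y j) + (Y j - Y k) := by abel
      rw [this]
      exact ((hYstep j).mono (by omega)).add ih
  -- coordinatewise limits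
  have hlim : ∀ i : Fin r, ∃ ℓ : A, ∀ n, Y n i ≡ ℓ [SMOD (I ^ n • ⊤ : Submodule A A)] := by
    intro i
    apply IsPrecomplete.prec' (I := I) (M := A)
    intro m n hmn
    rw [SModEq.sub_mem, mem_smul_top_self]
    have := hdiff m n hmn i
    rw [Pi.sub_apply] at this
    have h2 : Y m i - Y n i = -(Y n i - Y m i) := by ring
    rw [h2]
    exact Ideal.neg_mem_iff _ |>.mpr (Ideal.pow_le_pow_right (by omega) this)
  choose ℓ hℓ using hlim
  have hℓZ : ∀ k, InZ I (n₀ + k + 1) (ℓ - Y k) := by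
    intro k i
    have h1 := hℓ i (n₀ + k + 1)
    rw [SModEq.sub_mem, mem_smul_top_self] at h1
    have h2 := hdiff k (n₀ + k + 1) (by omega) i
    rw [Pi.sub_apply] at h2 ⊢
    have : ℓ i - Y k i = -(Y (n₀ + k + 1) i - ℓ i) + (Y (n₀ + k + 1) i - Y k i) := by ring
    rw [this]
    exact Ideal.add_mem _ ((Ideal.neg_mem_iff _).mpr h1) h2
  have hge : ∀ k, π (n₀ + k) (uMap t ℓ) = π (n₀ + k) x := by
    intro k
    have : uMap t ℓ = uMap t (Y k) + uMap t (ℓ - Y k) := by rw [← map_add]; congr 1; abel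
    rw [this, map_add, hYprop k, pi_uMap_eq_zero π t hk (n₀ + k) (hℓZ k), add_zero]
  have hall : ∀ n, π n (uMap t ℓ) = π n x := by
    intro n
    rcases le_total n₀ n with h | h
    · obtain ⟨k, rfl⟩ := Nat.exists_eq_add_of_le h
      exact hge k
    · exact pi_eq_of_le f π hπ h (hge 0)
  refine ⟨ℓ, ?_, ?_⟩
  · have := hinj (uMap t ℓ - x) (fun n => by rw [map_sub, hall n, sub_self])
    exact sub_eq_zero.mp this
  · have := hℓZ 0
    rwa [hY0] at this

end Groth.Agent.AdicLim
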