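import Mathlib
import Groth.Agent.Lib.lead.AffLocalDim

set_option autoImplicit false
universe u
open CategoryTheory CategoryTheory.Limits AlgebraicGeometry

namespace Groth.Agent.Lib.lead.AffLocalDimInf

open Groth.Agent.Lib.Helper7 Groth.Agent.Lib.lead.AffLocalDim

variable {k : Type u} [Field k] (A : Type u) [CommRing A] [Algebra k A] [Algebra.FiniteType k A]

include k in
theorem height_le_of_avoid (p : PrimeSpectrum A) (g : A)
    (hg : ∀ Q ∈ minimalPrimes A, g ∉ Q → Q ≤ p.asIdeal) (y : PrimeSpectrum A)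
    (hy : g ∉ y.asIdeal) : Order.height y ≤ Order.height p + Order.coheight p := by
  obtain ⟨Q, hQy, hQmin, hQ⟩ := AffDim.exists_isMin_coheight_eq (k := k) A y
  have hgQ : g ∉ Q.asIdeal := fun h => hy (hQy h)
  have hQp : Q ≤ p :=
    hg Q.asIdeal (by rw [← PrimeSpectrum.isMin_iff]; exact hQmin) hgQ
  have h1 := coheight_add_height_mono (k := k) A hQp
  calc Order.height y ≤ Order.coheight y + Order.height y := le_add_self
    _ = Order.coheight Q := hQ.symm
    _ ≤ Order.coheight Q + Order.height Q := le_self_add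
    _ ≤ Order.coheight p + Order.height p := h1
    _ = _ := add_comm _ _

theorem main {k S : Type u} [Field k] [CommRing S] [Algebra k S] [Algebra.FiniteType k S]
    (p : Ideal S) [p.IsPrime] :
    FlatMor.localDim (PrimeSpectrum S) ⟨p, inferInstance⟩ =
      ⨅ m : {m : Ideal S // m.IsMaximal ∧ p ≤ m},
        ringKrullDim (Localization.AtPrime (hp := m.2.1.isPrime') m.1) := by
  set P : PrimeSpectrum S := ⟨p, inferInstance⟩ with hP
  rw [localDim_eq (k := k) S P]
  apply le_antisymm
  · refine le_iInf fun m => ?_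
    haveI := m.2.1.isPrime'
    rw [IsLocalization.AtPrime.ringKrullDim_eq_height m.1]
    obtain ⟨n, hn⟩ := coheight_eq_nat (k := k) S P
    have h1 := height_add_le_of_le_maximal (k := k) S ⟨m.1, m.2.1.isPrime⟩ m.2.1 n P m.2.2 hn.ge
    rw [hn, PrimeSpectrum.height_eq_orderHeight (⟨m.1, m.2.1.isPrime⟩ : PrimeSpectrum S)]
    exact_mod_cast h1
  · obtain ⟨g, hgp, hg⟩ := exists_avoid (k := k) S P
    obtain ⟨m, hm, hpm, hgm⟩ := exists_maximal_ge (k := k) S P g hgp
    refine iInf_le_of_le ⟨m.asIdeal, hm, hpm⟩ ?_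
    haveI := hm.isPrime'
    rw [IsLocalization.AtPrime.ringKrullDim_eq_height m.asIdeal,
      PrimeSpectrum.height_eq_orderHeight m]
    have := height_le_of_avoid (k := k) S P g hg m hgm
    exact_mod_cast this

end Groth.Agent.Lib.lead.AffLocalDimInf

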