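import Mathlib
import Groth.Agent.Lib.Helper13.AffStrat
import Groth.Prelude.Def_MoreMor

set_option autoImplicit false
set_option linter.style.haveILetI false
set_option linter.unusedSectionVars false
universe u

namespace Groth.Agent.Lib.lead.AffStratQcqs

open AlgebraicGeometry CategoryTheory Limits TopologicalSpace Groth.Agent.Lib.Helper13.AffStrat

/-- A finite partial order admits a strictly monotone injective map to `ℕ`. -/
theorem exists_strictMono_injective (P : Type*) [PartialOrder P] [Fintype P] :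
    ∃ (B : ℕ) (e : P → ℕ), StrictMono e ∧ Function.Injective e ∧ ∀ p, e p ≤ B := by
  classical
  let N := Fintype.card P
  let idx : P ≃ Fin N := Fintype.equivFin P
  let c : P → ℕ := fun p => (Finset.univ.filter (· < p)).card
  have hc : ∀ p q, p < q → c p + 1 ≤ c q := by
    intro p q hpq
    apply Finset.card_lt_card
    refine ⟨fun a ha => ?_, fun h => ?_⟩
    · simp only [Finset.mem_filter, Finset.mem_univ, true_and] at ha ⊢
      exact ha.trans hpq
    · have : p ∈ Finset.univ.filter (· < p) := h (by simp [hpq])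
      simp at this
  have hcN : ∀ p, c p ≤ N := fun p => Finset.card_le_univ _
  refine ⟨N * N + N, fun p => c p * N + (idx p : ℕ), ?_, ?_, ?_⟩
  · intro p q hpq
    have h1 := hc p q hpq
    have h2 : (idx p : ℕ) < N := (idx p).2
    show c p * N + (idx p : ℕ) < c q * N + (idx q : ℕ)
    calc c p * N + (idx p : ℕ) < c p * N + N := by omega
      _ = (c p + 1) * N := by ring
      _ ≤ c q * N := Nat.mul_le_mul_right N h1
      _ ≤ c q * N + (idx q : ℕ) := Nat.le_add_right _ _
  · intro p q hpq
    have h1 : (c p * N + (idx p : ℕ)) % N = (c q * N + (idx q : ℕ)) % N := congrArg (· % N) hpq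
    rw [Nat.mul_add_mod_self_right, Nat.mul_add_mod_self_right, Nat.mod_eq_of_lt (idx p).2,
      Nat.mod_eq_of_lt (idx q).2] at h1
    exact idx.injective (Fin.ext h1)
  · intro p
    have h1 := hcN p
    have h2 : (idx p : ℕ) < N := (idx p).2
    have : c p * N ≤ N * N := Nat.mul_le_mul_right N h1
    show c p * N + (idx p : ℕ) ≤ N * N + N
    omega

/-- Abstract criterion for the existence of an affine stratification. -/
theorem hasAffStrat_of_type {X : Scheme.{u}} (P : Type*) [PartialOrder P] [Fintype P] (τ : X → P)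
    (hlsc : ∀ x : X, ∃ N : Set X, IsOpen N ∧ x ∈ N ∧ ∀ x' ∈ N, τ x ≤ τ x')
    (hpiece : ∀ p : P, ∃ (Z : Scheme.{u}) (ι : Z ⟶ X),
      IsImmersion ι ∧ IsAffine Z ∧ IsAffineHom ι ∧ Set.range ι = {x : X | τ x = p}) :
    ∃ n : ℕ, MoreMor.HasAffineStratification X n := by
  classical
  obtain ⟨B, e, hmono, hinj, hB⟩ := exists_strictMono_injective P
  refine ⟨B, hasAffineStratification_of_nat ⟨fun x => e (τ x), fun x => hB _, ?_, ?_⟩⟩
  · intro i
    rw [← isOpen_compl_iff, isOpen_iff_forall_mem_open]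
    intro x hx
    obtain ⟨N, hNo, hxN, hN⟩ := hlsc x
    refine ⟨N, fun x' hx' => ?_, hNo, hxN⟩
    simp only [Set.mem_compl_iff, Set.mem_ofPred_eq, not_le] at hx ⊢
    exact lt_of_lt_of_le hx (hmono.monotone (hN x' hx'))
  · intro i _
    by_cases hi : ∃ p, e p = i
    · obtain ⟨p, rfl⟩ := hi
      obtain ⟨Z, ι, h1, h2, h3, h4⟩ := hpiece p
      refine ⟨Z, ι, h1, h2, h3, ?_⟩
      rw [h4]
      ext x
      simp only [Set.mem_ofPred_eq]
      exact ⟨fun h => by rw [h], fun h => hinj h⟩
    · refine ⟨∅, Scheme.emptyTo X, inferInstance, inferInstance, inferInstance, ?_⟩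
      ext x
      simp only [Set.mem_range, Set.mem_ofPred_eq]
      constructor
      · rintro ⟨z, -⟩
        exact (IsEmpty.false z).elim
      · intro h
        exact (hi ⟨τ x, h⟩).elim

/-- A scheme with a finite affine stratification is quasi-compact and quasi-separated. -/
theorem qcqs_of_hasAffineStratification {X : Scheme.{u}} {n : ℕ}
    (h : MoreMor.HasAffineStratification X n) : CompactSpace X ∧ QuasiSeparatedSpace X := by
  obtain ⟨s, -, hstr⟩ := h
  choose Z ι hi hZ hι hr using hstr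
  have hcover : ∀ x : X, ∃ i, x ∈ Set.range (ι i) := fun x => ⟨s x, by rw [hr]; rfl⟩
  constructor
  · refine ⟨?_⟩
    have : (Set.univ : Set X) = ⋃ i, Set.range (ι i) := by
      ext x
      simp only [Set.mem_univ, Set.mem_iUnion, true_iff]
      exact hcover x
    rw [this]
    refine isCompact_iUnion fun i => ?_
    haveI := hZ i
    exact isCompact_range (ι i).continuous
  · rw [quasiSeparatedSpace_iff_forall_affineOpens]
    intro U V
    have : ((U : X.Opens) ∩ (V : X.Opens) : Set X) =
        ⋃ i, (ι i) '' (((ι i) ⁻¹ᵁ (U : X.Opens) : Set (Z i)) ∩ ((ι i) ⁻¹ᵁ (V : X.Opens) : Set (Z i))) := by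
      ext x
      simp only [Set.mem_inter_iff, SetLike.mem_coe, Set.mem_iUnion, Set.mem_image]
      constructor
      · rintro ⟨hxU, hxV⟩
        obtain ⟨i, z, rfl⟩ := hcover x
        exact ⟨i, z, ⟨hxU, hxV⟩, rfl⟩
      · rintro ⟨i, z, ⟨hzU, hzV⟩, rfl⟩
        exact ⟨hzU, hzV⟩
    rw [this]
    refine isCompact_iUnion fun i => ?_
    haveI := hZ i
    haveI := hι i
    have hU' : IsAffineOpen ((ι i) ⁻¹ᵁ (U : X.Opens)) := U.2.preimage (ι i)
    have hV' : IsAffineOpen ((ι i) ⁻¹ᵁ (V : X.Opens)) := V.2.preimage (ι i)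
    exact (QuasiSeparatedSpace.inter_isCompact _ _ ((ι i) ⁻¹ᵁ (U : X.Opens)).isOpen hU'.isCompact
      ((ι i) ⁻¹ᵁ (V : X.Opens)).isOpen hV'.isCompact).image (ι i).continuous

/-- A closed subset of an affine open, which is contained in or disjoint from each member of an
affine open cover, is the image of an affine immersion from an affine scheme. -/
theorem exists_piece {X : Scheme.{u}} (W : X.Opens) (hW : IsAffineOpen W) (C : Set X)
    (hC : IsClosed C)
    (hcov : ∀ y : X, ∃ V : X.Opens, y ∈ V ∧ IsAffineOpen V ∧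
      (((W : Set X) ∩ C ⊆ V) ∨ (∀ x, x ∈ W → x ∈ C → x ∉ V))) :
    ∃ (Z : Scheme.{u}) (ι : Z ⟶ X),
      IsImmersion ι ∧ IsAffine Z ∧ IsAffineHom ι ∧ Set.range ι = (W : Set X) ∩ C := by
  haveI : IsAffine (W : Scheme.{u}) := hW
  let T : Closeds (W : Scheme.{u}) := ⟨W.ι ⁻¹' C, hC.preimage W.ι.continuous⟩
  let Ish := Scheme.IdealSheafData.vanishingIdeal T
  let ι : Ish.subscheme ⟶ X := Ish.subschemeι ≫ W.ι
  have hrange : Set.range ι = (W : Set X) ∩ C := by
    show Set.range (Ish.subschemeι ≫ W.ι) = _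
    rw [Scheme.Hom.comp_base, TopCat.coe_comp, Set.range_comp, Scheme.IdealSheafData.range_subschemeι,
      Scheme.IdealSheafData.coe_support_vanishingIdeal]
    ext x
    simp only [Set.mem_image, Set.mem_inter_iff, SetLike.mem_coe]
    constructor
    · rintro ⟨w, hw, rfl⟩
      exact ⟨w.2, hw⟩
    · rintro ⟨hxW, hxC⟩
      exact ⟨⟨x, hxW⟩, hxC, rfl⟩
  haveI : IsAffine Ish.subscheme := isAffine_of_isAffineHom Ish.subschemeι
  refine ⟨Ish.subscheme, ι, inferInstance, inferInstance, ?_, hrange⟩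
  apply isAffineHom_of_forall_exists_isAffineOpen
  intro y
  obtain ⟨V, hyV, hV, hor⟩ := hcov y
  refine ⟨V, hyV, hV, ?_⟩
  rcases hor with hsub | hdisj
  · have : ι ⁻¹ᵁ V = ⊤ := by
      ext z
      simp only [Scheme.Hom.coe_preimage, Set.mem_preimage, SetLike.mem_coe, Opens.coe_top, Set.mem_univ, iff_true]
      apply hsub
      rw [← hrange]
      exact ⟨z, rfl⟩
    rw [this]
    exact isAffineOpen_top _
  · have : ι ⁻¹ᵁ V = ⊥ := by
      ext z
      simp only [Scheme.Hom.coe_preimage, Set.mem_preimage, SetLike.mem_coe, Opens.coe_bot, Set.mem_empty_iff_false, iff_false]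
      have hz : ι z ∈ (W : Set X) ∩ C := by
        rw [← hrange]
        exact ⟨z, rfl⟩
      exact hdisj _ hz.1 hz.2
    rw [this]
    exact isAffineOpen_bot _

end Groth.Agent.Lib.lead.AffStratQcqs
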