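import Mathlib
import Groth.Agent.Lib.lead.AffStratQcqs
import Groth.Prelude.Def_MoreMor

set_option autoImplicit false
set_option linter.style.haveILetI false
set_option linter.unusedSectionVars false
universe u

namespace Groth.Agent.Lib.lead.AffStratQcqsB

open AlgebraicGeometry CategoryTheory Limits TopologicalSpace Groth.Agent.Lib.Helper13.AffStrat
  Groth.Agent.Lib.lead.AffStratQcqs

theorem mem_basicOpen_prod {X : Scheme.{u}} {U : X.Opens} {κ : Type*} (K : Finset κ)
    (g : κ → Γ(X, U)) (x : X) :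
    x ∈ X.basicOpen (∏ k ∈ K, g k) ↔ x ∈ U ∧ ∀ k ∈ K, x ∈ X.basicOpen (g k) := by
  classical
  induction K using Finset.induction_on with
  | empty =>
    rw [Finset.prod_empty, X.basicOpen_of_isUnit isUnit_one]
    simp
  | insert a s ha ih =>
    rw [Finset.prod_insert ha, Scheme.basicOpen_mul]
    simp only [Opens.mem_inf, ih, Finset.mem_insert, forall_eq_or_imp]
    constructor
    · rintro ⟨h1, h2, h3⟩
      exact ⟨h2, h1, h3⟩
    · rintro ⟨h1, h2, h3⟩
      exact ⟨h2, h1, h3⟩

theorem isOpen_forall_mem {X : Scheme.{u}} {ι : Type*} (U : ι → X.Opens) (I : Finset ι) :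
    IsOpen {x : X | ∀ i ∈ I, x ∈ U i} := by
  have : {x : X | ∀ i ∈ I, x ∈ U i} = ⋂ i ∈ I, (U i : Set X) := by
    ext x
    simp
  rw [this]
  exact isOpen_biInter_finset fun i _ => (U i).isOpen

theorem isCompact_forall_mem {X : Scheme.{u}} [QuasiSeparatedSpace X] {ι : Type*}
    (U : ι → X.Opens) (hU : ∀ i, IsAffineOpen (U i)) {I : Finset ι} (hI : I.Nonempty) :
    IsCompact {x : X | ∀ i ∈ I, x ∈ U i} := by
  classical
  induction hI using Finset.Nonempty.cons_induction with
  | singleton a =>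
    have : {x : X | ∀ i ∈ ({a} : Finset ι), x ∈ U i} = (U a : Set X) := by
      ext x
      simp
    rw [this]
    exact (hU a).isCompact
  | cons a s ha hs ih =>
    have : {x : X | ∀ i ∈ Finset.cons a s ha, x ∈ U i} =
        (U a : Set X) ∩ {x : X | ∀ i ∈ s, x ∈ U i} := by
      ext x
      simp
    rw [this]
    exact QuasiSeparatedSpace.inter_isCompact _ _ (U a).isOpen (hU a).isCompact
      (isOpen_forall_mem U s) ih

/-- A finite intersection of affine opens in a quasi-separated scheme is a finite union of basic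
opens of one of them. -/
theorem exists_basicOpen_cover {X : Scheme.{u}} [QuasiSeparatedSpace X] {ι : Type*}
    (U : ι → X.Opens) (hU : ∀ i, IsAffineOpen (U i)) (I : Finset ι) (hI : I.Nonempty) :
    ∃ (i₀ : ι) (_ : i₀ ∈ I) (g : ℕ → Γ(X, U i₀)) (m : ℕ),
      (∀ k x, x ∈ X.basicOpen (g k) → ∀ i ∈ I, x ∈ U i) ∧
      (∀ x, (∀ i ∈ I, x ∈ U i) → ∃ k < m, x ∈ X.basicOpen (g k)) := by
  classical
  obtain ⟨i₀, hi₀⟩ := hI
  let VI : X.Opens := ⟨{x : X | ∀ i ∈ I, x ∈ U i}, isOpen_forall_mem U I⟩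
  have hVc : IsCompact (VI : Set X) := isCompact_forall_mem U hU ⟨i₀, hi₀⟩
  have hex : ∀ x : VI, ∃ f : Γ(X, U i₀), X.basicOpen f ≤ VI ∧ (x : X) ∈ X.basicOpen f :=
    fun x => (hU i₀).exists_basicOpen_le x (x.2 i₀ hi₀)
  choose f hfle hxf using hex
  obtain ⟨t, ht⟩ := hVc.elim_finite_subcover (fun x : VI => (X.basicOpen (f x) : Set X))
    (fun x => (X.basicOpen (f x)).isOpen) (fun x hx => Set.mem_iUnion.mpr ⟨⟨x, hx⟩, hxf ⟨x, hx⟩⟩)
  let e : Fin t.card ≃ t := t.equivFin.symm
  refine ⟨i₀, hi₀, fun k => if h : k < t.card then f (e ⟨k, h⟩) else 0, t.card, ?_, ?_⟩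
  · intro k x hx i hi
    by_cases h : k < t.card
    · simp only [h, dif_pos] at hx
      exact hfle _ hx i hi
    · simp only [h, dif_neg, not_false_eq_true, Scheme.basicOpen_zero] at hx
      exact (hx : x ∈ (⊥ : X.Opens)).elim
  · intro x hx
    have := ht (show x ∈ (VI : Set X) from hx)
    simp only [Set.mem_iUnion, exists_prop] at this
    obtain ⟨y, hyt, hxy⟩ := this
    refine ⟨(e.symm ⟨y, hyt⟩ : ℕ), (e.symm ⟨y, hyt⟩).2, ?_⟩
    simp only [(e.symm ⟨y, hyt⟩).2, dif_pos, Fin.eta, Equiv.apply_symm_apply]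
    exact hxy

theorem hasAffStrat_of_qcqs (X : Scheme.{u}) [CompactSpace X] [QuasiSeparatedSpace X] :
    ∃ n : ℕ, MoreMor.HasAffineStratification X n := by
  classical
  -- a finite affine cover
  obtain ⟨n, U, hU, hcovU⟩ : ∃ (n : ℕ) (U : Fin n → X.Opens), (∀ i, IsAffineOpen (U i)) ∧
      ∀ x : X, ∃ i, x ∈ U i := by
    have hex : ∀ x : X, ∃ A : X.Opens, IsAffineOpen A ∧ x ∈ A := by
      intro x
      obtain ⟨_, ⟨A, hA, rfl⟩, hxA, -⟩ :=
        X.isBasis_affineOpens.exists_subset_of_mem_open (Set.mem_univ x) isOpen_univ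
      exact ⟨A, hA, hxA⟩
    choose A hA hxA using hex
    obtain ⟨t, ht⟩ := isCompact_univ.elim_finite_subcover (fun x : X => (A x : Set X))
      (fun x => (A x).isOpen) (fun x _ => Set.mem_iUnion.mpr ⟨x, hxA x⟩)
    let e : Fin t.card ≃ t := t.equivFin.symm
    refine ⟨t.card, fun i => A (e i).1, fun i => hA _, fun x => ?_⟩
    have := ht (Set.mem_univ x)
    simp only [Set.mem_iUnion, exists_prop] at this
    obtain ⟨y, hyt, hxy⟩ := this
    refine ⟨e.symm ⟨y, hyt⟩, ?_⟩
    simp only [Equiv.apply_symm_apply]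
    exact hxy
  let Ix : X → Finset (Fin n) := fun x => Finset.univ.filter (fun i => x ∈ U i)
  have hmemIx : ∀ x i, i ∈ Ix x ↔ x ∈ U i := fun x i => by simp [Ix]
  have hIx : ∀ x, (Ix x).Nonempty := fun x => by
    obtain ⟨i, hi⟩ := hcovU x
    exact ⟨i, (hmemIx x i).mpr hi⟩
  -- the refinement data
  have hD := fun (I : {I : Finset (Fin n) // I.Nonempty}) => exists_basicOpen_cover U hU I.1 I.2
  choose i₀ hi₀ g m hgle hgcov using hD
  let M : ℕ := Finset.univ.sup m
  have hmM : ∀ I, m I ≤ M := fun I => Finset.le_sup (f := m) (Finset.mem_univ I)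
  let D : Finset (Fin n) → ℕ → X.Opens := fun I k =>
    if h : I.Nonempty then X.basicOpen (g ⟨I, h⟩ k) else ⊥
  have hDpos : ∀ (I : Finset (Fin n)) (h : I.Nonempty) k, D I k = X.basicOpen (g ⟨I, h⟩ k) :=
    fun I h k => by simp [D, h]
  let Kx : X → Finset (Fin M) := fun x => Finset.univ.filter (fun k => x ∈ D (Ix x) k)
  have hmemKx : ∀ x (k : Fin M), k ∈ Kx x ↔ x ∈ D (Ix x) k := fun x k => by simp [Kx]
  let τ : X → (Finset (Fin n) ×ₗ Finset (Fin M)) := fun x => toLex (Ix x, Kx x)
  apply hasAffStrat_of_type _ τ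
  · -- lower semicontinuity
    intro x
    refine ⟨{x' : X | ∀ i ∈ Ix x, x' ∈ U i} ∩ {x' : X | ∀ k ∈ Kx x, x' ∈ D (Ix x) k},
      (isOpen_forall_mem U (Ix x)).inter (isOpen_forall_mem (fun k : Fin M => D (Ix x) k) (Kx x)),
      ⟨fun i hi => (hmemIx x i).mp hi, fun k hk => (hmemKx x k).mp hk⟩, ?_⟩
    rintro x' ⟨h1, h2⟩
    have hsub : Ix x ⊆ Ix x' := fun i hi => (hmemIx x' i).mpr (h1 i hi)
    show toLex (Ix x, Kx x) ≤ toLex (Ix x', Kx x')
    rw [Prod.Lex.toLex_le_toLex]
    by_cases heq : Ix x = Ix x'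
    · refine Or.inr ⟨heq, ?_⟩
      intro k hk
      rw [hmemKx, ← heq]
      exact h2 k hk
    · exact Or.inl (lt_of_le_of_ne hsub heq)
  · -- the pieces
    intro p
    by_cases hne : ∃ x₀, τ x₀ = p
    · obtain ⟨x₀, rfl⟩ := hne
      set I := Ix x₀ with hIdef
      set K := Kx x₀ with hKdef
      have hI : I.Nonempty := hIx x₀
      have hKne : K.Nonempty := by
        obtain ⟨k, hk, hxk⟩ := hgcov ⟨I, hI⟩ x₀ (fun i hi => (hmemIx x₀ i).mp hi)
        refine ⟨⟨k, lt_of_lt_of_le hk (hmM _)⟩, ?_⟩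
        rw [hKdef, hmemKx, hDpos I hI]
        exact hxk
      let W : X.Opens := X.basicOpen (∏ k ∈ K, g ⟨I, hI⟩ (k : ℕ))
      have hW : IsAffineOpen W := (hU (i₀ ⟨I, hI⟩)).basicOpen _
      let C : Set X := (⋂ j ∈ {j : Fin n | j ∉ I}, ((U j : Set X)ᶜ)) ∩
        (⋂ k ∈ {k : Fin M | k ∉ K}, ((D I k : Set X)ᶜ))
      have hC : IsClosed C :=
        (isClosed_biInter fun j _ => (U j).isOpen.isClosed_compl).inter
          (isClosed_biInter fun k _ => (D I k).isOpen.isClosed_compl)
      have hmemC : ∀ x, x ∈ C ↔ (∀ j, j ∉ I → x ∉ U j) ∧ ∀ k : Fin M, k ∉ K → x ∉ D I k := by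
        intro x
        simp [C]
      have hmemW : ∀ x, x ∈ W ↔ x ∈ U (i₀ ⟨I, hI⟩) ∧ ∀ k ∈ K, x ∈ D I k := by
        intro x
        show x ∈ X.basicOpen (∏ k ∈ K, g ⟨I, hI⟩ (k : ℕ)) ↔ _
        rw [mem_basicOpen_prod]
        simp only [hDpos I hI]
      have hpiece : (W : Set X) ∩ C = {x : X | τ x = toLex (I, K)} := by
        ext x
        simp only [Set.mem_inter_iff, SetLike.mem_coe, Set.mem_ofPred_eq]
        constructor
        · rintro ⟨hxW, hxC⟩
          rw [hmemW] at hxW
          rw [hmemC] at hxC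
          obtain ⟨k₀, hk₀⟩ := hKne
          have hxI : ∀ i ∈ I, x ∈ U i := by
            have := hxW.2 k₀ hk₀
            rw [hDpos I hI] at this
            exact hgle ⟨I, hI⟩ _ x this
          have hIeq : Ix x = I := by
            ext i
            rw [hmemIx]
            constructor
            · intro hi
              by_contra hni
              exact hxC.1 i hni hi
            · exact hxI i
          have hKeq : Kx x = K := by
            ext k
            rw [hmemKx, hIeq]
            constructor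
            · intro hk
              by_contra hnk
              exact hxC.2 k hnk hk
            · exact hxW.2 k
          show toLex (Ix x, Kx x) = toLex (I, K)
          rw [hIeq, hKeq]
        · intro hx
          have hx' : (Ix x, Kx x) = (I, K) := toLex.injective hx
          have hIeq : Ix x = I := (Prod.ext_iff.mp hx').1
          have hKeq : Kx x = K := (Prod.ext_iff.mp hx').2
          constructor
          · rw [hmemW]
            refine ⟨(hmemIx x _).mp (by rw [hIeq]; exact hi₀ ⟨I, hI⟩), fun k hk => ?_⟩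
            have := (hmemKx x k).mp (by rw [hKeq]; exact hk)
            rwa [hIeq] at this
          · rw [hmemC]
            refine ⟨fun j hj hxj => hj (by rw [← hIeq]; exact (hmemIx x j).mpr hxj), fun k hk hxk => ?_⟩
            apply hk
            rw [← hKeq, hmemKx, hIeq]
            exact hxk
      obtain ⟨Z, ι, h1, h2, h3, h4⟩ := exists_piece W hW C hC (by
        intro y
        obtain ⟨j, hj⟩ := hcovU y
        refine ⟨U j, hj, hU j, ?_⟩
        by_cases hjI : j ∈ I
        · left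
          intro x hx
          rw [hpiece] at hx
          have hx' : (Ix x, Kx x) = (I, K) := toLex.injective hx
          have hIeq : Ix x = I := (Prod.ext_iff.mp hx').1
          exact (hmemIx x j).mp (by rw [hIeq]; exact hjI)
        · right
          intro x _ hxC
          exact ((hmemC x).mp hxC).1 j hjI)
      exact ⟨Z, ι, h1, h2, h3, h4.trans hpiece⟩
    · refine ⟨∅, Scheme.emptyTo X, inferInstance, inferInstance, inferInstance, ?_⟩
      ext x
      simp only [Set.mem_range, Set.mem_ofPred_eq]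
      constructor
      · rintro ⟨z, -⟩
        exact (IsEmpty.false z).elim
      · intro h
        exact (hne ⟨x, h⟩).elim

theorem S1435 (X : Scheme.{u}) :
    (∃ n : ℕ, MoreMor.HasAffineStratification X n) ↔ CompactSpace ↑X ∧ QuasiSeparatedSpace ↑X := by
  constructor
  · rintro ⟨n, h⟩
    exact qcqs_of_hasAffineStratification h
  · rintro ⟨h1, h2⟩
    exact hasAffStrat_of_qcqs X

end Groth.Agent.Lib.lead.AffStratQcqsB
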