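import Mathlib
import Groth.Agent.Lib.lead.ChevB
import Groth.Agent.Lib.Helper13.LimModelMain
import Groth.Agent.Lib.Helper13.LimDescendFinite
import Groth.Agent.Lib.Helper13.LimDescendSurj
import Groth.Agent.Lib.Helper13.LimDescendDiag

set_option linter.style.haveILetI false
universe u
open CategoryTheory AlgebraicGeometry Limits Opposite

namespace Groth.Agent.Lib.lead.ChevC

open Groth.Agent.Lib.lead.NaMain Groth.Agent.Lib.Helper13 Groth.Agent.Lib.Helper22

/-- a property stable under base change persists to later stages of a base-changed diagram -/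
theorem stage_mono (P : MorphismProperty Scheme.{u}) [P.RespectsIso] [P.IsStableUnderBaseChange]
    {J : Type u} [SmallCategory J] (E : J ⥤ Scheme.{u}) (j₀ : J) {X₀ : Scheme.{u}}
    (a : X₀ ⟶ E.obj j₀) {k k' : Over j₀} (φ : k ⟶ k')
    (h : P (pullback.fst (E.map k'.hom) a)) : P (pullback.fst (E.map k.hom) a) := by
  have h1 : P (pullback.fst (E.map φ.left) (pullback.fst (E.map k'.hom) a)) :=
    MorphismProperty.pullback_fst _ _ h
  exact (LimDescend.fst_fst_iff' P (E.map φ.left) (E.map k'.hom) a (E.map k.hom)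
    (by rw [← E.map_comp, Over.w φ])).mp h1

/-- **Descent step**: if the limit of finite type `ℤ`-schemes admits a finite, finitely presented,
surjective morphism from an affine scheme, then it is affine. -/
theorem isAffine_of_finite_fp_affine {I : Type u} [Preorder I] [IsDirected I (fun a b => a ≤ b)]
    [Nonempty I] (D : Iᵒᵖ ⥤ Scheme.{u}) (haff : ∀ (i j : Iᵒᵖ) (f : i ⟶ j), IsAffineHom (D.map f))
    (hft : ∀ i, FTZ (D.obj i)) (c : Cone D) (hc : IsLimit c)
    {T : Scheme.{u}} [IsAffine T] (t : T ⟶ c.pt) [IsFinite t] [Surjective t]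
    [LocallyOfFinitePresentation t] : IsAffine c.pt := by
  haveI : ∀ (i j : Iᵒᵖ) (f : i ⟶ j), IsAffineHom (D.map f) := haff
  haveI : ∀ {i j : Iᵒᵖ} (f : i ⟶ j), IsAffineHom (D.map f) := fun f => haff _ _ f
  haveI : ∀ i, IsNoetherian (D.obj i) := fun i => isNoetherian_of_ftz (hft i)
  haveI : ∀ i, CompactSpace (D.obj i) := fun i => (hft i).1
  haveI : ∀ i, QuasiSeparatedSpace (D.obj i) := fun i => inferInstance
  obtain ⟨i, ⟨M⟩⟩ := LimModel.hasModel_of_finitePresentation hc t
  haveI : LocallyOfFinitePresentation M.h₀ := M.lfp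
  haveI : QuasiCompact M.h₀ := M.qc
  haveI : QuasiSeparated M.h₀ := M.qs
  haveI : CompactSpace M.Z₀ := M.compactSpace
  haveI : QuasiSeparatedSpace M.Z₀ := M.quasiSeparatedSpace
  have hfin : IsFinite (pullback.fst (c.π.app i) M.h₀) :=
    (LimDescend.prop_iff_of_isPullback @IsFinite M.pb.flip
      (IsPullback.of_hasPullback (c.π.app i) M.h₀)).mp inferInstance
  have hsurj : Surjective (pullback.fst (c.π.app i) M.h₀) :=
    (LimDescend.prop_iff_of_isPullback @Surjective M.pb.flip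
      (IsPullback.of_hasPullback (c.π.app i) M.h₀)).mp inferInstance
  obtain ⟨j₁, ψ₁, h₁⟩ := LimDescend.core_isFinite D c hc i M.h₀ hfin
  obtain ⟨j₂, ψ₂, h₂⟩ := LimDescend.core_surjective D c hc i M.h₀ hsurj
  -- affineness
  haveI : IsAffine (bcCone D c i M.h₀).pt := by
    change IsAffine (pullback (c.π.app i) M.h₀)
    exact IsAffine.of_isIso M.pb.flip.isoPullback.inv
  haveI : ∀ k : Over i, QuasiSeparatedSpace ((bcDiag D i M.h₀).obj k) := by
    intro k
    rw [bcDiag_obj]
    haveI : IsAffineHom (pullback.snd (D.map k.hom) M.h₀) :=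
      MorphismProperty.pullback_snd (P := @IsAffineHom) _ _ inferInstance
    exact quasiSeparatedSpace_of_quasiSeparated (pullback.snd (D.map k.hom) M.h₀)
  haveI : ∀ {k k' : Over i} (f : k ⟶ k'), IsAffineHom ((bcDiag D i M.h₀).map f) :=
    fun f => inferInstance
  obtain ⟨k₃, h₃⟩ := Scheme.exists_isAffine_of_isLimit (bcDiag D i M.h₀) (bcCone D c i M.h₀)
    (bcIsLimit D hc i M.h₀)
  -- a common stage
  let k₁ : Over i := Over.mk ψ₁
  let k₂ : Over i := Over.mk ψ₂
  obtain ⟨k, ⟨φ₁⟩, ⟨φ₂⟩, ⟨φ₃⟩⟩ : ∃ k : Over i, Nonempty (k ⟶ k₁) ∧ Nonempty (k ⟶ k₂) ∧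
      Nonempty (k ⟶ k₃) := by
    refine ⟨IsCofiltered.min (IsCofiltered.min k₁ k₂) k₃,
      ⟨IsCofiltered.minToLeft _ _ ≫ IsCofiltered.minToLeft _ _⟩,
      ⟨IsCofiltered.minToLeft _ _ ≫ IsCofiltered.minToRight _ _⟩,
      ⟨IsCofiltered.minToRight _ _⟩⟩
  have hk₁ : IsFinite (pullback.fst (D.map k.hom) M.h₀) := stage_mono @IsFinite D i M.h₀ φ₁ h₁
  have hk₂ : Surjective (pullback.fst (D.map k.hom) M.h₀) :=
    stage_mono @Surjective D i M.h₀ φ₂ h₂
  haveI hk₃ : IsAffine (pullback (D.map k.hom) M.h₀) := by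
    have h := @isAffine_of_isAffineHom _ _ ((bcDiag D i M.h₀).map φ₃)
      (bcDiag_isAffineHom D i M.h₀ φ₃) h₃
    exact h
  haveI : IsAffine (D.obj k.left) :=
    Groth.Agent.S0021.result (pullback.fst (D.map k.hom) M.h₀)
  haveI : IsAffineHom (c.π.app k.left) := isAffineHom_π_app D c hc k.left
  exact isAffine_of_isAffineHom (c.π.app k.left)

end Groth.Agent.Lib.lead.ChevC
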