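import Mathlib
import Groth.Agent.Lib.lead.ChevC

set_option linter.style.haveILetI false
universe u
open CategoryTheory AlgebraicGeometry Limits Opposite

namespace Groth.Agent.Lib.lead.ChevD

open Groth.Agent.Lib.lead.NaMain Groth.Agent.Lib.lead.ChevB Groth.Agent.Lib.lead.ChevC

/-- **Chevalley's theorem without Noetherian hypotheses**: the target of an integral surjective
morphism from an affine scheme is affine. -/
theorem isAffine_of_isIntegralHom_of_surjective {X S : Scheme.{u}} (f : X ⟶ S) [IsIntegralHom f]
    [Surjective f] [IsAffine X] : IsAffine S := by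
  haveI : CompactSpace S := by
    constructor
    have h : Set.range f.base = Set.univ := Set.range_eq_univ.mpr f.surjective
    rw [← h]
    exact isCompact_range f.continuous
  haveI : S.IsSeparated := isSeparated_of_surjective_universallyClosed f
  obtain ⟨I, _, _, _, D, c, hc, haff, hft, ⟨eS⟩⟩ := exists_approx S
  haveI : c.pt.IsSeparated := by
    have h1 : terminal.from c.pt = eS.hom ≫ terminal.from S := by simp
    constructor
    rw [h1]
    infer_instance
  let f' : X ⟶ c.pt := f ≫ eS.inv
  haveI : IsIntegralHom f' := inferInstanceAs (IsIntegralHom (f ≫ eS.inv))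
  haveI : Surjective f' := inferInstanceAs (Surjective (f ≫ eS.inv))
  obtain ⟨T, t, hT, ht1, ht2, ht3⟩ := exists_finite_fp_affine D haff hft c hc f'
  haveI : IsAffine c.pt := isAffine_of_finite_fp_affine D haff hft c hc t
  exact IsAffine.of_isIso eS.inv

/-- Variant: universally closed surjective from an affine scheme. -/
theorem isAffine_of_universallyClosed_of_surjective {X S : Scheme.{u}} (f : X ⟶ S)
    [UniversallyClosed f] [Surjective f] [IsAffine X] : IsAffine S := by
  haveI : S.IsSeparated := isSeparated_of_surjective_universallyClosed f
  haveI : IsAffineHom f := by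
    haveI : IsAffineHom (f ≫ terminal.from S) := by
      rw [show f ≫ terminal.from S = terminal.from X from by simp]
      infer_instance
    exact IsAffineHom.of_comp f (terminal.from S)
  haveI : IsIntegralHom f := IsIntegralHom.iff_universallyClosed_and_isAffineHom.mpr ⟨‹_›, ‹_›⟩
  exact isAffine_of_isIntegralHom_of_surjective f

end Groth.Agent.Lib.lead.ChevD
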