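import Mathlib
import Groth.Agent.Lib.lead.ChevD
import Groth.Prelude.Def_MoreMor

/-!
# Towards cohomological vanishing above the affine stratification number (Stacks 0F2X)
Part A: scheme-theoretic lemmas on strata.
-/

set_option autoImplicit false
set_option linter.style.haveILetI false
universe u
open CategoryTheory CategoryTheory.Limits AlgebraicGeometry Opposite TopologicalSpace

namespace Groth.Agent.Lib.lead.AffStratVan

/-- An immersion from an affine scheme whose range is an open `U` exhibits `U` as affine. -/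
theorem isAffineOpen_of_range_eq {X Z : Scheme.{u}} (ι : Z ⟶ X) [IsImmersion ι] [IsAffine Z]
    (U : X.Opens) (hU : Set.range ι = (U : Set X)) : IsAffineOpen U := by
  have hr : Set.range ι ⊆ Set.range U.ι := by
    rw [hU, Scheme.Opens.range_ι]
  let ι' : Z ⟶ U.toScheme := IsOpenImmersion.lift U.ι ι hr
  have hfac : ι' ≫ U.ι = ι := IsOpenImmersion.lift_fac _ _ _
  haveI : IsPreimmersion (ι' ≫ U.ι) := by rw [hfac]; infer_instance
  haveI : IsPreimmersion ι' := IsPreimmersion.of_comp ι' U.ι
  have hsurj : Function.Surjective ι' := by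
    intro u
    have : (U.ι u) ∈ Set.range ι := by
      rw [hU]
      exact u.2
    obtain ⟨z, hz⟩ := this
    refine ⟨z, ?_⟩
    apply U.ι.isEmbedding.injective
    rw [← hz, ← hfac, Scheme.Hom.comp_apply]
  haveI : Surjective ι' := ⟨hsurj⟩
  haveI : IsClosedImmersion ι' := IsClosedImmersion.of_isPreimmersion ι' (by
    rw [Set.range_eq_univ.mpr hsurj]
    exact isClosed_univ)
  haveI : IsIntegralHom ι' := inferInstance
  exact Groth.Agent.Lib.lead.ChevD.isAffine_of_isIntegralHom_of_surjective ι'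

/-- An affine immersion from an affine scheme whose range is an open `U`: the inclusion of `U`
is an affine morphism. -/
theorem isAffineHom_ι_of_range_eq {X Z : Scheme.{u}} (ι : Z ⟶ X) [IsImmersion ι] [IsAffineHom ι]
    (U : X.Opens) (hU : Set.range ι = (U : Set X)) : IsAffineHom U.ι := by
  refine ⟨fun V hV => ?_⟩
  -- restrict to `V`
  haveI : IsAffine (ι ⁻¹ᵁ V).toScheme := hV.preimage ι
  have hr : Set.range (ι ∣_ V) = ((V.ι ⁻¹ᵁ U : V.toScheme.Opens) : Set V.toScheme) := by
    ext v
    simp only [Set.mem_range, TopologicalSpace.Opens.map_coe, Set.mem_preimage, SetLike.mem_coe]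
    constructor
    · rintro ⟨z, rfl⟩
      have h1 : V.ι ((ι ∣_ V) z) = ι ((ι ⁻¹ᵁ V).ι z) := by
        rw [← Scheme.Hom.comp_apply, morphismRestrict_ι, Scheme.Hom.comp_apply]
      change V.ι ((ι ∣_ V) z) ∈ (U : Set X)
      rw [h1, ← hU]
      exact ⟨_, rfl⟩
    · intro hv
      have hv' : V.ι v ∈ Set.range ι := by rw [hU]; exact hv
      obtain ⟨z, hz⟩ := hv'
      have hzV : z ∈ ι ⁻¹ᵁ V := by
        change ι z ∈ V
        rw [hz]
        exact v.2
      refine ⟨⟨z, hzV⟩, ?_⟩
      apply V.ι.isEmbedding.injective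
      rw [← Scheme.Hom.comp_apply, morphismRestrict_ι, Scheme.Hom.comp_apply]
      exact hz
  have h1 : IsAffineOpen (V.ι ⁻¹ᵁ U) := isAffineOpen_of_range_eq (ι ∣_ V) (V.ι ⁻¹ᵁ U) hr
  have h2 : IsAffineOpen (V.ι ''ᵁ (V.ι ⁻¹ᵁ U)) := h1.image_of_isOpenImmersion V.ι
  have h3 : V.ι ''ᵁ (V.ι ⁻¹ᵁ U) = U ⊓ V := by
    rw [Scheme.Hom.image_preimage_eq_opensRange_inf, Scheme.Opens.opensRange_ι, inf_comm]
  rw [h3] at h2
  have h4 : IsAffineOpen (U.ι ⁻¹ᵁ (U ⊓ V)) :=
    h2.preimage_of_isOpenImmersion U.ι (by rw [Scheme.Opens.opensRange_ι]; exact inf_le_left)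
  have h5 : U.ι ⁻¹ᵁ (U ⊓ V) = U.ι ⁻¹ᵁ V := by
    ext u
    simp only [TopologicalSpace.Opens.map_coe, Set.mem_preimage, SetLike.mem_coe,
      TopologicalSpace.Opens.coe_inf, Set.mem_inter_iff]
    exact ⟨fun h => h.2, fun h => ⟨u.2, h⟩⟩
  rwa [h5] at h4

/-- A closed subscheme contained in the union of the first `n + 1` strata of an affine
stratification with `n + 2` strata has an affine stratification with `n + 1` strata. -/
theorem hasAffineStratification_of_closedImmersion {X : Scheme.{u}} {n : ℕ}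
    (s : X → Fin (n + 2)) (hs : ∀ i : Fin (n + 2), IsClosed {x : X | s x ≤ i})
    (hstr : ∀ i : Fin (n + 2), ∃ (Z : Scheme.{u}) (ι : Z ⟶ X),
      IsImmersion ι ∧ IsAffine Z ∧ IsAffineHom ι ∧ Set.range ι = {x : X | s x = i})
    {Z' : Scheme.{u}} (i : Z' ⟶ X) [IsClosedImmersion i]
    (hi : ∀ z : Z', s (i z) ≠ Fin.last (n + 1)) :
    MoreMor.HasAffineStratification Z' n := by
  refine ⟨fun z => (s (i z)).castPred (hi z), ?_, ?_⟩
  · intro k
    have : {z : Z' | (s (i z)).castPred (hi z) ≤ k} = i ⁻¹' {x : X | s x ≤ k.castSucc} := by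
      ext z
      simp only [Set.mem_setOf_eq, Set.mem_preimage]
      exact Fin.castPred_le_iff (hi z)
    rw [this]
    exact (hs _).preimage i.continuous
  · intro k
    obtain ⟨Z, ι, h1, h2, h3, h4⟩ := hstr k.castSucc
    haveI := h1
    haveI := h2
    haveI := h3
    haveI : IsAffineHom i := inferInstance
    haveI : IsAffineHom (pullback.snd ι i) :=
      MorphismProperty.pullback_snd (P := @IsAffineHom) ι i inferInstance
    haveI : IsAffineHom (pullback.fst ι i) :=
      MorphismProperty.pullback_fst (P := @IsAffineHom) ι i inferInstance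
    refine ⟨pullback ι i, pullback.snd ι i, inferInstance, ?_, inferInstance, ?_⟩
    · exact isAffine_of_isAffineHom (pullback.fst ι i)
    · rw [Scheme.Pullback.range_snd, h4]
      ext z
      simp only [Set.mem_preimage, Set.mem_ofPred_eq]
      constructor
      · intro h
        exact (Fin.castPred_eq_iff_eq_castSucc _ _ _).2 h
      · intro h
        exact (Fin.castPred_eq_iff_eq_castSucc _ _ _).1 h

end Groth.Agent.Lib.lead.AffStratVan
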