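import Mathlib
import Groth.Agent.Lib.lead.AffStratVanA
import Groth.Agent.Lib.lead.AffStratQcqs
import Groth.Agent.S0007
import Groth.Prelude.Def_MoreMor

/-!
# Cohomological vanishing above the affine stratification number (Stacks 0F2X)
Part B: the induction on the number of strata, given the one-stratum step.
-/

set_option autoImplicit false
set_option linter.style.haveILetI false
universe u
open CategoryTheory CategoryTheory.Limits AlgebraicGeometry Opposite TopologicalSpace

namespace Groth.Agent.Lib.lead.AffStratVan

/-- The one-stratum step: if `U ⊆ X` is an affine open with affine inclusion and quasi-coherent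
cohomology of every closed subscheme of `X` off `U` vanishes above degree `n`, then quasi-coherent
cohomology of `X` vanishes above degree `n + 1`. -/
def StepStatement : Prop :=
  ∀ (X : Scheme.{u}) [CompactSpace X] [QuasiSeparatedSpace X] (U : X.Opens), IsAffineOpen U →
    IsAffineHom U.ι → ∀ n : ℕ,
    (∀ (Z' : Scheme.{u}) (i : Z' ⟶ X) [IsClosedImmersion i], Set.range i ⊆ ((U : Set X))ᶜ →
      ∀ M : Z'.Modules, Coh.IsQCoh M → ∀ p : ℕ, n < p → Subsingleton (Coh.HH Z' M p)) →
    ∀ F : X.Modules, Coh.IsQCoh F → ∀ p : ℕ, n + 1 < p → Subsingleton (Coh.HH X F p)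

theorem isAffine_of_isAffineOpen_top {X : Scheme.{u}} (h : IsAffineOpen (⊤ : X.Opens)) :
    IsAffine X := by
  haveI : IsAffine ((⊤ : X.Opens) : Scheme.{u}) := h
  exact IsAffine.of_isIso (X.topIso).inv

theorem main (hstep : StepStatement.{u}) : ∀ (n : ℕ) (X : Scheme.{u}),
    MoreMor.HasAffineStratification X n → ∀ F : X.Modules, Coh.IsQCoh F → ∀ p : ℕ, n < p →
      Subsingleton (Coh.HH X F p) := by
  intro n
  induction n with
  | zero =>
    intro X hX F hF p hp
    obtain ⟨s, -, hstr⟩ := hX
    obtain ⟨Z, ι, h1, h2, h3, h4⟩ := hstr 0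
    haveI := h1
    haveI := h2
    have hr : Set.range ι = ((⊤ : X.Opens) : Set X) := by
      rw [h4]
      ext x
      simp only [Set.mem_ofPred_eq, TopologicalSpace.Opens.coe_top, Set.mem_univ, iff_true]
      exact (Fin.subsingleton_iff_le_one.2 (by omega)).elim _ _
    haveI : IsAffine X := isAffine_of_isAffineOpen_top (isAffineOpen_of_range_eq ι ⊤ hr)
    haveI : Coh.IsQCoh F := hF
    exact Groth.Agent.S0007.result X F p hp
  | succ n ih =>
    intro X hX F hF p hp
    obtain ⟨hc, hqs⟩ := Groth.Agent.Lib.lead.AffStratQcqs.qcqs_of_hasAffineStratification hX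
    haveI := hc
    haveI := hqs
    obtain ⟨s, hs, hstr⟩ := hX
    -- the open stratum
    have hUo : IsOpen {x : X | s x = Fin.last (n + 1)} := by
      have : {x : X | s x = Fin.last (n + 1)} = {x : X | s x ≤ (Fin.last n).castSucc}ᶜ := by
        ext x
        simp only [Set.mem_ofPred_eq, Set.mem_compl_iff]
        rw [Fin.ext_iff, Fin.le_def]
        have := (s x).isLt
        simp only [Fin.val_last, Fin.val_castSucc]
        omega
      rw [this]
      exact (hs _).isOpen_compl
    let U : X.Opens := ⟨_, hUo⟩
    obtain ⟨Z, ι, h1, h2, h3, h4⟩ := hstr (Fin.last (n + 1))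
    haveI := h1
    haveI := h2
    haveI := h3
    have hr : Set.range ι = (U : Set X) := h4
    have hUa : IsAffineOpen U := isAffineOpen_of_range_eq ι U hr
    have hUι : IsAffineHom U.ι := isAffineHom_ι_of_range_eq ι U hr
    refine hstep X U hUa hUι n ?_ F hF p hp
    intro Z' i _ hi M hM q hq
    refine ih Z' ?_ M hM q hq
    refine hasAffineStratification_of_closedImmersion s hs hstr i ?_
    intro z hz
    exact hi ⟨z, rfl⟩ hz

end Groth.Agent.Lib.lead.AffStratVan
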