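import Mathlib

/-!
# Spreading out a rational point of a finitely presented algebra (ring level)

`A → B` of finite presentation, `β : B → K` a map to a field all of whose elements are fractions
of images of elements of `A`.  Then `β` spreads out to an `A`-algebra map
`B → C := A_g ⧸ I·A_g` for some `g` with nonzero image in `K` and some finitely generated ideal
`I` of `A` mapping to `0` in `K`.
-/

universe u

namespace Groth.Agent.Lib.lead.CDec

open MvPolynomial

/-- Elements of a localization away from `g` lying in an ideal, after multiplying by a power of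
`g`. -/
theorem mem_of_mul_pow_mem {A : Type u} [CommRing A] (g : A) {S : Type u} [CommRing S] [Algebra A S]
    [IsLocalization.Away g S] (J : Ideal S) (s : S) (N : ℕ)
    (h : s * algebraMap A S g ^ N ∈ J) : s ∈ J := by
  have hu : IsUnit (algebraMap A S g ^ N) := (IsLocalization.Away.algebraMap_isUnit g).pow N
  obtain ⟨u, hu⟩ := hu
  have : s = (s * algebraMap A S g ^ N) * (u⁻¹ : Sˣ) := by
    rw [← hu, mul_assoc, Units.mul_inv, mul_one]
  rw [this]
  exact J.mul_mem_right _ h

theorem exists_spread {A B K : Type u} [CommRing A] [CommRing B] [Field K]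
    (α : A →+* B) (hα : α.FinitePresentation) (β : B →+* K)
    (hK : ∀ k : K, ∃ a g : A, β (α g) ≠ 0 ∧ k * β (α g) = β (α a)) :
    ∃ (g : A) (I : Ideal A), β (α g) ≠ 0 ∧ I.FG ∧ (∀ c ∈ I, β (α c) = 0) ∧
      ∃ (ψ : B →+* (Localization.Away g ⧸ I.map (algebraMap A (Localization.Away g))))
        (δ : (Localization.Away g ⧸ I.map (algebraMap A (Localization.Away g))) →+* K),
        ψ.comp α = (Ideal.Quotient.mk _).comp (algebraMap A (Localization.Away g)) ∧
        δ.comp ((Ideal.Quotient.mk _).comp (algebraMap A (Localization.Away g))) = β.comp α := by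
  classical
  let _ := α.toAlgebra
  have hfp : Algebra.FinitePresentation A B := hα
  obtain ⟨n, π, hπ, hker⟩ := hfp.out
  obtain ⟨S, hS⟩ := hker
  set γ : A →+* K := β.comp α with hγ
  have hK' : ∀ k : K, ∃ a g : A, γ g ≠ 0 ∧ k * γ g = γ a := hK
  choose a₀ g₀ hg₀ hk₀ using fun i : Fin n => hK' (β (π (X i)))
  -- common denominator
  let g : A := ∏ i, g₀ i
  have hg : γ g ≠ 0 := by
    simp only [g, map_prod]
    exact Finset.prod_ne_zero_iff.2 fun i _ => hg₀ i
  let a : Fin n → A := fun i => a₀ i * ∏ j ∈ Finset.univ.erase i, g₀ j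
  have hk : ∀ i, β (π (X i)) * γ g = γ (a i) := by
    intro i
    have : g = g₀ i * ∏ j ∈ Finset.univ.erase i, g₀ j :=
      (Finset.mul_prod_erase Finset.univ g₀ (Finset.mem_univ i)).symm
    rw [this, map_mul, ← mul_assoc, hk₀ i, ← map_mul]
  refine ⟨g, ?_⟩
  let Ag := Localization.Away g
  have hgu : IsUnit (γ g) := isUnit_iff_ne_zero.2 hg
  let γg : Ag →+* K := IsLocalization.Away.lift g hgu
  have hγg : ∀ r : A, γg (algebraMap A Ag r) = γ r := fun r => IsLocalization.Away.lift_eq g hgu r
  let θ : MvPolynomial (Fin n) A →ₐ[A] Ag :=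
    MvPolynomial.aeval fun i => IsLocalization.Away.invSelf (S := Ag) g * algebraMap A Ag (a i)
  have hinv : γg (IsLocalization.Away.invSelf (S := Ag) g) * γ g = 1 := by
    rw [← hγg g, ← map_mul, mul_comm, IsLocalization.Away.mul_invSelf, map_one]
  have hcomp : (γg.comp θ.toRingHom) = β.comp π.toRingHom := by
    refine MvPolynomial.ringHom_ext (fun r => ?_) (fun i => ?_)
    · simp only [RingHom.comp_apply, AlgHom.toRingHom_eq_coe, RingHom.coe_coe]
      rw [← MvPolynomial.algebraMap_eq, AlgHom.commutes, AlgHom.commutes, hγg]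
      rfl
    · simp only [RingHom.comp_apply, AlgHom.toRingHom_eq_coe, RingHom.coe_coe, θ,
        MvPolynomial.aeval_X, map_mul, hγg]
      have h1 := hk i
      have : β (π (X i)) = β (π (X i)) * (γ g * γg (IsLocalization.Away.invSelf (S := Ag) g)) := by
        rw [mul_comm (γ g), hinv, mul_one]
      rw [this, ← mul_assoc, h1, mul_comm]
  have hzero : ∀ h ∈ S, γg (θ h) = 0 := by
    intro h hh
    have : (γg.comp θ.toRingHom) h = 0 := by
      rw [hcomp]
      have : h ∈ RingHom.ker π.toRingHom := hS ▸ Ideal.subset_span hh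
      simp only [RingHom.comp_apply]
      rw [RingHom.mem_ker.1 this, map_zero]
    exact this
  -- numerators
  have hnum : ∀ h : MvPolynomial (Fin n) A, ∃ (c : A) (N : ℕ),
      θ h * algebraMap A Ag g ^ N = algebraMap A Ag c := by
    intro h
    obtain ⟨N, c, hc⟩ := IsLocalization.Away.surj g (θ h)
    exact ⟨c, N, hc⟩
  choose c N hc using hnum
  have hcK : ∀ h ∈ S, γ (c h) = 0 := by
    intro h hh
    rw [← hγg, ← hc h, map_mul, hzero h hh, zero_mul]
  let I : Ideal A := Ideal.span ((S.image c : Finset A) : Set A)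
  have hIK : ∀ r ∈ I, γ r = 0 := by
    intro r hr
    have : I ≤ RingHom.ker γ := by
      refine Ideal.span_le.2 ?_
      intro r hr
      simp only [Finset.coe_image, Set.mem_image, Finset.mem_coe] at hr
      obtain ⟨h, hh, rfl⟩ := hr
      exact hcK h hh
    exact this hr
  refine ⟨I, hg, ⟨S.image c, rfl⟩, hIK, ?_⟩
  let J : Ideal Ag := I.map (algebraMap A Ag)
  have hkerle : RingHom.ker π.toRingHom ≤ RingHom.ker ((Ideal.Quotient.mk J).comp θ.toRingHom) := by
    rw [← hS]
    refine Ideal.span_le.2 ?_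
    intro h hh
    rw [SetLike.mem_coe, RingHom.mem_ker, RingHom.comp_apply, Ideal.Quotient.eq_zero_iff_mem]
    refine mem_of_mul_pow_mem g J _ (N h) ?_
    change θ h * algebraMap A Ag g ^ N h ∈ J
    rw [hc h]
    exact Ideal.mem_map_of_mem _ (Ideal.subset_span (by
      simp only [Finset.coe_image, Set.mem_image, Finset.mem_coe]
      exact ⟨h, hh, rfl⟩))
  let ψ : B →+* Ag ⧸ J := RingHom.liftOfSurjective π.toRingHom hπ ⟨_, hkerle⟩
  have hψ : ψ.comp π.toRingHom = (Ideal.Quotient.mk J).comp θ.toRingHom :=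
    RingHom.liftOfSurjective_comp _ hπ ⟨_, hkerle⟩
  have hJK : J ≤ RingHom.ker γg := by
    refine Ideal.map_le_iff_le_comap.2 ?_
    intro r hr
    rw [Ideal.mem_comap, RingHom.mem_ker, hγg]
    exact hIK r hr
  let δ : Ag ⧸ J →+* K := Ideal.Quotient.lift J γg fun r hr => RingHom.mem_ker.1 (hJK hr)
  refine ⟨ψ, δ, ?_, ?_⟩
  · ext r
    have h1 : α r = π.toRingHom (MvPolynomial.C r) := by
      simp only [AlgHom.toRingHom_eq_coe, RingHom.coe_coe]
      rw [← MvPolynomial.algebraMap_eq, AlgHom.commutes]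
      rfl
    rw [RingHom.comp_apply, h1, ← RingHom.comp_apply ψ, hψ]
    simp only [RingHom.comp_apply, AlgHom.toRingHom_eq_coe, RingHom.coe_coe]
    rw [← MvPolynomial.algebraMap_eq, AlgHom.commutes]
  · ext r
    simp only [RingHom.comp_apply]
    change δ (Ideal.Quotient.mk J (algebraMap A Ag r)) = _
    rw [Ideal.Quotient.lift_mk, hγg]

end Groth.Agent.Lib.lead.CDec
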