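import Groth.Agent.Lib.lead.CDecA

/-!
# Local sections of a completely decomposed morphism over finitely presented immersions
-/

universe u

open AlgebraicGeometry CategoryTheory Limits

namespace Groth.Agent.Lib.lead.CDec

theorem exists_local_section {X Y : Scheme.{u}} (f : X ⟶ Y) [LocallyOfFinitePresentation f]
    [QuasiSeparatedSpace Y] (x : X) (hx : Function.Surjective (f.residueFieldMap x)) :
    ∃ (Z : Scheme.{u}) (z : Z ⟶ Y), f x ∈ Set.range z ∧ IsImmersion z ∧
      LocallyOfFinitePresentation z ∧ QuasiCompact z ∧ QuasiSeparated z ∧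
      ∃ s : Z ⟶ pullback f z, s ≫ pullback.snd f z = 𝟙 Z := by
  obtain ⟨V, hV, hyV⟩ : ∃ V : Y.Opens, IsAffineOpen V ∧ f x ∈ V := by
    obtain ⟨_, ⟨V, hV, rfl⟩, hy, -⟩ :=
      Y.isBasis_affineOpens.exists_subset_of_mem_open (Set.mem_univ (f x)) isOpen_univ
    exact ⟨V, hV, hy⟩
  obtain ⟨U, hU, hxU, hUV⟩ : ∃ U : X.Opens, IsAffineOpen U ∧ x ∈ U ∧ U ≤ f ⁻¹ᵁ V := by
    obtain ⟨_, ⟨U, hU, rfl⟩, hx, hle⟩ :=
      X.isBasis_affineOpens.exists_subset_of_mem_open
        (show x ∈ ((f ⁻¹ᵁ V : X.Opens) : Set X) from hyV) (f ⁻¹ᵁ V).isOpen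
    exact ⟨U, hU, hx, hle⟩
  let α : Γ(Y, V) ⟶ Γ(X, U) := f.appLE V U hUV
  have hα : α.hom.FinitePresentation := f.finitePresentation_appLE hV hU hUV
  let β : Γ(X, U) ⟶ X.residueField x := X.evaluation U x hxU
  have hγ : α ≫ β = Y.evaluation V (f x) hyV ≫ f.residueFieldMap x := by
    rw [Scheme.evaluation_naturality]
    simp only [α, β, Scheme.Hom.appLE, Scheme.evaluation, Category.assoc]
    rw [TopCat.Presheaf.germ_res_assoc]
  have hK : ∀ k : X.residueField x, ∃ a g : Γ(Y, V),
      β.hom (α.hom g) ≠ 0 ∧ k * β.hom (α.hom g) = β.hom (α.hom a) := by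
    intro k
    obtain ⟨k', rfl⟩ := hx k
    obtain ⟨s, rfl⟩ := Y.residue_surjective (f x) k'
    let _ := Y.presheaf.algebra_section_stalk ⟨f x, hyV⟩
    have := hV.isLocalization_stalk ⟨f x, hyV⟩
    obtain ⟨⟨a, g⟩, hag⟩ :=
      IsLocalization.surj (hV.primeIdealOf ⟨f x, hyV⟩).asIdeal.primeCompl s
    have he : ∀ r : Γ(Y, V), β.hom (α.hom r) =
        (f.residueFieldMap x).hom ((Y.residue (f x)).hom
          (algebraMap Γ(Y, V) (Y.presheaf.stalk (f x)) r)) := by
      intro r
      have := congrArg (fun φ => φ.hom r) hγ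
      exact this
    have hgu : IsUnit (algebraMap Γ(Y, V) (Y.presheaf.stalk (f x)) (g : Γ(Y, V))) :=
      IsLocalization.map_units _ g
    refine ⟨a, g, ?_, ?_⟩
    · rw [he]
      exact ((hgu.map (Y.residue (f x)).hom).map (f.residueFieldMap x).hom).ne_zero
    · rw [he, he, ← map_mul, ← map_mul, hag]
  obtain ⟨g, I, hg, hI, hIK, ψ, δ, hψ, hδ⟩ := exists_spread α.hom hα β.hom hK
  let C : Type u := Localization.Away g ⧸ I.map (algebraMap Γ(Y, V) (Localization.Away g))
  let ι : Γ(Y, V) →+* C := (Ideal.Quotient.mk _).comp (algebraMap Γ(Y, V) (Localization.Away g))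
  have hιfp : ι.FinitePresentation := by
    refine RingHom.FinitePresentation.comp ?_ ?_
    · refine RingHom.FinitePresentation.of_surjective _ Ideal.Quotient.mk_surjective ?_
      rw [Ideal.mk_ker]
      exact hI.map _
    · exact RingHom.finitePresentation_algebraMap.2 inferInstance
  have himm : IsImmersion (Spec.map (CommRingCat.ofHom ι)) := by
    have h1 : CommRingCat.ofHom ι =
        CommRingCat.ofHom (algebraMap Γ(Y, V) (Localization.Away g)) ≫
          CommRingCat.ofHom (Ideal.Quotient.mk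
            (I.map (algebraMap Γ(Y, V) (Localization.Away g)))) := rfl
    rw [h1, Spec.map_comp]
    have : IsClosedImmersion (Spec.map (CommRingCat.ofHom (Ideal.Quotient.mk
        (I.map (algebraMap Γ(Y, V) (Localization.Away g)))))) :=
      IsClosedImmersion.spec_of_surjective _ Ideal.Quotient.mk_surjective
    infer_instance
  have hlfp : LocallyOfFinitePresentation (Spec.map (CommRingCat.ofHom ι)) :=
    (HasRingHomProperty.Spec_iff (P := @LocallyOfFinitePresentation)).2 hιfp
  let z : Spec (CommRingCat.of C) ⟶ Y := Spec.map (CommRingCat.ofHom ι) ≫ hV.fromSpec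
  let σ : Spec (CommRingCat.of C) ⟶ X := Spec.map (CommRingCat.ofHom ψ) ≫ hU.fromSpec
  have hσ : σ ≫ f = z := by
    simp only [σ, z, Category.assoc]
    rw [← IsAffineOpen.SpecMap_appLE_fromSpec f hV hU hUV, ← Spec.map_comp_assoc]
    congr 2
    ext r
    exact congrArg (fun φ => φ r) hψ
  refine ⟨Spec (CommRingCat.of C), z, ?_, inferInstance, inferInstance, inferInstance,
    inferInstance, pullback.lift σ (𝟙 _) (by rw [hσ, Category.id_comp]), pullback.lift_snd _ _ _⟩
  -- the point
  have hβ : Spec.map β ≫ hU.fromSpec = X.fromSpecResidueField x := by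
    simp only [β, Scheme.evaluation, Spec.map_comp, Category.assoc, Scheme.fromSpecResidueField]
    rw [← hU.fromSpecStalk_eq_fromSpecStalk hxU]
    rfl
  have hz : Spec.map (CommRingCat.ofHom δ) ≫ z = X.fromSpecResidueField x ≫ f := by
    rw [← hβ, Category.assoc, ← IsAffineOpen.SpecMap_appLE_fromSpec f hV hU hUV,
      ← Spec.map_comp_assoc]
    rw [← Spec.map_comp_assoc]
    congr 2
    ext r
    exact congrArg (fun φ => φ r) hδ
  obtain ⟨pt, hpt⟩ : x ∈ Set.range (X.fromSpecResidueField x) := by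
    rw [Scheme.range_fromSpecResidueField]; rfl
  refine ⟨Spec.map (CommRingCat.ofHom δ) pt, ?_⟩
  rw [← Scheme.Hom.comp_apply, hz, Scheme.Hom.comp_apply, hpt]

end Groth.Agent.Lib.lead.CDec
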