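import Mathlib

/-!
# Finite subcovers of covers by constructible sets (compactness of the constructible topology)
-/

open Topology

namespace Groth.Agent.Lib.lead.CDec

theorem isOpen_cons_and_compl_of_isConstructible {X : Type*} [TopologicalSpace X] [CompactSpace X]
    {s : Set X} (hs : IsConstructible s) :
    IsOpen[constructibleTopology X] s ∧ IsOpen[constructibleTopology X] sᶜ := by
  induction hs using IsConstructible.empty_union_induction with
  | open_retrocompact U hUo hUc =>
    refine ⟨hUc.isCompact.isOpen_constructibleTopology_of_isOpen hUo, ?_⟩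
    refine IsCompact.isOpen_constructibleTopology_of_isClosed ?_ hUo.isClosed_compl
    rw [compl_compl]
    exact hUc.isCompact
  | union s hs t ht ihs iht =>
    refine ⟨@IsOpen.union _ _ _ (constructibleTopology X) ihs.1 iht.1, ?_⟩
    rw [Set.compl_union]
    exact (constructibleTopology X).isOpen_inter _ _ ihs.2 iht.2
  | compl s hs ih =>
    refine ⟨ih.2, ?_⟩
    rw [compl_compl]
    exact ih.1

theorem exists_finite_cover_of_isConstructible {X : Type*} [TopologicalSpace X] [CompactSpace X]
    [QuasiSober X] [PrespectralSpace X] [QuasiSeparatedSpace X] {ι : Type*} (s : ι → Set X)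
    (hs : ∀ i, IsConstructible (s i)) (hcov : ∀ x, ∃ i, x ∈ s i) :
    ∃ t : Finset ι, ∀ x, ∃ i ∈ t, x ∈ s i := by
  have hcomp : IsCompact (Set.univ : Set (WithConstructibleTopology X)) := isCompact_univ
  obtain ⟨t, ht⟩ := hcomp.elim_finite_subcover
    (fun i => (WithTopology.ofTopology ⁻¹' s i : Set (WithConstructibleTopology X)))
    (fun i => (WithConstructibleTopology.isOpen_iff).2
      (isOpen_cons_and_compl_of_isConstructible (hs i)).1)
    (by
      intro x _
      obtain ⟨i, hi⟩ := hcov (WithTopology.ofTopology x)
      exact Set.mem_iUnion.2 ⟨i, hi⟩)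
  refine ⟨t, fun x => ?_⟩
  have := ht (Set.mem_univ (WithTopology.toTopology _ x))
  simp only [Set.mem_iUnion, Set.mem_preimage, exists_prop] at this
  exact this

end Groth.Agent.Lib.lead.CDec
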