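import Mathlib
import Groth.Prelude.Def_EGA43
import Groth.Agent.S4944
import Groth.Agent.Lib.Helper24.FibreDim.Formula
import Groth.Agent.Lib.Helper24.FibreDim.EquidimConv
import Groth.Agent.Lib.Helper18.Chev.Main
import Groth.Agent.Lib.lead.FibreDimFormula

set_option autoImplicit false
set_option linter.style.haveILetI false
open CategoryTheory CategoryTheory.Limits AlgebraicGeometry

universe u

namespace Groth.Agent.Lib.lead.QuasiSecDedekind

open Groth.Agent.Lib.lead Groth.Agent.Lib.Helper24 Groth.Agent.Lib.Helper24.FibreDim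
  Groth.Agent.Lib.Helper18.Chev

theorem irreducibleSpace_of_isInducing_of_isIrreducible_range {A B : Type*} [TopologicalSpace A]
    [TopologicalSpace B] {j : A → B} (hj : Topology.IsInducing j)
    (h : IsIrreducible (Set.range j)) : IrreducibleSpace A := by
  obtain ⟨⟨b, a, rfl⟩, hpre⟩ := h
  haveI : Nonempty A := ⟨a⟩
  refine { isPreirreducible_univ := ?_, toNonempty := inferInstance }
  intro u' v' hu' hv' hu'ne hv'ne
  obtain ⟨u, hu, rfl⟩ := hj.isOpen_iff.mp hu'
  obtain ⟨v, hv, rfl⟩ := hj.isOpen_iff.mp hv'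
  obtain ⟨x, -, hx⟩ := hu'ne
  obtain ⟨y, -, hy⟩ := hv'ne
  obtain ⟨_, ⟨z, rfl⟩, hzu, hzv⟩ := hpre u v hu hv ⟨j x, ⟨x, rfl⟩, hx⟩ ⟨j y, ⟨y, rfl⟩, hy⟩
  exact ⟨z, trivial, hzu, hzv⟩

/-- a closed subset meeting a fibre contains a point closed in that fibre -/
theorem exists_closed_in_fibre {X Y : Scheme.{u}} (f : X ⟶ Y) [LocallyOfFiniteType f] (y : Y)
    (C : Set X) (hC : IsClosed C) (hne : (C ∩ f ⁻¹' {y}).Nonempty) :
    ∃ x ∈ C, f x = y ∧ ∀ x' : X, f x' = y → x ⤳ x' → x' = x := by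
  haveI : JacobsonSpace (f.fiber y) :=
    LocallyOfFiniteType.jacobsonSpace (f.fiberToSpecResidueField y)
  let C' : Set (f.fiber y) := (f.fiberι y) ⁻¹' C
  have hC' : IsClosed C' := hC.preimage (f.fiberι y).continuous
  obtain ⟨z, hzC, hzy⟩ := hne
  have hz : z ∈ Set.range (f.fiberι y) := by rw [f.range_fiberι]; exact hzy
  obtain ⟨c₀, rfl⟩ := hz
  have hne' : (C' ∩ closedPoints (f.fiber y)).Nonempty := by
    by_contra hempty
    rw [Set.not_nonempty_iff_eq_empty] at hempty
    have h1 := JacobsonSpace.closure_inter_closedPoints hC'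
    rw [hempty, closure_empty] at h1
    have h2 : c₀ ∈ C' := hzC
    rw [← h1] at h2
    exact h2
  obtain ⟨c, hcC, hcl⟩ := hne'
  refine ⟨f.fiberι y c, hcC, ?_, ?_⟩
  · have h1 : f.fiberι y c ∈ Set.range (f.fiberι y) := ⟨c, rfl⟩
    rwa [f.range_fiberι] at h1
  · intro x' hx' hsp
    have h1 : x' ∈ Set.range (f.fiberι y) := by rw [f.range_fiberι]; exact hx'
    obtain ⟨c', rfl⟩ := h1
    have h2 : c ⤳ c' := (f.fiberι y).isEmbedding.isInducing.specializes_iff.mp hsp
    have h3 : c' ∈ closure {c} := h2.mem_closure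
    rw [(mem_closedPoints_iff.mp hcl).closure_eq] at h3
    rw [Set.mem_singleton_iff.mp h3]

/-- an irreducible scheme dominating an irreducible locally Noetherian scheme of dimension `≤ 1`
is equidimensional over it at every point -/
theorem isEquidimAt_of_dominant_of_dim_le_one {W Y : Scheme.{u}} [IrreducibleSpace Y]
    [IsLocallyNoetherian Y] [IrreducibleSpace W]
    (hY : ∀ y : Y, ringKrullDim (Y.presheaf.stalk y) ≤ 1)
    (g : W ⟶ Y) [LocallyOfFiniteType g] (hdense : DenseRange g) (w : W) :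
    EGA43.IsEquidimAt g w := by
  set ξ : W := genericPoint W with hξ
  have hξsp : ∀ z : W, ξ ⤳ z := fun z => (genericPoint_spec W).specializes trivial
  have hgξ : g ξ = genericPoint Y := by
    have h1 : IsGenericPoint (g ξ) (closure (g '' Set.univ)) :=
      (genericPoint_spec W).image g.continuous
    rw [Set.image_univ, hdense.closure_range] at h1
    exact h1.eq (genericPoint_spec Y)
  have hG0 : ∀ ζ : W, (∀ ζ' : W, g ζ' = g ζ → ζ' ⤳ ζ → ζ' = ζ) →
      FibreOrder.G g ζ = ((0 : ℕ) : ℕ∞) := by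
    intro ζ hmax
    rw [Nat.cast_zero]
    unfold FibreOrder.G
    rw [Order.coheight_eq_zero]
    rintro ⟨ζ', hζ'⟩ hle
    have h1 : ζ' ⤳ ζ := hle
    have h2 : ζ' = ζ := hmax ζ' hζ' h1
    subst h2
    exact le_refl _
  have hfd : ∀ ζ : W, (∀ ζ' : W, g ζ' = g ζ → ζ' ⤳ ζ → ζ' = ζ) →
      FlatMor.fibreDimAt g ζ = ((tr g ζ : ℕ) : WithBot ℕ∞) := by
    intro ζ hmax
    have := FibreDimFormula.fibreDimAt_eq g ζ 0 (hG0 ζ hmax)
    rwa [add_zero] at this
  have hξmax : ∀ ζ' : W, g ζ' = g ξ → ζ' ⤳ ξ → ζ' = ξ := by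
    intro ζ' _ hsp
    exact (hsp.antisymm (hξsp ζ')).eq
  refine isEquidimAt_of_points g w (tr g ξ) ⊤ trivial ?_ ?_
  · intro ζ _ hmax
    have h1 : ξ = ζ := hmax ξ (hξsp ζ)
    rw [← h1, hgξ]
  · intro ζ _ hmax
    by_cases hgen : ζ = ξ
    · rw [hgen]
    · apply le_antisymm
      · -- upper bound: dimension inequality
        have h0 := coheight_add_tr_le g ζ
        have h1 : (Order.coheight (g ζ) : ℕ∞) ≤ 1 := by
          have h2 := hY (g ζ)
          rw [ringKrullDim_stalk_eq_coheight] at h2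
          exact_mod_cast h2
        have h3 : (1 : ℕ∞) ≤ Order.coheight ζ := by
          rw [Order.one_le_iff_ne_zero, Ne, Order.coheight_eq_zero]
          intro hmaxζ
          have h4 : ζ ≤ ξ := hξsp ζ
          have h5 : ξ ≤ ζ := hmaxζ h4
          exact hgen ((show ζ ⤳ ξ from h5).antisymm (hξsp ζ)).eq
        have h6 : (1 : ℕ∞) + (tr g ζ : ℕ∞) ≤ 1 + (tr g ξ : ℕ∞) :=
          (add_le_add_left h3 _).trans (h0.trans (add_le_add_left h1 _))
        have h7 : 1 + tr g ζ ≤ 1 + tr g ξ := by exact_mod_cast h6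
        omega
      · -- lower bound: Chevalley semicontinuity
        by_contra hlt
        rw [not_le] at hlt
        have hopen := isOpen_fibreDimAt_le g (tr g ζ)
        have hζU : ζ ∈ {x : W | FlatMor.fibreDimAt g x ≤ ((tr g ζ : ℕ) : WithBot ℕ∞)} := by
          change FlatMor.fibreDimAt g ζ ≤ _
          rw [hfd ζ hmax]
        have hξU := (hξsp ζ).mem_open hopen hζU
        change FlatMor.fibreDimAt g ξ ≤ _ at hξU
        rw [hfd ξ hξmax] at hξU
        have h8 : tr g ξ ≤ tr g ζ := by exact_mod_cast hξU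
        omega

set_option maxHeartbeats 1600000 in
theorem main {X Y : Scheme.{u}} [IrreducibleSpace Y] [IsLocallyNoetherian Y]
    (hY : ∀ y : Y, ringKrullDim (Y.presheaf.stalk y) ≤ 1)
    (f : X ⟶ Y) [LocallyOfFiniteType f] (y : Y) :
    (∀ Z ∈ irreducibleComponents (X : Type u), (Z ∩ f.base ⁻¹' {y}).Nonempty →
        Dense (f.base '' Z)) ↔
      ∀ x : X, f.base x = y → (∀ x' : X, f.base x' = y → x ⤳ x' → x' = x) →
        ∀ Xi ∈ irreducibleComponents (X : Type u), x ∈ Xi →
          ∃ (T : Scheme.{u}) (i : T ⟶ X), IsImmersion i ∧ IrreducibleSpace ↥T ∧ IsReduced T ∧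
            x ∈ Set.range i.base ∧ Set.range i.base ⊆ Xi ∧
            LocallyOfFiniteType (i ≫ f) ∧ LocallyQuasiFinite (i ≫ f) ∧ QuasiCompact (i ≫ f) ∧
            IsDominant (i ≫ f) := by
  constructor
  · intro hd x hfx hcl Xi hXi hxXi
    let Wc : TopologicalSpace.Closeds X := ⟨Xi, isClosed_of_mem_irreducibleComponents Xi hXi⟩
    let I := Scheme.IdealSheafData.vanishingIdeal Wc
    obtain ⟨ι, hι⟩ : ∃ ι : I.subscheme ⟶ X, ι = I.subschemeι := ⟨_, rfl⟩
    haveI : IsClosedImmersion ι := hι ▸ inferInstance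
    have hrange : Set.range ι = Xi := by
      rw [hι]
      exact I.range_subschemeι.trans (Scheme.IdealSheafData.coe_support_vanishingIdeal Wc)
    haveI : IsReduced I.subscheme := isReduced_vanishingIdeal_subscheme Wc
    haveI : IrreducibleSpace I.subscheme :=
      irreducibleSpace_of_isInducing_of_isIrreducible_range ι.isEmbedding.isInducing
        (hrange ▸ hXi.1)
    obtain ⟨w, hw⟩ : x ∈ Set.range ι := by rw [hrange]; exact hxXi
    have hdense : DenseRange (ι ≫ f) := by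
      have h1 : Set.range (ι ≫ f) = f '' Xi := by
        rw [Scheme.Hom.comp_base, TopCat.coe_comp, Set.range_comp, hrange]
      rw [DenseRange, h1]
      exact hd Xi hXi ⟨x, hxXi, hfx⟩
    have hEq := isEquidimAt_of_dominant_of_dim_le_one hY (ι ≫ f) hdense w
    have hclw : ∀ w' : I.subscheme, (ι ≫ f) w' = (ι ≫ f) w → w ⤳ w' → w' = w := by
      intro w' hg hsp
      apply ι.isEmbedding.injective
      rw [hw]
      apply hcl (ι w')
      · have : f (ι w') = f (ι w) := hg
        rw [this, hw, hfx]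
      · rw [← hw]
        exact hsp.map ι.continuous
    obtain ⟨T, i, h1, h2, h3, h4, h5, h6, h7, h8⟩ :=
      Groth.Agent.S4944.result (ι ≫ f) w hEq hclw
    refine ⟨T, i ≫ ι, inferInstance, h2, h3, ?_, ?_, ?_, ?_, ?_, ?_⟩
    · obtain ⟨t, ht⟩ := h4
      exact ⟨t, by rw [Scheme.Hom.comp_apply, ht, hw]⟩
    · rintro _ ⟨t, rfl⟩
      rw [← hrange]
      exact ⟨i t, rfl⟩
    · rw [Category.assoc]; exact h5
    · rw [Category.assoc]; exact h6
    · rw [Category.assoc]; exact h7
    · rw [Category.assoc]; exact h8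
  · intro he Z hZ hne
    obtain ⟨x, hxZ, hfx, hcl⟩ := exists_closed_in_fibre f y Z
      (isClosed_of_mem_irreducibleComponents Z hZ) hne
    obtain ⟨T, i, -, -, -, -, hsub, -, -, -, hdom⟩ := he x hfx hcl Z hZ hxZ
    have h1 : DenseRange (i ≫ f) := (i ≫ f).denseRange
    have h2 : Set.range (i ≫ f) ⊆ f '' Z := by
      rintro _ ⟨t, rfl⟩
      exact ⟨i t, hsub ⟨t, rfl⟩, rfl⟩
    exact h1.mono h2

end Groth.Agent.Lib.lead.QuasiSecDedekind

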