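import Mathlib
import Groth.Prelude.Def_CAlg2
import Groth.Agent.Lib.lead.GUPoly
import Groth.Agent.Lib.lead.UnivOpenAffine

set_option autoImplicit false
set_option linter.style.haveILetI false

universe u

namespace Groth.Agent.Lib.lead.GUAffineSpace

open CategoryTheory CategoryTheory.Limits AlgebraicGeometry IsLocalRing
open Groth.Agent.Lib.lead.GUPack Groth.Agent.Lib.lead.GUPoly

/-- geometric unibranchness of stalks is invariant under open immersions -/
theorem gu_stalk_iff_of_isOpenImmersion {X Y : Scheme.{u}} (f : X ⟶ Y) [IsOpenImmersion f] (x : X) :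
    CAlg2.IsGeomUnibranch (Y.presheaf.stalk (f x)) ↔ CAlg2.IsGeomUnibranch (X.presheaf.stalk x) :=
  ⟨fun h => of_ringEquiv (asIso (f.stalkMap x)).commRingCatIsoToRingEquiv.symm h,
    fun h => of_ringEquiv (asIso (f.stalkMap x)).commRingCatIsoToRingEquiv h⟩

/-- ring-level statement on spectra -/
theorem gu_stalk_spec_mvPolynomial (A : CommRingCat.{u}) (σ : Type u)
    (q : Spec (CommRingCat.of (MvPolynomial σ A)))
    (h : CAlg2.IsGeomUnibranch ((Spec A).presheaf.stalk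
      (Spec.map (CommRingCat.ofHom (MvPolynomial.C (σ := σ) (R := A))) q))) :
    CAlg2.IsGeomUnibranch ((Spec (CommRingCat.of (MvPolynomial σ A))).presheaf.stalk q) := by
  let p : Spec A := Spec.map (CommRingCat.ofHom (MvPolynomial.C (σ := σ) (R := A))) q
  letI : Algebra ↑A ↑((Spec A).presheaf.stalk p) := StructureSheaf.stalkAlgebra (↑A) p
  haveI : IsLocalization.AtPrime (↑((Spec A).presheaf.stalk p)) p.asIdeal :=
    StructureSheaf.IsLocalization.to_stalk A p
  letI : Algebra (MvPolynomial σ A) ↑((Spec (CommRingCat.of (MvPolynomial σ A))).presheaf.stalk q) :=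
    StructureSheaf.stalkAlgebra (MvPolynomial σ A) q
  haveI : IsLocalization.AtPrime
      (↑((Spec (CommRingCat.of (MvPolynomial σ A))).presheaf.stalk q)) q.asIdeal :=
    StructureSheaf.IsLocalization.to_stalk (MvPolynomial σ A) q
  exact isGeomUnibranch_mvPolynomial p.asIdeal ((Spec A).presheaf.stalk p) h σ q.asIdeal rfl _

open AlgebraicGeometry.AffineSpace in
theorem gu_stalk_affineSpace {Y : Scheme.{u}} (σ : Type u) (y' : ↥𝔸(σ; Y))
    (hy : CAlg2.IsGeomUnibranch (Y.presheaf.stalk ((𝔸(σ; Y) ↘ Y) y'))) :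
    CAlg2.IsGeomUnibranch ((𝔸(σ; Y)).presheaf.stalk y') := by
  obtain ⟨_, ⟨U, hU, rfl⟩, hyU, -⟩ :=
    Y.isBasis_affineOpens.exists_subset_of_mem_open (Set.mem_univ ((𝔸(σ; Y) ↘ Y) y')) isOpen_univ
  let A : CommRingCat.{u} := Γ(Y, U)
  let j : Spec A ⟶ Y := hU.fromSpec
  haveI : IsOpenImmersion (AffineSpace.map σ j) :=
    Groth.Agent.Lib.lead.UnivOpenAffine.isOpenImmersion_map σ j
  have hpb := AffineSpace.isPullback_map (n := σ) j
  obtain ⟨x₀, hx₀⟩ : ∃ x₀ : Spec A, j x₀ = (𝔸(σ; Y) ↘ Y) y' := by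
    have : (𝔸(σ; Y) ↘ Y) y' ∈ Set.range j := by
      rw [hU.range_fromSpec]; exact hyU
    exact this
  obtain ⟨z, hz1, hz2⟩ := Scheme.Pullback.exists_preimage_pullback y' x₀ hx₀.symm
  obtain ⟨y'', rfl⟩ : ∃ y'' : 𝔸(σ; Spec A), AffineSpace.map σ j y'' = y' := by
    refine ⟨hpb.isoPullback.inv z, ?_⟩
    rw [← Scheme.Hom.comp_apply, hpb.isoPullback_inv_fst]
    exact hz1
  rw [gu_stalk_iff_of_isOpenImmersion]
  have e1 : (𝔸(σ; Y) ↘ Y) (AffineSpace.map σ j y'') = j ((𝔸(σ; Spec A) ↘ Spec A) y'') := by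
    rw [← Scheme.Hom.comp_apply, ← Scheme.Hom.comp_apply, AffineSpace.map_over]
  rw [e1, gu_stalk_iff_of_isOpenImmersion] at hy
  obtain ⟨q, rfl⟩ : ∃ q, (SpecIso σ A).inv q = y'' :=
    ⟨(SpecIso σ A).hom y'', by rw [← Scheme.Hom.comp_apply, Iso.hom_inv_id]; rfl⟩
  rw [gu_stalk_iff_of_isOpenImmersion]
  have e2 : (𝔸(σ; Spec A) ↘ Spec A) ((SpecIso σ A).inv q) =
      Spec.map (CommRingCat.ofHom (MvPolynomial.C (σ := σ) (R := A))) q := by
    rw [← Scheme.Hom.comp_apply, SpecIso_inv_over]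
  rw [e2] at hy
  exact gu_stalk_spec_mvPolynomial A σ q hy

end Groth.Agent.Lib.lead.GUAffineSpace

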