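import Mathlib
import Groth.Prelude.Def_EGA43
import Groth.Agent.S3386
import Groth.Agent.Lib.lead.UnibranchUnivOpen
import Groth.Agent.Lib.lead.GUAffineSpace

set_option autoImplicit false
set_option linter.style.haveILetI false
open CategoryTheory CategoryTheory.Limits AlgebraicGeometry

universe u

namespace Groth.Agent.Lib.lead.ChevalleyCrit

open AlgebraicGeometry.AffineSpace MorphismProperty

/-- the structure morphism of affine space is universally open -/
theorem universallyOpen_over (n : Type u) (S : Scheme.{u}) : UniversallyOpen (𝔸(n; S) ↘ S) := by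
  refine ⟨universally_mk' _ _ fun {T} g _ ↦ ?_⟩
  have h1 := (isPullback_map (n := n) g).flip.isoPullback_hom_fst
  have h2 : pullback.fst g (𝔸(n; S) ↘ S) =
      (isPullback_map (n := n) g).flip.isoPullback.inv ≫ (𝔸(n; T) ↘ T) := by
    rw [Iso.eq_inv_comp]; exact h1
  change IsOpenMap (pullback.fst g (𝔸(n; S) ↘ S))
  rw [h2, Scheme.Hom.comp_base]
  exact (isOpenMap_over (n := n) (S := T)).comp (Scheme.Hom.homeomorph _).isOpenMap

/-- **Chevalley's criterion** for universal openness. -/
theorem universallyOpen_of_isEquidimAt {X Y : Scheme.{u}} [IsLocallyNoetherian Y]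
    (hY : ∀ y : Y, CAlg2.IsGeomUnibranch (Y.presheaf.stalk y)) (f : X ⟶ Y) [LocallyOfFiniteType f]
    (h : ∀ x : X, EGA43.IsEquidimAt f x) : UniversallyOpen f := by
  have key : ∀ x : X, ∃ U : X.Opens, x ∈ U ∧ UniversallyOpen (U.ι ≫ f) := by
    intro x
    obtain ⟨e, U, g, hxU, hg, hqf, hcomp⟩ := (Groth.Agent.S3386.result f x).1 (h x)
    refine ⟨U, hxU, ?_⟩
    rw [← hg]
    haveI := hqf
    haveI : LocallyOfFiniteType (g ≫ (𝔸(ULift.{u} (Fin e); Y) ↘ Y)) := by
      rw [hg]; infer_instance
    haveI : LocallyOfFiniteType g :=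
      locallyOfFiniteType_of_comp g (𝔸(ULift.{u} (Fin e); Y) ↘ Y)
    haveI : IsLocallyNoetherian 𝔸(ULift.{u} (Fin e); Y) :=
      LocallyOfFiniteType.isLocallyNoetherian (𝔸(ULift.{u} (Fin e); Y) ↘ Y)
    haveI : UniversallyOpen g :=
      Groth.Agent.Lib.lead.UnibranchUnivOpen.universallyOpen_of_lqf_of_gu g
        (fun y' => Groth.Agent.Lib.lead.GUAffineSpace.gu_stalk_affineSpace _ y' (hY _))
        (by
          intro Z hZ z hz
          exact ⟨closure (g '' Z), hcomp Z hZ, hz.image g.continuous⟩)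
    haveI := universallyOpen_over (ULift.{u} (Fin e)) Y
    infer_instance
  choose U hxU hU using key
  refine IsZariskiLocalAtSource.of_iSup_eq_top U ?_ hU
  rw [eq_top_iff]
  intro x _
  exact TopologicalSpace.Opens.mem_iSup.mpr ⟨x, hxU x⟩

end Groth.Agent.Lib.lead.ChevalleyCrit

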