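import Mathlib
import Groth.Prelude.Def_EGA43
import Groth.Agent.Lib.lead.UnibranchUnivOpen
import Groth.Agent.Lib.lead.ChevalleyCrit
import Groth.Agent.Lib.Helper9.UnivOpen1
import Groth.Agent.Lib.Helper9.UnivOpen2
import Groth.Agent.Lib.Helper7.AffinePoints

set_option autoImplicit false
set_option linter.style.haveILetI false
open CategoryTheory CategoryTheory.Limits AlgebraicGeometry TensorProduct Topology

universe u

namespace Groth.Agent.Lib.lead.UnibranchUnivOpenAt

open Groth.Agent.Lib.lead.UnibranchGD Groth.Agent.Lib.lead.UnibranchUnivOpen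

section MvPoly

attribute [local instance] MvPolynomial.algebraMvPolynomial

open Groth.Agent.Lib.lead.GUPoly in
set_option maxHeartbeats 1600000 in
/-- pointwise going down for `A[T] → B[T]`: `A → B` quasi-finite, geometrically unibranch at the
image point, one minimal prime below the point contracting to a minimal prime -/
theorem exists_prime_le_mvPolynomial_at {A B : Type u} [CommRing A] [CommRing B] [Algebra A B]
    [Algebra.FiniteType A B] [Algebra.QuasiFinite A B]
    (σ : Type u) (q' : Ideal (MvPolynomial σ B)) [q'.IsPrime]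
    (p₁ : Ideal A) [p₁.IsPrime]
    (hp₁ : (q'.comap (algebraMap (MvPolynomial σ A) (MvPolynomial σ B))).comap
      (algebraMap A (MvPolynomial σ A)) = p₁)
    (hGU₁ : CAlg2.IsGeomUnibranch (Localization.AtPrime p₁))
    (P : Ideal B) (hPmin : P ∈ minimalPrimes B)
    (hPle : P ≤ q'.comap (MvPolynomial.C (σ := σ) (R := B)))
    (hp₀ : P.comap (algebraMap A B) ∈ minimalPrimes A)
    (p'' : Ideal (MvPolynomial σ A)) [p''.IsPrime]
    (hle : p'' ≤ q'.comap (algebraMap (MvPolynomial σ A) (MvPolynomial σ B))) :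
    ∃ q'' : Ideal (MvPolynomial σ B), q''.IsPrime ∧ q'' ≤ q' ∧
      q''.comap (algebraMap (MvPolynomial σ A) (MvPolynomial σ B)) = p'' := by
  classical
  subst hp₁
  have hGU := hGU₁
  let p' : Ideal (MvPolynomial σ A) :=
    q'.comap (algebraMap (MvPolynomial σ A) (MvPolynomial σ B))
  let q₀ : Ideal B := q'.comap (MvPolynomial.C (σ := σ) (R := B))
  haveI hPprime : P.IsPrime := hPmin.1.1
  let p₀ : Ideal A := P.comap (algebraMap A B)
  let B' := B ⧸ P
  let B₁ := MvPolynomial σ B'
  let π : MvPolynomial σ B →+* B₁ := MvPolynomial.map (Ideal.Quotient.mk P)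
  have hπsurj : Function.Surjective π :=
    MvPolynomial.map_surjective _ Ideal.Quotient.mk_surjective
  have hkerπ : RingHom.ker π = P.map (MvPolynomial.C (σ := σ) (R := B)) := by
    rw [MvPolynomial.ker_map, Ideal.mk_ker]
  have hkerle : RingHom.ker π ≤ q' := by
    rw [hkerπ, Ideal.map_le_iff_le_comap]
    exact hPle
  let q₁ : Ideal B₁ := q'.map π
  haveI : q₁.IsPrime := Ideal.map_isPrime_of_surjective hπsurj hkerle
  have hq₁ : q₁.comap π = q' :=
    (Ideal.comap_map_of_surjective' π hπsurj q').trans (sup_eq_left.mpr hkerle)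
  haveI : Algebra.QuasiFinite (MvPolynomial σ A) B₁ := quasiFinite_mvPolynomial A B' σ
  haveI : Algebra.FiniteType (MvPolynomial σ A) B₁ := finiteType_mvPolynomial A B' σ
  have hcomp : algebraMap (MvPolynomial σ A) B₁ =
      π.comp (algebraMap (MvPolynomial σ A) (MvPolynomial σ B)) := by
    rw [MvPolynomial.algebraMap_def, MvPolynomial.algebraMap_def]
    refine RingHom.ext fun x => ?_
    rw [RingHom.comp_apply]
    change _ = MvPolynomial.map _ (MvPolynomial.map _ x)
    rw [MvPolynomial.map_map]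
    rfl
  have hB : (nilradical B₁).IsPrime := by
    rw [nilradical_eq_zero]
    exact Ideal.isPrime_bot
  have hpq : q₁.comap (algebraMap (MvPolynomial σ A) B₁) = p' := by
    rw [hcomp, ← Ideal.comap_comap, hq₁]
  let p : Ideal A := p'.comap (algebraMap A (MvPolynomial σ A))
  have hGUO : CAlg2.IsGeomUnibranch (Localization.AtPrime p') :=
    isGeomUnibranch_mvPolynomial p (Localization.AtPrime p) hGU σ p' rfl _
  -- the nilradical of A_p is prime and contracts to p₀
  haveI hNprime : (nilradical (Localization.AtPrime p)).IsPrime := by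
    have := hGU.1.1
    exact (Ideal.Quotient.isDomain_iff_prime _).mp this
  have hp₀p : p₀ ≤ p := by
    intro c hc
    change algebraMap (MvPolynomial σ A) (MvPolynomial σ B) (algebraMap A (MvPolynomial σ A) c) ∈ q'
    rw [MvPolynomial.algebraMap_def, MvPolynomial.algebraMap_eq, MvPolynomial.map_C]
    exact hPle hc
  haveI hp₀prime : p₀.IsPrime := hp₀.1.1
  have hdisj₀ : Disjoint (p.primeCompl : Set A) (p₀ : Set A) := by
    rw [Set.disjoint_left]
    intro a ha h
    exact ha (hp₀p h)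
  have hnil₀ : ∀ c ∈ p₀, IsNilpotent (algebraMap A (Localization.AtPrime p) c) := by
    intro c hc
    let N' : Ideal A := (nilradical (Localization.AtPrime p)).comap (algebraMap A _)
    have h1 : N' ≤ p₀ := by
      haveI : (p₀.map (algebraMap A (Localization.AtPrime p))).IsPrime :=
        IsLocalization.isPrime_of_isPrime_disjoint p.primeCompl _ p₀ inferInstance hdisj₀
      have h2 : nilradical (Localization.AtPrime p) ≤ p₀.map (algebraMap A _) :=
        nilradical_le_prime _
      have h3 := Ideal.comap_mono (f := algebraMap A (Localization.AtPrime p)) h2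
      have h4 : (p₀.map (algebraMap A (Localization.AtPrime p))).comap (algebraMap A _) = p₀ :=
        IsLocalization.under_map_of_isPrime_disjoint p.primeCompl _ inferInstance hdisj₀
      rw [h4] at h3
      exact h3
    have h4 : p₀ ≤ N' := hp₀.2 ⟨inferInstance, bot_le⟩ h1
    exact mem_nilradical.mp (h4 hc)
  have hdom : ∀ a : MvPolynomial σ A, algebraMap (MvPolynomial σ A) B₁ a ∈ nilradical B₁ →
      algebraMap (MvPolynomial σ A) (Localization.AtPrime p') a ∈
        nilradical (Localization.AtPrime p') := by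
    intro a ha
    rw [nilradical_eq_zero, Ideal.zero_eq_bot, Ideal.mem_bot, MvPolynomial.algebraMap_def] at ha
    let I : Ideal (MvPolynomial σ A) :=
      (nilradical (Localization.AtPrime p')).comap (algebraMap (MvPolynomial σ A) _)
    have hI : p₀.map (MvPolynomial.C (σ := σ) (R := A)) ≤ I := by
      rw [Ideal.map_le_iff_le_comap]
      intro c hc
      obtain ⟨k, hk⟩ := hnil₀ c hc
      rw [← map_pow, IsLocalization.map_eq_zero_iff p.primeCompl] at hk
      obtain ⟨⟨s, hs⟩, hsc⟩ := hk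
      simp only at hsc
      rw [Ideal.mem_comap, Ideal.mem_comap, mem_nilradical]
      refine ⟨k, ?_⟩
      have hsu : IsUnit (algebraMap (MvPolynomial σ A) (Localization.AtPrime p')
          (MvPolynomial.C s)) :=
        IsLocalization.map_units _ (⟨MvPolynomial.C s, hs⟩ : p'.primeCompl)
      have h5 : algebraMap (MvPolynomial σ A) (Localization.AtPrime p') (MvPolynomial.C s) *
          (algebraMap (MvPolynomial σ A) (Localization.AtPrime p') (MvPolynomial.C c)) ^ k = 0 := by
        rw [← map_pow, ← map_mul, ← map_pow, ← map_mul, hsc, map_zero, map_zero]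
      exact hsu.mul_right_eq_zero.mp h5
    have haI : a ∈ p₀.map (MvPolynomial.C (σ := σ) (R := A)) := by
      rw [MvPolynomial.mem_map_C_iff]
      intro m
      have h6 := congrArg (MvPolynomial.coeff m) ha
      rw [MvPolynomial.coeff_map, MvPolynomial.coeff_zero] at h6
      change algebraMap A B (MvPolynomial.coeff m a) ∈ P
      exact Ideal.Quotient.eq_zero_iff_mem.mp h6
    exact hI haI
  obtain ⟨q₁', hq₁'prime, hq₁'le, hq₁'⟩ := exists_prime_le_of_unibranch'
    (A := MvPolynomial σ A) (B := B₁) hB q₁ p' hpq (Localization.AtPrime p') hdom hGUO.1 p'' hle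
  refine ⟨q₁'.comap π, inferInstance, ?_, ?_⟩
  · rw [← hq₁]
    exact Ideal.comap_mono hq₁'le
  · rw [Ideal.comap_comap, ← hcomp, hq₁']

/-- pointwise openness of `Spec B[T] → Spec A[T]` -/
theorem isOpenAt_comap_mvPolynomial_at {A B : Type u} [CommRing A] [CommRing B] [Algebra A B]
    [IsNoetherianRing A] [Algebra.FiniteType A B] [Algebra.QuasiFinite A B]
    (σ : Type u) [Finite σ] (Q : PrimeSpectrum (MvPolynomial σ B))
    (p₁ : Ideal A) [p₁.IsPrime]
    (hp₁ : (Q.asIdeal.comap (algebraMap (MvPolynomial σ A) (MvPolynomial σ B))).comap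
      (algebraMap A (MvPolynomial σ A)) = p₁)
    (hGU₁ : CAlg2.IsGeomUnibranch (Localization.AtPrime p₁))
    (P : Ideal B) (hPmin : P ∈ minimalPrimes B)
    (hPle : P ≤ Q.asIdeal.comap (MvPolynomial.C (σ := σ) (R := B)))
    (hp₀ : P.comap (algebraMap A B) ∈ minimalPrimes A) :
    EGA43.IsOpenAt (PrimeSpectrum.comap
      (MvPolynomial.map (algebraMap A B) : MvPolynomial σ A →+* MvPolynomial σ B)) Q := by
  haveI : Algebra.FiniteType (MvPolynomial σ A) (MvPolynomial σ B) := finiteType_mvPolynomial A B σ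
  haveI : Algebra.FinitePresentation (MvPolynomial σ A) (MvPolynomial σ B) :=
    Algebra.FinitePresentation.of_finiteType.mp inferInstance
  have hfp : (algebraMap (MvPolynomial σ A) (MvPolynomial σ B)).FinitePresentation :=
    (RingHom.finitePresentation_algebraMap).mpr inferInstance
  refine Groth.Agent.Lib.lead.OpenAt.isOpenAt_comap_of_generalizing
    (algebraMap (MvPolynomial σ A) (MvPolynomial σ B)) hfp Q ?_
  intro p hp
  rw [← PrimeSpectrum.le_iff_specializes] at hp
  obtain ⟨q'', hq''prime, hq''le, hq''⟩ :=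
    exists_prime_le_mvPolynomial_at σ Q.asIdeal p₁ hp₁ hGU₁ P hPmin hPle hp₀ p.asIdeal hp
  exact ⟨⟨q'', hq''prime⟩, (PrimeSpectrum.le_iff_specializes _ _).mp hq''le,
    PrimeSpectrum.ext hq''⟩

end MvPoly

section Scheme

open AlgebraicGeometry.AffineSpace Groth.Agent.Lib.lead.UnivOpenAffine
  Groth.Agent.Lib.lead.OpenAtSch Groth.Agent.Lib.lead.GUPack EGA43 Groth.Agent.Lib.lead.OpenAt

attribute [local instance] MvPolynomial.algebraMvPolynomial

set_option maxHeartbeats 3200000 in
/-- **Pointwise version**: a locally quasi-finite morphism to a locally Noetherian scheme is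
universally open at `x` if the target is geometrically unibranch at `f x` and some maximal point
of `X` above `x` maps to a maximal point of `Y`. -/
theorem isUnivOpenAt_of_lqf_of_gu {X Y : Scheme.{u}} (f : X ⟶ Y) [LocallyQuasiFinite f]
    [LocallyOfFiniteType f] [IsLocallyNoetherian Y] (x : X)
    (hY : CAlg2.IsGeomUnibranch (Y.presheaf.stalk (f x)))
    (hdom : ∃ ξ : X, ξ ⤳ x ∧ (∀ ξ', ξ' ⤳ ξ → ξ' = ξ) ∧ (∀ η', η' ⤳ f ξ → η' = f ξ)) :
    IsUnivOpenAt f x := by
  apply isUnivOpenAt_of_affOpenAt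
  intro n _ q hq
  obtain ⟨V, U, hV, hU, e, hxU, -⟩ := exists_affine_chart f x ⊤ trivial
  have hcomm := hV.SpecMap_appLE_fromSpec f hU e
  have hcomm' : ∀ a, f (hU.fromSpec a) = hV.fromSpec ((Spec.map (f.appLE V U e)) a) := by
    intro a
    rw [← Scheme.Hom.comp_apply, ← Scheme.Hom.comp_apply, hcomm]
  obtain ⟨x₀, hx₀⟩ : x ∈ Set.range hU.fromSpec := by rw [hU.range_fromSpec]; exact hxU
  obtain ⟨q₁, hq₁, hq₁x⟩ := Scheme.exists_preimage_of_isPullback
    (isPullback_map (n := n) hU.fromSpec) q x₀ (by rw [hq, hx₀])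
  rw [← hq₁]
  have hiV := isOpenImmersion_map n hV.fromSpec
  have hcommA : AffineSpace.map n (Spec.map (f.appLE V U e)) ≫ AffineSpace.map n hV.fromSpec =
      AffineSpace.map n hU.fromSpec ≫ AffineSpace.map n f := by
    rw [← map_comp, ← map_comp, hcomm]
  refine isOpenAt_of_chart (F₀ := (AffineSpace.map n (Spec.map (f.appLE V U e))).base)
    (j := (AffineSpace.map n hU.fromSpec).base) (ι := (AffineSpace.map n hV.fromSpec).base)
    (AffineSpace.map n hU.fromSpec).continuous
    (AffineSpace.map n hV.fromSpec).isOpenEmbedding.isOpenMap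
    (fun a => congr(($hcommA.symm).base a)) q₁ ?_
  have hft : (f.appLE V U e).hom.FiniteType := f.finiteType_appLE hV hU e
  have hqf : (f.appLE V U e).hom.QuasiFinite :=
    HasRingHomProperty.appLE @LocallyQuasiFinite f inferInstance ⟨V, hV⟩ ⟨U, hU⟩ e
  haveI : IsNoetherianRing Γ(Y, V) := IsLocallyNoetherian.component_noetherian ⟨V, hV⟩
  obtain ⟨φ, hφ⟩ : ∃ φ : Γ(Y, V) ⟶ Γ(X, U), φ = f.appLE V U e := ⟨_, rfl⟩
  rw [← hφ] at hft hqf hcomm' ⊢
  rw [map_SpecMap]
  set Q := (SpecIso n Γ(X, U)).hom.base q₁ with hQ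
  have hq₁Q : q₁ = (SpecIso n Γ(X, U)).inv.base Q := by
    rw [hQ, ← Scheme.Hom.comp_apply, Iso.hom_inv_id]
    rfl
  rw [hq₁Q]
  refine isOpenAt_of_chart (F₀ := PrimeSpectrum.comap (MvPolynomial.map φ.hom))
    (j := (SpecIso n Γ(X, U)).inv.base) (ι := (SpecIso n Γ(Y, V)).inv.base)
    (SpecIso n Γ(X, U)).inv.continuous (SpecIso n Γ(Y, V)).inv.homeomorph.isOpenMap
    (fun a => ?_) Q ?_
  · rw [← Scheme.Hom.comp_apply, Iso.inv_hom_id_assoc]
    rfl
  algebraize [φ.hom]
  haveI : Algebra.QuasiFinite Γ(Y, V) Γ(X, U) := hqf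
  -- the point `Q` lies over `x₀`
  have hQx₀ : Q.asIdeal.comap (MvPolynomial.C (σ := n) (R := Γ(X, U))) = x₀.asIdeal := by
    have h1 : (𝔸(n; Spec Γ(X, U)) ↘ Spec Γ(X, U)).base ((SpecIso n Γ(X, U)).inv.base Q) = x₀ := by
      rw [← hq₁Q]; exact hq₁x
    rw [← Scheme.Hom.comp_apply, SpecIso_inv_over] at h1
    exact congrArg PrimeSpectrum.asIdeal h1
  let y : PrimeSpectrum Γ(Y, V) := Spec.map φ x₀
  have hfx : f x = hV.fromSpec y := by rw [← hx₀, hcomm']
  have hyV : hV.fromSpec y ∈ V := by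
    have := hV.range_fromSpec
    rw [← SetLike.mem_coe, ← this]
    exact ⟨y, rfl⟩
  have hGU₁ : CAlg2.IsGeomUnibranch (Localization.AtPrime y.asIdeal) := by
    letI := TopCat.Presheaf.algebra_section_stalk Y.presheaf ⟨hV.fromSpec y, hyV⟩
    haveI : IsLocalization.AtPrime (Y.presheaf.stalk (hV.fromSpec y)) y.asIdeal :=
      hV.isLocalization_stalk' y hyV
    have hY' : CAlg2.IsGeomUnibranch (Y.presheaf.stalk (hV.fromSpec y)) := hfx ▸ hY
    exact of_ringEquiv (IsLocalization.algEquiv y.asIdeal.primeCompl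
      (Localization.AtPrime y.asIdeal) (Y.presheaf.stalk (hV.fromSpec y))).toRingEquiv hY'
  have hp₁ : (Q.asIdeal.comap (algebraMap (MvPolynomial n Γ(Y, V)) (MvPolynomial n Γ(X, U)))).comap
      (algebraMap Γ(Y, V) (MvPolynomial n Γ(Y, V))) = y.asIdeal := by
    rw [Ideal.comap_comap]
    have h2 : (algebraMap (MvPolynomial n Γ(Y, V)) (MvPolynomial n Γ(X, U))).comp
        (algebraMap Γ(Y, V) (MvPolynomial n Γ(Y, V))) =
        (MvPolynomial.C (σ := n) (R := Γ(X, U))).comp (algebraMap Γ(Y, V) Γ(X, U)) := by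
      refine RingHom.ext fun a => ?_
      rw [RingHom.comp_apply, RingHom.comp_apply, MvPolynomial.algebraMap_def,
        MvPolynomial.algebraMap_eq, MvPolynomial.map_C]
    rw [h2, ← Ideal.comap_comap, hQx₀]
    rfl
  -- the minimal prime
  obtain ⟨ξ, hξx, hξmax, hfξmax⟩ := hdom
  have hξU : ξ ∈ U := hξx.mem_open U.isOpen hxU
  obtain ⟨P', hP'⟩ : ξ ∈ Set.range hU.fromSpec := by rw [hU.range_fromSpec]; exact hξU
  have hP'x₀ : P'.asIdeal ≤ x₀.asIdeal := by
    have h1 : P' ⤳ x₀ := hU.fromSpec.isOpenEmbedding.isInducing.specializes_iff.mp (by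
      rw [hP', hx₀]; exact hξx)
    exact (PrimeSpectrum.le_iff_specializes P' x₀).mpr h1
  have hPmin : P'.asIdeal ∈ minimalPrimes Γ(X, U) := by
    refine ⟨⟨P'.isPrime, bot_le⟩, ?_⟩
    rintro P'' ⟨hP''prime, -⟩ hle
    let z : PrimeSpectrum Γ(X, U) := ⟨P'', hP''prime⟩
    have h1 : z ⤳ P' := (PrimeSpectrum.le_iff_specializes z P').mp hle
    have h2 : hU.fromSpec z ⤳ ξ := by
      rw [← hP']
      exact h1.map hU.fromSpec.continuous
    have h3 := hξmax _ h2
    rw [← hP'] at h3
    have h4 : z = P' := hU.fromSpec.isOpenEmbedding.injective h3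
    rw [← h4]
  have hp₀ : P'.asIdeal.comap (algebraMap Γ(Y, V) Γ(X, U)) ∈ minimalPrimes Γ(Y, V) := by
    refine ⟨⟨inferInstance, bot_le⟩, ?_⟩
    rintro p' ⟨hp'prime, -⟩ hle
    let yp' : PrimeSpectrum Γ(Y, V) := ⟨p', hp'prime⟩
    have h5 : yp' ⤳ Spec.map φ P' :=
      (PrimeSpectrum.le_iff_specializes yp' (Spec.map φ P')).mp hle
    have h6 : hV.fromSpec yp' ⤳ f ξ := by
      rw [← hP', hcomm']
      exact h5.map hV.fromSpec.continuous
    have h7 := hfξmax _ h6
    rw [← hP', hcomm'] at h7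
    have h8 := hV.fromSpec.isOpenEmbedding.injective h7
    have h9 : p' = P'.asIdeal.comap (algebraMap Γ(Y, V) Γ(X, U)) :=
      congrArg PrimeSpectrum.asIdeal h8
    rw [h9]
  exact isOpenAt_comap_mvPolynomial_at n Q y.asIdeal hp₁ hGU₁ P'.asIdeal hPmin
    (by rw [hQx₀]; exact hP'x₀) hp₀

end Scheme

section Equidim

open AlgebraicGeometry.AffineSpace EGA43 Groth.Agent.Lib.Helper9.UnivOpen Groth.Agent.Lib.Helper7

theorem isUnivOpenAt_of_universallyOpen {X Y : Scheme.{u}} (f : X ⟶ Y) [UniversallyOpen f] (x : X) :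
    IsUnivOpenAt f x := by
  intro Y' g x' _
  exact isOpenAt_of_isOpenMap (pullback.snd f g).isOpenMap x'

/-- **Chevalley's criterion, pointwise**: equidimensional at `x` over a point where the locally
Noetherian base is geometrically unibranch implies universally open at `x`. -/
theorem isUnivOpenAt_of_isEquidimAt {X Y : Scheme.{u}} [IsLocallyNoetherian Y] (f : X ⟶ Y)
    [LocallyOfFiniteType f] (x : X) (hY : CAlg2.IsGeomUnibranch (Y.presheaf.stalk (f x)))
    (h : EGA43.IsEquidimAt f x) : IsUnivOpenAt f x := by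
  obtain ⟨e, U, g, hxU, hg, hqf, hcomp⟩ := (Groth.Agent.S3386.result f x).1 h
  haveI := hqf
  haveI : LocallyOfFiniteType (g ≫ (𝔸(ULift.{u} (Fin e); Y) ↘ Y)) := by
    rw [hg]; infer_instance
  haveI : LocallyOfFiniteType g :=
    locallyOfFiniteType_of_comp g (𝔸(ULift.{u} (Fin e); Y) ↘ Y)
  haveI : IsLocallyNoetherian 𝔸(ULift.{u} (Fin e); Y) :=
    LocallyOfFiniteType.isLocallyNoetherian (𝔸(ULift.{u} (Fin e); Y) ↘ Y)
  let xU : (U : Scheme.{u}) := ⟨x, hxU⟩
  have hgx : (𝔸(ULift.{u} (Fin e); Y) ↘ Y) (g xU) = f x := by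
    rw [← Scheme.Hom.comp_apply, hg]
    rfl
  have hGU : CAlg2.IsGeomUnibranch ((𝔸(ULift.{u} (Fin e); Y)).presheaf.stalk (g xU)) :=
    Groth.Agent.Lib.lead.GUAffineSpace.gu_stalk_affineSpace _ (g xU) (hgx ▸ hY)
  have hdom : ∃ ξ : (U : Scheme.{u}), ξ ⤳ xU ∧ (∀ ξ', ξ' ⤳ ξ → ξ' = ξ) ∧
      (∀ η', η' ⤳ g ξ → η' = g ξ) := by
    obtain ⟨Z, hZ, hxZ⟩ : ∃ Z ∈ irreducibleComponents (U : Scheme.{u}), xU ∈ Z :=
      ⟨irreducibleComponent xU, irreducibleComponent_mem_irreducibleComponents xU,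
        mem_irreducibleComponent⟩
    obtain ⟨ξ, hξ⟩ := QuasiSober.sober hZ.1 (isClosed_of_mem_irreducibleComponents Z hZ)
    refine ⟨ξ, hξ.specializes hxZ, ?_, ?_⟩
    · apply (AffPts.closure_mem_irreducibleComponents_iff ξ).mp
      rw [hξ.def]
      exact hZ
    · apply (AffPts.closure_mem_irreducibleComponents_iff (g ξ)).mp
      have h1 : IsGenericPoint (g ξ) (closure (g '' Z)) := hξ.image g.continuous
      rw [h1.def]
      exact hcomp Z hZ
  have h1 := isUnivOpenAt_of_lqf_of_gu g xU hGU hdom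
  haveI := Groth.Agent.Lib.lead.ChevalleyCrit.universallyOpen_over (ULift.{u} (Fin e)) Y
  have h2 : IsUnivOpenAt (𝔸(ULift.{u} (Fin e); Y) ↘ Y) (g xU) :=
    isUnivOpenAt_of_universallyOpen _ _
  have h3 := isUnivOpenAt_comp g (𝔸(ULift.{u} (Fin e); Y) ↘ Y) xU h1 h2
  rw [hg] at h3
  exact isUnivOpenAt_right_of_comp U.ι f xU h3

end Equidim

end Groth.Agent.Lib.lead.UnibranchUnivOpenAt
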