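import Mathlib
import Groth.Prelude.Def_EGA43
import Groth.Agent.Lib.lead.UnibranchUnivOpenAt
import Groth.Agent.Lib.Helper24.OpenAt.Main4919
import Groth.Agent.Lib.Helper24.FibreDim.Main3456

set_option autoImplicit false
set_option linter.style.haveILetI false
open CategoryTheory CategoryTheory.Limits AlgebraicGeometry TopologicalSpace Topology
open Groth.Agent.Lib.Helper7 Groth.Agent.Lib.lead Groth.Agent.Lib.Helper18
open Groth.Agent.Lib.Helper24 Groth.Agent.Lib.Helper24.FibreDim Groth.Agent.Lib.Helper24.OpenAt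

universe u

namespace Groth.Agent.Lib.lead.UnivOpenGU

open EGA43 Groth.Agent.Lib.Helper9.UnivOpen Groth.Agent.Lib.lead.UnibranchUnivOpenAt

variable {X Y : Scheme.{u}}

/-- **Condition b) implies universally open**: if `x` lies on the closure of a point `ξ` whose
image is a maximal point of `Y`, and the local dimension at `x` of `closure {ξ} ∩ f⁻¹(f x)` is at
most the residue transcendence degree at `ξ`, then `f` is universally open at `x` when `Y` is
geometrically unibranch at `f x`. -/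
theorem isUnivOpenAt_of_condB [IsLocallyNoetherian Y] (f : X ⟶ Y) [LocallyOfFiniteType f] (x : X)
    (hY : CAlg2.IsGeomUnibranch (Y.presheaf.stalk (f x)))
    (ξ : X) (hξx : ξ ⤳ x) (hfξmax : ∀ η' : Y, η' ⤳ f ξ → η' = f ξ)
    (hx : x ∈ closure ({ξ} : Set X) ∩ f ⁻¹' {f x})
    (hdim : FlatMor.localDim ↥(closure ({ξ} : Set X) ∩ f ⁻¹' {f x}) ⟨x, hx⟩ ≤
      ((tr f ξ : ℕ) : WithBot ℕ∞)) :
    IsUnivOpenAt f x := by
  set X' : TopologicalSpace.Closeds X := ⟨closure {ξ}, isClosed_closure⟩ with hX'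
  set ι := (Scheme.IdealSheafData.vanishingIdeal X').subschemeι with hι
  have hemb : IsClosedEmbedding ι := ι.isClosedEmbedding
  have hr : Set.range ι = closure ({ξ} : Set X) :=
    (Scheme.IdealSheafData.vanishingIdeal X').range_subschemeι.trans
      (Scheme.IdealSheafData.coe_support_vanishingIdeal X')
  have hxr : x ∈ Set.range ι := by
    rw [hr]
    exact hx.1
  obtain ⟨w₀, hw₀⟩ := hxr
  have hξr : ξ ∈ Set.range ι := by
    rw [hr]
    exact subset_closure rfl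
  obtain ⟨w', hw'⟩ := hξr
  have hgen : ∀ ζ : ↥(Scheme.IdealSheafData.vanishingIdeal X').subscheme, w' ⤳ ζ := by
    intro ζ
    rw [← hemb.isInducing.specializes_iff, specializes_iff_mem_closure, hw', ← hr]
    exact Set.mem_range_self ζ
  have hL := localDim_inter_fibre_eq' ι hemb f (closure ({ξ} : Set X)) hr w₀ x hw₀ hx
  rw [hL] at hdim
  have htrw' : tr (ι ≫ f) w' = tr f ξ := by
    rw [tr_comp_of_bijective ι f w' (residueFieldMap_bijective_of_surjectiveOnStalks ι w'), hw']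
  have hfw' : FlatMor.fibreDimAt (ι ≫ f) w' = ((tr f ξ : ℕ) : WithBot ℕ∞) := by
    rw [fibreDimAt_of_fibre_max (ι ≫ f) w' (fun z' _ hz' => ((hgen z').antisymm hz').eq.symm),
      htrw']
  have hU1 : IsOpen {w : ↥(Scheme.IdealSheafData.vanishingIdeal X').subscheme |
      FlatMor.fibreDimAt (ι ≫ f) w ≤ ((tr f ξ : ℕ) : WithBot ℕ∞)} :=
    Chev.isOpen_fibreDimAt_le (ι ≫ f) (tr f ξ)
  have hE : EGA43.IsEquidimAt (ι ≫ f) w₀ := by
    refine isEquidimAt_of_points' (ι ≫ f) w₀ (tr f ξ) ⟨_, hU1⟩ hdim ?_ ?_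
    · intro ζ _ hζmax
      have h1 : w' = ζ := hζmax w' (hgen ζ)
      subst h1
      have h2 : (ι ≫ f) w' = f ξ := by
        show f (ι w') = f ξ
        rw [hw']
      have h3 : (ι ≫ f) w₀ = f x := by
        show f (ι w₀) = f x
        rw [hw₀]
      rw [h2, h3]
      exact ⟨hξx.map f.continuous, hfξmax⟩
    · intro ζ hζU hζmax
      have h1 : FlatMor.fibreDimAt (ι ≫ f) ζ = ((tr (ι ≫ f) ζ : ℕ) : WithBot ℕ∞) :=
        fibreDimAt_of_fibre_max (ι ≫ f) ζ hζmax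
      have h2 : FlatMor.fibreDimAt (ι ≫ f) ζ ≤ ((tr f ξ : ℕ) : WithBot ℕ∞) := hζU
      have h3 := fibreDimAt_mono (ι ≫ f) (hgen ζ)
      rw [hfw', h1] at h3
      rw [h1] at h2
      have h4 : tr (ι ≫ f) ζ ≤ tr f ξ := by exact_mod_cast h2
      have h5 : tr f ξ ≤ tr (ι ≫ f) ζ := by exact_mod_cast h3
      omega
  have hY' : CAlg2.IsGeomUnibranch (Y.presheaf.stalk ((ι ≫ f) w₀)) := by
    have h3 : (ι ≫ f) w₀ = f x := by
      show f (ι w₀) = f x
      rw [hw₀]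
    exact h3 ▸ hY
  have h6 := isUnivOpenAt_of_isEquidimAt (ι ≫ f) w₀ hY' hE
  have h7 := isUnivOpenAt_right_of_comp ι f w₀ h6
  rwa [hw₀] at h7

/-- the transcendence degree at a point of an open subset bounds the dimension of the fibre of
the open subset below -/
theorem tr_le_dim_inter_fibre (f : X ⟶ Y) [LocallyOfFiniteType f] (U : X.Opens) (z : X)
    (hz : z ∈ U) :
    ((tr f z : ℕ) : WithBot ℕ∞) ≤ topologicalKrullDim ↥((U : Set X) ∩ f ⁻¹' {f z}) := by
  let zU : (U : Scheme.{u}) := ⟨z, hz⟩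
  have h1 := dim_closure_inter_fibre (U.ι ≫ f) zU
  rw [tr_comp_openImmersion U.ι f zU] at h1
  have hz' : U.ι zU = z := rfl
  rw [hz'] at h1
  rw [← h1]
  let ψ : ↥(closure ({zU} : Set (U : Scheme.{u})) ∩ (U.ι ≫ f) ⁻¹' {(U.ι ≫ f) zU}) →
      ↥((U : Set X) ∩ f ⁻¹' {f z}) := fun a => ⟨a.1.1, a.1.2, a.2.2⟩
  have hψc : Continuous ψ :=
    Continuous.subtype_mk (continuous_subtype_val.comp continuous_subtype_val) _
  have hψ : IsInducing ψ := by
    refine IsInducing.of_comp hψc continuous_subtype_val ?_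
    exact (U.ι.isOpenEmbedding.isInducing.comp IsInducing.subtypeVal :
      IsInducing (⇑U.ι ∘ (Subtype.val : ↥(closure ({zU} : Set (U : Scheme.{u})) ∩
        (U.ι ≫ f) ⁻¹' {(U.ι ≫ f) zU}) → (U : Scheme.{u}))))
  exact hψ.topologicalKrullDim_le

/-- a fibre of dimension at least `d` contains a point of residue transcendence degree at least
`d` -/
theorem exists_tr_ge_of_le_dim (g : X ⟶ Y) [LocallyOfFiniteType g] (y : Y) (d : ℕ)
    (hd : ((d : ℕ) : WithBot ℕ∞) ≤ topologicalKrullDim ↥(g ⁻¹' {y})) :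
    ∃ z : X, g z = y ∧ d ≤ tr g z := by
  have h0 : topologicalKrullDim ↥(g ⁻¹' {y}) = topologicalKrullDim (g.fiber y) :=
    (IsHomeomorph.topologicalKrullDim_eq _ (g.fiberHomeo y).isHomeomorph).symm
  rw [h0, StalkDimIneq.topologicalKrullDim_eq_krullDim (g.fiber y),
    Order.krullDim_eq_of_orderIso (FibreOrder.fiberOrderIso g y)] at hd
  obtain ⟨l, hl⟩ := (Order.le_krullDim_iff).mp hd
  let c : Fin (l.length + 1) → X := fun i => (l i).1
  have hc : StrictMono c := fun i j hij => l.strictMono hij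
  have hfc : ∀ i, g (c i) = y := fun i => (l i).2
  have h1 := tr_add_le_of_strictMono g c hc (fun i => (hfc i).trans (hfc 0).symm) (Fin.last _)
  simp only [Fin.val_last] at h1
  exact ⟨c (Fin.last _), hfc _, by omega⟩

/-- version of `exists_tr_ge_of_le_dim` for the fibre of an open subset -/
theorem exists_tr_ge_of_le_dim_open (f : X ⟶ Y) [LocallyOfFiniteType f] (U : X.Opens) (y : Y)
    (d : ℕ) (hd : ((d : ℕ) : WithBot ℕ∞) ≤ topologicalKrullDim ↥((U : Set X) ∩ f ⁻¹' {y})) :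
    ∃ z : X, z ∈ U ∧ f z = y ∧ d ≤ tr f z := by
  let ψ : ↥((U : Set X) ∩ f ⁻¹' {y}) → ↥((U.ι ≫ f) ⁻¹' {y}) := fun a => ⟨⟨a.1, a.2.1⟩, a.2.2⟩
  have hψc : Continuous ψ :=
    Continuous.subtype_mk (Continuous.subtype_mk continuous_subtype_val _) _
  have hψ : IsInducing ψ := by
    refine IsInducing.of_comp hψc (U.ι.continuous.comp continuous_subtype_val) ?_
    exact (IsInducing.subtypeVal :
      IsInducing (Subtype.val : ↥((U : Set X) ∩ f ⁻¹' {y}) → X))
  have h1 := hd.trans hψ.topologicalKrullDim_le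
  obtain ⟨zU, hzU, hdz⟩ := exists_tr_ge_of_le_dim (U.ι ≫ f) y d h1
  rw [tr_comp_openImmersion U.ι f zU] at hdz
  exact ⟨U.ι zU, zU.2, hzU, hdz⟩

/-- a maximal point above a given point -/
theorem exists_max_gen (ζ : X) : ∃ ξ : X, ξ ⤳ ζ ∧ ∀ ξ' : X, ξ' ⤳ ξ → ξ' = ξ := by
  obtain ⟨ξ, hle, hξmax⟩ := FibreOrder.exists_isMax_ge ζ
  refine ⟨ξ, hle, ?_⟩
  intro ξ' hξ'
  have h3 : ξ ≤ ξ' := hξ'
  have h4 : ξ' ≤ ξ := hξmax h3
  exact (Specializes.antisymm hξ' h4).eq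

/-- the data of condition b), in terms of points -/
def CondB (f : X ⟶ Y) [LocallyOfFiniteType f] (x : X) (η : Y) : Prop :=
  ∃ ξ : X, (∀ ξ' : X, ξ' ⤳ ξ → ξ' = ξ) ∧ ξ ⤳ x ∧ f ξ = η ∧
    ∀ hx : x ∈ closure ({ξ} : Set X) ∩ f ⁻¹' {f x},
      FlatMor.localDim ↥(closure ({ξ} : Set X) ∩ f ⁻¹' {f x}) ⟨x, hx⟩ =
        ((tr f ξ : ℕ) : WithBot ℕ∞)

theorem isUnivOpenAt_of_CondB [IsLocallyNoetherian Y] (f : X ⟶ Y) [LocallyOfFiniteType f] (x : X)
    (hY : CAlg2.IsGeomUnibranch (Y.presheaf.stalk (f x))) (η : Y)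
    (hη : ∀ η' : Y, η' ⤳ η → η' = η) (h : CondB f x η) : IsUnivOpenAt f x := by
  obtain ⟨ξ, -, hξx, hfξ, hdim⟩ := h
  have hx : x ∈ closure ({ξ} : Set X) ∩ f ⁻¹' {f x} :=
    ⟨specializes_iff_mem_closure.mp hξx, rfl⟩
  exact isUnivOpenAt_of_condB f x hY ξ hξx (by rw [hfξ]; exact hη) hx (hdim hx).le

/-- **Open at a suitable maximal point of the fibre gives condition b)** -/
theorem CondB_of_isOpenAt [IsLocallyNoetherian Y] (f : X ⟶ Y) [LocallyOfFiniteType f] (x z : X)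
    (hfz : f z = f x) (hzx : z ⤳ x) (hzmax : ∀ z' : X, f z' = f z → z' ⤳ z → z' = z)
    (htr : ((tr f z : ℕ) : WithBot ℕ∞) = FlatMor.fibreDimAt f x)
    (hop : IsOpenAt f.base z) (η : Y) (hη : ∀ η' : Y, η' ⤳ η → η' = η) (hηx : η ⤳ f x) :
    CondB f x η := by
  obtain ⟨ξ', hξ'z, hfξ', htr'⟩ := exists_gen_tr_eq f z hzmax hop η (hfz ▸ hηx)
  have hξ'max := isMax_of_tr_eq f z ξ' hzmax hξ'z htr' (by rw [hfξ']; exact hη)
  refine ⟨ξ', hξ'max, hξ'z.trans hzx, hfξ', ?_⟩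
  intro hx
  obtain ⟨k1, -, k3⟩ := closure_fibre_facts f x ξ' (hξ'z.trans hzx) hx
  have h1 := k1 z hfz hzx hξ'z
  rw [← htr] at k3
  rw [htr']
  exact le_antisymm k3 h1

/-- **Dimension of nearby fibres gives condition b)** -/
theorem CondB_of_le_dim [IsLocallyNoetherian Y] (f : X ⟶ Y) [LocallyOfFiniteType f] (x : X)
    (d : ℕ) (hd : FlatMor.fibreDimAt f x = ((d : ℕ) : WithBot ℕ∞))
    (η : Y) (hη : ∀ η' : Y, η' ⤳ η → η' = η)
    (h : ∀ U : X.Opens, x ∈ U →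
      ((d : ℕ) : WithBot ℕ∞) ≤ topologicalKrullDim ↥((U : Set X) ∩ f ⁻¹' {η})) :
    CondB f x η := by
  haveI : IsLocallyNoetherian X := LocallyOfFiniteType.isLocallyNoetherian f
  obtain ⟨U0, hU0open, hxU0, hU0⟩ := JacDim.exists_nhd (X := X) Set.univ isClosed_univ x
  obtain ⟨z, hzU, hfz, hdz⟩ := exists_tr_ge_of_le_dim_open f ⟨U0, hU0open⟩ η d
    (h ⟨U0, hU0open⟩ hxU0)
  obtain ⟨μ, -, hμz, hμx⟩ := hU0 z ⟨hzU, trivial⟩
  obtain ⟨ξ, hξμ, hξmax⟩ := exists_max_gen μ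
  have hξz : ξ ⤳ z := hξμ.trans hμz
  have hξx : ξ ⤳ x := hξμ.trans hμx
  have hfξ : f ξ = η := by
    have h1 : f ξ ⤳ η := hfz ▸ hξz.map f.continuous
    exact hη _ h1
  have h2 : tr f z ≤ tr f ξ := tr_le_of_le f hξz (hfz.trans hfξ.symm)
  refine ⟨ξ, hξmax, hξx, hfξ, ?_⟩
  intro hx
  obtain ⟨-, k2, k3⟩ := closure_fibre_facts f x ξ hξx hx
  have h3 := k2 hξmax
  rw [hd] at k3
  have h4 : ((tr f ξ : ℕ) : WithBot ℕ∞) ≤ ((d : ℕ) : WithBot ℕ∞) := h3.trans k3
  have h5 : tr f ξ ≤ d := by exact_mod_cast h4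
  have h6 : tr f ξ = d := by omega
  rw [h6]
  rw [h6] at h3
  exact le_antisymm k3 h3

/-- from the point form of condition b) to the form in the statements -/
theorem exists_component_of_CondB (f : X ⟶ Y) [LocallyOfFiniteType f] (x : X) (η : Y)
    (h : CondB f x η) :
    ∃ Z ∈ irreducibleComponents (X : Type u), ∃ hx : x ∈ Z,
      closure (f.base '' Z) = closure {η} ∧
      FlatMor.localDim ↥(Z ∩ f.base ⁻¹' {f.base x}) ⟨x, ⟨hx, rfl⟩⟩ =
        topologicalKrullDim ↥(Z ∩ f.base ⁻¹' {η}) := by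
  obtain ⟨ξ, hξmax, hξx, hfξ, hdim⟩ := h
  have hx : x ∈ closure ({ξ} : Set X) := specializes_iff_mem_closure.mp hξx
  refine ⟨closure {ξ}, (AffPts.closure_mem_irreducibleComponents_iff ξ).mpr hξmax, hx, ?_, ?_⟩
  · rw [← hfξ]
    exact closure_image_closure_singleton f f.continuous ξ
  · rw [hdim ⟨hx, rfl⟩, ← hfξ]
    exact (dim_closure_inter_fibre f ξ).symm

/-- from the form in the statements to the point form of condition b) -/
theorem CondB_of_component (f : X ⟶ Y) [LocallyOfFiniteType f] (x : X) (η : Y)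
    (Z : Set X) (hZ : Z ∈ irreducibleComponents (X : Type u)) (hx : x ∈ Z)
    (hcl : closure (f.base '' Z) = closure {η})
    (hdim : FlatMor.localDim ↥(Z ∩ f.base ⁻¹' {f.base x}) ⟨x, ⟨hx, rfl⟩⟩ =
      topologicalKrullDim ↥(Z ∩ f.base ⁻¹' {η})) : CondB f x η := by
  obtain ⟨ξ, hξ⟩ := QuasiSober.sober hZ.1 (isClosed_of_mem_irreducibleComponents Z hZ)
  obtain rfl : closure ({ξ} : Set X) = Z := hξ.def
  have hξmax := (AffPts.closure_mem_irreducibleComponents_iff ξ).mp hZ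
  have hfξ : f ξ = η := by
    have h1 : closure ({f ξ} : Set Y) = closure {η} := by
      rw [← hcl]
      exact (closure_image_closure_singleton f f.continuous ξ).symm
    have h2 : IsGenericPoint (f ξ) (closure ({η} : Set Y)) := h1
    exact h2.eq isGenericPoint_closure
  refine ⟨ξ, hξmax, specializes_iff_mem_closure.mpr hx, hfξ, ?_⟩
  intro hx'
  have h3 := dim_closure_inter_fibre f ξ
  rw [hfξ] at h3
  rw [← h3, ← hdim]

end Groth.Agent.Lib.lead.UnivOpenGU
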