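import Mathlib
import Groth.Prelude.Def_EGA43
import Groth.Agent.Lib.lead.UnivOpenGU

set_option autoImplicit false
set_option linter.style.haveILetI false
open CategoryTheory CategoryTheory.Limits AlgebraicGeometry TopologicalSpace Topology
open Groth.Agent.Lib.Helper7 Groth.Agent.Lib.lead Groth.Agent.Lib.Helper18
open Groth.Agent.Lib.Helper24 Groth.Agent.Lib.Helper24.FibreDim Groth.Agent.Lib.Helper24.OpenAt

universe u

namespace Groth.Agent.Lib.lead.UnivOpenGUMax

open EGA43 Groth.Agent.Lib.Helper9.UnivOpen Groth.Agent.Lib.lead.UnibranchUnivOpenAt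
  Groth.Agent.Lib.lead.UnivOpenGU

variable {X Y : Scheme.{u}}

/-- the generic point of an irreducible component -/
theorem exists_generic_of_component (Y₀ : Set Y) (hY₀ : Y₀ ∈ irreducibleComponents (Y : Type u)) :
    ∃ η : Y, closure ({η} : Set Y) = Y₀ ∧ (∀ η' : Y, η' ⤳ η → η' = η) ∧ ∀ y ∈ Y₀, η ⤳ y := by
  obtain ⟨η, hη⟩ := QuasiSober.sober hY₀.1 (isClosed_of_mem_irreducibleComponents Y₀ hY₀)
  refine ⟨η, hη.def, ?_, fun y hy => hη.specializes hy⟩
  apply (AffPts.closure_mem_irreducibleComponents_iff η).mp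
  rw [hη.def]
  exact hY₀

/-- translation between the statement form and the point form of condition b) -/
theorem stmtB_iff (f : X ⟶ Y) [LocallyOfFiniteType f] (x : X) (Y₀ : Set Y) (η : Y)
    (hη : closure ({η} : Set Y) = Y₀) :
    (∃ Z ∈ irreducibleComponents (X : Type u), ∃ hx : x ∈ Z, closure (f.base '' Z) = Y₀ ∧
      ∀ η' : Y, closure ({η'} : Set Y) = Y₀ →
        FlatMor.localDim ↥(Z ∩ f.base ⁻¹' {f.base x}) ⟨x, ⟨hx, rfl⟩⟩ =
          topologicalKrullDim ↥(Z ∩ f.base ⁻¹' {η'})) ↔ CondB f x η := by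
  constructor
  · rintro ⟨Z, hZ, hx, hcl, hdim⟩
    exact CondB_of_component f x η Z hZ hx (hcl.trans hη.symm) (hdim η hη)
  · intro h
    obtain ⟨Z, hZ, hx, hcl, hdim⟩ := exists_component_of_CondB f x η h
    refine ⟨Z, hZ, hx, hcl.trans hη, ?_⟩
    intro η' hη'
    have h1 : IsGenericPoint η' (closure ({η} : Set Y)) := hη'.trans hη.symm
    obtain rfl : η' = η := h1.eq isGenericPoint_closure
    exact hdim

theorem main {X Y : Scheme.{u}} [IsLocallyNoetherian Y] (f : X ⟶ Y)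
    [LocallyOfFiniteType f] (x : X)
    (hmax : ∀ x' : X, f.base x' = f.base x → x ∈ closure {x'} → x' = x)
    (hy : CAlg2.IsGeomUnibranch (Y.presheaf.stalk (f.base x))) :
    List.TFAE [EGA43.IsUnivOpenAt f x,
      (∀ Y₀ ∈ irreducibleComponents (Y : Type u), f.base x ∈ Y₀ →
        ∃ Z ∈ irreducibleComponents (X : Type u), ∃ hx : x ∈ Z, closure (f.base '' Z) = Y₀ ∧
          ∀ η : Y, closure ({η} : Set Y) = Y₀ →
            FlatMor.localDim ↥(Z ∩ f.base ⁻¹' {f.base x}) ⟨x, ⟨hx, rfl⟩⟩ =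
              topologicalKrullDim ↥(Z ∩ f.base ⁻¹' {η})),
      (∀ U : X.Opens, x ∈ U → ∀ y' : Y, y' ⤳ f.base x →
        FlatMor.fibreDimAt f x ≤ topologicalKrullDim ↥((U : Set X) ∩ f.base ⁻¹' {y'})),
      EGA43.IsOpenAt f.base x] := by
  have hmax' : ∀ z' : X, f z' = f x → z' ⤳ x → z' = x :=
    fun z' h1 h2 => hmax z' h1 (specializes_iff_mem_closure.mp h2)
  have hfd : FlatMor.fibreDimAt f x = ((tr f x : ℕ) : WithBot ℕ∞) :=
    fibreDimAt_of_fibre_max f x hmax'
  tfae_have 1 → 4 := isUnivOpenAt_isOpenAt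
  tfae_have 4 → 2 := by
    intro hop Y₀ hY₀ hxY₀
    obtain ⟨η, hη, hηmax, hηsp⟩ := exists_generic_of_component Y₀ hY₀
    rw [stmtB_iff f x Y₀ η hη]
    exact CondB_of_isOpenAt f x x rfl (specializes_refl x) hmax' hfd.symm hop η hηmax
      (hηsp _ hxY₀)
  tfae_have 2 → 1 := by
    intro hb
    have hY₀ := irreducibleComponent_mem_irreducibleComponents (f x)
    obtain ⟨η, hη, hηmax, hηsp⟩ := exists_generic_of_component _ hY₀
    have h1 := hb _ hY₀ mem_irreducibleComponent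
    rw [stmtB_iff f x _ η hη] at h1
    exact isUnivOpenAt_of_CondB f x hy η hηmax h1
  tfae_have 4 → 3 := by
    intro hop U hxU y' hy'
    obtain ⟨ξ', hξ'x, hfξ', htr⟩ := exists_gen_tr_eq f x hmax' hop y' hy'
    subst hfξ'
    rw [hfd, ← htr]
    exact tr_le_dim_inter_fibre f U ξ' (hξ'x.mem_open U.isOpen hxU)
  tfae_have 3 → 2 := by
    intro hb' Y₀ hY₀ hxY₀
    obtain ⟨η, hη, hηmax, hηsp⟩ := exists_generic_of_component Y₀ hY₀
    rw [stmtB_iff f x Y₀ η hη]
    refine CondB_of_le_dim f x (tr f x) hfd η hηmax (fun U hxU => ?_)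
    rw [← hfd]
    exact hb' U hxU η (hηsp _ hxY₀)
  tfae_finish

end Groth.Agent.Lib.lead.UnivOpenGUMax

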