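import Mathlib
import Groth.Prelude.Def_EGA43
import Groth.Agent.Lib.lead.UnivOpenGUMax

set_option autoImplicit false
set_option linter.style.haveILetI false
open CategoryTheory CategoryTheory.Limits AlgebraicGeometry TopologicalSpace Topology
open Groth.Agent.Lib.Helper7 Groth.Agent.Lib.lead Groth.Agent.Lib.Helper18
open Groth.Agent.Lib.Helper24 Groth.Agent.Lib.Helper24.FibreDim Groth.Agent.Lib.Helper24.OpenAt

universe u

namespace Groth.Agent.Lib.lead.UnivOpenGUFibre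

open EGA43 Groth.Agent.Lib.Helper9.UnivOpen Groth.Agent.Lib.lead.UnibranchUnivOpenAt
  Groth.Agent.Lib.lead.UnivOpenGU Groth.Agent.Lib.lead.UnivOpenGUMax

variable {X Y : Scheme.{u}}

theorem le_of_forall_nat_le {a b : WithBot ℕ∞}
    (h : ∀ d : ℕ, ((d : ℕ) : WithBot ℕ∞) ≤ a → ((d : ℕ) : WithBot ℕ∞) ≤ b) : a ≤ b := by
  induction a using WithBot.recBotCoe with
  | bot => exact bot_le
  | coe a =>
    have hb : b ≠ ⊥ := by
      intro hb
      have := h 0 (by exact_mod_cast (zero_le : (0 : ℕ∞) ≤ a))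
      rw [hb] at this
      exact absurd this (by simp)
    obtain ⟨b', rfl⟩ := WithBot.ne_bot_iff_exists.mp hb
    rw [WithBot.coe_le_coe]
    refine ENat.forall_natCast_le_iff_le.mp fun n hn => ?_
    have := h n (by exact_mod_cast hn)
    exact_mod_cast this

/-- **Condition b) at an arbitrary point of a fibre all of whose points are points of openness** -/
theorem CondB_of_isOpenAt_fibre [IsLocallyNoetherian Y] (f : X ⟶ Y) [LocallyOfFiniteType f] (x : X)
    (hop : ∀ z : X, f z = f x → IsOpenAt f.base z) (η : Y) (hη : ∀ η' : Y, η' ⤳ η → η' = η)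
    (hηx : η ⤳ f x) : CondB f x η := by
  obtain ⟨z, hfz, hzx, hzmax, htr⟩ := exists_max_tr f x
  exact CondB_of_isOpenAt f x z hfz hzx hzmax htr (hop z hfz) η hη hηx

/-- comparison of the dimensions of the fibres of an open subset -/
theorem dim_inter_fibre_le_of_isOpenAt [IsLocallyNoetherian Y] (f : X ⟶ Y)
    [LocallyOfFiniteType f] (y : Y) (hop : ∀ z : X, f z = y → IsOpenAt f.base z) (η : Y)
    (hηy : η ⤳ y) (U : X.Opens) :
    topologicalKrullDim ↥((U : Set X) ∩ f.base ⁻¹' {y}) ≤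
      topologicalKrullDim ↥((U : Set X) ∩ f.base ⁻¹' {η}) := by
  apply le_of_forall_nat_le
  intro d hd
  obtain ⟨z, hzU, hfz, hdz⟩ := exists_tr_ge_of_le_dim_open f U y d hd
  obtain ⟨z', hfz', hz'z, hz'max, htr⟩ := exists_max_tr f z
  have h1 := tr_le_fibreDimAt f (specializes_refl z) rfl
  rw [← htr] at h1
  have h2 : tr f z ≤ tr f z' := by exact_mod_cast h1
  have hz'U : z' ∈ U := hz'z.mem_open U.isOpen hzU
  have hfz'y : f z' = y := hfz'.trans hfz
  obtain ⟨ξ', hξ'z', hfξ', htr'⟩ := exists_gen_tr_eq f z' hz'max (hop z' hfz'y) η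
    (by rw [hfz'y]; exact hηy)
  subst hfξ'
  have h3 := tr_le_dim_inter_fibre f U ξ' (hξ'z'.mem_open U.isOpen hz'U)
  refine le_trans ?_ h3
  have : d ≤ tr f ξ' := by omega
  exact_mod_cast this

theorem main {X Y : Scheme.{u}} [IsLocallyNoetherian Y] (f : X ⟶ Y)
    [LocallyOfFiniteType f] (y : Y) (hy : CAlg2.IsGeomUnibranch (Y.presheaf.stalk y)) :
    List.TFAE [∀ x : X, f.base x = y → EGA43.IsUnivOpenAt f x,
      ∀ x : X, f.base x = y → ∀ Y₀ ∈ irreducibleComponents (Y : Type u), y ∈ Y₀ →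
        ∃ Z ∈ irreducibleComponents (X : Type u), ∃ hx : x ∈ Z, closure (f.base '' Z) = Y₀ ∧
          ∀ η : Y, closure ({η} : Set Y) = Y₀ →
            FlatMor.localDim ↥(Z ∩ f.base ⁻¹' {f.base x}) ⟨x, ⟨hx, rfl⟩⟩ = topologicalKrullDim ↥(Z ∩ f.base ⁻¹' {η}),
      ∀ U : X.Opens, ∀ Y₀ ∈ irreducibleComponents (Y : Type u), y ∈ Y₀ → ∀ η : Y, closure ({η} : Set Y) = Y₀ →
        topologicalKrullDim ↥((U : Set X) ∩ f.base ⁻¹' {y}) ≤ topologicalKrullDim ↥((U : Set X) ∩ f.base ⁻¹' {η}),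
      ∀ x : X, f.base x = y → EGA43.IsOpenAt f.base x] := by
  tfae_have 1 → 4 := fun h x hx => isUnivOpenAt_isOpenAt (h x hx)
  tfae_have 4 → 2 := by
    intro hop x hfx Y₀ hY₀ hyY₀
    subst hfx
    obtain ⟨η, hη, hηmax, hηsp⟩ := exists_generic_of_component Y₀ hY₀
    rw [stmtB_iff f x Y₀ η hη]
    exact CondB_of_isOpenAt_fibre f x hop η hηmax (hηsp _ hyY₀)
  tfae_have 2 → 1 := by
    intro hb x hfx
    subst hfx
    have hY₀ := irreducibleComponent_mem_irreducibleComponents (f x)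
    obtain ⟨η, hη, hηmax, hηsp⟩ := exists_generic_of_component _ hY₀
    have h1 := hb x rfl _ hY₀ mem_irreducibleComponent
    rw [stmtB_iff f x _ η hη] at h1
    exact isUnivOpenAt_of_CondB f x hy η hηmax h1
  tfae_have 4 → 3 := by
    intro hop U Y₀ hY₀ hyY₀ η hη
    have hηy : η ⤳ y := by
      rw [specializes_iff_mem_closure, hη]
      exact hyY₀
    exact dim_inter_fibre_le_of_isOpenAt f y hop η hηy U
  tfae_have 3 → 2 := by
    intro hb'' x hfx Y₀ hY₀ hyY₀
    subst hfx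
    obtain ⟨η, hη, hηmax, hηsp⟩ := exists_generic_of_component Y₀ hY₀
    rw [stmtB_iff f x Y₀ η hη]
    obtain ⟨d, hd⟩ := Chev.exists_nat_fibreDimAt f x
    refine CondB_of_le_dim f x d hd η hηmax (fun U hxU => ?_)
    refine le_trans ?_ (hb'' U Y₀ hY₀ hyY₀ η hη)
    obtain ⟨z, hfz, hzx, -, htr⟩ := exists_max_tr f x
    have h3 := tr_le_dim_inter_fibre f U z (hzx.mem_open U.isOpen hxU)
    rw [hfz, htr, hd] at h3
    exact h3
  tfae_finish

end Groth.Agent.Lib.lead.UnivOpenGUFibre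

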