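import Mathlib
import Groth.Prelude.Def_EGA43
import Groth.Agent.Lib.lead.UnivOpenGUFibre
import Groth.Agent.Lib.lead.QuasiSecDedekind
import Groth.Agent.S4944

set_option autoImplicit false
set_option linter.style.haveILetI false
open CategoryTheory CategoryTheory.Limits AlgebraicGeometry TopologicalSpace Topology
open Groth.Agent.Lib.Helper7 Groth.Agent.Lib.lead Groth.Agent.Lib.Helper18
open Groth.Agent.Lib.Helper24 Groth.Agent.Lib.Helper24.FibreDim Groth.Agent.Lib.Helper24.OpenAt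

universe u

namespace Groth.Agent.Lib.lead.UnivOpenGUQuasiSec

open EGA43 Groth.Agent.Lib.Helper9.UnivOpen Groth.Agent.Lib.lead.UnibranchUnivOpenAt
  Groth.Agent.Lib.lead.UnivOpenGU Groth.Agent.Lib.lead.UnivOpenGUMax
  Groth.Agent.Lib.lead.UnivOpenGUFibre Groth.Agent.Lib.lead.QuasiSecDedekind

variable {X Y : Scheme.{u}}

/-- the reduced closed subscheme on the closure of `ξ` is equidimensional over `Y` at `x` under
condition b) -/
theorem exists_subscheme_isEquidimAt [IsLocallyNoetherian Y] (f : X ⟶ Y) [LocallyOfFiniteType f]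
    (x : X) (ξ : X) (hξx : ξ ⤳ x) (hfξmax : ∀ η' : Y, η' ⤳ f ξ → η' = f ξ)
    (hx : x ∈ closure ({ξ} : Set X) ∩ f ⁻¹' {f x})
    (hdim : FlatMor.localDim ↥(closure ({ξ} : Set X) ∩ f ⁻¹' {f x}) ⟨x, hx⟩ ≤
      ((tr f ξ : ℕ) : WithBot ℕ∞)) :
    ∃ (W : Scheme.{u}) (ι : W ⟶ X) (w₀ : W), IsClosedImmersion ι ∧ IsReduced W ∧
      IrreducibleSpace W ∧ Set.range ι = closure ({ξ} : Set X) ∧ ι w₀ = x ∧
      IsEquidimAt (ι ≫ f) w₀ := by
  set X' : TopologicalSpace.Closeds X := ⟨closure {ξ}, isClosed_closure⟩ with hX'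
  set ι := (Scheme.IdealSheafData.vanishingIdeal X').subschemeι with hι
  have hemb : IsClosedEmbedding ι := ι.isClosedEmbedding
  have hr : Set.range ι = closure ({ξ} : Set X) :=
    (Scheme.IdealSheafData.vanishingIdeal X').range_subschemeι.trans
      (Scheme.IdealSheafData.coe_support_vanishingIdeal X')
  have hxr : x ∈ Set.range ι := by
    rw [hr]
    exact hx.1
  obtain ⟨w₀, hw₀⟩ := hxr
  have hξr : ξ ∈ Set.range ι := by
    rw [hr]
    exact subset_closure rfl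
  obtain ⟨w', hw'⟩ := hξr
  have hgen : ∀ ζ : ↥(Scheme.IdealSheafData.vanishingIdeal X').subscheme, w' ⤳ ζ := by
    intro ζ
    rw [← hemb.isInducing.specializes_iff, specializes_iff_mem_closure, hw', ← hr]
    exact Set.mem_range_self ζ
  have hL := localDim_inter_fibre_eq' ι hemb f (closure ({ξ} : Set X)) hr w₀ x hw₀ hx
  rw [hL] at hdim
  have htrw' : tr (ι ≫ f) w' = tr f ξ := by
    rw [tr_comp_of_bijective ι f w' (residueFieldMap_bijective_of_surjectiveOnStalks ι w'), hw']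
  have hfw' : FlatMor.fibreDimAt (ι ≫ f) w' = ((tr f ξ : ℕ) : WithBot ℕ∞) := by
    rw [fibreDimAt_of_fibre_max (ι ≫ f) w' (fun z' _ hz' => ((hgen z').antisymm hz').eq.symm),
      htrw']
  have hU1 : IsOpen {w : ↥(Scheme.IdealSheafData.vanishingIdeal X').subscheme |
      FlatMor.fibreDimAt (ι ≫ f) w ≤ ((tr f ξ : ℕ) : WithBot ℕ∞)} :=
    Chev.isOpen_fibreDimAt_le (ι ≫ f) (tr f ξ)
  have hE : EGA43.IsEquidimAt (ι ≫ f) w₀ := by
    refine isEquidimAt_of_points' (ι ≫ f) w₀ (tr f ξ) ⟨_, hU1⟩ hdim ?_ ?_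
    · intro ζ _ hζmax
      have h1 : w' = ζ := hζmax w' (hgen ζ)
      subst h1
      have h2 : (ι ≫ f) w' = f ξ := by
        show f (ι w') = f ξ
        rw [hw']
      have h3 : (ι ≫ f) w₀ = f x := by
        show f (ι w₀) = f x
        rw [hw₀]
      rw [h2, h3]
      exact ⟨hξx.map f.continuous, hfξmax⟩
    · intro ζ hζU hζmax
      have h1 : FlatMor.fibreDimAt (ι ≫ f) ζ = ((tr (ι ≫ f) ζ : ℕ) : WithBot ℕ∞) :=
        fibreDimAt_of_fibre_max (ι ≫ f) ζ hζmax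
      have h2 : FlatMor.fibreDimAt (ι ≫ f) ζ ≤ ((tr f ξ : ℕ) : WithBot ℕ∞) := hζU
      have h3 := fibreDimAt_mono (ι ≫ f) (hgen ζ)
      rw [hfw', h1] at h3
      rw [h1] at h2
      have h4 : tr (ι ≫ f) ζ ≤ tr f ξ := by exact_mod_cast h2
      have h5 : tr f ξ ≤ tr (ι ≫ f) ζ := by exact_mod_cast h3
      omega
  refine ⟨_, ι, w₀, inferInstance, isReduced_vanishingIdeal_subscheme X', ?_, hr, hw₀, hE⟩
  exact irreducibleSpace_of_isInducing_of_isIrreducible_range ι.isEmbedding.isInducing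
    (hr ▸ isIrreducible_singleton.closure)

/-- a nonempty locally closed piece of a fibre contains a point closed in the fibre -/
theorem exists_closed_in_fibre_open (f : X ⟶ Y) [LocallyOfFiniteType f] (y : Y)
    (C : Set X) (hC : IsClosed C) (U : Set X) (hU : IsOpen U)
    (hne : (C ∩ U ∩ f ⁻¹' {y}).Nonempty) :
    ∃ x ∈ C ∩ U, f x = y ∧ ∀ x' : X, f x' = y → x ⤳ x' → x' = x := by
  haveI : JacobsonSpace (f.fiber y) :=
    LocallyOfFiniteType.jacobsonSpace (f.fiberToSpecResidueField y)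
  let C' : Set (f.fiber y) := (f.fiberι y) ⁻¹' C
  let V' : Set (f.fiber y) := (f.fiberι y) ⁻¹' U
  have hC' : IsClosed C' := hC.preimage (f.fiberι y).continuous
  have hV' : IsOpen V' := hU.preimage (f.fiberι y).continuous
  obtain ⟨z, ⟨hzC, hzU⟩, hzy⟩ := hne
  have hz : z ∈ Set.range (f.fiberι y) := by rw [f.range_fiberι]; exact hzy
  obtain ⟨c₀, rfl⟩ := hz
  have hne' : (C' ∩ V' ∩ closedPoints (f.fiber y)).Nonempty := by
    by_contra hempty
    rw [Set.not_nonempty_iff_eq_empty] at hempty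
    have h1 := JacobsonSpace.closure_inter_closedPoints hC'
    have h2 : C' ∩ closedPoints (f.fiber y) ⊆ C' ∩ V'ᶜ := by
      rintro c ⟨hcC, hccl⟩
      refine ⟨hcC, fun hcV => ?_⟩
      have : c ∈ C' ∩ V' ∩ closedPoints (f.fiber y) := ⟨⟨hcC, hcV⟩, hccl⟩
      rw [hempty] at this
      exact this
    have h3 : closure (C' ∩ closedPoints (f.fiber y)) ⊆ C' ∩ V'ᶜ :=
      closure_minimal h2 (hC'.inter hV'.isClosed_compl)
    rw [h1] at h3
    exact (h3 hzC).2 hzU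
  obtain ⟨c, ⟨hcC, hcV⟩, hcl⟩ := hne'
  refine ⟨f.fiberι y c, ⟨hcC, hcV⟩, ?_, ?_⟩
  · have h1 : f.fiberι y c ∈ Set.range (f.fiberι y) := ⟨c, rfl⟩
    rwa [f.range_fiberι] at h1
  · intro x' hx' hsp
    have h1 : x' ∈ Set.range (f.fiberι y) := by rw [f.range_fiberι]; exact hx'
    obtain ⟨c', rfl⟩ := h1
    have h2 : c ⤳ c' := (f.fiberι y).isEmbedding.isInducing.specializes_iff.mp hsp
    have h3 : c' ∈ closure {c} := h2.mem_closure
    rw [(mem_closedPoints_iff.mp hcl).closure_eq] at h3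
    rw [Set.mem_singleton_iff.mp h3]

theorem localDim_congr_fibre (f : X ⟶ Y) (Z : Set X) (z : X) (hz : z ∈ Z) (y : Y)
    (hzy : f z = y) :
    FlatMor.localDim ↥(Z ∩ f.base ⁻¹' {y}) ⟨z, ⟨hz, hzy⟩⟩ =
      FlatMor.localDim ↥(Z ∩ f.base ⁻¹' {f.base z}) ⟨z, ⟨hz, rfl⟩⟩ := by
  subst hzy
  rfl

set_option maxHeartbeats 1600000 in
theorem main {X Y : Scheme.{u}} [IrreducibleSpace Y]
    [IsLocallyNoetherian Y] (f : X ⟶ Y) [LocallyOfFiniteType f] (y : Y)
    (hy : CAlg2.IsGeomUnibranch (Y.presheaf.stalk y)) :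
    List.TFAE [∀ x : X, f.base x = y → EGA43.IsUnivOpenAt f x,
      ∀ x : X, f.base x = y → EGA43.IsOpenAt f.base x,
      ∀ z : X, ∀ hzy : f.base z = y, (∀ z' : X, f.base z' = y → z ∈ closure {z'} → z' = z) →
        ∃ Z ∈ irreducibleComponents (X : Type u), ∃ hz : z ∈ Z, Dense (f.base '' Z) ∧
          FlatMor.localDim ↥(Z ∩ f.base ⁻¹' {y}) ⟨z, ⟨hz, hzy⟩⟩ = topologicalKrullDim ↥(Z ∩ f.base ⁻¹' {genericPoint Y}),
      ∀ x : X, f.base x = y → (∀ x' : X, f.base x' = y → x ⤳ x' → x' = x) →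
        ∃ (T : Scheme.{u}) (i : T ⟶ X), IsImmersion i ∧ IrreducibleSpace ↥T ∧ IsReduced T ∧ x ∈ Set.range i.base ∧
        LocallyOfFiniteType (i ≫ f) ∧ LocallyQuasiFinite (i ≫ f) ∧ QuasiCompact (i ≫ f) ∧ IsDominant (i ≫ f)] := by
  set η : Y := genericPoint Y with hηdef
  have hηsp : ∀ y' : Y, η ⤳ y' := fun y' => (genericPoint_spec Y).specializes trivial
  have hηmax : ∀ η' : Y, η' ⤳ η → η' = η := fun η' h => (h.antisymm (hηsp η')).eq
  have hηcl : closure ({η} : Set Y) = Set.univ := (genericPoint_spec Y).def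
  tfae_have 1 → 2 := fun h x hx => isUnivOpenAt_isOpenAt (h x hx)
  tfae_have 2 → 3 := by
    intro hop z hzy hzmax
    subst hzy
    have hzmax' : ∀ z' : X, f z' = f z → z' ⤳ z → z' = z :=
      fun z' h1 h2 => hzmax z' h1 (specializes_iff_mem_closure.mp h2)
    have hB := CondB_of_isOpenAt f z z rfl (specializes_refl z) hzmax'
      (fibreDimAt_of_fibre_max f z hzmax').symm (hop z rfl) η hηmax (hηsp _)
    obtain ⟨Z, hZ, hz, hcl, hdim⟩ := exists_component_of_CondB f z η hB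
    refine ⟨Z, hZ, hz, ?_, hdim⟩
    rw [dense_iff_closure_eq, hcl, hηcl]
  tfae_have 3 → 1 := by
    intro hc x hfx
    subst hfx
    obtain ⟨z, hfz, hzx, hzmax, htr⟩ := exists_max_tr f x
    obtain ⟨Z, hZ, hz, hdense, hdim⟩ := hc z hfz (fun z' h1 h2 =>
      hzmax z' (h1.trans hfz.symm) (specializes_iff_mem_closure.mpr h2))
    rw [localDim_congr_fibre f Z z hz (f x) hfz] at hdim
    have hcl : closure (f.base '' Z) = closure {η} := by
      rw [hηcl]
      exact dense_iff_closure_eq.mp hdense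
    obtain ⟨ξ, hξmax, hξz, hfξ, hdimξ⟩ := CondB_of_component f z η Z hZ hz hcl hdim
    have hξx : ξ ⤳ x := hξz.trans hzx
    have hx : x ∈ closure ({ξ} : Set X) ∩ f ⁻¹' {f x} :=
      ⟨specializes_iff_mem_closure.mp hξx, rfl⟩
    have hz' : z ∈ closure ({ξ} : Set X) ∩ f ⁻¹' {f z} :=
      ⟨specializes_iff_mem_closure.mp hξz, rfl⟩
    refine isUnivOpenAt_of_condB f x hy ξ hξx (by rw [hfξ]; exact hηmax) hx ?_
    obtain ⟨-, -, k3⟩ := closure_fibre_facts f x ξ hξx hx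
    obtain ⟨k1, -, -⟩ := closure_fibre_facts f z ξ hξz hz'
    have h1 := k1 z rfl (specializes_refl z) hξz
    rw [hdimξ hz'] at h1
    rw [← htr] at k3
    exact k3.trans h1
  tfae_have 1 → 4 := by
    intro ha x hfx hxcl
    subst hfx
    have hB := CondB_of_isOpenAt_fibre f x (fun z hz => isUnivOpenAt_isOpenAt (ha z hz)) η hηmax
      (hηsp _)
    obtain ⟨ξ, hξmax, hξx, hfξ, hdimξ⟩ := hB
    have hx : x ∈ closure ({ξ} : Set X) ∩ f ⁻¹' {f x} :=
      ⟨specializes_iff_mem_closure.mp hξx, rfl⟩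
    obtain ⟨W, ι, w, hι, hred, hirr, hrange, hw, hEq⟩ := exists_subscheme_isEquidimAt f x ξ hξx
      (by rw [hfξ]; exact hηmax) hx (hdimξ hx).le
    have hclw : ∀ w' : W, (ι ≫ f) w' = (ι ≫ f) w → w ⤳ w' → w' = w := by
      intro w' hg hsp
      apply ι.isEmbedding.injective
      rw [hw]
      apply hxcl (ι w')
      · have : f (ι w') = f (ι w) := hg
        rw [this, hw]
      · rw [← hw]
        exact hsp.map ι.continuous
    obtain ⟨T, i, h1, h2, h3, h4, h5, h6, h7, h8⟩ :=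
      Groth.Agent.S4944.result (ι ≫ f) w hEq hclw
    refine ⟨T, i ≫ ι, inferInstance, h2, h3, ?_, ?_, ?_, ?_, ?_⟩
    · obtain ⟨t, ht⟩ := h4
      exact ⟨t, by rw [Scheme.Hom.comp_apply, ht, hw]⟩
    · rw [Category.assoc]; exact h5
    · rw [Category.assoc]; exact h6
    · rw [Category.assoc]; exact h7
    · rw [Category.assoc]; exact h8
  tfae_have 4 → 2 := by
    intro hd x hfx N hN
    obtain ⟨U, hUN, hUopen, hxU⟩ := mem_nhds_iff.mp hN
    obtain ⟨x₁, ⟨hx₁C, hx₁U⟩, hfx₁, hx₁cl⟩ := exists_closed_in_fibre_open f y (closure {x})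
      isClosed_closure U hUopen ⟨x, ⟨subset_closure rfl, hxU⟩, hfx⟩
    obtain ⟨T, i, -, hTirr, -, ⟨t₁, ht₁⟩, hlft, hlqf, -, hdom⟩ := hd x₁ hfx₁ hx₁cl
    haveI := hTirr
    haveI := hlft
    haveI := hlqf
    haveI := hdom
    have hgy : (i ≫ f) t₁ = y := by
      show f (i t₁) = y
      rw [ht₁, hfx₁]
    have hGU : CAlg2.IsGeomUnibranch (Y.presheaf.stalk ((i ≫ f) t₁)) := hgy ▸ hy
    have hdomT : ∃ ξ : T, ξ ⤳ t₁ ∧ (∀ ξ', ξ' ⤳ ξ → ξ' = ξ) ∧
        (∀ η', η' ⤳ (i ≫ f) ξ → η' = (i ≫ f) ξ) := by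
      refine ⟨genericPoint T, (genericPoint_spec T).specializes trivial, ?_, ?_⟩
      · intro ξ' hξ'
        exact (hξ'.antisymm ((genericPoint_spec T).specializes trivial)).eq
      · have h1 : (i ≫ f) (genericPoint T) = η :=
          Groth.Agent.Lib.Helper18.GenFin.map_genericPoint_of_dense (i ≫ f) (i ≫ f).denseRange
        rw [h1]
        exact hηmax
    have h2 := isUnivOpenAt_isOpenAt (isUnivOpenAt_of_lqf_of_gu (i ≫ f) t₁ hGU hdomT)
    have h3 : IsOpenAt f.base (i t₁) := by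
      refine isOpenAt_of_comp (f := i.base) (g := f.base) i.continuous t₁ ?_
      have : (i ≫ f).base = f.base ∘ i.base := by
        rw [Scheme.Hom.comp_base]; rfl
      rw [← this]
      exact h2
    rw [ht₁] at h3
    have h4 : f.base '' U ∈ nhds (f x₁) := h3 U (hUopen.mem_nhds hx₁U)
    rw [hfx₁] at h4
    rw [hfx]
    exact Filter.mem_of_superset h4 (Set.image_mono hUN)
  tfae_finish

end Groth.Agent.Lib.lead.UnivOpenGUQuasiSec

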