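import Mathlib
import Groth.Prelude.Def_EGA43
import Groth.Prelude.Def_EGA4b
import Groth.Agent.Lib.lead.UnivOpenGUQuasiSec
import Groth.Agent.S4918

set_option autoImplicit false
set_option linter.style.haveILetI false
open CategoryTheory CategoryTheory.Limits AlgebraicGeometry TopologicalSpace Topology
open Groth.Agent.Lib.Helper7 Groth.Agent.Lib.lead Groth.Agent.Lib.Helper18
open Groth.Agent.Lib.Helper24 Groth.Agent.Lib.Helper24.FibreDim Groth.Agent.Lib.Helper24.OpenAt

universe u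

namespace Groth.Agent.Lib.lead.EquidimGU

open EGA43 Groth.Agent.Lib.Helper9.UnivOpen Groth.Agent.Lib.lead.UnibranchUnivOpenAt
  Groth.Agent.Lib.lead.UnivOpenGU Groth.Agent.Lib.lead.UnivOpenGUQuasiSec

variable {X Y : Scheme.{u}}

theorem ringKrullDim_quotient_nilradical (R : Type*) [CommRing R] :
    ringKrullDim (R ⧸ nilradical R) = ringKrullDim R := by
  rw [ringKrullDim_quotient]
  have h1 : PrimeSpectrum.zeroLocus (R := R) (nilradical R) = Set.univ := by
    rw [nilradical, PrimeSpectrum.zeroLocus_radical, Ideal.zero_eq_bot, PrimeSpectrum.zeroLocus_bot]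
  rw [h1]
  exact Order.krullDim_eq_of_orderIso OrderIso.Set.univ

theorem isEquidim_of_isPrime_nilradical (R : Type u) [CommRing R] (h : (nilradical R).IsPrime) :
    EGA4.IsEquidim R := by
  intro p hp
  haveI := hp.1.1
  have h1 : p = nilradical R :=
    le_antisymm (hp.2 ⟨h, bot_le⟩ (nilradical_le_prime p)) (nilradical_le_prime p)
  subst h1
  exact ringKrullDim_quotient_nilradical R

/-- equidimensional at `x` over a geometrically unibranch point: universally open at the generic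
points of the components of the fibre through `x` -/
theorem isUnivOpenAt_fibre_of_isEquidimAt [IsLocallyNoetherian Y] (f : X ⟶ Y)
    [LocallyOfFiniteType f] (x : X) (hy : CAlg2.IsGeomUnibranch (Y.presheaf.stalk (f x)))
    (h : EGA43.IsEquidimAt f x) (z : ↥(f.fiber (f x))) (hz : f.asFiber x ∈ closure {z}) :
    IsUnivOpenAt f (f.fiberι (f x) z) := by
  have hfz' : f (f.fiberι (f x) z) = f x := by
    have : f.fiberι (f x) z ∈ Set.range (f.fiberι (f x)) := ⟨z, rfl⟩
    rwa [f.range_fiberι] at this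
  have hz'x : f.fiberι (f x) z ⤳ x := by
    have h1 : z ⤳ f.asFiber x := specializes_iff_mem_closure.mpr hz
    have := h1.map (f.fiberι (f x)).continuous
    rwa [f.fiberι_asFiber] at this
  have hE' : EGA43.IsEquidimAt f (f.fiberι (f x) z) := by
    obtain ⟨e, U, hxU, h1, h2⟩ := h
    refine ⟨e, U, hz'x.mem_open U.isOpen hxU, fun Z hZ => ?_, h2⟩
    obtain ⟨W, hW, hxW, hcl⟩ := h1 Z hZ
    refine ⟨W, hW, ?_, hcl⟩
    rw [hfz']
    exact hxW
  exact isUnivOpenAt_of_isEquidimAt f _ (hfz'.symm ▸ hy) hE'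

set_option maxHeartbeats 1600000 in
/-- equidimensional at `x` over a geometrically unibranch point: the local ring at `x` is
equidimensional -/
theorem isEquidim_stalk_of_isEquidimAt [IsLocallyNoetherian Y] (f : X ⟶ Y)
    [LocallyOfFiniteType f] (x : X) (hy : CAlg2.IsGeomUnibranch (Y.presheaf.stalk (f x)))
    (h : EGA43.IsEquidimAt f x) : EGA4.IsEquidim (X.presheaf.stalk x) := by
  haveI : IsLocallyNoetherian X := LocallyOfFiniteType.isLocallyNoetherian f
  obtain ⟨e, U, hxU, hE1, hE2⟩ := equidim_points f x h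
  have hfd := tr_add_G_eq_of_points' f x e U hxU hE2
  have hupper : ringKrullDim (X.presheaf.stalk x) ≤
      ringKrullDim (Y.presheaf.stalk (f x)) + ((FibreOrder.G f x : ℕ∞) : WithBot ℕ∞) := by
    have := stalk_dim_le_noeth f x
    rwa [FibreOrder.ringKrullDim_fiber_stalk] at this
  intro p hp
  haveI : p.IsPrime := hp.1.1
  apply le_antisymm (ringKrullDim_quotient_le p)
  refine hupper.trans ?_
  obtain ⟨ξ, hξdef, hξx, hξmaxof, -, -⟩ := stalk_pair_le'' f x p
  have hξmax := hξmaxof hp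
  have hξU : ξ ∈ U := hξx.mem_open U.isOpen hxU
  have hfξmax := hE1 ξ hξU hξmax
  have htrξ : tr f ξ = e := hE2 ξ hξU (fun ζ' _ hsp => hξmax ζ' hsp)
  have hx : x ∈ closure ({ξ} : Set X) ∩ f ⁻¹' {f x} :=
    ⟨specializes_iff_mem_closure.mp hξx, rfl⟩
  obtain ⟨-, k2, k3⟩ := closure_fibre_facts f x ξ hξx hx
  have hfdx : FlatMor.fibreDimAt f x = ((e : ℕ) : WithBot ℕ∞) := by
    rw [fibreDimAt_eq_tr_add_G, hfd]
    rfl
  have hdim : FlatMor.localDim ↥(closure ({ξ} : Set X) ∩ f ⁻¹' {f x}) ⟨x, hx⟩ ≤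
      ((tr f ξ : ℕ) : WithBot ℕ∞) := by
    rw [htrξ, ← hfdx]
    exact k3
  have hdim' : FlatMor.localDim ↥(closure ({ξ} : Set X) ∩ f ⁻¹' {f x}) ⟨x, hx⟩ =
      ((e : ℕ) : WithBot ℕ∞) := by
    apply le_antisymm
    · rw [← htrξ]; exact hdim
    · rw [← htrξ]; exact k2 hξmax
  obtain ⟨W, ι, w₀, hι, hred, hirr, hrange, hw₀, hEq⟩ :=
    exists_subscheme_isEquidimAt f x ξ hξx hfξmax hx hdim
  subst hw₀
  haveI := hι
  haveI := hred
  haveI : IsLocallyNoetherian W := LocallyOfFiniteType.isLocallyNoetherian (ι ≫ f)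
  have hGUg : CAlg2.IsGeomUnibranch (Y.presheaf.stalk ((ι ≫ f) w₀)) := hy
  have h2559 := main2559 (ι ≫ f) w₀ (fun z hz _ =>
    isUnivOpenAt_isOpenAt (isUnivOpenAt_fibre_of_isEquidimAt (ι ≫ f) w₀ hGUg hEq z hz))
  rw [FibreOrder.ringKrullDim_fiber_stalk] at h2559
  have hG : FibreOrder.G (ι ≫ f) w₀ = FibreOrder.G f (ι w₀) := by
    have hL := localDim_inter_fibre_eq ι ι.isClosedEmbedding f (closure ({ξ} : Set X)) hrange w₀ hx
    rw [hdim', fibreDimAt_eq_tr_add_G,
      tr_comp_of_bijective ι f w₀ (residueFieldMap_bijective_of_surjectiveOnStalks ι w₀)] at hL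
    have h4 : ((tr f (ι w₀) : ℕ) : ℕ∞) + FibreOrder.G (ι ≫ f) w₀ =
        ((tr f (ι w₀) : ℕ) : ℕ∞) + FibreOrder.G f (ι w₀) := by
      rw [hfd]
      exact_mod_cast hL.symm
    exact (ENat.add_right_injective_of_ne_top (ENat.natCast_ne_top _)) h4
  have hle : ringKrullDim (W.presheaf.stalk w₀) ≤ ringKrullDim (X.presheaf.stalk (ι w₀) ⧸ p) := by
    have hsurj : Function.Surjective (ι.stalkMap w₀).hom := ι.stalkMap_surjective w₀
    have hker : ∀ a ∈ p, (ι.stalkMap w₀).hom a = 0 := by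
      intro a ha
      have hred' : IsReduced (W.presheaf.stalk w₀) := inferInstance
      have h0 : (ι.stalkMap w₀).hom a ∈ nilradical (W.presheaf.stalk w₀) := by
        rw [nilradical_eq_sInf, Ideal.mem_sInf]
        intro J hJ
        have hJ' : J.IsPrime := hJ
        let q' : Spec (W.presheaf.stalk w₀) := ⟨J, hJ'⟩
        have h1 := Scheme.SpecMap_stalkMap_fromSpecStalk (f := ι) (x := w₀)
        have h2 : X.fromSpecStalk (ι w₀) (Spec.map (ι.stalkMap w₀) q') =
            ι (W.fromSpecStalk w₀ q') := by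
          rw [← Scheme.Hom.comp_apply, ← Scheme.Hom.comp_apply, h1]
        have h3 : ξ ⤳ X.fromSpecStalk (ι w₀) (Spec.map (ι.stalkMap w₀) q') := by
          rw [specializes_iff_mem_closure, h2, ← hrange]
          exact ⟨_, rfl⟩
        rw [hξdef] at h3
        have h4 := (X.fromSpecStalk (ι w₀)).isEmbedding.isInducing.specializes_iff.mp h3
        have h5 := (PrimeSpectrum.le_iff_specializes _ _).mpr h4
        exact h5 ha
      rwa [nilradical_eq_zero, Ideal.zero_eq_bot, Ideal.mem_bot] at h0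
    let ψ : X.presheaf.stalk (ι w₀) ⧸ p →+* W.presheaf.stalk w₀ :=
      Ideal.Quotient.lift p (ι.stalkMap w₀).hom hker
    have hψ : Function.Surjective ψ := Ideal.Quotient.lift_surjective_of_surjective p hker hsurj
    exact ringKrullDim_le_of_surjective ψ hψ
  have h6 : ringKrullDim (Y.presheaf.stalk (f (ι w₀))) +
      ((FibreOrder.G f (ι w₀) : ℕ∞) : WithBot ℕ∞) = ringKrullDim (W.presheaf.stalk w₀) := by
    rw [h2559, hG]
    rfl
  rw [h6]
  exact hle

theorem main {X Y : Scheme.{u}} [IsLocallyNoetherian Y] (f : X ⟶ Y)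
    [LocallyOfFiniteType f] (x : X) (hy : CAlg2.IsGeomUnibranch (Y.presheaf.stalk (f.base x))) :
    List.TFAE [EGA43.IsEquidimAt f x,
      EGA4.IsEquidim (X.presheaf.stalk x) ∧ (∀ z : ↥(f.fiber (f.base x)), f.asFiber x ∈ closure {z} →
        (∀ z' : ↥(f.fiber (f.base x)), z ∈ closure {z'} → z' = z) → EGA43.IsOpenAt f.base ((f.fiberι (f.base x)).base z)),
      EGA4.IsEquidim (X.presheaf.stalk x) ∧ (∀ z : ↥(f.fiber (f.base x)), f.asFiber x ∈ closure {z} →
        (∀ z' : ↥(f.fiber (f.base x)), z ∈ closure {z'} → z' = z) → EGA43.IsUnivOpenAt f ((f.fiberι (f.base x)).base z))] := by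
  tfae_have 3 → 2 := fun ⟨h1, h2⟩ => ⟨h1, fun z hz hmax => isUnivOpenAt_isOpenAt (h2 z hz hmax)⟩
  tfae_have 2 → 1 := by
    rintro ⟨hX, hop⟩
    have hYeq : EGA4.IsEquidim (Y.presheaf.stalk (f.base x)) := by
      apply isEquidim_of_isPrime_nilradical
      exact (Ideal.Quotient.isDomain_iff_prime _).mp hy.1.1
    exact Groth.Agent.S4918.result f x hX hYeq hop
  tfae_have 1 → 3 := by
    intro h
    exact ⟨isEquidim_stalk_of_isEquidimAt f x hy h,
      fun z hz _ => isUnivOpenAt_fibre_of_isEquidimAt f x hy h z hz⟩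
  tfae_finish

end Groth.Agent.Lib.lead.EquidimGU

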