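import Mathlib
import Groth.Prelude.Def_EGA43
import Groth.Agent.Lib.lead.EquidimGU
import Groth.Agent.Lib.Helper7.FibreCM
import Groth.Agent.S2082
import Groth.Agent.S2559
import Groth.Agent.S0386

set_option autoImplicit false
set_option linter.style.haveILetI false
open CategoryTheory CategoryTheory.Limits AlgebraicGeometry TopologicalSpace Topology

universe u

namespace Groth.Agent.Lib.lead.CMRegularTfae

open EGA43 Groth.Agent.Lib.Helper9.UnivOpen

variable {X Y : Scheme.{u}}

/-- flat at a point of a morphism locally of finite presentation: flat on an open neighbourhood -/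
theorem exists_open_flat_of_flat_stalkMap (f : X ⟶ Y) [LocallyOfFinitePresentation f] (x : X)
    (h : (f.stalkMap x).hom.Flat) : ∃ U : X.Opens, x ∈ U ∧ Flat (U.ι ≫ f) := by
  have hopen := Groth.Agent.S0386.result f
  refine ⟨⟨_, hopen⟩, h, ?_⟩
  rw [Flat.iff_flat_stalkMap]
  intro u
  rw [Scheme.Hom.stalkMap_comp]
  have h1 : (f.stalkMap u.1).hom.Flat := u.2
  have h2 : ((Scheme.Opens.ι ⟨_, hopen⟩).stalkMap u).hom.Flat :=
    RingHom.Flat.of_bijective (ConcreteCategory.bijective_of_isIso _)
  exact RingHom.Flat.comp h1 h2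

set_option maxHeartbeats 1600000 in
theorem main {X Y : Scheme.{u}} [IsLocallyNoetherian Y] (f : X ⟶ Y)
    [LocallyOfFiniteType f] (x : X) (hreg : IsRegularLocalRing (Y.presheaf.stalk (f.base x)))
    (hCM : LocCoh.IsCohenMacaulayLocalRing (X.presheaf.stalk x)) :
    List.TFAE [
      (f.stalkMap x).hom.Flat ∧ LocCoh.IsCohenMacaulayLocalRing ((f.fiber (f.base x)).presheaf.stalk (f.asFiber x)),
      (f.stalkMap x).hom.Flat,
      ∃ U : X.Opens, x ∈ U ∧ UniversallyOpen (U.ι ≫ f),
      (∀ z : ↥(f.fiber (f.base x)), f.asFiber x ∈ closure {z} →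
          (∀ z' : ↥(f.fiber (f.base x)), z ∈ closure {z'} → z' = z) →
          EGA43.IsOpenAt f.base ((f.fiberι (f.base x)).base z)),
      ringKrullDim (X.presheaf.stalk x) =
        ringKrullDim (Y.presheaf.stalk (f.base x)) + ringKrullDim ((f.fiber (f.base x)).presheaf.stalk (f.asFiber x)) ] := by
  haveI : IsLocallyNoetherian X := LocallyOfFiniteType.isLocallyNoetherian f
  haveI : LocallyOfFinitePresentation f := inferInstance
  tfae_have 1 → 2 := fun h => h.1
  tfae_have 2 → 1 := by
    intro h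
    exact (Groth.Agent.Lib.Helper7.FibreCM.isCMAt_and_isCM_of_flat f x h hCM).1
  tfae_have 2 → 3 := by
    intro h
    obtain ⟨U, hxU, hU⟩ := exists_open_flat_of_flat_stalkMap f x h
    exact ⟨U, hxU, inferInstance⟩
  tfae_have 3 → 4 := by
    rintro ⟨U, hxU, hU⟩ z hz _
    have hz'x : f.fiberι (f x) z ⤳ x := by
      have h1 : z ⤳ f.asFiber x := specializes_iff_mem_closure.mpr hz
      have := h1.map (f.fiberι (f x)).continuous
      rwa [f.fiberι_asFiber] at this
    have hz'U : f.fiberι (f x) z ∈ U := hz'x.mem_open U.isOpen hxU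
    have h2 : IsOpenAt (U.ι ≫ f).base ⟨_, hz'U⟩ := isOpenAt_of_isOpenMap (U.ι ≫ f).isOpenMap _
    have h3 : (U.ι ≫ f).base = f.base ∘ U.ι.base := by
      rw [Scheme.Hom.comp_base]; rfl
    rw [h3] at h2
    exact isOpenAt_of_comp (f := U.ι.base) (g := f.base) U.ι.continuous ⟨_, hz'U⟩ h2
  tfae_have 4 → 5 := fun h => Groth.Agent.S2559.result f x h
  tfae_have 5 → 2 := by
    intro h
    letI : Algebra (Y.presheaf.stalk (f x)) (X.presheaf.stalk x) := (f.stalkMap x).hom.toAlgebra
    haveI : IsLocalHom (algebraMap (Y.presheaf.stalk (f x)) (X.presheaf.stalk x)) :=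
      inferInstanceAs (IsLocalHom (f.stalkMap x).hom)
    haveI := hreg
    haveI := hCM
    obtain ⟨e⟩ := Groth.Agent.Lib.Helper7.FibreStalkIso.nonempty_ringEquiv f x
    have hdim : ringKrullDim (X.presheaf.stalk x) = ringKrullDim (Y.presheaf.stalk (f x)) +
        ringKrullDim (X.presheaf.stalk x ⧸ (IsLocalRing.maximalIdeal (Y.presheaf.stalk (f x))).map
          (algebraMap (Y.presheaf.stalk (f x)) (X.presheaf.stalk x))) := by
      rw [h]
      congr 1
      exact (ringKrullDim_eq_of_ringEquiv e).symm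
    exact Groth.Agent.S2082.result hdim
  tfae_finish

end Groth.Agent.Lib.lead.CMRegularTfae

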