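import Mathlib
import Groth.Agent.Lib.lead.ChevD

set_option linter.style.haveILetI false
universe u
open CategoryTheory AlgebraicGeometry Limits Opposite

namespace Groth.Agent.Lib.lead.ChevE

open Groth.Agent.Lib.lead.ChevD

/-- Chevalley, relative form: if `p ≫ h` is integral and `p` is integral surjective,
then `h` is affine. -/
theorem isAffineHom_of_comp_integral_surjective {X Y S : Scheme.{u}} (p : X ⟶ Y) (h : Y ⟶ S)
    [IsIntegralHom p] [Surjective p] [IsAffineHom (p ≫ h)] : IsAffineHom h := by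
  constructor
  intro U hU
  have hXU : IsAffineOpen ((p ≫ h) ⁻¹ᵁ U) := hU.preimage (p ≫ h)
  let V : Y.Opens := h ⁻¹ᵁ U
  have hpre : p ⁻¹ᵁ V = (p ≫ h) ⁻¹ᵁ U := rfl
  haveI : IsAffine (p ⁻¹ᵁ V).toScheme := by
    rw [hpre]; exact hXU
  haveI : Surjective (p ∣_ V) := IsZariskiLocalAtTarget.restrict (P := @Surjective) inferInstance V
  exact isAffine_of_isIntegralHom_of_surjective (p ∣_ V)

theorem image_integral {X Y S : Scheme.{u}} (f : X ⟶ Y) (g : Y ⟶ S)
    [IsSeparated g] [IsIntegralHom (f ≫ g)] : IsIntegralHom (f.imageι ≫ g) ∧ Surjective f.toImage := by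
  haveI : IsIntegralHom f := .of_comp f g
  haveI : IsIntegralHom (f.toImage ≫ f.imageι) := by rw [f.toImage_imageι]; infer_instance
  haveI : IsIntegralHom f.toImage := .of_comp f.toImage f.imageι
  haveI : Surjective f.toImage := inferInstance
  have hcomp : f.toImage ≫ (f.imageι ≫ g) = f ≫ g := by rw [Scheme.Hom.toImage_imageι_assoc]
  haveI : UniversallyClosed (f.imageι ≫ g) := by
    haveI : UniversallyClosed (f.toImage ≫ f.imageι ≫ g) := by rw [hcomp]; infer_instance
    exact .of_comp_surjective f.toImage _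
  haveI : IsAffineHom (f.imageι ≫ g) := by
    haveI : IsAffineHom (f.toImage ≫ f.imageι ≫ g) := by rw [hcomp]; infer_instance
    exact isAffineHom_of_comp_integral_surjective f.toImage _
  exact ⟨IsIntegralHom.iff_universallyClosed_and_isAffineHom.mpr ⟨‹_›, ‹_›⟩, ‹_›⟩

theorem image_result {X Y S : Scheme.{u}} (f : X ⟶ Y) (g : Y ⟶ S)
    [IsSeparated g] [IsIntegralHom (f ≫ g)] (hfin : ∀ s : S, Set.Finite ((f ≫ g).base ⁻¹' {s})) :
    IsIntegralHom (f.imageι ≫ g) ∧ ∀ s : S, Set.Finite ((f.imageι ≫ g).base ⁻¹' {s}) := by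
  obtain ⟨h1, h2⟩ := image_integral f g
  refine ⟨h1, fun s => ?_⟩
  have hcomp : f.toImage ≫ (f.imageι ≫ g) = f ≫ g := by rw [Scheme.Hom.toImage_imageι_assoc]
  refine ((hfin s).image f.toImage.base).subset ?_
  intro y hy
  obtain ⟨x, rfl⟩ := f.toImage.surjective y
  refine ⟨x, ?_, rfl⟩
  have : (f ≫ g).base x = (f.imageι ≫ g).base (f.toImage.base x) := by
    rw [← hcomp]; rfl
  simp only [Set.mem_preimage, Set.mem_singleton_iff] at hy ⊢
  rw [this]; exact hy

end Groth.Agent.Lib.lead.ChevE
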