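import Mathlib
import Groth.Agent.Lib.lead.RootDD

/-!
Action of automorphisms / the Weyl group on positive systems and simple systems; transitivity.
-/

namespace Groth.Agent.RootDL

open RootD

variable {ι M N : Type*} [AddCommGroup M] [AddCommGroup N] {P : RootPairing ι ℤ M N}

lemma root_smul (g : P.Aut) (i : ι) : P.root (g • i) = g • P.root i :=
  RootPairing.Equiv.root_indexEquiv_eq_smul (P := P) i g

lemma refl_smul (i k : ι) : (RootPairing.Equiv.reflection P i) • k = P.reflectionPerm i k := rfl

lemma smul_neg_idx (g : P.Aut) (i : ι) :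
    g • (P.reflectionPerm i i) = P.reflectionPerm (g • i) (g • i) := by
  apply P.root.injective
  rw [root_smul, root_neg, root_neg, root_smul, smul_neg]

lemma smul_mem_natSpan (g : P.Aut) {S : Set ι} {x : M} (hx : x ∈ natSpan P S) :
    g • x ∈ natSpan P ((fun i : ι => g • i) '' S) := by
  induction hx using AddSubmonoid.closure_induction with
  | mem x hx =>
    obtain ⟨s, hs, rfl⟩ := hx
    rw [← root_smul]
    exact root_mem_natSpan P ⟨s, hs, rfl⟩
  | zero => rw [smul_zero]; exact zero_mem _
  | add x y _ _ hx hy => rw [smul_add]; exact add_mem hx hy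

lemma image_inv_image (g : P.Aut) (S : Set ι) :
    (fun i : ι => g⁻¹ • i) '' ((fun i : ι => g • i) '' S) = S := by
  ext k
  simp only [Set.mem_image, exists_exists_and_eq_and, inv_smul_smul, exists_eq_right]

lemma image_mul (g h : P.Aut) (S : Set ι) :
    (fun i : ι => (g * h) • i) '' S = (fun i : ι => g • i) '' ((fun i : ι => h • i) '' S) := by
  ext k
  simp only [Set.mem_image, exists_exists_and_eq_and, mul_smul]

lemma mem_image_smul_iff (g : P.Aut) (S : Set ι) (k : ι) :
    k ∈ (fun i : ι => g • i) '' S ↔ g⁻¹ • k ∈ S := by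
  constructor
  · rintro ⟨s, hs, rfl⟩
    simpa using hs
  · intro h
    exact ⟨g⁻¹ • k, h, by simp⟩

lemma mem_natSpan_image_iff (g : P.Aut) (S : Set ι) (x : M) :
    x ∈ natSpan P ((fun i : ι => g • i) '' S) ↔ g⁻¹ • x ∈ natSpan P S := by
  constructor
  · intro h
    have := smul_mem_natSpan g⁻¹ h
    rwa [image_inv_image] at this
  · intro h
    have := smul_mem_natSpan g h
    rwa [smul_inv_smul] at this

/-- the image of a positive system under an automorphism is a positive system -/
lemma isPosSys_image (g : P.Aut) {S : Set ι} (hS : IsPosSys P S) :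
    IsPosSys P ((fun i : ι => g • i) '' S) where
  disjoint := by
    intro k hk hk'
    rw [mem_image_smul_iff] at hk hk'
    rw [smul_neg_idx] at hk'
    exact hS.disjoint hk hk'
  cover := by
    intro k
    rw [mem_image_smul_iff, mem_image_smul_iff, smul_neg_idx]
    exact hS.cover _
  sat := by
    intro k n hn hk
    rw [mem_natSpan_image_iff, smul_comm, ← root_smul] at hk
    rw [mem_image_smul_iff]
    exact hS.sat n hn hk

lemma simpleOf_image (g : P.Aut) (S : Set ι) :
    simpleOf P ((fun i : ι => g • i) '' S) = (fun i : ι => g • i) '' simpleOf P S := by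
  ext k
  rw [mem_image_smul_iff]
  simp only [simpleOf, Set.mem_ofPred_eq, mem_image_smul_iff]
  refine and_congr Iff.rfl (not_congr ⟨?_, ?_⟩)
  · rintro ⟨a, ha, b, hb, hab⟩
    refine ⟨g⁻¹ • a, ha, g⁻¹ • b, hb, ?_⟩
    rw [root_smul, root_smul, root_smul, hab, smul_add]
  · rintro ⟨a, ha, b, hb, hab⟩
    refine ⟨g • a, by simpa using ha, g • b, by simpa using hb, ?_⟩
    rw [root_smul, root_smul, ← smul_add, ← hab, ← root_smul, smul_inv_smul]

end Groth.Agent.RootDL
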