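import Mathlib
import Groth.Agent.Lib.lead.RootDE
import Groth.Agent.S5448

/-!
Transitivity of the Weyl group on positive systems and simple systems.
-/

namespace Groth.Agent.RootDL

open RootD

variable {ι M N : Type*} [AddCommGroup M] [AddCommGroup N] {P : RootPairing ι ℤ M N}

open Groth.Agent.Lib.Helper4.RD in
/-- The reflection in a simple root `i` maps a positive root other than `root i`, `2 root i` to a
positive root. -/
lemma refl_mem_posOf [Finite ι] {Δ : Set ι} (hΔ : IsSimpleSys P Δ) {i : ι} (hi : i ∈ Δ) {k : ι}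
    (hk : k ∈ posOf P Δ) (h1 : P.root k ≠ P.root i) (h2 : P.root k ≠ (2 : ℤ) • P.root i) :
    P.reflectionPerm i k ∈ posOf P Δ := by
  classical
  by_cases hex : ∃ l : Δ, l ≠ ⟨i, hi⟩ ∧ 0 < coef hΔ k l
  · obtain ⟨l, hl, hpos⟩ := hex
    apply mem_posOf_of_pos hΔ _ l
    rw [coef_reflectionPerm hΔ ⟨i, hi⟩ k]
    simpa [Finsupp.single_apply, hl.symm] using hpos
  · exfalso
    push Not at hex
    have hnn := (mem_posOf_iff hΔ k).mp hk
    have hsupp : ∀ l : Δ, l ≠ ⟨i, hi⟩ → coef hΔ k l = 0 :=
      fun l hl => le_antisymm (hex l hl) (hnn l)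
    obtain ⟨q, hq, hq'⟩ := exists_pos_smul_eq_of_supported (P := P) (a := k) (n := 1) hi one_pos hnn
      (by rw [one_smul]; exact lc_coef hΔ k) hsupp
    rcases eq_or_eq_two_smul_of_proportional (Groth.Agent.S5448.result P Δ hΔ i hi)
      (by norm_num) hq hq' with h | h
    exacts [h1 h, h2 h]

theorem exists_weyl_image_subset_aux [Finite ι] {P' : Set ι}
    (hP2 : ∀ i, i ∈ P' ∨ P.reflectionPerm i i ∈ P') (hcl : IsClosedSub P P') :
    ∀ (n : ℕ) (S : Set ι), IsPosSys P S → (S \ P').ncard = n →
      ∃ g : P.Aut, g ∈ P.weylGroup ∧ (fun i : ι => g • i) '' S ⊆ P' := by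
  intro n
  induction n using Nat.strong_induction_on with
  | _ n ih =>
    intro S hS hn
    have hΔ := isSimpleSys_simpleOf hS
    have hSeq : S = posOf P (simpleOf P S) := eq_posOf_of_subset hΔ hS (simpleOf_subset S)
    by_cases hsub : simpleOf P S ⊆ P'
    · refine ⟨1, one_mem _, ?_⟩
      rintro _ ⟨k, hk, rfl⟩
      beta_reduce
      rw [one_smul]
      rw [hSeq] at hk
      exact closed_mem hcl (natSpan_mono P hsub hk)
    · obtain ⟨i, hiΔ, hiP'⟩ := Set.not_subset.mp hsub
      have hiS : i ∈ S := simpleOf_subset S hiΔ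
      have hnegi : P.reflectionPerm i i ∈ P' := (hP2 i).resolve_left hiP'
      have hS₂ := isPosSys_image (RootPairing.Equiv.reflection P i) hS
      have hsubset : ((fun k : ι => (RootPairing.Equiv.reflection P i) • k) '' S) \ P' ⊆
          (S \ P') \ {i} := by
        rintro k ⟨⟨k', hk', rfl⟩, hkP'⟩
        beta_reduce at hkP' ⊢
        rw [refl_smul] at hkP' ⊢
        by_cases h1 : P.root k' = P.root i
        · have : k' = i := P.root.injective h1
          subst this
          exact absurd hnegi hkP'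
        by_cases h2 : P.root k' = (2 : ℤ) • P.root i
        · exfalso
          apply hkP'
          apply closed_mem hcl
          have : P.root (P.reflectionPerm i k') =
              P.root (P.reflectionPerm i i) + P.root (P.reflectionPerm i i) := by
            rw [P.root_reflectionPerm, h2, map_smul, P.reflection_apply_self, root_neg]
            module
          rw [this]
          exact add_mem (root_mem_natSpan P hnegi) (root_mem_natSpan P hnegi)
        · have hpos : P.reflectionPerm i k' ∈ posOf P (simpleOf P S) :=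
            refl_mem_posOf hΔ hiΔ (hSeq ▸ hk') h1 h2
          refine ⟨⟨hSeq ▸ hpos, hkP'⟩, ?_⟩
          intro hki
          have hki' : P.reflectionPerm i k' = i := hki
          have : k' = P.reflectionPerm i i :=
            (P.reflectionPerm i).injective (hki'.trans (P.reflectionPerm_self i i).symm)
          exact hS.disjoint hiS (this ▸ hk')
      have hlt : (((fun k : ι => (RootPairing.Equiv.reflection P i) • k) '' S) \ P').ncard < n := by
        rw [← hn]
        calc _ ≤ ((S \ P') \ {i}).ncard := Set.ncard_le_ncard hsubset (Set.toFinite _)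
          _ < (S \ P').ncard := Set.ncard_sdiff_singleton_lt_of_mem ⟨hiS, hiP'⟩ (Set.toFinite _)
      obtain ⟨g, hg, hgS⟩ := ih _ hlt _ hS₂ rfl
      refine ⟨g * RootPairing.Equiv.reflection P i,
        mul_mem hg (P.reflection_mem_weylGroup i), ?_⟩
      rw [image_mul]
      exact hgS

/-- S5453 -/
theorem exists_weyl_image_subset [Finite ι] {S : Set ι} (hS : IsPosSys P S) {P' : Set ι}
    (hP2 : ∀ i, i ∈ P' ∨ P.reflectionPerm i i ∈ P') (hcl : IsClosedSub P P') :
    ∃ g : P.Aut, g ∈ P.weylGroup ∧ (fun i : ι => g • i) '' S ⊆ P' :=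
  exists_weyl_image_subset_aux hP2 hcl _ S hS rfl

/-- S5454 -/
theorem weyl_transitive_posSys [Finite ι] {S S' : Set ι} (hS : IsPosSys P S)
    (hS' : IsPosSys P S') :
    ∃ g : P.Aut, g ∈ P.weylGroup ∧ (fun i : ι => g • i) '' S = S' := by
  obtain ⟨g, hg, hsub⟩ := exists_weyl_image_subset hS hS'.cover (posSys_isClosed hS')
  exact ⟨g, hg, posSys_eq_of_subset (isPosSys_image g hS) hS' hsub⟩

/-- S5455 -/
theorem weyl_transitive_simpleSys [Finite ι] {Δ Δ' : Set ι} (hΔ : IsSimpleSys P Δ)
    (hΔ' : IsSimpleSys P Δ') :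
    ∃ g : P.Aut, g ∈ P.weylGroup ∧ (fun i : ι => g • i) '' Δ = Δ' := by
  obtain ⟨g, hg, h⟩ := weyl_transitive_posSys (posOf_isPosSys hΔ) (posOf_isPosSys hΔ')
  refine ⟨g, hg, ?_⟩
  rw [← simpleOf_posOf hΔ, ← simpleOf_image, h, simpleOf_posOf hΔ']

end Groth.Agent.RootDL
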