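import Mathlib
import Groth.Agent.Lib.lead.RootDF
import Groth.Agent.S5457

/-!
Existence of positive systems; parabolic sets of roots (S5458, S5459).
-/

namespace Groth.Agent.RootDL

open RootD

variable {ι M N : Type*} [AddCommGroup M] [AddCommGroup N] {P : RootPairing ι ℤ M N}

/-- well-founded induction in a pointed set: to prove `C k` for `k ∈ S` one may assume `C a`, `C b`
for every decomposition `root k = root a + root b` with `a, b ∈ S`. -/
theorem pointed_induction [Finite ι] {S : Set ι} (hS : Pointed P S) (C : ι → Prop)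
    (step : ∀ k ∈ S, (∀ a ∈ S, ∀ b ∈ S, P.root k = P.root a + P.root b → C a ∧ C b) → C k) :
    ∀ k ∈ S, C k := by
  classical
  let r : ι → ι → Prop := fun j k =>
    ∃ x ∈ natSpan P S, x ≠ 0 ∧ P.root k = P.root j + x
  have : IsTrans ι r := ⟨by
    rintro a b c ⟨x, hx, hx0, hab⟩ ⟨y, hy, hy0, hbc⟩
    refine ⟨x + y, add_mem hx hy, fun h => hx0 (hS hx hy h), ?_⟩
    rw [hbc, hab, add_assoc]⟩
  have : Std.Irrefl r := ⟨by
    rintro a ⟨x, hx, hx0, ha⟩
    exact hx0 (by simpa using ha.symm)⟩
  have wf : WellFounded r := Finite.wellFounded_of_trans_of_irrefl r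
  intro k
  induction k using wf.induction with
  | _ k ih =>
    intro hk
    refine step k hk fun a ha b hb hab => ⟨?_, ?_⟩
    · exact ih a ⟨P.root b, root_mem_natSpan P hb, P.ne_zero b, hab⟩ ha
    · exact ih b ⟨P.root a, root_mem_natSpan P ha, P.ne_zero a, by rw [hab, add_comm]⟩ hb

/-- finitely many nonzero additive functionals to `ℤ` are simultaneously nonzero somewhere -/
lemma exists_forall_ne_zero {A : Type*} [AddCommGroup A] {κ : Type*} (s : Finset κ)
    (f : κ → A →+ ℤ) (hf : ∀ i ∈ s, ∃ z, f i z ≠ 0) : ∃ y, ∀ i ∈ s, f i y ≠ 0 := by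
  classical
  induction s using Finset.induction_on with
  | empty => exact ⟨0, by simp⟩
  | insert a s ha ih =>
    obtain ⟨y, hy⟩ := ih fun i hi => hf i (Finset.mem_insert_of_mem hi)
    by_cases hay : f a y ≠ 0
    · exact ⟨y, fun i hi => by
        rcases Finset.mem_insert.mp hi with rfl | hi
        · exact hay
        · exact hy i hi⟩
    · push Not at hay
      obtain ⟨z, hz⟩ := hf a (Finset.mem_insert_self a s)
      let B : Finset ℤ := insert 0 (s.image fun i => (-f i y) / f i z)
      obtain ⟨t, ht⟩ := Infinite.exists_notMem_finset B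
      refine ⟨y + t • z, fun i hi => ?_⟩
      rcases Finset.mem_insert.mp hi with rfl | hi
      · rw [map_add, hay, zero_add, map_zsmul, smul_eq_mul]
        refine mul_ne_zero (fun h0 => ht ?_) hz
        rw [h0]; exact Finset.mem_insert_self _ _
      · intro h0
        rw [map_add, map_zsmul, smul_eq_mul] at h0
        by_cases hiz : f i z = 0
        · rw [hiz, mul_zero, add_zero] at h0
          exact hy i hi h0
        · apply ht
          refine Finset.mem_insert_of_mem (Finset.mem_image.mpr ⟨i, hi, ?_⟩)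
          have : t * f i z = -f i y := by linarith
          rw [← this, Int.mul_ediv_cancel _ hiz]

/-- existence of a positive system -/
theorem exists_posSys [Finite ι] (P : RootPairing ι ℤ M N) : ∃ S : Set ι, IsPosSys P S := by
  classical
  have := Fintype.ofFinite ι
  let f : ι → N →+ ℤ := fun i => (P.toLinearMap (P.root i)).toAddMonoidHom
  obtain ⟨y, hy⟩ := exists_forall_ne_zero (A := N) Finset.univ f fun i _ =>
    ⟨P.coroot i, by
      change P.toLinearMap (P.root i) (P.coroot i) ≠ 0
      rw [P.root_coroot_two]; norm_num⟩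
  let φ : M →+ ℤ := (P.toLinearMap.flip y).toAddMonoidHom
  refine ⟨{i | 0 < φ (P.root i)}, Groth.Agent.S5457.result P φ fun i => ?_⟩
  have : φ (P.root i) ≠ 0 := hy i (Finset.mem_univ i)
  rcases lt_trichotomy (φ (P.root i)) 0 with h | h | h
  · exact Or.inr h
  · exact absurd h this
  · exact Or.inl h

theorem exists_simpleSys [Finite ι] (P : RootPairing ι ℤ M N) : ∃ Δ : Set ι, IsSimpleSys P Δ := by
  obtain ⟨S, hS⟩ := exists_posSys P
  exact ⟨_, isSimpleSys_simpleOf hS⟩

end Groth.Agent.RootDL
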