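import Mathlib
import Groth.Agent.Lib.lead.RootDH
import Groth.Agent.S5467
import Groth.Agent.S5503

/-!
Generation of the Weyl group by simple reflections; indivisible roots are conjugate to simple roots.
-/

namespace Groth.Agent.RootDL

open RootD RootPairing
open Groth.Agent.Lib.Helper4.RD

variable {ι M N : Type*} [AddCommGroup M] [AddCommGroup N] {P : RootPairing ι ℤ M N}

/-- height of a root along a simple system -/
noncomputable def height {Δ : Set ι} (hΔ : IsSimpleSys P Δ) (k : ι) : ℤ :=
  (coef hΔ k).sum fun _ a => a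

lemma height_nonneg {Δ : Set ι} (hΔ : IsSimpleSys P Δ) {k : ι} (hk : k ∈ posOf P Δ) :
    0 ≤ height hΔ k :=
  Finset.sum_nonneg fun l _ => (mem_posOf_iff hΔ k).mp hk l

lemma height_refl {Δ : Set ι} (hΔ : IsSimpleSys P Δ) (i : Δ) (k : ι) :
    height hΔ (P.reflectionPerm i k) = height hΔ k - P.pairing k i := by
  classical
  unfold height
  rw [coef_reflectionPerm, sub_eq_add_neg, ← Finsupp.single_neg,
    Finsupp.sum_add_index' (fun _ => rfl) (fun _ _ _ => rfl), Finsupp.sum_single_index rfl]
  ring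

lemma isIndiv_smul (g : P.Aut) {k : ι} (hk : IsIndiv P k) : IsIndiv P (g • k) := by
  intro j hj
  apply hk (g⁻¹ • j)
  rw [root_smul, ← smul_comm, hj, ← root_smul, inv_smul_smul]

lemma isIndiv_neg {k : ι} (hk : IsIndiv P k) : IsIndiv P (P.reflectionPerm k k) := by
  intro j hj
  apply hk (P.reflectionPerm j j)
  rw [root_neg, smul_neg, hj, root_neg, neg_neg]

/-- the subgroup generated by the simple reflections -/
noncomputable def simpleRefl (P : RootPairing ι ℤ M N) (Δ : Set ι) : Subgroup P.Aut :=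
  Subgroup.closure ((fun i : ι => Equiv.reflection P i) '' Δ)

lemma refl_mem_simpleRefl {Δ : Set ι} {i : ι} (hi : i ∈ Δ) :
    Equiv.reflection P i ∈ simpleRefl P Δ := Subgroup.subset_closure ⟨i, hi, rfl⟩

lemma simpleRefl_le (Δ : Set ι) : simpleRefl P Δ ≤ P.weylGroup := by
  rw [simpleRefl, Subgroup.closure_le]
  rintro _ ⟨i, _, rfl⟩
  exact P.reflection_mem_weylGroup i

/-- positive indivisible roots are conjugate to simple roots under simple reflections -/
lemma exists_simpleRefl_smul_eq_of_pos [Finite ι] {Δ : Set ι} (hΔ : IsSimpleSys P Δ) :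
    ∀ (n : ℕ) (k : ι), k ∈ posOf P Δ → IsIndiv P k → (height hΔ k).toNat = n →
      ∃ g ∈ simpleRefl P Δ, ∃ i ∈ Δ, g • i = k := by
  intro n
  induction n using Nat.strong_induction_on with
  | _ n ih =>
    intro k hk hind hn
    by_cases hkΔ : k ∈ Δ
    · exact ⟨1, one_mem _, k, hkΔ, one_smul _ _⟩
    · obtain ⟨i, hi, hpair, hpos⟩ := Groth.Agent.S5467.result P Δ hΔ k hk hkΔ hind
      have hh := height_refl hΔ ⟨i, hi⟩ k
      have h0 := height_nonneg hΔ hpos
      have h1 := height_nonneg hΔ hk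
      have hlt : (height hΔ (P.reflectionPerm i k)).toNat < n := by
        rw [← hn]
        simp only at hh
        omega
      have hind' : IsIndiv P (P.reflectionPerm i k) := isIndiv_smul (Equiv.reflection P i) hind
      obtain ⟨g, hg, j, hj, hgj⟩ := ih _ hlt _ hpos hind' rfl
      refine ⟨Equiv.reflection P i * g, mul_mem (refl_mem_simpleRefl hi) hg, j, hj, ?_⟩
      rw [mul_smul, hgj, refl_smul, P.reflectionPerm_self]

lemma exists_simpleRefl_smul_eq [Finite ι] {Δ : Set ι} (hΔ : IsSimpleSys P Δ) {k : ι}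
    (hind : IsIndiv P k) : ∃ g ∈ simpleRefl P Δ, ∃ i ∈ Δ, g • i = k := by
  rcases (posOf_isPosSys hΔ).cover k with hk | hk
  · exact exists_simpleRefl_smul_eq_of_pos hΔ _ k hk hind rfl
  · obtain ⟨g, hg, i, hi, hgi⟩ :=
      exists_simpleRefl_smul_eq_of_pos hΔ _ _ hk (isIndiv_neg hind) rfl
    refine ⟨g * Equiv.reflection P i, mul_mem hg (refl_mem_simpleRefl hi), i, hi, ?_⟩
    rw [mul_smul, refl_smul, smul_neg_idx, hgi, neg_neg_idx]

/-- reflections in proportional roots `β = 2α` coincide -/
lemma reflection_eq_of_root_eq_two_smul [Finite ι] {i j : ι} (h : P.root j = (2 : ℤ) • P.root i) :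
    Equiv.reflection P j = Equiv.reflection P i := by
  have := torsionFree (P := P)
  have : IsAddTorsionFree N := torsionFree (P := P.flip)
  have hc : (2 : ℤ) • P.coroot j = P.coroot i := smul_coroot_eq_of_root_eq_smul i j 2 h
  apply Equiv.weightHom_injective P
  ext x
  change P.reflection j x = P.reflection i x
  have hcx : P.coroot' i x = 2 * P.coroot' j x := by
    simp only [RootPairing.coroot', ← hc, map_smul, LinearMap.flip_apply, LinearMap.smul_apply,
      smul_eq_mul]
  rw [P.reflection_apply, P.reflection_apply, h, hcx, smul_smul, mul_comm]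

/-- a divisible root is twice an indivisible root -/
lemma exists_indiv_of_not_indiv [Finite ι] {k : ι} (hk : ¬ IsIndiv P k) :
    ∃ j, IsIndiv P j ∧ P.root k = (2 : ℤ) • P.root j := by
  simp only [IsIndiv, not_forall, not_not] at hk
  obtain ⟨j, hj⟩ := hk
  refine ⟨j, fun j' hj' => ?_, hj.symm⟩
  -- root k = 4 root j' is impossible
  have h4 : P.root k = (4 : ℤ) • P.root j' := by
    rw [← hj, ← hj', smul_smul]; norm_num
  have h1 : P.pairing k j' = 8 := by
    have := congrArg (P.coroot' j') h4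
    simpa using this
  have h2 : 4 * P.pairing j' k = 2 := by
    have := congrArg (P.coroot' k) h4
    simp only [map_smul, RootPairing.root_coroot'_eq_pairing, RootPairing.pairing_same,
      smul_eq_mul] at this
    linarith
  omega

theorem simpleRefl_eq_weylGroup [Finite ι] {Δ : Set ι} (hΔ : IsSimpleSys P Δ) :
    simpleRefl P Δ = P.weylGroup := by
  apply le_antisymm (simpleRefl_le Δ)
  rw [RootPairing.weylGroup, Subgroup.closure_le]
  rintro _ ⟨k, rfl⟩
  have key : ∀ k, IsIndiv P k → Equiv.reflection P k ∈ simpleRefl P Δ := by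
    intro k hk
    obtain ⟨g, hg, i, hi, rfl⟩ := exists_simpleRefl_smul_eq hΔ hk
    rw [← Groth.Agent.S5503.result P g i]
    exact mul_mem (mul_mem hg (refl_mem_simpleRefl hi)) (inv_mem hg)
  by_cases hk : IsIndiv P k
  · exact key k hk
  · obtain ⟨j, hj, hkj⟩ := exists_indiv_of_not_indiv hk
    rw [SetLike.mem_coe, reflection_eq_of_root_eq_two_smul hkj]
    exact key j hj

/-- S5508 -/
theorem simple_reflections_generate_and_conj [Finite ι] {Δ : Set ι} (hΔ : IsSimpleSys P Δ) :
    Subgroup.closure ((fun i : ι => Equiv.reflection P i) '' Δ) = P.weylGroup ∧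
      ∀ k : ι, IsIndiv P k → ∃ g : P.Aut, g ∈ P.weylGroup ∧ ∃ i ∈ Δ, g • i = k := by
  refine ⟨simpleRefl_eq_weylGroup hΔ, fun k hk => ?_⟩
  obtain ⟨g, hg, i, hi, h⟩ := exists_simpleRefl_smul_eq hΔ hk
  exact ⟨g, simpleRefl_le Δ hg, i, hi, h⟩

end Groth.Agent.RootDL
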