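import Mathlib
import Groth.Agent.Lib.lead.RootDJ
import Groth.Agent.Lib.lead.RootDH

/-!
Presentation of the root lattice of a reduced root pairing over `ℤ` by the reflection relations.
-/

namespace Groth.Agent.RootDL

open RootD RootPairing

variable {ι M N : Type*} [AddCommGroup M] [AddCommGroup N] (P : RootPairing ι ℤ M N)

/-- the reflection relation `[s_i j] - [j] + ⟨j, i^∨⟩ [i]` -/
noncomputable def reflRel (p : ι × ι) : ι →₀ ℤ :=
  Finsupp.single (P.reflectionPerm p.1 p.2) (1 : ℤ) - Finsupp.single p.2 1 +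
    P.pairing p.2 p.1 • Finsupp.single p.1 1

lemma lc_reflRel (p : ι × ι) : Finsupp.linearCombination ℤ P.root (reflRel P p) = 0 := by
  simp only [reflRel, map_add, map_sub, map_smul, Finsupp.linearCombination_single, one_smul,
    P.root_reflectionPerm, P.reflection_apply_root]
  abel

lemma span_reflRel_le_ker :
    Submodule.span ℤ (Set.range (reflRel P)) ≤
      LinearMap.ker (Finsupp.linearCombination ℤ P.root) := by
  rw [Submodule.span_le]
  rintro _ ⟨p, rfl⟩
  exact lc_reflRel P p

variable {P}

theorem ker_lc_root_eq_span_reflRel [Finite ι] [P.IsReduced] :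
    LinearMap.ker (Finsupp.linearCombination ℤ P.root) =
      Submodule.span ℤ (Set.range (reflRel P)) := by
  classical
  have htf := torsionFree (P := P)
  apply le_antisymm _ (span_reflRel_le_ker P)
  obtain ⟨Δ, hΔ⟩ := exists_simpleSys P
  set K := Submodule.span ℤ (Set.range (reflRel P)) with hK
  set S := Finsupp.supported ℤ ℤ Δ with hS
  -- the set of indices whose generator lies in `S + K`
  let T : Set ι := {k | Finsupp.single k (1 : ℤ) ∈ S ⊔ K}
  have hΔT : Δ ⊆ T := fun i hi =>
    Submodule.mem_sup_left (Finsupp.single_mem_supported ℤ 1 hi)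
  have hstep : ∀ a ∈ Δ, ∀ k ∈ T, P.reflectionPerm a k ∈ T := by
    intro a ha k hk
    have hrel : reflRel P (a, k) ∈ K := Submodule.subset_span ⟨(a, k), rfl⟩
    have : Finsupp.single (P.reflectionPerm a k) (1 : ℤ) =
        reflRel P (a, k) + Finsupp.single k 1 - P.pairing k a • Finsupp.single a 1 := by
      simp only [reflRel]; abel
    change Finsupp.single (P.reflectionPerm a k) (1 : ℤ) ∈ S ⊔ K
    rw [this]
    exact sub_mem (add_mem (Submodule.mem_sup_right hrel) hk)
      (Submodule.smul_mem _ _ (hΔT ha))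
  have hgrp : ∀ g ∈ simpleRefl P Δ, ∀ k ∈ T, g • k ∈ T := by
    intro g hg
    induction hg using Subgroup.closure_induction'' with
    | mem x hx =>
      obtain ⟨a, ha, rfl⟩ := hx
      intro k hk
      exact hstep a ha k hk
    | inv_mem x hx =>
      obtain ⟨a, ha, rfl⟩ := hx
      intro k hk
      rw [Equiv.reflection_inv]
      exact hstep a ha k hk
    | one => intro k hk; rwa [one_smul]
    | mul x y _ _ hx hy => intro k hk; rw [mul_smul]; exact hx _ (hy k hk)
  have hall : ∀ k : ι, k ∈ T := by
    intro k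
    have hind : IsIndiv P k := by
      intro j h
      have : (2 : ℕ) • P.root j ∉ Set.range P.root := RootPairing.nsmul_notMem_range_root P
      exact this ⟨k, by rw [← h, ofNat_zsmul]⟩
    obtain ⟨g, hg, i, hi, rfl⟩ := exists_simpleRefl_smul_eq hΔ hind
    exact hgrp g hg i (hΔT hi)
  have htop : S ⊔ K = ⊤ := by
    rw [eq_top_iff]
    intro x _
    rw [← Finsupp.sum_single x]
    refine Submodule.sum_mem _ fun k _ => ?_
    have : Finsupp.single k (x k) = x k • Finsupp.single k (1 : ℤ) := by
      rw [Finsupp.smul_single, smul_eq_mul, mul_one]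
    rw [this]
    exact Submodule.smul_mem _ _ (hall k)
  intro x hx
  have hx' : x ∈ S ⊔ K := htop ▸ Submodule.mem_top
  obtain ⟨s, hs, κ, hκ, rfl⟩ := Submodule.mem_sup.mp hx'
  have hκ0 := span_reflRel_le_ker P hκ
  rw [LinearMap.mem_ker] at hx hκ0
  rw [map_add, hκ0, add_zero] at hx
  have hs0 : s = 0 := linearIndepOn_iff.mp hΔ.linInd s hs hx
  rw [hs0, zero_add]
  exact hκ

end Groth.Agent.RootDL
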