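import Mathlib
import Groth.Agent.Lib.lead.StalkDimIneq

set_option autoImplicit false
universe u
open CategoryTheory CategoryTheory.Limits AlgebraicGeometry

namespace Groth.Agent.Lib.lead.CurveClosedSub

set_option backward.isDefEq.respectTransparency.types false in
/-- A scheme of finite type over a field with Krull dimension `≤ 0` is finite over the field. -/
theorem isFinite_of_dim_le_zero {k : Type u} [Field k] {G : Scheme.{u}}
    (h : G ⟶ Spec (CommRingCat.of k)) [LocallyOfFiniteType h] [QuasiCompact h]
    (hd : topologicalKrullDim G ≤ 0) : IsFinite h := by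
  haveI : IsLocallyNoetherian G := LocallyOfFiniteType.isLocallyNoetherian h
  haveI : IsLocallyArtinian G := .of_topologicalKrullDim_le_zero hd
  haveI : CompactSpace G := QuasiCompact.compactSpace_of_compactSpace h
  haveI : Finite G := finite_of_compact_of_discrete
  haveI : IsAffine G := inferInstance
  rw [HasAffineProperty.iff_of_isAffine (P := @IsFinite)]
  refine ⟨inferInstance, ?_⟩
  have hft : h.appTop.hom.FiniteType :=
    (HasRingHomProperty.iff_of_isAffine (P := @LocallyOfFiniteType)).1 inferInstance
  letI := h.appTop.hom.toAlgebra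
  haveI : Algebra.FiniteType Γ(Spec (CommRingCat.of k), ⊤) Γ(G, ⊤) := hft
  haveI : IsArtinianRing Γ(G, ⊤) := inferInstance
  haveI : IsJacobsonRing Γ(Spec (CommRingCat.of k), ⊤) := by
    have e : k ≃+* Γ(Spec (CommRingCat.of k), ⊤) :=
      (Scheme.ΓSpecIso (CommRingCat.of k)).symm.commRingCatIsoToRingEquiv
    exact isJacobsonRing_of_surjective ⟨e.toRingHom, e.surjective⟩
  exact Module.finite_of_isArtinianRing Γ(Spec (CommRingCat.of k), ⊤) Γ(G, ⊤)

theorem main {k : Type u} [Field k]
    {E G : Scheme.{u}} (f : E ⟶ Spec (CommRingCat.of k)) [LocallyOfFiniteType f] [QuasiCompact f]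
    [IsIntegral E] (hdim : topologicalKrullDim ↥E = 1) (ι : G ⟶ E) [IsClosedImmersion ι] :
    IsIso ι ∨ IsFinite (ι ≫ f) := by
  by_cases hs : Function.Surjective ι
  · left
    haveI : Surjective ι := ⟨hs⟩
    exact isIso_of_isClosedImmersion_of_surjective ι
  · right
    apply isFinite_of_dim_le_zero
    have hξ : genericPoint E ∉ Set.range ι := by
      intro hmem
      apply hs
      rw [← Set.range_eq_univ, ← ι.isClosedEmbedding.isClosed_range.closure_eq]
      apply Set.eq_univ_of_univ_subset
      rw [← genericPoint_spec E]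
      exact closure_mono (Set.singleton_subset_iff.2 hmem)
    rw [StalkDimIneq.topologicalKrullDim_eq_krullDim, Order.krullDim_nonpos_iff_forall_isMax]
    intro g g' hgg'
    by_contra hcon
    have h1 : ι g ≤ ι g' := by
      rw [Scheme.le_iff_specializes] at hgg' ⊢
      exact hgg'.map ι.continuous
    have h2 : ¬ ι g' ≤ ι g := by
      intro hle
      apply hcon
      rw [Scheme.le_iff_specializes] at hle ⊢
      exact ι.isClosedEmbedding.isInducing.specializes_iff.1 hle
    have h3 : ι g' ≤ genericPoint E := by
      rw [Scheme.le_iff_specializes]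
      exact (genericPoint_spec E).specializes trivial
    have h4 : ¬ genericPoint E ≤ ι g' := by
      intro hle
      rw [Scheme.le_iff_specializes] at hle
      have h5 : ι g' ⤳ genericPoint E := hle
      have h6 : genericPoint E ⤳ ι g' := (genericPoint_spec E).specializes trivial
      exact hξ ⟨g', (h5.antisymm h6).eq⟩
    let c0 : LTSeries E := RelSeries.singleton _ (ι g)
    let c1 : LTSeries E := c0.snoc (ι g') (lt_of_le_not_ge h1 h2)
    have hlast : c1.last = ι g' := RelSeries.last_snoc _ _ _
    let c : LTSeries E := c1.snoc (genericPoint E) (by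
      show c1.last < genericPoint E
      rw [hlast]
      exact lt_of_le_not_ge h3 h4)
    have hc : (c.length : WithBot ℕ∞) ≤ Order.krullDim E := Order.LTSeries.length_le_krullDim c
    rw [← StalkDimIneq.topologicalKrullDim_eq_krullDim, hdim] at hc
    have : c.length = 2 := rfl
    rw [this] at hc
    have h7 : ((2 : ℕ) : WithBot ℕ∞) ≤ ((1 : ℕ) : WithBot ℕ∞) := by exact_mod_cast hc
    have h8 : (2 : ℕ) ≤ 1 := by exact_mod_cast h7
    omega

end Groth.Agent.Lib.lead.CurveClosedSub

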