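import Mathlib
import Groth.Agent.Lib.Helper7.AffinePoints

set_option autoImplicit false
universe u
open CategoryTheory CategoryTheory.Limits AlgebraicGeometry

namespace Groth.Agent.Lib.lead.DimOneClosed

open Groth.Agent.Lib.Helper7

variable {X : Scheme.{u}}

theorem coheight_eq_one_iff (x : X) :
    ringKrullDim (X.presheaf.stalk x) = 1 ↔ Order.coheight x = 1 := by
  rw [ringKrullDim_stalk_eq_coheight]
  constructor
  · intro h
    have : ((Order.coheight x : ℕ∞) : WithBot ℕ∞) = ((1 : ℕ∞) : WithBot ℕ∞) := h
    exact_mod_cast this
  · intro h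
    rw [h]
    rfl

theorem lt_iff (a b : X) : a < b ↔ b ⤳ a ∧ b ≠ a := by
  rw [lt_iff_le_not_ge]
  constructor
  · rintro ⟨h1, h2⟩
    refine ⟨h1, fun h => h2 ?_⟩
    rw [h]
  · rintro ⟨h1, h2⟩
    refine ⟨h1, fun h => h2 ?_⟩
    have h1' : b ⤳ a := h1
    have h' : a ⤳ b := h
    exact (h1'.antisymm h').eq

theorem not_mem_components_iff (y : X) :
    closure ({y} : Set X) ∉ irreducibleComponents (X : Type u) ↔ ∃ z : X, y < z := by
  rw [AffPts.closure_mem_irreducibleComponents_iff]
  push Not
  constructor
  · rintro ⟨z, hz, hne⟩
    exact ⟨z, (lt_iff y z).2 ⟨hz, hne⟩⟩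
  · rintro ⟨z, hz⟩
    exact ⟨z, ((lt_iff y z).1 hz).1, ((lt_iff y z).1 hz).2⟩

theorem main [CompactSpace X] :
    (∀ x : X, IsClosed ({x} : Set X) → ringKrullDim (X.presheaf.stalk x) = 1) ↔
      ((∀ F : Set X, IsClosed F → IsIrreducible F → F ∉ irreducibleComponents (X : Type u) →
          ∃ x : X, IsClosed ({x} : Set X) ∧ F = {x}) ∧
        ∀ x : X, IsClosed ({x} : Set X) → ({x} : Set X) ∉ irreducibleComponents (X : Type u)) := by
  constructor
  · intro h
    constructor
    · intro F hF hFirr hFnot
      obtain ⟨η, hη⟩ := QuasiSober.sober hFirr hF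
      obtain ⟨x, hxF, hx⟩ := hF.exists_closed_singleton hFirr.nonempty
      have hηx : η ⤳ x := hη.specializes hxF
      have hcl : closure ({η} : Set X) = F := hη.def
      rw [← hcl] at hFnot
      obtain ⟨z, hz⟩ := (not_mem_components_iff η).1 hFnot
      have hco := (coheight_eq_one_iff x).1 (h x hx)
      by_cases hne : η = x
      · refine ⟨x, hx, ?_⟩
        rw [← hcl, hne, hx.closure_eq]
      · exfalso
        have hxη : x < η := (lt_iff x η).2 ⟨hηx, hne⟩
        have h1 : Order.coheight z + 1 ≤ Order.coheight η := Order.coheight_add_one_le hz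
        have h2 : Order.coheight η + 1 ≤ Order.coheight x := Order.coheight_add_one_le hxη
        rw [hco] at h2
        have h3 : Order.coheight η = 0 := by
          have : Order.coheight η + 1 ≤ 0 + 1 := by simpa using h2
          have := (ENat.add_le_add_iff_right (by simp)).1 this
          exact le_antisymm this bot_le
        rw [h3] at h1
        simp at h1
    · intro x hx hmem
      have hco := (coheight_eq_one_iff x).1 (h x hx)
      rw [← hx.closure_eq] at hmem
      have hmax : IsMax x := by
        intro y hy
        have := (AffPts.closure_mem_irreducibleComponents_iff x).1 hmem y hy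
        rw [this]
      rw [Order.coheight_eq_zero.2 hmax] at hco
      simp at hco
  · rintro ⟨h1, h2⟩ x hx
    rw [coheight_eq_one_iff]
    apply le_antisymm
    · have : Order.coheight x ≤ ((1 : ℕ) : ℕ∞) := by
        rw [Order.coheight_le_coe_iff]
        intro y hy
        have hmaxy : IsMax y := by
          by_contra hnot
          have hex : ∃ z, y < z := by
            by_contra hno
            push Not at hno
            apply hnot
            intro z hz
            by_contra hzy
            exact hno z (lt_of_le_not_ge hz hzy)
          have hnc := (not_mem_components_iff y).2 hex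
          obtain ⟨x', hx', hF⟩ := h1 (closure {y}) isClosed_closure isIrreducible_singleton.closure hnc
          have hyx' : y = x' := by
            have : y ∈ ({x'} : Set X) := hF ▸ subset_closure rfl
            exact this
          have hxy : x ∈ closure ({y} : Set X) := by
            rw [← specializes_iff_mem_closure]
            exact ((lt_iff x y).1 hy).1
          rw [hF] at hxy
          have : x = x' := hxy
          exact ((lt_iff x y).1 hy).2 (hyx'.trans this.symm)
        rw [Order.coheight_eq_zero.2 hmaxy]
        simp
      simpa using this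
    · have hnc := h2 x hx
      rw [← hx.closure_eq] at hnc
      obtain ⟨z, hz⟩ := (not_mem_components_iff x).1 hnc
      have := Order.coheight_add_one_le hz
      exact le_trans (by simp) this

theorem main' (k : Type u) [Field k] (X : Scheme.{u})
    [X.Over (Spec (CommRingCat.of k))]
    [QuasiCompact (X ↘ (Spec (CommRingCat.of k)))] :
    (∀ x : X, IsClosed ({x} : Set X) → ringKrullDim (X.presheaf.stalk x) = 1) ↔
      ((∀ F : Set X, IsClosed F → IsIrreducible F → F ∉ irreducibleComponents (X : Type u) →
          ∃ x : X, IsClosed ({x} : Set X) ∧ F = {x}) ∧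
        ∀ x : X, IsClosed ({x} : Set X) → ({x} : Set X) ∉ irreducibleComponents (X : Type u)) := by
  haveI : CompactSpace X :=
    QuasiCompact.compactSpace_of_compactSpace (X ↘ (Spec (CommRingCat.of k)))
  exact main

end Groth.Agent.Lib.lead.DimOneClosed

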