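import Mathlib
import Groth.Agent.Lib.lead.RootDJ

/-!
Simple systems through a given indivisible root; bases of the root lattice; extension of additive
functions on roots (S5465), adjoint data (S5475).
-/

namespace Groth.Agent.RootDL

open RootD RootPairing
open Groth.Agent.Lib.Helper4.RD

variable {ι M N : Type*} [AddCommGroup M] [AddCommGroup N] {P : RootPairing ι ℤ M N}

lemma isSimpleSys_image [Finite ι] (g : P.Aut) {Δ : Set ι} (hΔ : IsSimpleSys P Δ) :
    IsSimpleSys P ((fun i : ι => g • i) '' Δ) := by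
  have h := isSimpleSys_simpleOf (isPosSys_image g (posOf_isPosSys hΔ))
  rwa [simpleOf_image, simpleOf_posOf hΔ] at h

lemma posOf_image [Finite ι] (g : P.Aut) {Δ : Set ι} (hΔ : IsSimpleSys P Δ) :
    posOf P ((fun i : ι => g • i) '' Δ) = (fun i : ι => g • i) '' posOf P Δ := by
  symm
  apply eq_posOf_of_subset (isSimpleSys_image g hΔ) (isPosSys_image g (posOf_isPosSys hΔ))
  exact Set.image_mono (subset_posOf Δ)

/-- every indivisible root belongs to a simple system -/
theorem exists_simpleSys_mem [Finite ι] {k : ι} (hk : IsIndiv P k) :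
    ∃ Δ : Set ι, IsSimpleSys P Δ ∧ k ∈ Δ := by
  obtain ⟨Δ, hΔ⟩ := exists_simpleSys P
  obtain ⟨g, -, i, hi, rfl⟩ := exists_simpleRefl_smul_eq hΔ hk
  exact ⟨_, isSimpleSys_image g hΔ, i, hi, rfl⟩

/-- the roots lie in the span of a simple system -/
lemma root_mem_span_simpleSys {Δ : Set ι} (hΔ : IsSimpleSys P Δ) (k : ι) :
    P.root k ∈ Submodule.span ℤ (P.root '' Δ) := by
  rcases hΔ.mem_or_neg_mem k with h | h
  · exact natSpan_le_span Δ h
  · have := natSpan_le_span Δ h
    simpa using neg_mem this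

lemma span_simpleSys_eq {Δ : Set ι} (hΔ : IsSimpleSys P Δ) :
    Submodule.span ℤ (P.root '' Δ) = Submodule.span ℤ (Set.range P.root) := by
  apply le_antisymm (Submodule.span_mono (Set.image_subset_range _ _))
  rw [Submodule.span_le]
  rintro _ ⟨k, rfl⟩
  exact root_mem_span_simpleSys hΔ k

lemma mem_span_iff_exists_lc (Δ : Set ι) (x : M) :
    x ∈ Submodule.span ℤ (P.root '' Δ) ↔ ∃ c : Δ →₀ ℤ, lc P Δ c = x := by
  have : P.root '' Δ = Set.range (fun l : Δ => P.root l) := by
    ext y; simp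
  rw [this, Finsupp.mem_span_range_iff_exists_finsupp]
  constructor
  · rintro ⟨c, rfl⟩
    exact ⟨c, by simp [lc, Finsupp.linearCombination_apply]⟩
  · rintro ⟨c, rfl⟩
    exact ⟨c, by simp [lc, Finsupp.linearCombination_apply]⟩

/-- S5475 -/
theorem indiv_root_indiv_of_adjoint [Finite ι] (had : Submodule.span ℤ (Set.range P.root) = ⊤)
    {i : ι} (hind : IsIndiv P i) (m : M) (n : ℤ) (h : n • m = P.root i) : n = 1 ∨ n = -1 := by
  classical
  obtain ⟨Δ, hΔ, hi⟩ := exists_simpleSys_mem hind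
  have hm : m ∈ Submodule.span ℤ (P.root '' Δ) := by
    rw [span_simpleSys_eq hΔ, had]; trivial
  obtain ⟨c, rfl⟩ := (mem_span_iff_exists_lc Δ m).mp hm
  have h1 : n • c = Finsupp.single ⟨i, hi⟩ 1 := by
    apply lc_injective P hΔ.linInd
    rw [map_smul, h, lc_single, one_smul]
  have h2 := DFunLike.congr_fun h1 ⟨i, hi⟩
  simp only [Finsupp.smul_apply, smul_eq_mul, Finsupp.single_eq_same] at h2
  exact Int.eq_one_or_neg_one_of_mul_eq_one h2

end Groth.Agent.RootDL
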