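import Mathlib
import Groth.Agent.Lib.lead.RootDK
import Groth.Agent.S5497
import Groth.Agent.S5505
import Groth.Agent.S5506

/-!
Decomposition of root data along orthogonal partitions of a simple system (S5482, S5483, S5494).
-/

namespace Groth.Agent.RootDL

open RootD RootPairing
open Groth.Agent.Lib.Helper4.RD

variable {ι M N : Type*} [AddCommGroup M] [AddCommGroup N] {P : RootPairing ι ℤ M N}

/-- membership in `inSpan Δ'` in terms of the coefficient vector -/
lemma mem_inSpan_iff {Δ Δ' : Set ι} (hΔ : IsSimpleSys P Δ) (hsub : Δ' ⊆ Δ) (k : ι) :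
    k ∈ inSpan P Δ' ↔ ∀ l : Δ, (l : ι) ∉ Δ' → coef hΔ k l = 0 := by
  classical
  constructor
  · intro hk l hl
    obtain ⟨c', hc'⟩ := (mem_span_iff_exists_lc Δ' (P.root k)).mp hk
    let e : Δ' → Δ := Set.inclusion hsub
    have h1 : lc P Δ (Finsupp.mapDomain e c') = P.root k := by
      rw [← hc']
      simp only [lc, Finsupp.linearCombination_mapDomain]
      rfl
    rw [coef_eq_of_lc_eq hΔ k _ h1]
    apply Finsupp.mapDomain_of_notMem_range
    rintro ⟨⟨x, hx⟩, rfl⟩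
    exact hl hx
  · intro h
    change P.root k ∈ Submodule.span ℤ (P.root '' Δ')
    rw [← lc_coef hΔ k, lc, Finsupp.linearCombination_apply, Finsupp.sum]
    refine Submodule.sum_mem _ fun l hl => ?_
    have hlΔ' : (l : ι) ∈ Δ' := by
      by_contra hcon
      exact (Finsupp.mem_support_iff.mp hl) (h l hcon)
    exact Submodule.smul_mem _ _ (Submodule.subset_span ⟨l, hlΔ', rfl⟩)

lemma inSpan_neg {Δ' : Set ι} {k : ι} (hk : k ∈ inSpan P Δ') :
    P.reflectionPerm k k ∈ inSpan P Δ' := by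
  change P.root _ ∈ Submodule.span ℤ (P.root '' Δ')
  rw [root_neg]
  exact neg_mem hk

lemma inSpan_neg_iff {Δ' : Set ι} {k : ι} :
    P.reflectionPerm k k ∈ inSpan P Δ' ↔ k ∈ inSpan P Δ' :=
  ⟨fun h => by simpa [neg_neg_idx] using inSpan_neg h, inSpan_neg⟩

lemma inSpan_add {Δ' : Set ι} {a b k : ι} (ha : a ∈ inSpan P Δ') (hb : b ∈ inSpan P Δ')
    (h : P.root k = P.root a + P.root b) : k ∈ inSpan P Δ' := by
  change P.root k ∈ Submodule.span ℤ (P.root '' Δ')
  rw [h]
  exact add_mem ha hb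

/-- a root cannot lie in the spans of two disjoint parts of a simple system -/
lemma not_mem_inSpan_both {Δ Δ' Δ'' : Set ι} (hΔ : IsSimpleSys P Δ) (h' : Δ' ⊆ Δ) (h'' : Δ'' ⊆ Δ)
    (hdisj : Disjoint Δ' Δ'') (k : ι) : ¬ (k ∈ inSpan P Δ' ∧ k ∈ inSpan P Δ'') := by
  rintro ⟨h1, h2⟩
  apply coef_ne_zero hΔ k
  ext l
  by_cases hl : (l : ι) ∈ Δ'
  · exact (mem_inSpan_iff hΔ h'' k).mp h2 l (fun hl'' => Set.disjoint_left.mp hdisj hl hl'')
  · exact (mem_inSpan_iff hΔ h' k).mp h1 l hl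

/-- S5482, first part -/
theorem closedSymm_partition_eq_inSpan [Finite ι] {Δ : Set ι} (hΔ : IsSimpleSys P Δ) (R' : Set ι)
    (hc : IsClosedSub P R') (hs : IsSymmSub P R') (hc' : IsClosedSub P R'ᶜ)
    (hs' : IsSymmSub P R'ᶜ) :
    R' = inSpan P (Δ ∩ R') ∧ R'ᶜ = inSpan P (Δ \ R') ∧
      ∀ i ∈ Δ ∩ R', ∀ j ∈ Δ \ R', P.IsOrthogonal i j := by
  have hpos : ∀ k ∈ posOf P Δ, (k ∈ R' → k ∈ inSpan P (Δ ∩ R')) ∧
      (k ∉ R' → k ∈ inSpan P (Δ \ R')) := by
    refine pointed_induction (posSys_pointed (posOf_isPosSys hΔ)) _ fun k hk ih => ?_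
    by_cases hkΔ : k ∈ Δ
    · exact ⟨fun h => Submodule.subset_span ⟨k, ⟨hkΔ, h⟩, rfl⟩,
        fun h => Submodule.subset_span ⟨k, ⟨hkΔ, h⟩, rfl⟩⟩
    · rw [← simpleOf_posOf hΔ] at hkΔ
      simp only [simpleOf, Set.mem_ofPred_eq, not_and, not_not] at hkΔ
      obtain ⟨a, ha, b, hb, hab⟩ := hkΔ hk
      obtain ⟨iha, ihb⟩ := ih a ha b hb hab
      rcases Groth.Agent.S5497.result P R' hc hs hc' hs' a b k hab with ⟨h1, h2, h3⟩ | ⟨h1, h2, h3⟩
      · exact ⟨fun _ => inSpan_add (iha.1 h1) (ihb.1 h2) hab, fun h => absurd h3 h⟩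
      · exact ⟨fun h => absurd h h3, fun _ => inSpan_add (iha.2 h1) (ihb.2 h2) hab⟩
  have hall : ∀ k, (k ∈ R' → k ∈ inSpan P (Δ ∩ R')) ∧ (k ∉ R' → k ∈ inSpan P (Δ \ R')) := by
    intro k
    rcases (posOf_isPosSys hΔ).cover k with hk | hk
    · exact hpos k hk
    · obtain ⟨h1, h2⟩ := hpos _ hk
      refine ⟨fun h => inSpan_neg_iff.mp (h1 (hs h)), fun h => inSpan_neg_iff.mp (h2 ?_)⟩
      exact hs' (show k ∈ R'ᶜ from h)
  have hdisj : Disjoint (Δ ∩ R') (Δ \ R') :=
    Set.disjoint_left.mpr fun x hx hx' => hx'.2 hx.2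
  have hnot := not_mem_inSpan_both hΔ Set.inter_subset_left Set.sdiff_subset hdisj
  refine ⟨?_, ?_, ?_⟩
  · ext k
    refine ⟨(hall k).1, fun h => ?_⟩
    by_contra hk
    exact hnot k ⟨h, (hall k).2 hk⟩
  · ext k
    refine ⟨(hall k).2, fun h hk => ?_⟩
    exact hnot k ⟨(hall k).1 hk, h⟩
  · rintro i ⟨-, hi⟩ j ⟨-, hj⟩
    by_contra hij
    exact hj (Groth.Agent.S5505.result P R' hc hs hc' hs' i j hi hij)


lemma rootForm_eq_zero_of_mem_span [Fintype ι] {A A' : Set ι}
    (h : ∀ i ∈ A, ∀ j ∈ A', P.RootForm (P.root i) (P.root j) = 0) {x y : M}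
    (hx : x ∈ Submodule.span ℤ (P.root '' A)) (hy : y ∈ Submodule.span ℤ (P.root '' A')) :
    P.RootForm x y = 0 := by
  induction hx using Submodule.span_induction with
  | mem x hx =>
    obtain ⟨i, hi, rfl⟩ := hx
    induction hy using Submodule.span_induction with
    | mem y hy =>
      obtain ⟨j, hj, rfl⟩ := hy
      exact h i hi j hj
    | zero => simp
    | add a b _ _ ha hb => rw [map_add, ha, hb, add_zero]
    | smul c a _ ha => rw [map_smul, ha, smul_zero]
  | zero => simp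
  | add a b _ _ ha hb => rw [map_add, LinearMap.add_apply, ha, hb, add_zero]
  | smul c a _ ha => rw [map_smul, LinearMap.smul_apply, ha, smul_zero]

lemma rootForm_eq_zero_of_orthogonal [Fintype ι] {i j : ι} (h : P.IsOrthogonal i j) :
    P.RootForm (P.root i) (P.root j) = 0 := by
  have h1 := P.toInvariantForm.two_mul_apply_root_root i j
  simp only [RootPairing.toInvariantForm_form] at h1
  rw [h.1, zero_mul] at h1
  omega

lemma pairing_eq_zero_of_rootForm_eq_zero [Fintype ι] {i j : ι}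
    (h : P.RootForm (P.root i) (P.root j) = 0) : P.pairing i j = 0 := by
  have h1 := P.toInvariantForm.two_mul_apply_root_root i j
  simp only [RootPairing.toInvariantForm_form] at h1
  rw [h, mul_zero] at h1
  have h2 : 0 < P.RootForm (P.root j) (P.root j) :=
    P.rootForm_pos_of_ne_zero (Submodule.subset_span ⟨j, rfl⟩) (P.ne_zero j)
  rcases mul_eq_zero.mp h1.symm with h3 | h3
  · exact h3
  · omega

/-- S5483 -/
theorem inSpan_partition_of_orthogonal [Finite ι] {Δ Δ' : Set ι} (hΔ : IsSimpleSys P Δ)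
    (hsub : Δ' ⊆ Δ) (horth : ∀ i ∈ Δ', ∀ j ∈ Δ \ Δ', P.IsOrthogonal i j) (k : ι) :
    (k ∈ inSpan P Δ' ∨ k ∈ inSpan P (Δ \ Δ')) ∧
      ¬ (k ∈ inSpan P Δ' ∧ k ∈ inSpan P (Δ \ Δ')) := by
  classical
  have := Fintype.ofFinite ι
  have hdisj : Disjoint Δ' (Δ \ Δ') := Set.disjoint_sdiff_right
  refine ⟨?_, not_mem_inSpan_both hΔ hsub Set.sdiff_subset hdisj k⟩
  have hB : ∀ i ∈ Δ', ∀ j ∈ Δ \ Δ', P.RootForm (P.root i) (P.root j) = 0 :=
    fun i hi j hj => rootForm_eq_zero_of_orthogonal (horth i hi j hj)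
  -- the mixed case is impossible
  have hmixed : ∀ a ∈ posOf P Δ, ∀ b ∈ posOf P Δ, a ∈ inSpan P Δ' → b ∈ inSpan P (Δ \ Δ') →
      ∀ k, P.root k = P.root a + P.root b → False := by
    intro a ha b hb ha' hb' k hk
    have hBab : P.RootForm (P.root a) (P.root b) = 0 := rootForm_eq_zero_of_mem_span hB ha' hb'
    have hpab : P.pairing a b = 0 := pairing_eq_zero_of_rootForm_eq_zero hBab
    -- the root `s_b k = a - b`
    have hm : P.root (P.reflectionPerm b k) = P.root a - P.root b := by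
      rw [P.root_reflectionPerm, hk, map_add, P.reflection_apply_self, P.reflection_apply_root,
        hpab, zero_smul, sub_zero, sub_eq_add_neg]
    have hcm : coef hΔ (P.reflectionPerm b k) = coef hΔ a - coef hΔ b := by
      apply coef_eq_of_lc_eq
      rw [map_sub, lc_coef, lc_coef, hm]
    have hca := (mem_inSpan_iff hΔ hsub a).mp ha'
    have hcb := (mem_inSpan_iff hΔ Set.sdiff_subset b).mp hb'
    have hna := (mem_posOf_iff hΔ a).mp ha
    have hnb := (mem_posOf_iff hΔ b).mp hb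
    obtain ⟨la, hla⟩ : ∃ l, coef hΔ a l ≠ 0 := by
      by_contra hcon
      push Not at hcon
      exact coef_ne_zero hΔ a (Finsupp.ext hcon)
    obtain ⟨lb, hlb⟩ : ∃ l, coef hΔ b l ≠ 0 := by
      by_contra hcon
      push Not at hcon
      exact coef_ne_zero hΔ b (Finsupp.ext hcon)
    have hla' : (la : ι) ∈ Δ' := by
      by_contra hcon
      exact hla (hca la hcon)
    have hlb' : (lb : ι) ∈ Δ \ Δ' := by
      by_contra hcon
      exact hlb (hcb lb hcon)
    have h1 : coef hΔ b la = 0 := hcb la (fun h => h.2 hla')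
    have h2 : coef hΔ a lb = 0 := hca lb hlb'.2
    have e1 : coef hΔ (P.reflectionPerm b k) la = coef hΔ a la := by
      rw [hcm, Finsupp.sub_apply, h1, sub_zero]
    have e2 : coef hΔ (P.reflectionPerm b k) lb = - coef hΔ b lb := by
      rw [hcm, Finsupp.sub_apply, h2, zero_sub]
    have := hna la
    have := hnb lb
    rcases coef_sign hΔ (P.reflectionPerm b k) with hs | hs
    · have := hs lb
      omega
    · have := hs la
      omega
  have hpos : ∀ k ∈ posOf P Δ, k ∈ inSpan P Δ' ∨ k ∈ inSpan P (Δ \ Δ') := by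
    refine pointed_induction (posSys_pointed (posOf_isPosSys hΔ)) _ fun k hk ih => ?_
    by_cases hkΔ : k ∈ Δ
    · by_cases hk' : k ∈ Δ'
      · exact Or.inl (Submodule.subset_span ⟨k, hk', rfl⟩)
      · exact Or.inr (Submodule.subset_span ⟨k, ⟨hkΔ, hk'⟩, rfl⟩)
    · rw [← simpleOf_posOf hΔ] at hkΔ
      simp only [simpleOf, Set.mem_ofPred_eq, not_and, not_not] at hkΔ
      obtain ⟨a, ha, b, hb, hab⟩ := hkΔ hk
      obtain ⟨iha, ihb⟩ := ih a ha b hb hab
      rcases iha with iha | iha <;> rcases ihb with ihb | ihb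
      · exact Or.inl (inSpan_add iha ihb hab)
      · exact (hmixed a ha b hb iha ihb k hab).elim
      · exact (hmixed b hb a ha ihb iha k (by rw [hab, add_comm])).elim
      · exact Or.inr (inSpan_add iha ihb hab)
  rcases (posOf_isPosSys hΔ).cover k with hk | hk
  · exact hpos k hk
  · rcases hpos _ hk with h | h
    · exact Or.inl (inSpan_neg_iff.mp h)
    · exact Or.inr (inSpan_neg_iff.mp h)

/-- S5494 -/
theorem nonOrthogonal_chain_of_connected [Finite ι] {Δ : Set ι} (hΔ : IsSimpleSys P Δ)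
    (hconn : ∀ Δ' : Set ι, Δ' ⊆ Δ → (∀ i ∈ Δ', ∀ j ∈ Δ \ Δ', P.IsOrthogonal i j) →
      Δ' = ∅ ∨ Δ' = Δ)
    (i j : ι) : Relation.ReflTransGen (fun a b : ι => ¬ P.IsOrthogonal a b) i j := by
  set C : Set ι := {j : ι | Relation.ReflTransGen (fun a b : ι => ¬ P.IsOrthogonal a b) i j}
    with hC
  obtain ⟨h1, h2, h3, h4⟩ := Groth.Agent.S5506.result P i
  obtain ⟨e1, -, e3⟩ := closedSymm_partition_eq_inSpan hΔ C h1 h2 h3 h4
  have hi : i ∈ C := Relation.ReflTransGen.refl
  rcases hconn (Δ ∩ C) Set.inter_subset_left (fun a ha b hb => e3 a ha b (by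
      refine ⟨hb.1, fun hbC => hb.2 ⟨hb.1, hbC⟩⟩)) with h | h
  · exfalso
    rw [e1, h] at hi
    have : P.root i ∈ Submodule.span ℤ (P.root '' (∅ : Set ι)) := hi
    rw [Set.image_empty, Submodule.span_empty, Submodule.mem_bot] at this
    exact P.ne_zero i this
  · have : j ∈ C := by
      rw [e1, h]
      exact root_mem_span_simpleSys hΔ j
    exact this

end Groth.Agent.RootDL
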