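import Mathlib
import Groth.Agent.Lib.lead.RootDN

/-!
Cartan matrix: symmetrisability and positivity (S5507, S5484).
-/

namespace Groth.Agent.RootDL

open RootD RootPairing
open Groth.Agent.Lib.Helper4.RD

variable {ι M N : Type*} [AddCommGroup M] [AddCommGroup N] {P : RootPairing ι ℤ M N}

lemma rootForm_root_self_pos [Fintype ι] (j : ι) : 0 < P.RootForm (P.root j) (P.root j) :=
  P.rootForm_pos_of_ne_zero (Submodule.subset_span ⟨j, rfl⟩) (P.ne_zero j)

lemma pairing_mul_rootForm [Fintype ι] (i j : ι) :
    P.pairing i j * P.RootForm (P.root j) (P.root j) = 2 * P.RootForm (P.root i) (P.root j) := by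
  have h1 := P.toInvariantForm.two_mul_apply_root_root i j
  simp only [RootPairing.toInvariantForm_form] at h1
  exact h1.symm

/-- the quadratic form evaluated at a combination of roots -/
lemma rootForm_lc_self [Fintype ι] {κ : Type*} (v : κ → ι) (x : κ →₀ ℤ) :
    P.RootForm (Finsupp.linearCombination ℤ (fun l => P.root (v l)) x)
      (Finsupp.linearCombination ℤ (fun l => P.root (v l)) x) =
    x.sum fun i xi => x.sum fun j xj => xi * P.RootForm (P.root (v j)) (P.root (v i)) * xj := by
  simp only [Finsupp.linearCombination_apply, Finsupp.sum, map_sum, LinearMap.sum_apply, map_smul,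
    LinearMap.smul_apply, smul_eq_mul]
  refine Finset.sum_congr rfl fun i _ => ?_
  rw [Finset.mul_sum]
  refine Finset.sum_congr rfl fun j _ => ?_
  ring

/-- S5507 -/
theorem exists_rowScaling_cartan_symm_posDef [Finite ι] (Δ : Finset ι)
    (hΔ : IsSimpleSys P (↑Δ : Set ι)) :
    ∃ m : ↥Δ → ℤ, (∀ a, 0 < m a) ∧
      (Matrix.of fun (a b : ↥Δ) => m a * P.pairing (b : ι) (a : ι)).IsSymm ∧
      (Matrix.of fun (a b : ↥Δ) => m a * P.pairing (b : ι) (a : ι)).PosDef := by
  classical
  have := Fintype.ofFinite ι
  have hentry : ∀ a b : ↥Δ, P.RootForm (P.root a) (P.root a) * P.pairing (b : ι) (a : ι) =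
      2 * P.RootForm (P.root b) (P.root a) := fun a b => by
    rw [mul_comm, pairing_mul_rootForm]
  have hsymm : (Matrix.of fun (a b : ↥Δ) =>
      P.RootForm (P.root a) (P.root a) * P.pairing (b : ι) (a : ι)).IsSymm := by
    ext a b
    simp only [Matrix.transpose_apply, Matrix.of_apply]
    rw [hentry, hentry, ← P.rootForm_symmetric.eq (P.root a) (P.root b)]
    simp
  refine ⟨fun a => P.RootForm (P.root a) (P.root a), fun a => rootForm_root_self_pos _, hsymm,
    ?_, ?_⟩
  · rw [Matrix.IsHermitian, Matrix.conjTranspose_eq_transpose_of_trivial]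
    exact hsymm
  · intro x hx
    have hli : LinearIndependent ℤ (fun l : ↥Δ => P.root l) := hΔ.linInd
    have hw : Finsupp.linearCombination ℤ (fun l : ↥Δ => P.root l) x ≠ 0 := by
      intro h0
      apply hx
      have := linearIndependent_iff.mp hli x h0
      exact this
    have hpos : 0 < P.RootForm (Finsupp.linearCombination ℤ (fun l : ↥Δ => P.root l) x)
        (Finsupp.linearCombination ℤ (fun l : ↥Δ => P.root l) x) := by
      refine P.rootForm_pos_of_ne_zero ?_ hw
      rw [Finsupp.linearCombination_apply, Finsupp.sum]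
      exact Submodule.sum_mem _ fun l _ =>
        Submodule.smul_mem _ _ (Submodule.subset_span ⟨l, rfl⟩)
    rw [rootForm_lc_self (fun l : ↥Δ => (l : ι)) x] at hpos
    have : (x.sum fun i xi => x.sum fun j xj =>
        star xi * (Matrix.of fun (a b : ↥Δ) =>
          P.RootForm (P.root a) (P.root a) * P.pairing (b : ι) (a : ι)) i j * xj) =
        2 * x.sum fun i xi => x.sum fun j xj =>
          xi * P.RootForm (P.root j) (P.root i) * xj := by
      simp only [Finsupp.sum, Finset.mul_sum]
      refine Finset.sum_congr rfl fun i _ => Finset.sum_congr rfl fun j _ => ?_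
      simp only [Matrix.of_apply, star_trivial, hentry]
      ring
    rw [this]
    linarith


/-- the Gram matrix of a linearly independent family of roots has positive determinant -/
theorem det_gram_pos [Fintype ι] {κ : Type*} [Fintype κ] [DecidableEq κ] (v : κ → ι)
    (hli : LinearIndependent ℤ (fun l : κ => P.root (v l))) :
    0 < Matrix.det (Matrix.of fun (a b : κ) => P.RootForm (P.root (v b)) (P.root (v a))) := by
  classical
  set G : Matrix κ κ ℤ := Matrix.of fun (a b : κ) => P.RootForm (P.root (v b)) (P.root (v a))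
    with hG
  let C : Matrix ι κ ℤ := Matrix.of fun i a => P.pairing (v a) i
  have hGC : G = C.transpose * C := by
    ext a b
    simp only [hG, Matrix.of_apply, Matrix.mul_apply, Matrix.transpose_apply, C,
      P.rootForm_apply_apply, RootPairing.root_coroot'_eq_pairing]
    exact Finset.sum_congr rfl fun i _ => mul_comm _ _
  -- nonnegativity through the reals
  have hnn : 0 ≤ G.det := by
    have h1 : ((Int.castRingHom ℝ).mapMatrix G) =
        (C.map (Int.castRingHom ℝ)).conjTranspose * (C.map (Int.castRingHom ℝ)) := by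
      rw [hGC, Matrix.conjTranspose_eq_transpose_of_trivial]
      ext a b
      simp [Matrix.mul_apply]
    have h2 : (((Int.castRingHom ℝ).mapMatrix G)).PosSemidef := by
      rw [h1]; exact Matrix.posSemidef_conjTranspose_mul_self _
    have h3 := h2.det_nonneg
    rw [← RingHom.map_det] at h3
    simp only [eq_intCast] at h3
    exact_mod_cast h3
  -- nonvanishing through positive definiteness over `ℤ`
  have hne : G.det ≠ 0 := by
    intro h0
    obtain ⟨w, hw, hGw⟩ := Matrix.exists_mulVec_eq_zero_iff.mpr h0
    apply hw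
    let x : κ →₀ ℤ := Finsupp.equivFunOnFinite.symm w
    have hx : ∀ a, x a = w a := fun a => rfl
    have hq := rootForm_lc_self (P := P) v x
    have hzero : (x.sum fun i xi => x.sum fun j xj =>
        xi * P.RootForm (P.root (v j)) (P.root (v i)) * xj) = 0 := by
      rw [Finsupp.sum_fintype _ _ (by simp)]
      refine Finset.sum_eq_zero fun i _ => ?_
      rw [Finsupp.sum_fintype _ _ (by simp)]
      have hi := congrFun hGw i
      simp only [Matrix.mulVec, dotProduct, hG, Matrix.of_apply, Pi.zero_apply] at hi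
      calc ∑ j, x i * P.RootForm (P.root (v j)) (P.root (v i)) * x j
          = x i * ∑ j, P.RootForm (P.root (v j)) (P.root (v i)) * w j := by
            rw [Finset.mul_sum]
            exact Finset.sum_congr rfl fun j _ => by rw [hx i, hx j]; ring
        _ = 0 := by rw [hi, mul_zero]
    rw [hzero] at hq
    have hmem : Finsupp.linearCombination ℤ (fun l => P.root (v l)) x ∈ P.rootSpan ℤ := by
      rw [Finsupp.linearCombination_apply, Finsupp.sum]
      exact Submodule.sum_mem _ fun l _ =>
        Submodule.smul_mem _ _ (Submodule.subset_span ⟨_, rfl⟩)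
    have h0' := P.eq_zero_of_mem_rootSpan_of_rootForm_self_eq_zero hmem hq
    have hx0 : x = 0 := linearIndependent_iff.mp hli x h0'
    funext a
    rw [← hx a, hx0]
    rfl
  exact lt_of_le_of_ne hnn (Ne.symm hne)

/-- S5484 -/
theorem det_cartan_principalMinor_pos [Finite ι] (Δ : Finset ι) (hΔ : IsSimpleSys P (↑Δ : Set ι))
    (Δ' : Finset ι) (hsub : Δ' ⊆ Δ) [DecidableEq ↥Δ'] :
    0 < Matrix.det (Matrix.of fun (a b : ↥Δ') => P.pairing (b : ι) (a : ι)) := by
  have := Fintype.ofFinite ι
  have hli : LinearIndependent ℤ (fun l : ↥Δ' => P.root (l : ι)) :=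
    (hΔ.linInd.mono (by exact_mod_cast hsub) : LinearIndepOn ℤ P.root (↑Δ' : Set ι))
  have hG := det_gram_pos (P := P) (fun l : ↥Δ' => (l : ι)) hli
  set A : Matrix ↥Δ' ↥Δ' ℤ := Matrix.of fun (a b : ↥Δ') => P.pairing (b : ι) (a : ι) with hA
  set G : Matrix ↥Δ' ↥Δ' ℤ :=
    Matrix.of fun (a b : ↥Δ') => P.RootForm (P.root (b : ι)) (P.root (a : ι)) with hGdef
  have hrel : Matrix.diagonal (fun a : ↥Δ' => P.RootForm (P.root (a : ι)) (P.root (a : ι))) * A =
      (2 : ℤ) • G := by
    ext a b
    simp only [Matrix.diagonal_mul, hA, hGdef, Matrix.of_apply, Matrix.smul_apply, smul_eq_mul]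
    rw [mul_comm, pairing_mul_rootForm]
  have hdet := congrArg Matrix.det hrel
  rw [Matrix.det_mul, Matrix.det_diagonal, Matrix.det_smul] at hdet
  have hprod : 0 < ∏ a : ↥Δ', P.RootForm (P.root (a : ι)) (P.root (a : ι)) :=
    Finset.prod_pos fun a _ => rootForm_root_self_pos _
  have hrhs : 0 < (2 : ℤ) ^ Fintype.card ↥Δ' * G.det := mul_pos (by positivity) hG
  rw [← hdet] at hrhs
  exact (mul_pos_iff_of_pos_left hprod).mp hrhs

end Groth.Agent.RootDL
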