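import Mathlib
import Groth.Agent.Lib.lead.RootDO

/-!
Leaves of Dynkin diagrams by positivity: any nonempty set of simple roots contains an isolated
vertex or a "good leaf" (a vertex with a single neighbour `j` and `⟨k, j^∨⟩ = -1`).
Application: solvability of `a_ij x_i - a_ji x_j = e_ij`.
-/

namespace Groth.Agent.RootDL

open RootD RootPairing

variable {ι M N : Type*} [AddCommGroup M] [AddCommGroup N] {P : RootPairing ι ℤ M N}

lemma rootForm_root_mul_pairing [Fintype ι] (k : ι) (x : M) :
    P.RootForm (P.root k) (P.root k) * P.toLinearMap x (P.coroot k) =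
      2 * P.RootForm (P.root k) x := by
  have h := congrArg (P.toLinearMap x) (P.rootForm_self_smul_coroot k)
  rw [map_smul, map_nsmul, P.toLinearMap_apply_apply_Polarization] at h
  simpa using h

theorem exists_pos_pairing [Fintype ι] (s : Finset ι) (hs : s.Nonempty)
    (hli : LinearIndepOn ℤ P.root (s : Set ι)) (c : ι → ℤ) (hc : ∀ k ∈ s, 0 < c k) :
    ∃ k ∈ s, 0 < ∑ l ∈ s, c l * P.pairing l k := by
  by_contra hcon
  push Not at hcon
  set v : M := ∑ l ∈ s, c l • P.root l with hv
  have hpair : ∀ k, P.toLinearMap v (P.coroot k) = ∑ l ∈ s, c l * P.pairing l k := by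
    intro k
    rw [hv, map_sum, LinearMap.sum_apply]
    refine Finset.sum_congr rfl fun l _ => ?_
    rw [map_smul, LinearMap.smul_apply, smul_eq_mul, P.root_coroot_eq_pairing]
  have h2 : 2 * P.RootForm v v = ∑ k ∈ s, c k *
      (P.RootForm (P.root k) (P.root k) * P.toLinearMap v (P.coroot k)) := by
    have hgen : ∀ y : M, P.RootForm v y = ∑ k ∈ s, c k * P.RootForm (P.root k) y := by
      intro y
      rw [hv, map_sum, LinearMap.sum_apply]
      refine Finset.sum_congr rfl fun l _ => ?_
      rw [map_smul, LinearMap.smul_apply, smul_eq_mul]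
    rw [hgen v, Finset.mul_sum]
    refine Finset.sum_congr rfl fun k _ => ?_
    rw [rootForm_root_mul_pairing]
    ring
  have hle : 2 * P.RootForm v v ≤ 0 := by
    rw [h2]
    refine Finset.sum_nonpos fun k hk => ?_
    have h1 := hc k hk
    have h3 := rootForm_root_self_pos (P := P) k
    have h4 : P.toLinearMap v (P.coroot k) ≤ 0 := by rw [hpair]; exact hcon k hk
    nlinarith [mul_pos h1 h3]
  have hvmem : v ∈ P.rootSpan ℤ :=
    Submodule.sum_mem _ fun l _ => Submodule.smul_mem _ _ (Submodule.subset_span ⟨l, rfl⟩)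
  have hv0 : v = 0 := by
    by_contra hne
    have := P.rootForm_pos_of_ne_zero hvmem hne
    linarith
  obtain ⟨k, hk⟩ := hs
  have := (linearIndepOn_finset_iff.mp hli) c hv0 k hk
  have := hc k hk
  omega

theorem exists_isolated_or_goodLeaf [Fintype ι] [DecidableEq ι] (s : Finset ι) (hs : s.Nonempty)
    (hli : LinearIndepOn ℤ P.root (s : Set ι))
    (hnp : ∀ i ∈ s, ∀ j ∈ s, i ≠ j → P.pairing i j ≤ 0)
    (hsymm : ∀ i j, P.pairing i j = 0 ↔ P.pairing j i = 0) :
    ∃ k ∈ s, (∀ l ∈ s, l ≠ k → P.pairing l k = 0) ∨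
      ∃ j ∈ s, j ≠ k ∧ P.pairing k j = -1 ∧ ∀ l ∈ s, l ≠ k → l ≠ j → P.pairing l k = 0 := by
  let nb : ι → Finset ι := fun k => s.filter (fun l => l ≠ k ∧ P.pairing l k ≠ 0)
  let c : ι → ℤ := fun k => if (nb k).card = 1 then 1 else 2
  have hcpos : ∀ k ∈ s, 0 < c k := by
    intro k _
    simp only [c]
    split_ifs <;> norm_num
  obtain ⟨k, hk, hpos⟩ := exists_pos_pairing s hs hli c hcpos
  by_cases hnb0 : (nb k).card = 0
  · refine ⟨k, hk, Or.inl fun l hl hlk => ?_⟩
    by_contra hne
    have : l ∈ nb k := Finset.mem_filter.mpr ⟨hl, hlk, hne⟩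
    rw [Finset.card_eq_zero] at hnb0
    rw [hnb0] at this
    simp at this
  · -- some neighbour `l` of `k` has `c l * a_lk > -2`
    have hex : ∃ l ∈ nb k, -2 < c l * P.pairing l k := by
      by_contra hcon
      push Not at hcon
      have hsplit : ∑ l ∈ s, c l * P.pairing l k =
          c k * 2 + ∑ l ∈ nb k, c l * P.pairing l k := by
        rw [← Finset.add_sum_erase s _ hk, P.pairing_same]
        congr 1
        symm
        apply Finset.sum_subset
        · intro l hl
          obtain ⟨hls, hlk, _⟩ := Finset.mem_filter.mp hl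
          exact Finset.mem_erase.mpr ⟨hlk, hls⟩
        · intro l hl hlnb
          obtain ⟨hlk, hls⟩ := Finset.mem_erase.mp hl
          have : P.pairing l k = 0 := by
            by_contra hne
            exact hlnb (Finset.mem_filter.mpr ⟨hls, hlk, hne⟩)
          rw [this, mul_zero]
      have hsum : ∑ l ∈ nb k, c l * P.pairing l k ≤ ∑ _l ∈ nb k, (-2 : ℤ) :=
        Finset.sum_le_sum fun l hl => hcon l hl
      rw [Finset.sum_const, nsmul_eq_mul] at hsum
      rw [hsplit] at hpos
      have hck : c k ≤ (nb k).card := by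
        simp only [c]
        split_ifs with h1
        · rw [h1]; norm_num
        · have : 2 ≤ (nb k).card := by omega
          exact_mod_cast this
      nlinarith
    obtain ⟨l, hl, hlt⟩ := hex
    obtain ⟨hls, hlk, hlne⟩ := Finset.mem_filter.mp hl
    have hle : P.pairing l k ≤ -1 := by
      have := hnp l hls k hk hlk
      omega
    have hcl : c l = 1 := by
      by_contra hne
      have : c l = 2 := by
        simp only [c] at hne ⊢
        split_ifs at hne ⊢ with h1
        · exact absurd rfl hne
        · rfl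
      rw [this] at hlt
      omega
    have hlk1 : P.pairing l k = -1 := by
      rw [hcl] at hlt
      omega
    have hcard : (nb l).card = 1 := by
      by_contra hne
      simp only [c, if_neg hne] at hcl
      omega
    have hkl : k ∈ nb l := by
      refine Finset.mem_filter.mpr ⟨hk, Ne.symm hlk, ?_⟩
      intro h0
      exact hlne ((hsymm k l).mp h0)
    obtain ⟨k', hk'⟩ := Finset.card_eq_one.mp hcard
    have hk'k : k' = k := by
      rw [hk'] at hkl
      exact (Finset.mem_singleton.mp hkl).symm
    refine ⟨l, hls, Or.inr ⟨k, hk, Ne.symm hlk, hlk1, fun l' hl' hl'l hl'k => ?_⟩⟩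
    by_contra hne
    have : l' ∈ nb l := Finset.mem_filter.mpr ⟨hl', hl'l, hne⟩
    rw [hk', Finset.mem_singleton, hk'k] at this
    exact hl'k this

theorem exists_diag_solution [Fintype ι] [DecidableEq ι] (Δ : Finset ι)
    (hli : LinearIndepOn ℤ P.root (Δ : Set ι))
    (hnp : ∀ i ∈ Δ, ∀ j ∈ Δ, i ≠ j → P.pairing i j ≤ 0)
    (hsymm : ∀ i j, P.pairing i j = 0 ↔ P.pairing j i = 0)
    (e : ι → ι → ℤ) (hanti : ∀ i j, e i j = - e j i)
    (hzero : ∀ i ∈ Δ, ∀ j ∈ Δ, i ≠ j → P.pairing i j = 0 → e i j = 0) :
    ∀ (n : ℕ) (s : Finset ι), s.card = n → s ⊆ Δ →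
      ∃ x : ι → ℤ, ∀ i ∈ s, ∀ j ∈ s, i ≠ j →
        P.pairing i j * x i - P.pairing j i * x j = e i j := by
  intro n
  induction n with
  | zero =>
    intro s hs _
    rw [Finset.card_eq_zero] at hs
    subst hs
    exact ⟨fun _ => 0, fun i hi => by simp at hi⟩
  | succ n ih =>
    intro s hcard hsub
    have hsne : s.Nonempty := by
      rw [← Finset.card_pos]; omega
    obtain ⟨k, hk, hcase⟩ := exists_isolated_or_goodLeaf s hsne
      (hli.mono (by exact_mod_cast hsub))
      (fun i hi j hj hij => hnp i (hsub hi) j (hsub hj) hij) hsymm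
    have hcard' : (s.erase k).card = n := by
      rw [Finset.card_erase_of_mem hk]; omega
    obtain ⟨x', hx'⟩ := ih (s.erase k) hcard' ((Finset.erase_subset _ _).trans hsub)
    -- reduction: it is enough to treat the pairs `(k, l)` and the pairs inside `s.erase k`
    have key : ∀ x : ι → ℤ, (∀ l ∈ s, l ≠ k → x l = x' l) →
        (∀ l ∈ s, l ≠ k → P.pairing k l * x k - P.pairing l k * x l = e k l) →
        ∀ i ∈ s, ∀ j ∈ s, i ≠ j → P.pairing i j * x i - P.pairing j i * x j = e i j := by
      intro x hxx' hkl i hi j hj hij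
      by_cases hik : i = k
      · subst hik
        exact hkl j hj (Ne.symm hij)
      · by_cases hjk : j = k
        · subst hjk
          have := hkl i hi hik
          rw [hanti i j]
          linarith
        · rw [hxx' i hi hik, hxx' j hj hjk]
          exact hx' i (Finset.mem_erase.mpr ⟨hik, hi⟩) j (Finset.mem_erase.mpr ⟨hjk, hj⟩) hij
    rcases hcase with hiso | ⟨j, hj, hjk, hkj, hleaf⟩
    · refine ⟨x', key x' (fun _ _ _ => rfl) fun l hl hlk => ?_⟩
      have h1 := hiso l hl hlk
      have h2 := (hsymm l k).mp h1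
      rw [h1, h2, zero_mul, zero_mul, sub_zero]
      exact (hzero k (hsub hk) l (hsub hl) (Ne.symm hlk) h2).symm
    · refine ⟨Function.update x' k (-(e k j + P.pairing j k * x' j)),
        key _ (fun l _ hlk => Function.update_of_ne hlk _ _) fun l hl hlk => ?_⟩
      rw [Function.update_self, Function.update_of_ne hlk]
      by_cases hlj : l = j
      · subst hlj
        rw [hkj]
        ring
      · have h1 := hleaf l hl hlk hlj
        have h2 := (hsymm l k).mp h1
        rw [h1, h2, zero_mul, zero_mul, sub_zero]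
        exact (hzero k (hsub hk) l (hsub hl) (Ne.symm hlk) h2).symm

end Groth.Agent.RootDL
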