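import Mathlib
import Groth.Agent.S1451
import Groth.Agent.Lib.Helper3.EtSrcLocalUnram

set_option autoImplicit false
set_option linter.style.haveILetI false
universe u

namespace Groth.Agent.Lib.lead.EtaleCompGU

open AlgebraicGeometry CategoryTheory Limits

theorem main {X Y Z : Scheme.{u}} (f : X ⟶ Y) (g : Y ⟶ Z) [IsIntegral Y] (x : X)
    (hY : CAlg2.IsGeomUnibranch (Y.presheaf.stalk (f x))) (het : ∃ U : X.Opens, x ∈ U ∧ Etale (U.ι ≫ f ≫ g))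
    (hsp : ∃ x' : X, x' ⤳ x ∧ f x' = genericPoint ↑Y) :
    (∃ U : X.Opens, x ∈ U ∧ Etale (U.ι ≫ f)) ∧ ∃ V : Y.Opens, f x ∈ V ∧ Etale (V.ι ≫ g) := by
  obtain ⟨U, hxU, hU⟩ := het
  obtain ⟨x', hx'x, hfx'⟩ := hsp
  have hx'U : x' ∈ U := hx'x.mem_open U.2 hxU
  haveI hU' : Etale ((U.ι ≫ f) ≫ g) := by rwa [Category.assoc]
  haveI : LocallyOfFiniteType (U.ι ≫ f) := locallyOfFiniteType_of_comp (U.ι ≫ f) g
  haveI : FormallyUnramified (U.ι ≫ f) := FormallyUnramified.of_comp (U.ι ≫ f) g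
  -- apply S1451 to U.ι ≫ f
  have key := Groth.Agent.S1451.result (U.ι ≫ f) (⟨x, hxU⟩ : U.toScheme) hY
    ⟨⟨x', hx'U⟩, (subtype_specializes_iff _ _).mpr hx'x, hfx'⟩
    ⟨⊤, trivial, MorphismProperty.comp_mem _ _ _ (inferInstanceAs (FormallyUnramified (⊤ : U.toScheme.Opens).ι)) ‹FormallyUnramified (U.ι ≫ f)›⟩
  obtain ⟨W, hxW, hW⟩ := key
  -- the open of X
  have hW' : Etale ((U.ι ''ᵁ W).ι ≫ f) := by
    rw [← U.ι.isoImage_inv_ι W]
    rw [Category.assoc, Category.assoc]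
    infer_instance
  have hxW' : x ∈ U.ι ''ᵁ W := ⟨⟨x, hxU⟩, hxW, rfl⟩
  refine ⟨⟨U.ι ''ᵁ W, hxW', hW'⟩, ?_⟩
  -- the open image in Y
  set W' : X.Opens := U.ι ''ᵁ W with hW'def
  have hopen : IsOpen (Set.range ((W'.ι ≫ f))) :=
    ((W'.ι ≫ f).isOpenMap).isOpen_range
  let V : Y.Opens := ⟨Set.range (W'.ι ≫ f), hopen⟩
  have hle : Set.range (W'.ι ≫ f) ⊆ Set.range V.ι := by
    rw [Scheme.Opens.range_ι]
    exact subset_rfl
  let π : W'.toScheme ⟶ V.toScheme := IsOpenImmersion.lift V.ι (W'.ι ≫ f) hle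
  have hπ : π ≫ V.ι = W'.ι ≫ f := IsOpenImmersion.lift_fac _ _ _
  haveI : Etale (π ≫ V.ι) := by rw [hπ]; exact hW'
  haveI : Etale π := Etale.of_comp π V.ι
  haveI : Surjective π := by
    refine ⟨fun v => ?_⟩
    obtain ⟨w, hw⟩ : (v.1 : Y) ∈ Set.range (W'.ι ≫ f) := v.2
    refine ⟨w, ?_⟩
    apply V.ι.isOpenEmbedding.injective
    rw [← Scheme.Hom.comp_apply, hπ]
    exact hw
  have hW'U : W' ≤ U := by
    rintro _ ⟨w, -, rfl⟩
    exact w.2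
  have h3 : Etale (π ≫ (V.ι ≫ g)) := by
    rw [← Category.assoc, hπ, ← X.homOfLE_ι hW'U, Category.assoc, Category.assoc]
    haveI : Etale (U.ι ≫ f ≫ g) := hU
    infer_instance
  refine ⟨V, ⟨⟨x, hxW'⟩, rfl⟩, ?_⟩
  exact Groth.Agent.Lib.Helper3.etale_of_etale_surjective_comp π (V.ι ≫ g) h3

end Groth.Agent.Lib.lead.EtaleCompGU
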