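import Mathlib

/-! Algebra behind S18363: non-vanishing of Ext¹ between torsion-free modules on two branches. -/

namespace Groth.Agent.ExtCurve
open IsLocalRing

/-- A reduced Noetherian local ring of dimension one has a nonzerodivisor in its maximal ideal. -/
lemma exists_mem_maximalIdeal_nonZeroDivisor (B : Type*) [CommRing B] [IsNoetherianRing B]
    [IsLocalRing B] [IsReduced B] (hdim : ringKrullDim B = 1) :
    ∃ r ∈ maximalIdeal B, r ∈ nonZeroDivisors B := by
  classical
  have hfin : (minimalPrimes B).Finite := minimalPrimes.finite_of_isNoetherianRing B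
  have hnot : ¬ ((maximalIdeal B : Set B) ⊆ ⋃ p ∈ (hfin.toFinset : Set (Ideal B)), (p : Set B)) := by
    intro hsub
    rw [Ideal.subset_union_prime (f := fun p : Ideal B => p) (maximalIdeal B) (maximalIdeal B)
      (fun p hp _ _ => (hfin.mem_toFinset.mp hp).1.1)] at hsub
    obtain ⟨p, hp, hle⟩ := hsub
    have hpmin : p ∈ minimalPrimes B := hfin.mem_toFinset.mp hp
    have hpp : p.IsPrime := hpmin.1.1
    have hpm : p = maximalIdeal B := le_antisymm (le_maximalIdeal hpp.ne_top) hle
    have h0 : Ring.KrullDimLE 0 B := by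
      rw [Ring.krullDimLE_zero_iff]
      intro q hq
      have hq_le : q ≤ maximalIdeal B := le_maximalIdeal hq.ne_top
      have : maximalIdeal B ≤ q := by
        rw [← hpm]
        exact hpmin.2 ⟨hq, bot_le⟩ (hpm ▸ hq_le)
      rw [le_antisymm hq_le this]
      infer_instance
    rw [Ring.krullDimLE_iff, hdim] at h0
    exact absurd h0 (by norm_num)
  rw [Set.not_subset] at hnot
  obtain ⟨r, hrm, hr⟩ := hnot
  refine ⟨r, hrm, ?_⟩
  rw [mem_nonZeroDivisors_iff_right]
  intro x hx
  -- x lies in every minimal prime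
  have hxmem : x ∈ sInf (minimalPrimes B) := by
    rw [Ideal.mem_sInf]
    intro p hp
    have hrp : r ∉ p := by
      intro h
      apply hr
      simp only [Set.mem_iUnion]
      exact ⟨p, hfin.mem_toFinset.mpr hp, h⟩
    have : x * r ∈ p := by rw [hx]; exact zero_mem _
    exact (hp.1.1.mem_or_mem this).resolve_right hrp
  rw [minimalPrimes, Ideal.sInf_minimalPrimes] at hxmem
  obtain ⟨n, hn⟩ := hxmem
  have hnil : IsNilpotent x := ⟨n, hn⟩
  exact hnil.eq_zero

universe u
variable (R : Type u) [CommRing R] [IsNoetherianRing R] [IsLocalRing R]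

theorem key (P Q : Ideal R) (hPQ : ∃ n : ℕ, maximalIdeal R ^ n ≤ P ⊔ Q)
    [IsReduced (R ⧸ Q)] (hQdim : ringKrullDim (R ⧸ Q) = 1)
    (I J : Type u) [AddCommGroup I] [Module R I] [Module.Finite R I] [Nontrivial I]
    [AddCommGroup J] [Module R J] [Module.Finite R J] [Nontrivial J]
    (hPI : ∀ p ∈ P, ∀ x : I, p • x = 0) (hQJ : ∀ q ∈ Q, ∀ y : J, q • y = 0)
    (hJtf : ∀ r : R, Ideal.Quotient.mk Q r ∈ nonZeroDivisors (R ⧸ Q) → ∀ y : J, r • y = 0 → y = 0) :
    ∃ r : R, (∀ y : J, r • y = 0 → y = 0) ∧ (∀ f : I →ₗ[R] J, f = 0) ∧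
      ∃ φ : I →ₗ[R] (J ⧸ LinearMap.range (LinearMap.lsmul R J r)), φ ≠ 0 := by
  classical
  haveI : Nontrivial (R ⧸ Q) := by
    by_contra h
    rw [not_nontrivial_iff_subsingleton] at h
    rw [ringKrullDim_eq_bot_of_subsingleton] at hQdim
    exact absurd hQdim (by simp)
  haveI : IsLocalRing (R ⧸ Q) :=
    IsLocalRing.of_surjective' (Ideal.Quotient.mk Q) Ideal.Quotient.mk_surjective
  obtain ⟨r₀, hr₀m, hr₀⟩ := exists_mem_maximalIdeal_nonZeroDivisor (R ⧸ Q) hQdim
  obtain ⟨r, rfl⟩ := Ideal.Quotient.mk_surjective r₀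
  have hrm : r ∈ maximalIdeal R := by
    rw [mem_maximalIdeal, mem_nonunits_iff] at hr₀m ⊢
    exact fun h => hr₀m (h.map _)
  have hrinj : ∀ y : J, r • y = 0 → y = 0 := hJtf r hr₀
  have hrpow : ∀ (k : ℕ) (y : J), r ^ k • y = 0 → y = 0 := by
    intro k
    induction k with
    | zero => intro y hy; simpa using hy
    | succ k ih =>
      intro y hy
      rw [pow_succ, mul_smul] at hy
      exact hrinj y (ih _ hy)
  refine ⟨r, hrinj, ?_, ?_⟩
  · intro f
    ext x
    obtain ⟨n, hn⟩ := hPQ
    have hmem : r ^ n ∈ P ⊔ Q := hn (Ideal.pow_mem_pow hrm n)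
    obtain ⟨p, hp, q, hq, hpq⟩ := Submodule.mem_sup.mp hmem
    apply hrpow n
    rw [← hpq, add_smul, hQJ q hq, add_zero, ← map_smul, hPI p hp, map_zero]
  · set rJ : Submodule R J := LinearMap.range (LinearMap.lsmul R J r) with hrJ
    have hrJle : rJ ≤ (maximalIdeal R) • (⊤ : Submodule R J) := by
      rintro _ ⟨y, rfl⟩
      exact Submodule.smul_mem_smul hrm Submodule.mem_top
    have hTnt : Nontrivial (J ⧸ rJ) := by
      rw [Submodule.Quotient.nontrivial_iff]
      intro htop
      have : (⊤ : Submodule R J) = ⊥ :=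
        Submodule.eq_bot_of_le_smul_of_le_jacobson_bot (maximalIdeal R) ⊤ Module.Finite.fg_top
          (htop ▸ hrJle) (by rw [IsLocalRing.jacobson_eq_maximalIdeal ⊥ bot_ne_top])
      exact top_ne_bot this
    obtain ⟨p, hp⟩ := associatedPrimes.nonempty R (J ⧸ rJ)
    rw [AssociatedPrimes.mem_iff, isAssociatedPrime_iff] at hp
    obtain ⟨hpprime, t, hpt⟩ := hp
    have hmemp : ∀ a : R, a ∈ p ↔ a • t = 0 := by
      intro a
      rw [hpt, Submodule.mem_colon_singleton, Submodule.mem_bot]
    have hQp : Q ≤ p := by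
      intro q hq
      rw [hmemp]
      obtain ⟨y, rfl⟩ := Submodule.Quotient.mk_surjective _ t
      rw [← Submodule.Quotient.mk_smul, hQJ q hq, Submodule.Quotient.mk_zero]
    have hrp : r ∈ p := by
      rw [hmemp]
      obtain ⟨y, rfl⟩ := Submodule.Quotient.mk_surjective _ t
      rw [← Submodule.Quotient.mk_smul, Submodule.Quotient.mk_eq_zero]
      exact ⟨y, rfl⟩
    -- p = m
    have hpm : p = maximalIdeal R := by
      have hker : RingHom.ker (Ideal.Quotient.mk Q) ≤ p := by rw [Ideal.mk_ker]; exact hQp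
      have hprime' : (p.map (Ideal.Quotient.mk Q)).IsPrime :=
        Ideal.map_isPrime_of_surjective Ideal.Quotient.mk_surjective hker
      have hnotmin : p.map (Ideal.Quotient.mk Q) ∉ minimalPrimes (R ⧸ Q) := by
        intro hmin
        have := Ideal.disjoint_nonZeroDivisors_of_mem_minimalPrimes hmin
        exact Set.disjoint_left.mp this (Ideal.mem_map_of_mem _ hrp) hr₀
      have hdim1 : Ring.KrullDimLE 1 (R ⧸ Q) := by
        rw [Ring.krullDimLE_iff, hQdim]; rfl
      have hmax := ((Ring.krullDimLE_one_iff.mp hdim1) _ hprime').resolve_left hnotmin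
      have hcomap : (p.map (Ideal.Quotient.mk Q)).comap (Ideal.Quotient.mk Q) = p := by
        rw [Ideal.comap_map_of_surjective _ Ideal.Quotient.mk_surjective, ← RingHom.ker_eq_comap_bot]
        exact sup_eq_left.mpr hker
      have : p.IsMaximal := by
        rw [← hcomap]
        exact Ideal.comap_isMaximal_of_surjective _ Ideal.Quotient.mk_surjective
      exact IsLocalRing.eq_maximalIdeal this
    have ht0 : t ≠ 0 := by
      intro h
      have : (1 : R) ∈ p := by rw [hmemp, h, smul_zero]
      exact hpprime.ne_top ((Ideal.eq_top_iff_one _).mpr this)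
    -- a maximal submodule of I
    obtain ⟨I', hI'⟩ := IsCoatomic.exists_coatom (Submodule R I)
    haveI : IsSimpleModule R (I ⧸ I') := by
      rw [isSimpleModule_iff_isCoatom]; exact hI'
    obtain ⟨m', hm'max, ⟨e⟩⟩ := isSimpleModule_iff_quot_maximal.mp this
    have hm' : m' = maximalIdeal R := IsLocalRing.eq_maximalIdeal hm'max
    subst hm'
    -- R/m → T
    let g : (R ⧸ maximalIdeal R) →ₗ[R] (J ⧸ rJ) :=
      Submodule.liftQ (maximalIdeal R) (LinearMap.toSpanSingleton R (J ⧸ rJ) t) (by
        intro a ha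
        rw [LinearMap.mem_ker, LinearMap.toSpanSingleton_apply]
        rw [← hpm] at ha
        exact (hmemp a).mp ha)
    refine ⟨g.comp (e.toLinearMap.comp I'.mkQ), ?_⟩
    intro h0
    have hsurj : Function.Surjective (e.toLinearMap.comp I'.mkQ) :=
      e.surjective.comp (Submodule.mkQ_surjective _)
    obtain ⟨x, hx⟩ := hsurj (Submodule.Quotient.mk 1)
    have := congrArg (fun f => f x) h0
    simp only [LinearMap.comp_apply, LinearMap.zero_apply] at this
    rw [LinearMap.comp_apply] at hx
    rw [hx] at this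
    have h1 : g (Submodule.Quotient.mk 1) = t := by
      show (Submodule.liftQ _ _ _) (Submodule.Quotient.mk 1) = t
      rw [Submodule.liftQ_apply, LinearMap.toSpanSingleton_apply, one_smul]
    rw [h1] at this
    exact ht0 this

end Groth.Agent.ExtCurve
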