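import Mathlib
import Groth.Agent.Lib.lead.FibDegC
import Groth.Prelude.Def_Mor2

set_option autoImplicit false
set_option linter.style.haveILetI false
set_option linter.unusedSectionVars false
universe u

namespace Groth.Agent.Lib.lead.FibDegD

open AlgebraicGeometry CategoryTheory Limits IsLocalRing Groth.Agent.Lib.lead.WtA
  Groth.Agent.Lib.lead.WtB Groth.Agent.Lib.lead.WtC Groth.Agent.Lib.lead.WtG
  Groth.Agent.Lib.lead.WtM Groth.Agent.Lib.lead.StdWt Groth.Agent.Lib.Helper18.CycPull
  Groth.Agent.Lib.lead.RankOne Groth.Agent.Lib.lead.FibDeg Groth.Agent.Lib.lead.FibDegB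
  Groth.Agent.Lib.lead.FibDegC

/-- Étale-local splitting of the fibre degree: near a point `s`, after an étale base change, the
fibre degree is the constant `deg s` plus the fibre degree of a clopen remainder. -/
theorem local_piece {X S : Scheme.{u}} (f : X ⟶ S) [Flat f] [LocallyOfFinitePresentation f]
    [IsSeparated f] [LocallyQuasiFinite f] [QuasiCompact f] (V : S.Opens) (s : S) (hs : s ∈ V) :
    ∃ (W : Scheme.{u}) (g : W ⟶ S) (W' : W.Opens) (R : Scheme.{u}) (f' : R ⟶ W),
      Etale g ∧ Flat f' ∧ LocallyOfFinitePresentation f' ∧ IsSeparated f' ∧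
      LocallyQuasiFinite f' ∧ QuasiCompact f' ∧ IsCompact (W' : Set W) ∧
      s ∈ g '' (W' : Set W) ∧ g '' (W' : Set W) ⊆ (V : Set S) ∧
      ∀ n ∈ W', MoreMor.fibreIntegral f (stdw f) (g n) =
        MoreMor.fibreIntegral f' (stdw f') n + MoreMor.fibreIntegral f (stdw f) s := by
  have hfin : ∀ y : S, (f ⁻¹' {y}).Finite := fun y => f.finite_preimage_singleton y
  obtain ⟨W, g, w₀, hg, K, hK, T, R, hgw, hTfin, hR, hdecomp, hev⟩ :=
    Groth.Agent.Lib.lead.WtI.local_structure f hfin (stdw f) (isWeighting_stdw f) s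
  haveI := hg
  -- the remainder
  have hRcl : IsClosed (Set.range R.ι) := by
    have : Set.range R.ι = (⋃ k, (T k : Set ↑(pullback f g)))ᶜ := by
      rw [Scheme.Opens.range_ι]
      ext u
      simp only [Set.mem_compl_iff, Set.mem_iUnion, not_exists]
      exact hR u
    rw [this, isClosed_compl_iff]
    exact isOpen_iUnion fun k => (T k).isOpen
  haveI : IsClosedImmersion R.ι := IsClosedImmersion.of_isPreimmersion _ hRcl
  let f' : (R : Scheme.{u}) ⟶ W := R.ι ≫ pullback.snd f g
  have hsq : (R.ι ≫ pullback.fst f g) ≫ f = f' ≫ g := by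
    rw [Category.assoc, Category.assoc, pullback.condition]
  have hw' : (stdw f ∘ pullback.fst f g) ∘ R.ι = stdw f' :=
    funext fun u => stdw_eq_of_square f g (R.ι ≫ pullback.fst f g) f' hsq u
  -- the neighbourhood
  obtain ⟨O, hOsub, hOopen, hwO⟩ := mem_nhds_iff.mp hev
  have hgV : IsOpen (g ⁻¹' (V : Set S)) := V.isOpen.preimage g.continuous
  obtain ⟨_, ⟨W', hW' : IsAffineOpen W', rfl⟩, hwW', hW'sub⟩ :=
    W.isBasis_affineOpens.exists_subset_of_mem_open
      (show w₀ ∈ O ∩ g ⁻¹' (V : Set S) from ⟨hwO, by show g w₀ ∈ V; rw [hgw]; exact hs⟩)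
      (hOopen.inter hgV)
  refine ⟨W, g, W', R, f', hg, inferInstance, inferInstance, inferInstance, inferInstance,
    inferInstance, hW'.isCompact, ⟨w₀, hwW', hgw⟩, ?_, ?_⟩
  · rintro _ ⟨n, hn, rfl⟩
    exact (hW'sub hn).2
  · intro n hn
    have h1 := hdecomp n
    have h2 : ∑ k, MoreMor.fibreIntegral ((T k).ι ≫ pullback.snd f g)
        ((stdw f ∘ pullback.fst f g) ∘ (T k).ι) n = MoreMor.fibreIntegral f (stdw f) s := by
      have h := hOsub (hW'sub hn).1
      exact h
    rw [h1, h2, hw']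

/-- Quasi-compactness of the degree-`≥ r` locus inside a quasi-compact open. -/
theorem isCompact_deg_ge : ∀ (r : ℕ) {X S : Scheme.{u}} (f : X ⟶ S) [Flat f]
    [LocallyOfFinitePresentation f] [IsSeparated f] [LocallyQuasiFinite f] [QuasiCompact f]
    (V : S.Opens) (_ : IsCompact (V : Set S)),
    IsCompact {s : S | s ∈ V ∧ (r : ℤ) ≤ MoreMor.fibreIntegral f (stdw f) s} := by
  intro r
  induction r using Nat.strong_induction_on with
  | _ r ih =>
  intro X S f _ _ _ _ _ V hV
  have hnn : ∀ {X S : Scheme.{u}} (f : X ⟶ S) [LocallyQuasiFinite f] (s : S),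
      0 ≤ MoreMor.fibreIntegral f (stdw f) s := fun f _ s =>
    fibreIntegral_nonneg _ _ (fun u => (stdw_pos _ u).le) s
  rcases Nat.eq_zero_or_pos r with rfl | hr
  · convert hV using 1
    ext s
    simp only [Nat.cast_zero, Set.mem_ofPred_eq, SetLike.mem_coe, and_iff_left_iff_imp]
    exact fun _ => hnn f s
  · set E := {s : S | s ∈ V ∧ (r : ℤ) ≤ MoreMor.fibreIntegral f (stdw f) s} with hE
    -- the compact set covering `E`
    have hKc : IsCompact (f '' (f ⁻¹' (V : Set S))) :=
      (QuasiCompact.isCompact_preimage (f := f) _ V.isOpen hV).image f.continuous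
    have hEK : E ⊆ f '' (f ⁻¹' (V : Set S)) := by
      rintro s ⟨hsV, hs⟩
      have hne : MoreMor.fibreIntegral f (stdw f) s ≠ 0 := by
        have : (0 : ℤ) < r := by exact_mod_cast hr
        omega
      obtain ⟨x, hx⟩ := exists_of_fibreIntegral_ne_zero f (stdw f) s hne
      exact ⟨x, by show f x ∈ V; rw [hx]; exact hsV, hx⟩
    -- local pieces
    have hloc : ∀ s ∈ f '' (f ⁻¹' (V : Set S)), ∃ N : Set S, IsOpen N ∧ s ∈ N ∧
        IsCompact (N ∩ E) := by
      rintro s ⟨x, hxV, rfl⟩
      have hsV : f x ∈ V := hxV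
      obtain ⟨W, g, W', R, f', hg, h1, h2, h3, h4, h5, hW'c, hsW', hW'V, hdeg⟩ :=
        local_piece f V (f x) hsV
      haveI := hg
      set c := MoreMor.fibreIntegral f (stdw f) (f x) with hc
      have hcpos : 1 ≤ c := by
        have hfinx : Finite {u : X // f u = f x} := (f.finite_preimage_singleton (f x)).to_subtype
        have := le_fibreIntegral f (stdw f) (fun u => (stdw_pos f u).le) (f x) hfinx x rfl
        have := stdw_pos f x
        omega
      refine ⟨g '' (W' : Set W), g.isOpenMap _ W'.isOpen, hsW', ?_⟩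
      have hset : g '' (W' : Set W) ∩ E =
          g '' {n : W | n ∈ W' ∧ ((r - c.toNat : ℕ) : ℤ) ≤ MoreMor.fibreIntegral f' (stdw f') n} := by
        ext y
        constructor
        · rintro ⟨⟨n, hn, rfl⟩, -, hy⟩
          refine ⟨n, ⟨hn, ?_⟩, rfl⟩
          rw [hdeg n hn] at hy
          have := hnn f' n
          omega
        · rintro ⟨n, ⟨hn, hy⟩, rfl⟩
          refine ⟨⟨n, hn, rfl⟩, hW'V ⟨n, hn, rfl⟩, ?_⟩
          rw [hdeg n hn]
          have := hnn f' n
          omega
      rw [hset]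
      have hlt : r - c.toNat < r := by omega
      exact (ih (r - c.toNat) hlt f' W' hW'c).image g.continuous
    choose! N hNo hsN hNc using hloc
    obtain ⟨t, htsub, htfin, hcov⟩ := hKc.elim_finite_subcover_image (b := f '' (f ⁻¹' (V : Set S)))
      (c := N) (fun s hs => hNo s hs) (fun s hs => Set.mem_biUnion hs (hsN s hs))
    have hEeq : E = ⋃ s ∈ t, (N s ∩ E) := by
      ext y
      simp only [Set.mem_iUnion, Set.mem_inter_iff, exists_and_right, exists_prop]
      constructor
      · intro hy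
        have := hcov (hEK hy)
        simp only [Set.mem_iUnion, exists_prop] at this
        obtain ⟨s, hst, hys⟩ := this
        exact ⟨⟨s, hst, hys⟩, hy⟩
      · rintro ⟨-, hy⟩
        exact hy
    rw [hEeq]
    exact htfin.isCompact_biUnion fun s hs => hNc s (htsub hs)

/-- Finite locally free of degree `r` after base change iff the fibre degree is constant `r`. -/
theorem finLocFreeOfDeg_iff {X S : Scheme.{u}} (f : X ⟶ S) [Flat f] [LocallyOfFinitePresentation f]
    [IsSeparated f] [LocallyQuasiFinite f] (hfin : ∀ s : S, (f ⁻¹' {s}).Finite)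
    (T : Scheme.{u}) (g : T ⟶ S) (r : ℕ) :
    Mor2.IsFinLocFreeOfDeg r (pullback.snd f g) ↔
      ∀ t : T, (MoreMor.fibreIntegral f (stdw f) (g t)).toNat = r := by
  have hfin' : ∀ s : S, Finite {x : X // f x = s} := fun s => (hfin s).to_subtype
  have hnn : ∀ s, 0 ≤ MoreMor.fibreIntegral f (stdw f) s := fun s =>
    fibreIntegral_nonneg _ _ (fun u => (stdw_pos _ u).le) s
  set fT := pullback.snd f g with hfT
  have hc : IsPullback (pullback.fst f g) fT f g := IsPullback.of_hasPullback f g
  have hbc : ∀ t : T, MoreMor.fibreIntegral fT (stdw fT) t =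
      MoreMor.fibreIntegral f (stdw f) (g t) := fun t =>
    fibreIntegral_stdw_baseChange f g t (hfin' (g t))
  constructor
  · rintro ⟨⟨hF, hFl, hFp⟩, hrank⟩ t
    haveI := hF
    haveI := hFl
    have h1 := fibreIntegral_stdw_eq_finrank fT t
    rw [hbc t, hrank t] at h1
    rw [h1, Int.toNat_natCast]
  · intro hdeg
    have hval : ∀ t : T, MoreMor.fibreIntegral fT (stdw fT) t = r := by
      intro t
      rw [hbc t]
      have h1 := hdeg t
      have h2 := hnn (g t)
      omega
    have hfinT : ∀ t : T, (fT ⁻¹' {t}).Finite := fun t => by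
      have h0 : Finite {z : ↑(pullback f g) // fT z = t} :=
        finite_fibre_baseChange hc t (hfin' (g t))
      exact Set.finite_coe_iff.mp h0
    obtain ⟨hUo, hUfin⟩ := Groth.Agent.Lib.lead.WtK.S1428 fT hfinT (stdw fT)
      (isWeighting_stdw fT) (stdw_pos fT) (r : ℤ) (fun t => (hval t).le)
    have hUtop : (⟨{y : ↑T | MoreMor.fibreIntegral fT (stdw fT) y = r}, hUo⟩ : T.Opens) = ⊤ := by
      ext t
      simp only [TopologicalSpace.Opens.coe_mk, Set.mem_ofPred_eq, TopologicalSpace.Opens.coe_top,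
        Set.mem_univ, iff_true]
      exact hval t
    haveI hF : IsFinite fT := by
      rw [IsZariskiLocalAtTarget.iff_of_iSup_eq_top (P := @IsFinite)
        (U := fun _ : Unit => (⟨{y : ↑T | MoreMor.fibreIntegral fT (stdw fT) y = r}, hUo⟩ : T.Opens))
        (by rw [ciSup_const, hUtop])]
      intro _
      exact hUfin
    refine ⟨⟨hF, inferInstance, inferInstance⟩, fun t => ?_⟩
    have h1 := fibreIntegral_stdw_eq_finrank fT t
    rw [hval t] at h1
    exact_mod_cast h1.symm

theorem S1448 {X S : Scheme.{u}} (f : X ⟶ S) [Flat f] [LocallyOfFinitePresentation f]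
    [IsSeparated f] [LocallyQuasiFinite f] [QuasiCompact f] :
    ∃ deg : ↑S → ℕ, (∀ r : ℕ, IsClosed {s : ↑S | deg s ≤ r}) ∧
      (∀ r : ℕ, IsRetrocompact {s : ↑S | deg s = r}) ∧
      ∀ (T : Scheme.{u}) (g : T ⟶ S) (r : ℕ),
        Mor2.IsFinLocFreeOfDeg r (pullback.snd f g) ↔ ∀ t : T, deg (g t) = r := by
  have hfin : ∀ s : S, (f ⁻¹' {s}).Finite := fun s => f.finite_preimage_singleton s
  have hnn : ∀ s, 0 ≤ MoreMor.fibreIntegral f (stdw f) s := fun s =>
    fibreIntegral_nonneg _ _ (fun u => (stdw_pos _ u).le) s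
  have hlsc : LowerSemicontinuous (MoreMor.fibreIntegral f (stdw f)) :=
    Groth.Agent.Lib.lead.WtI.lowerSemicontinuous_fibreIntegral f hfin (stdw f)
      (isWeighting_stdw f) (stdw_pos f)
  refine ⟨fun s => (MoreMor.fibreIntegral f (stdw f) s).toNat, ?_, ?_, ?_⟩
  · intro r
    have : {s : ↑S | (MoreMor.fibreIntegral f (stdw f) s).toNat ≤ r} =
        MoreMor.fibreIntegral f (stdw f) ⁻¹' Set.Iic (r : ℤ) := by
      ext s
      simp only [Set.mem_ofPred_eq, Set.mem_preimage, Set.mem_Iic, Int.toNat_le]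
    rw [this]
    exact hlsc.isClosed_preimage _
  · intro r V hVc hVo
    have h1 := isCompact_deg_ge r f ⟨V, hVo⟩ hVc
    have hopen : IsOpen {s : S | ((r + 1 : ℕ) : ℤ) ≤ MoreMor.fibreIntegral f (stdw f) s} := by
      have : {s : S | ((r + 1 : ℕ) : ℤ) ≤ MoreMor.fibreIntegral f (stdw f) s} =
          MoreMor.fibreIntegral f (stdw f) ⁻¹' Set.Ioi (r : ℤ) := by
        ext s
        simp only [Set.mem_ofPred_eq, Set.mem_preimage, Set.mem_Ioi]
        push_cast
        omega
      rw [this]
      exact hlsc.isOpen_preimage _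
    have h2 := h1.diff hopen
    convert h2 using 1
    ext s
    simp only [Set.mem_inter_iff, Set.mem_ofPred_eq, Set.mem_sdiff, TopologicalSpace.Opens.mem_mk,
      not_le]
    have := hnn s
    constructor
    · rintro ⟨hs, hsV⟩
      refine ⟨⟨hsV, ?_⟩, ?_⟩ <;> push_cast <;> omega
    · rintro ⟨⟨hsV, h3⟩, h4⟩
      refine ⟨?_, hsV⟩
      push_cast at h4
      omega
  · intro T g r
    exact finLocFreeOfDeg_iff f hfin T g r

end Groth.Agent.Lib.lead.FibDegD
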