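import Groth.Agent.Lib.Helper21.FibVan10
import Groth.Agent.Lib.Helper17.Serre2
import Mathlib

/-!
# Vanishing transfer along an affine morphism generated over the base

`k : X' ⟶ X` affine, the functions on `X'` generated by those of `X` and the image of a ring `B`
(`FibVan.Gen`).  If `H^{d+1}` vanishes on all quasi-coherent modules of `X` and `H^d(X, O_X) = 0`,
then `H^d(X', O_{X'}) = 0`.
-/

set_option backward.isDefEq.respectTransparency.types false
set_option linter.style.haveILetI false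
set_option autoImplicit false
universe u
open CategoryTheory CategoryTheory.Limits AlgebraicGeometry Opposite TopologicalSpace Abelian

noncomputable section

namespace Groth.Agent.Lib.lead.FibOne

open Groth.Agent.Lib.Helper21.FibVan Groth.Agent.Lib.Helper2 Groth.Agent.Lib.Helper2.HomExt
open Groth.Agent.Lib.Helper28.QCohLoc Groth.Agent.Lib.Helper17.CohKer
open Groth.Agent.Lib.Helper17.FlatBCH3

variable {X' X : Scheme.{u}} (k : X' ⟶ X)

/-- the unit `O_X ⟶ k_* O_{X'}` -/
def unitPush : Coh.structureModule X ⟶ PM k (Coh.structureModule X') :=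
  Groth.Agent.Lib.Helper17.Serre.ofSection (PM k (Coh.structureModule X'))
    (ofM k (Coh.structureModule X') ⊤ (show Γ(Coh.structureModule X', k ⁻¹ᵁ ⊤) from (1 : Γ(X', k ⁻¹ᵁ ⊤))))

theorem toM_unitPush (U : X.Opens) (c : Γ(X, U)) :
    toM k (Coh.structureModule X') U ((unitPush k).app U (show Γ(Coh.structureModule X, U) from c)) =
      (show Γ(Coh.structureModule X', k ⁻¹ᵁ U) from (k.app U).hom c) := by
  unfold unitPush
  rw [Groth.Agent.Lib.Helper17.Serre.ofSection_app, toM_smul]
  have h1 : toM k (Coh.structureModule X') U (res (PM k (Coh.structureModule X')) (le_top : U ≤ ⊤)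
      (ofM k (Coh.structureModule X') ⊤
        (show Γ(Coh.structureModule X', k ⁻¹ᵁ ⊤) from (1 : Γ(X', k ⁻¹ᵁ ⊤))))) =
      (show Γ(Coh.structureModule X', k ⁻¹ᵁ U) from (1 : Γ(X', k ⁻¹ᵁ U))) := by
    change X'.presheaf.map _ (1 : Γ(X', k ⁻¹ᵁ ⊤)) = 1
    exact map_one _
  rw [h1]
  exact mul_one ((k.app U).hom c)


variable {k} {B : Type u} [CommRing B] {ι : B →+* Γ(X', ⊤)}

/-- `k_* O_{X'}` is generated by the image of `B` -/
theorem epi_sumMap_unitPush (hgen : Gen k ι) :
    Epi (sumMap (ι := ι) (unitPush k)) := by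
  refine Groth.Agent.Lib.Helper28.QCohLoc.epi_of_locally_in_range _ ?_
  intro U x pt hpt
  obtain ⟨U₀, hU₀, hptU₀, hU₀U⟩ := exists_isAffineOpen_mem_and_subset (X := X) (x := pt) (U := U) hpt
  refine ⟨U₀, hU₀U, hptU₀, ?_⟩
  refine mem_range_sumMap hgen (unitPush k) hU₀
    ({(show Γ(Coh.structureModule X', k ⁻¹ᵁ U₀) from (1 : Γ(X', k ⁻¹ᵁ U₀)))} : Set _) ?_ ?_ _
  · rw [eq_top_iff]
    intro m _
    have h1 : m = ((show Γ(X', k ⁻¹ᵁ U₀) from m) •
        (show Γ(Coh.structureModule X', k ⁻¹ᵁ U₀) from (1 : Γ(X', k ⁻¹ᵁ U₀))) :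
        Γ(Coh.structureModule X', k ⁻¹ᵁ U₀)) := (mul_one (show Γ(X', k ⁻¹ᵁ U₀) from m)).symm
    rw [h1]
    exact Submodule.smul_mem _ _ (Submodule.subset_span rfl)
  · intro m hm
    rw [Set.mem_singleton_iff] at hm
    subst hm
    refine ⟨(show Γ(Coh.structureModule X, U₀) from (1 : Γ(X, U₀))), ?_⟩
    rw [toM_unitPush]
    exact map_one (k.app U₀).hom

/-- **vanishing transfer** -/
theorem subsingleton_HH_of_gen [IsAffineHom k] [CompactSpace X] [QuasiSeparatedSpace X]
    (hgen : Gen k ι) (d : ℕ)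
    (hvan : ∀ K : X.Modules, K.IsQuasicoherent → Subsingleton (Coh.HH X K (d + 1)))
    (h0 : Subsingleton (Coh.HH X (Coh.structureModule X) d)) :
    Subsingleton (Coh.HH X' (Coh.structureModule X') d) := by
  classical
  set M : X'.Modules := Coh.structureModule X' with hM
  haveI : M.IsQuasicoherent := inferInstance
  haveI : (Coh.structureModule X).IsQuasicoherent := inferInstance
  haveI : (PM k M).IsQuasicoherent := isQuasicoherent_pushforward k M
  haveI : (∐ fun _ : B => Coh.structureModule X).IsQuasicoherent :=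
    Groth.Agent.Lib.Helper16.QCohSigma.isQuasicoherent_sigma _
  haveI := epi_sumMap_unitPush (k := k) (ι := ι) hgen
  have hK : (kernel (sumMap (ι := ι) (unitPush k))).IsQuasicoherent := isQuasicoherent_kernel _
  have hpe : Function.Bijective (CohPull.pushEdge k M d) := pushEdge_bijective_of_isAffineHom k M d
  refine ⟨fun z z' => ?_⟩
  suffices h : ∀ z : Coh.HH X' M d, z = 0 by rw [h z, h z']
  intro z
  obtain ⟨x, rfl⟩ := hpe.2 z
  obtain ⟨w, rfl⟩ := surjective_HH_of_epi (sumMap (ι := ι) (unitPush k)) d (hvan _ hK) x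
  obtain ⟨σ, y, hsum⟩ := Groth.Agent.Lib.Helper17.SigmaHH.exists_finset_sum_HH X
    (fun _ : B => Coh.structureModule X) d w
  have hw : w = 0 := by
    refine hsum.trans (Finset.sum_eq_zero fun a _ => ?_)
    have hy : y a = 0 := @Subsingleton.elim _ h0 _ _
    exact (congrArg _ hy).trans (map_zero _)
  exact (congrArg (fun t => CohPull.pushEdge k M d
    (Sheaf.H.map ((SheafOfModules.toSheaf X.ringCatSheaf).map (sumMap (ι := ι) (unitPush k))) d t)) hw).trans
    ((congrArg (CohPull.pushEdge k M d) (map_zero _)).trans (map_zero _))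

end Groth.Agent.Lib.lead.FibOne
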