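import Groth.Agent.Lib.lead.FibOneA
import Groth.Agent.Lib.Helper4.VanIdeal
import Mathlib

/-!
# The Nakayama step: `H^d(X, O) = m · H^d(X, O)` when the closed fibre has no `H^d`

`k : Z ⟶ X` affine ("closed fibre"), `ρ : R → Γ(X, O_X)`, `m` an ideal of `R` such that on affine
opens `k^♯` is surjective with kernel generated by `ρ(m)`.  If `H^{d+1}` vanishes on quasi-coherent
modules of `X` and `H^d(Z, O_Z) = 0`, every class of `H^d(X, O_X)` is a finite sum `∑ ρ(a) • y_a`
with `a ∈ m`.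
-/

set_option backward.isDefEq.respectTransparency.types false
set_option linter.style.haveILetI false
set_option autoImplicit false
universe u
open CategoryTheory CategoryTheory.Limits AlgebraicGeometry Opposite TopologicalSpace Abelian

noncomputable section

namespace Groth.Agent.Lib.lead.FibOne

open Groth.Agent.Lib.Helper21.FibVan Groth.Agent.Lib.Helper2 Groth.Agent.Lib.Helper2.HomExt
open Groth.Agent.Lib.Helper28.QCohLoc Groth.Agent.Lib.Helper17.CohKer
open Groth.Agent.Lib.Helper17.FlatBCH3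

/-- kernel of the coprojection of a pushout of commutative rings along a surjection -/
theorem ker_le_map_of_isPushout {R C K D : CommRingCat.{u}} {φ₁ : R ⟶ C} {φ₂ : R ⟶ K}
    {v₁ : C ⟶ D} {v₂ : K ⟶ D} (h : IsPushout φ₁ φ₂ v₁ v₂) (hsurj : Function.Surjective φ₂.hom)
    (c : C) (hc : v₁.hom c = 0) : c ∈ Ideal.map φ₁.hom (RingHom.ker φ₂.hom) := by
  set J : Ideal C := Ideal.map φ₁.hom (RingHom.ker φ₂.hom) with hJ
  have hle : RingHom.ker φ₂.hom ≤ RingHom.ker ((Ideal.Quotient.mk J).comp φ₁.hom) := by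
    intro r hr
    rw [RingHom.mem_ker, RingHom.comp_apply, Ideal.Quotient.eq_zero_iff_mem]
    exact Ideal.mem_map_of_mem _ hr
  let ψ : (K : Type u) →+* (C ⧸ J) := RingHom.liftOfSurjective φ₂.hom hsurj ⟨_, hle⟩
  have hψ : ψ.comp φ₂.hom = (Ideal.Quotient.mk J).comp φ₁.hom :=
    RingHom.liftOfSurjective_comp _ hsurj ⟨_, hle⟩
  let Q : CommRingCat.{u} := CommRingCat.of (C ⧸ J)
  let a : C ⟶ Q := CommRingCat.ofHom (Ideal.Quotient.mk J)
  let b : K ⟶ Q := CommRingCat.ofHom ψ
  have hab : φ₁ ≫ a = φ₂ ≫ b := by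
    ext r
    exact (congrArg (fun θ : (R : Type u) →+* (C ⧸ J) => θ r) hψ).symm
  have h1 : v₁ ≫ h.desc a b hab = a := h.inl_desc a b hab
  have h2 : (h.desc a b hab).hom (v₁.hom c) = Ideal.Quotient.mk J c :=
    congrArg (fun θ : C ⟶ Q => θ.hom c) h1
  rw [hc, map_zero] at h2
  exact Ideal.Quotient.eq_zero_iff_mem.1 h2.symm

variable {Z X : Scheme.{u}} (k : Z ⟶ X) {R : Type u} [CommRing R] (ρ : R →+* Γ(X, ⊤))
  (m : Ideal R)

/-- the hypotheses on the "closed fibre" -/
structure IsClosedFibre : Prop where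
  surj : ∀ U₀ : X.Opens, IsAffineOpen U₀ → Function.Surjective (k.app U₀).hom
  ker : ∀ U₀ : X.Opens, IsAffineOpen U₀ → ∀ c : Γ(X, U₀), (k.app U₀).hom c = 0 →
    c ∈ Ideal.span (Set.range fun a : m => gOn (ρ a) U₀)
  zero : ∀ a : m, k.appTop.hom (ρ a) = 0

variable {k ρ m}

theorem epi_unitPush (h : IsClosedFibre k ρ m) : Epi (unitPush k) := by
  refine Groth.Agent.Lib.Helper28.QCohLoc.epi_of_locally_in_range _ ?_
  intro U x pt hpt
  obtain ⟨U₀, hU₀, hptU₀, hU₀U⟩ := exists_isAffineOpen_mem_and_subset (X := X) (x := pt) (U := U) hpt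
  refine ⟨U₀, hU₀U, hptU₀, ?_⟩
  obtain ⟨c, hc⟩ := h.surj U₀ hU₀
    (show Γ(Z, k ⁻¹ᵁ U₀) from toM k (Coh.structureModule Z) U₀ (res _ hU₀U x))
  refine ⟨(show Γ(Coh.structureModule X, U₀) from c), ?_⟩
  apply toM_injective k (Coh.structureModule Z) U₀
  rw [toM_unitPush]
  exact hc


theorem app_gOn (k : Z ⟶ X) (r : Γ(X, ⊤)) (U : X.Opens) :
    (k.app U).hom (gOn r U) = gOn (k.appTop.hom r) (k ⁻¹ᵁ U) := by
  have h := k.naturality (homOfLE (le_top : U ≤ ⊤)).op
  exact congrArg (fun θ => θ.hom r) h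

theorem smulHom_comp_unitPush (h : IsClosedFibre k ρ m) (a : m) :
    smulHom (Coh.structureModule X) (ρ a) ≫ unitPush k = 0 := by
  apply Scheme.Modules.hom_ext
  intro U
  ext c
  change (unitPush k).app U ((smulHom (Coh.structureModule X) (ρ a)).app U c) = 0
  apply toM_injective k (Coh.structureModule Z) U
  rw [smulHom_app]
  have h1 : ((gOn (ρ a) U • c : Γ(Coh.structureModule X, U))) =
      (show Γ(Coh.structureModule X, U) from (gOn (ρ a) U * (show Γ(X, U) from c))) := rfl
  rw [h1, toM_unitPush, map_mul, app_gOn, h.zero a]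
  have h2 : gOn (0 : Γ(Z, ⊤)) (k ⁻¹ᵁ U) = 0 := map_zero _
  rw [h2]
  exact zero_mul ((k.app U).hom (show Γ(X, U) from c))


/-- the lift of multiplication by `ρ a`, `a ∈ m`, to the kernel of `O_X ⟶ k_* O_Z` -/
def lam (h : IsClosedFibre k ρ m) (a : m) : Coh.structureModule X ⟶ kernel (unitPush k) :=
  kernel.lift (unitPush k) (smulHom (Coh.structureModule X) (ρ a)) (smulHom_comp_unitPush h a)

theorem lam_ι (h : IsClosedFibre k ρ m) (a : m) :
    lam h a ≫ kernel.ι (unitPush k) = smulHom (Coh.structureModule X) (ρ a) :=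
  kernel.lift_ι _ _ _

/-- the sum of the lifts -/
def descLam (h : IsClosedFibre k ρ m) :
    (∐ fun _ : m => Coh.structureModule X) ⟶ kernel (unitPush k) := Limits.Sigma.desc (lam h)

theorem ι_descLam_ι (h : IsClosedFibre k ρ m) (a : m) :
    Sigma.ι (fun _ : m => Coh.structureModule X) a ≫ descLam h ≫ kernel.ι (unitPush k) =
      smulHom (Coh.structureModule X) (ρ a) := by
  unfold descLam
  rw [Sigma.ι_desc_assoc, lam_ι]

theorem epi_descLam (h : IsClosedFibre k ρ m) : Epi (descLam h) := by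
  refine Groth.Agent.Lib.Helper28.QCohLoc.epi_of_locally_in_range _ ?_
  intro U x pt hpt
  obtain ⟨U₀, hU₀, hptU₀, hU₀U⟩ := exists_isAffineOpen_mem_and_subset (X := X) (x := pt) (U := U) hpt
  refine ⟨U₀, hU₀U, hptU₀, ?_⟩
  set x₀ := res (kernel (unitPush k)) hU₀U x with hx₀
  set c : Γ(X, U₀) := (kernel.ι (unitPush k)).app U₀ x₀ with hc
  have hc0 : (k.app U₀).hom c = 0 := by
    have h1 : (unitPush k).app U₀ ((kernel.ι (unitPush k)).app U₀ x₀) = 0 :=
      congrArg (fun θ : kernel (unitPush k) ⟶ _ => θ.app U₀ x₀) (kernel.condition (unitPush k))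
    have h2 := congrArg (toM k (Coh.structureModule Z) U₀) h1
    rw [toM_unitPush, map_zero] at h2
    exact h2
  have hmem := h.ker U₀ hU₀ c hc0
  suffices hs : ∀ c' ∈ Ideal.span (Set.range fun a : m => gOn (ρ a) U₀),
      ∃ w : Γ(∐ fun _ : m => Coh.structureModule X, U₀),
        (kernel.ι (unitPush k)).app U₀ ((descLam h).app U₀ w) =
          (show Γ(Coh.structureModule X, U₀) from c') by
    obtain ⟨w, hw⟩ := hs c hmem
    exact ⟨w, Groth.Agent.Lib.Helper4.VanIdeal.app_injective_of_mono (kernel.ι (unitPush k)) U₀ hw⟩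
  intro c' hc'
  induction hc' using Submodule.span_induction with
  | mem z hz =>
    obtain ⟨a, rfl⟩ := hz
    refine ⟨(Sigma.ι (fun _ : m => Coh.structureModule X) a).app U₀
      (show Γ(Coh.structureModule X, U₀) from (1 : Γ(X, U₀))), ?_⟩
    have h3 := ι_descLam_ι h a
    have h4 := congrArg (fun θ : Coh.structureModule X ⟶ Coh.structureModule X =>
      θ.app U₀ (show Γ(Coh.structureModule X, U₀) from (1 : Γ(X, U₀)))) h3
    refine h4.trans ?_
    rw [smulHom_app]
    exact mul_one (gOn (ρ a) U₀)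
  | zero => exact ⟨0, by rw [map_zero, map_zero]; rfl⟩
  | add z z' _ _ ih ih' =>
    obtain ⟨w, hw⟩ := ih
    obtain ⟨w', hw'⟩ := ih'
    exact ⟨w + w', by rw [map_add, map_add, hw, hw']; rfl⟩
  | smul r z _ ih =>
    obtain ⟨w, hw⟩ := ih
    exact ⟨r • w, by rw [Scheme.Modules.Hom.app_smul, Scheme.Modules.Hom.app_smul, hw]; rfl⟩


/-- **the Nakayama step** -/
theorem exists_sum_smul [IsAffineHom k] [CompactSpace X] [QuasiSeparatedSpace X]
    (h : IsClosedFibre k ρ m) (d : ℕ)
    (hvan : ∀ K : X.Modules, K.IsQuasicoherent → Subsingleton (Coh.HH X K (d + 1)))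
    (hZ : Subsingleton (Coh.HH Z (Coh.structureModule Z) d))
    (x : Coh.HH X (Coh.structureModule X) d) :
    ∃ (σ : Finset m) (y : m → Coh.HH X (Coh.structureModule X) d),
      x = ∑ a ∈ σ, Sheaf.H.map (Coh.smulAb (Coh.structureModule X) (ρ a)) d (y a) := by
  classical
  haveI : (Coh.structureModule X).IsQuasicoherent := inferInstance
  haveI : (Coh.structureModule Z).IsQuasicoherent := inferInstance
  haveI : (PM k (Coh.structureModule Z)).IsQuasicoherent := isQuasicoherent_pushforward k _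
  haveI := epi_unitPush h
  let S : ShortComplex (SheafOfModules.{u} X.ringCatSheaf) :=
    ShortComplex.mk (kernel.ι (unitPush k)) (unitPush k) (kernel.condition (unitPush k))
  have hS : S.ShortExact :=
    ShortComplex.ShortExact.mk' (ShortComplex.kernelSequence_exact (unitPush k))
      (inferInstanceAs (Mono (kernel.ι (unitPush k)))) (inferInstanceAs (Epi (unitPush k)))
  haveI hJ : (kernel (unitPush k)).IsQuasicoherent := isQuasicoherent_kernel _
  have hx0 : Sheaf.H.map ((SheafOfModules.toSheaf X.ringCatSheaf).map (unitPush k)) d x = 0 := by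
    have hpe := pushEdge_bijective_of_isAffineHom k (Coh.structureModule Z) d
    apply hpe.1
    exact @Subsingleton.elim _ hZ _ _
  obtain ⟨j, hj⟩ := HLes.exact₂ (HLesLin.shortExact_Sab S hS) d x hx0
  haveI := epi_descLam h
  haveI : (∐ fun _ : m => Coh.structureModule X).IsQuasicoherent :=
    Groth.Agent.Lib.Helper16.QCohSigma.isQuasicoherent_sigma _
  have hK : (kernel (descLam h)).IsQuasicoherent := isQuasicoherent_kernel _
  obtain ⟨w, hw⟩ := surjective_HH_of_epi (descLam h) d (hvan _ hK) j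
  obtain ⟨σ, y, hsum⟩ := Groth.Agent.Lib.Helper17.SigmaHH.exists_finset_sum_HH X
    (fun _ : m => Coh.structureModule X) d w
  refine ⟨σ, y, ?_⟩
  set Fι := (SheafOfModules.toSheaf X.ringCatSheaf).map (kernel.ι (unitPush k)) with hFι
  set Fσ := (SheafOfModules.toSheaf X.ringCatSheaf).map (descLam h) with hFσ
  have hterm : ∀ a : m,
      Sheaf.H.map Fι d (Sheaf.H.map Fσ d
          (Sheaf.H.map ((SheafOfModules.toSheaf X.ringCatSheaf).map
            (Sigma.ι (fun _ : m => Coh.structureModule X) a)) d (y a))) =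
      Sheaf.H.map (Coh.smulAb (Coh.structureModule X) (ρ a)) d (y a) := by
    intro a
    have h4 : (SheafOfModules.toSheaf X.ringCatSheaf).map
          (Sigma.ι (fun _ : m => Coh.structureModule X) a) ≫ Fσ ≫ Fι =
        Coh.smulAb (Coh.structureModule X) (ρ a) := by
      rw [hFσ, hFι, ← Functor.map_comp, ← Functor.map_comp]
      exact (congrArg (fun φ => (SheafOfModules.toSheaf X.ringCatSheaf).map φ) (ι_descLam_ι h a)).trans
        (toSheaf_map_smulHom _ _)
    exact ((Sheaf.H.map_comp_apply Fσ Fι _).symm.trans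
      (Sheaf.H.map_comp_apply ((SheafOfModules.toSheaf X.ringCatSheaf).map
        (Sigma.ι (fun _ : m => Coh.structureModule X) a)) (Fσ ≫ Fι) (y a)).symm).trans
      (congrArg (fun φ => Sheaf.H.map φ d (y a)) h4)
  have e1 : x = Sheaf.H.map Fι d (Sheaf.H.map Fσ d
        (∑ a ∈ σ, Sheaf.H.map ((SheafOfModules.toSheaf X.ringCatSheaf).map
          (Sigma.ι (fun _ : m => Coh.structureModule X) a)) d (y a))) :=
    hj.symm.trans (congrArg (fun t => Sheaf.H.map Fι d t)
      (hw.symm.trans (congrArg (fun t => Sheaf.H.map Fσ d t) hsum)))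
  refine e1.trans ?_
  refine (congrArg (fun t => Sheaf.H.map Fι d t) (map_sum (Sheaf.H.map Fσ d) _ σ)).trans ?_
  refine (map_sum (Sheaf.H.map Fι d) _ σ).trans ?_
  exact Finset.sum_congr rfl fun a _ => hterm a

end Groth.Agent.Lib.lead.FibOne
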