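import Groth.Agent.Lib.lead.FibOneB
import Groth.Agent.Lib.Helper1.RefHull3
import Mathlib

/-!
# Closed fibres of base changes are closed fibres in the sense of `FibOne.IsClosedFibre`
-/

set_option backward.isDefEq.respectTransparency.types false
set_option linter.style.haveILetI false
set_option autoImplicit false
universe u
open CategoryTheory CategoryTheory.Limits AlgebraicGeometry Opposite TopologicalSpace Abelian

noncomputable section

namespace Groth.Agent.Lib.lead.FibOne

open Groth.Agent.Lib.Helper21.FibVan Groth.Agent.Lib.Helper2 Groth.Agent.Lib.Helper2.HomExt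
open Groth.Agent.Lib.Helper28.QCohLoc

theorem isClosedFibre_of_isPullback {Z X' T S' : Scheme.{u}} [IsAffine T] [IsAffine S']
    {k : Z ⟶ X'} {q : Z ⟶ T} {f' : X' ⟶ S'} {i : T ⟶ S'} (hpb : IsPullback k q f' i)
    [IsClosedImmersion i] :
    IsClosedFibre k f'.appTop.hom (RingHom.ker i.appTop.hom) := by
  haveI : IsClosedImmersion k := MorphismProperty.of_isPullback (P := @IsClosedImmersion) hpb.flip
    inferInstance
  refine ⟨fun U₀ hU₀ => k.app_surjective U₀ hU₀, ?_, ?_⟩
  · intro U₀ hU₀ c hc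
    have hUY : k ⁻¹ᵁ U₀ = k ⁻¹ᵁ U₀ ⊓ q ⁻¹ᵁ ⊤ := by
      rw [Scheme.Hom.preimage_top, inf_top_eq]
    have hST : (⊤ : T.Opens) ≤ i ⁻¹ᵁ ⊤ := le_top
    have hSX : U₀ ≤ f' ⁻¹ᵁ ⊤ := le_top
    haveI := isIso_pushoutSection_of_isAffineOpen hpb hST hSX hUY (isAffineOpen_top _)
      (isAffineOpen_top _) hU₀
    have hp := (isIso_pushoutSection_iff hpb hST hSX hUY).mp inferInstance
    have hsurj : Function.Surjective (i.appLE ⊤ ⊤ hST).hom := by
      have h1 := (IsClosedImmersion.isAffine_surjective_of_isAffine i).2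
      have h2 : i.appLE ⊤ ⊤ hST = i.appTop := by
        rw [Scheme.Hom.appLE]
        simp
      rw [h2]
      exact h1
    have hc' : (k.appLE U₀ (k ⁻¹ᵁ U₀) (by simp)).hom c = 0 := by
      rw [← Scheme.Hom.app_eq_appLE]
      exact hc
    have hmem := ker_le_map_of_isPushout hp hsurj c hc'
    have hle : Ideal.map (f'.appLE ⊤ U₀ hSX).hom (RingHom.ker (i.appLE ⊤ ⊤ hST).hom) ≤
        Ideal.span (Set.range fun a : RingHom.ker i.appTop.hom => gOn (f'.appTop.hom a) U₀) := by
      rw [Ideal.map_le_iff_le_comap]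
      intro r hr
      rw [Ideal.mem_comap]
      have hr' : r ∈ RingHom.ker i.appTop.hom := by
        rw [RingHom.mem_ker] at hr ⊢
        have h2 : i.appLE ⊤ ⊤ hST = i.appTop := by
          rw [Scheme.Hom.appLE]
          simp
        rw [← h2]
        exact hr
      refine Ideal.subset_span ⟨⟨r, hr'⟩, ?_⟩
      rfl
    exact hle hmem
  · intro a
    have h1 : k.appTop.hom (f'.appTop.hom a) = q.appTop.hom (i.appTop.hom a) := by
      have := congrArg (fun φ => (Scheme.Hom.appTop φ).hom (a : Γ(S', ⊤))) hpb.w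
      simpa [Scheme.Hom.comp_appTop] using this
    rw [h1, RingHom.mem_ker.1 a.2, map_zero]


theorem isProper_of_egood {d : ℕ} {X S : Scheme.{u}} {f : X ⟶ S} (h : EGood d f) : IsProper f := by
  obtain ⟨X₀, S₀, X₁, f₀, g, p₁, p₂, c, hpb, hc, hcp, h1, h2, h3, h4⟩ := h
  haveI := hc
  haveI := h1
  haveI : IsProper p₂ := MorphismProperty.of_isPullback (P := @IsProper) hpb inferInstance
  rw [← hcp]
  infer_instance

theorem good_of_egood {d : ℕ} {X S : Scheme.{u}} {f : X ⟶ S} [IsAffine S] (h : EGood d f) :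
    Good d X := by
  obtain ⟨X₀, S₀, X₁, f₀, g, p₁, p₂, c, hpb, hc, hcp, h1, h2, h3, h4⟩ := h
  haveI := hc
  haveI := h2
  haveI : IsAffineHom g := inferInstance
  haveI : IsAffineHom p₁ := MorphismProperty.of_isPullback hpb.flip inferInstance
  exact ⟨X₀, S₀, f₀, c ≫ p₁, h1, h2, h3, h4, inferInstance⟩

/-- **Nakayama**: over a local affine base, vanishing of the top cohomology of the closed fibre
forces vanishing of the top cohomology of the total space. -/
theorem subsingleton_HH_of_closedFibre {Z X' T S' : Scheme.{u}} [IsAffine T] [IsAffine S']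
    [Nonempty T] {k : Z ⟶ X'} {q : Z ⟶ T} {f' : X' ⟶ S'} {i : T ⟶ S'}
    (hpb : IsPullback k q f' i) [IsClosedImmersion i] [IsLocalRing Γ(S', ⊤)] (d : ℕ)
    (hE : EGood d f') (hZ : Subsingleton (Coh.HH Z (Coh.structureModule Z) d)) :
    Subsingleton (Coh.HH X' (Coh.structureModule X') d) := by
  haveI := isProper_of_egood hE
  haveI : CompactSpace X' := QuasiCompact.compactSpace_of_compactSpace f'
  haveI : QuasiSeparatedSpace X' := quasiSeparatedSpace_of_quasiSeparated f'
  haveI : IsAffineHom i := inferInstance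
  haveI : IsAffineHom k := MorphismProperty.of_isPullback hpb.flip inferInstance
  have hcf := isClosedFibre_of_isPullback hpb
  have hgood := good_of_egood hE
  have hvan : ∀ K : X'.Modules, K.IsQuasicoherent → Subsingleton (Coh.HH X' K (d + 1)) :=
    fun K hK => by
      haveI := hK
      exact hgood.subsingleton_HH K (d + 1) (Nat.lt_succ_self d)
  letI : X'.Over (Spec (CommRingCat.of Γ(S', ⊤))) := ⟨f' ≫ S'.isoSpec.hom⟩
  have hfin : Module.Finite Γ(S', ⊤) (Coh.HH X' (Coh.structureModule X') d) :=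
    finite_HH_of_egood f' d hE rfl _ (Groth.Agent.Lib.Helper1.RefHullLib.isCoh_structureModule X')
  set m : Ideal Γ(S', ⊤) := RingHom.ker i.appTop.hom with hm
  have hne : m ≠ ⊤ := by
    intro htop
    have h1 : (1 : Γ(S', ⊤)) ∈ m := by rw [htop]; trivial
    rw [hm, RingHom.mem_ker, map_one] at h1
    haveI : Nonempty (⊤ : T.Opens) := ⟨⟨Classical.arbitrary T, trivial⟩⟩
    exact one_ne_zero h1
  have hjac : m ≤ Ideal.jacobson ⊥ := by
    rw [IsLocalRing.jacobson_eq_maximalIdeal ⊥ bot_ne_top]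
    exact IsLocalRing.le_maximalIdeal hne
  have hle : (⊤ : Submodule Γ(S', ⊤) (Coh.HH X' (Coh.structureModule X') d)) ≤ m • ⊤ := by
    intro x _
    obtain ⟨σ, y, hx⟩ := exists_sum_smul hcf d hvan hZ x
    rw [hx]
    refine Submodule.sum_mem _ fun a _ => ?_
    have h2 : Sheaf.H.map (Coh.smulAb (Coh.structureModule X') (f'.appTop.hom a)) d (y a) =
        ((a : Γ(S', ⊤)) • y a) := by
      change _ = Sheaf.H.map (Coh.smulAb (Coh.structureModule X')
        (Coh.toGlobal (X' ↘ Spec (CommRingCat.of Γ(S', ⊤))) (a : Γ(S', ⊤)))) d (y a)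
      have h3 : Coh.toGlobal (X' ↘ Spec (CommRingCat.of Γ(S', ⊤))) (a : Γ(S', ⊤)) =
          f'.appTop.hom a := Groth.Agent.Lib.Helper4.LinLeray.toGlobal_overΓ f' a
      rw [h3]
    rw [h2]
    exact Submodule.smul_mem_smul a.2 trivial
  have hbot := Submodule.eq_bot_of_le_smul_of_le_jacobson_bot m ⊤ hfin.fg_top hle hjac
  refine ⟨fun a b => ?_⟩
  have ha : a ∈ (⊤ : Submodule Γ(S', ⊤) (Coh.HH X' (Coh.structureModule X') d)) := trivial
  have hb : b ∈ (⊤ : Submodule Γ(S', ⊤) (Coh.HH X' (Coh.structureModule X') d)) := trivial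
  rw [hbot, Submodule.mem_bot] at ha hb
  rw [ha, hb]

end Groth.Agent.Lib.lead.FibOne
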