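import Groth.Agent.Lib.lead.FibOneC
import Groth.Agent.S0034
import Groth.Agent.S2416
import Groth.Agent.Lib.Helper16.RS6
import Mathlib

/-!
# Vanishing of the top cohomology near a fibre
-/

set_option backward.isDefEq.respectTransparency.types false
set_option linter.style.haveILetI false
set_option autoImplicit false
universe u
open CategoryTheory CategoryTheory.Limits AlgebraicGeometry Opposite TopologicalSpace Abelian

noncomputable section

namespace Groth.Agent.Lib.lead.FibOne

open Groth.Agent.Lib.Helper21.FibVan Groth.Agent.Lib.Helper2 Groth.Agent.Lib.Helper2.HomExt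
open Groth.Agent.Lib.Helper28.QCohLoc

/-- enriched goodness is stable under base change -/
theorem egood_of_isPullback {d : ℕ} {X S X' S' : Scheme.{u}} {f : X ⟶ S} (h : EGood d f)
    {p : X' ⟶ X} {f' : X' ⟶ S'} {j : S' ⟶ S} (hpb : IsPullback p f' f j) : EGood d f' := by
  obtain ⟨X₀, S₀, X₁, f₀, g, p₁, p₂, c, hpb₀, hc, hcp, h1, h2, h3, h4⟩ := h
  haveI := hc
  have hw : (p ≫ c) ≫ p₂ = f' ≫ j := by rw [Category.assoc, hcp, hpb.w]
  let c' : X' ⟶ pullback p₂ j := pullback.lift (p ≫ c) f' hw
  have hleft : IsPullback c' p (pullback.fst p₂ j) c := by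
    refine IsPullback.of_right ?_ (pullback.lift_fst _ _ _) (IsPullback.of_hasPullback p₂ j).flip
    have h5 : c' ≫ pullback.snd p₂ j = f' := pullback.lift_snd _ _ _
    rw [h5, hcp]
    exact hpb.flip
  haveI : IsClosedImmersion c' :=
    MorphismProperty.of_isPullback (P := @IsClosedImmersion) hleft.flip hc
  exact ⟨X₀, S₀, pullback p₂ j, f₀, j ≫ g, pullback.fst p₂ j ≫ p₁, pullback.snd p₂ j, c',
    (IsPullback.of_hasPullback p₂ j).paste_horiz hpb₀, inferInstance, pullback.lift_snd _ _ _,
    h1, h2, h3, h4⟩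


/-- the top cohomology of the base change to the local ring vanishes -/
theorem subsingleton_HH_stalk {X S : Scheme.{u}} (f : X ⟶ S) [IsAffine S] (d : ℕ)
    (hE : EGood d f) (s : S)
    (hs : Subsingleton (Coh.HH (f.fiber s) (Coh.structureModule (f.fiber s)) d)) :
    Subsingleton (Coh.HH (pullback f (S.fromSpecStalk s))
      (Coh.structureModule (pullback f (S.fromSpecStalk s))) d) := by
  set j := S.fromSpecStalk s with hj
  have hpb : IsPullback (pullback.fst f j) (pullback.snd f j) f j := IsPullback.of_hasPullback f j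
  have hE' : EGood d (pullback.snd f j) := egood_of_isPullback hE hpb
  let i : Spec (S.residueField s) ⟶ Spec (S.presheaf.stalk s) := Spec.map (S.residue s)
  haveI : IsClosedImmersion i :=
    IsClosedImmersion.spec_of_surjective _ IsLocalRing.residue_surjective
  have hcond : f.fiberι s ≫ f = (f.fiberToSpecResidueField s ≫ i) ≫ j := by
    rw [Category.assoc]
    exact pullback.condition
  let k : f.fiber s ⟶ pullback f j :=
    pullback.lift (f.fiberι s) (f.fiberToSpecResidueField s ≫ i) hcond
  have hk1 : k ≫ pullback.fst f j = f.fiberι s := pullback.lift_fst _ _ _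
  have hk2 : k ≫ pullback.snd f j = f.fiberToSpecResidueField s ≫ i := pullback.lift_snd _ _ _
  have hpbZ : IsPullback k (f.fiberToSpecResidueField s) (pullback.snd f j) i := by
    refine IsPullback.of_right ?_ hk2 hpb
    rw [hk1]
    exact IsPullback.of_hasPullback f (S.fromSpecResidueField s)
  haveI : IsLocalRing Γ(Spec (S.presheaf.stalk s), ⊤) :=
    (Scheme.ΓSpecIso (S.presheaf.stalk s)).commRingCatIsoToRingEquiv.symm.isLocalRing
  exact subsingleton_HH_of_closedFibre hpbZ d hE' hs


theorem subsingleton_HH_of_iso {X : Scheme.{u}} {M N : X.Modules} (e : M ≅ N) (d : ℕ)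
    (h : Subsingleton (Coh.HH X N d)) : Subsingleton (Coh.HH X M d) := by
  refine ⟨fun a b => ?_⟩
  have key : ∀ z : Coh.HH X M d,
      Sheaf.H.map ((SheafOfModules.toSheaf X.ringCatSheaf).map e.inv) d
        (Sheaf.H.map ((SheafOfModules.toSheaf X.ringCatSheaf).map e.hom) d z) = z := by
    intro z
    have hcomp : (SheafOfModules.toSheaf X.ringCatSheaf).map e.hom ≫
        (SheafOfModules.toSheaf X.ringCatSheaf).map e.inv = 𝟙 _ := by
      exact ((SheafOfModules.toSheaf X.ringCatSheaf).map_comp e.hom e.inv).symm.trans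
        ((congrArg (fun φ => (SheafOfModules.toSheaf X.ringCatSheaf).map φ) e.hom_inv_id).trans
          ((SheafOfModules.toSheaf X.ringCatSheaf).map_id M))
    exact (Sheaf.H.map_comp_apply _ _ z).symm.trans
      ((congrArg (fun φ => Sheaf.H.map φ d z) hcomp).trans (Sheaf.H.map_id_apply _))
  rw [← key a, ← key b]
  exact congrArg _ (@Subsingleton.elim _ h _ _)

/-- flat base change to the local ring: the top cohomology is killed by a function not vanishing
at the point -/
theorem exists_smul_eq_zero {X S : Scheme.{u}} (f : X ⟶ S) [IsAffine S] (d : ℕ)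
    (hE : EGood d f) (s : S)
    (hs : Subsingleton (Coh.HH (f.fiber s) (Coh.structureModule (f.fiber s)) d)) :
    ∃ g : Γ(S, ⊤), s ∈ S.basicOpen g ∧
      ∀ x : Coh.HH X (Coh.structureModule X) d,
        Sheaf.H.map (Coh.smulAb (Coh.structureModule X) (f.appTop.hom g)) d x = 0 := by
  classical
  have hX' := subsingleton_HH_stalk f d hE s hs
  haveI := isProper_of_egood hE
  haveI : CompactSpace X := QuasiCompact.compactSpace_of_compactSpace f
  haveI : QuasiSeparatedSpace X := quasiSeparatedSpace_of_quasiSeparated f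
  set j := S.fromSpecStalk s with hj
  have hpb : IsPullback (pullback.fst f j) (pullback.snd f j) f j := IsPullback.of_hasPullback f j
  letI : X.Over (Spec (CommRingCat.of Γ(S, ⊤))) := ⟨f ≫ S.isoSpec.hom⟩
  letI : (pullback f j).Over (Spec (CommRingCat.of (S.presheaf.stalk s))) := ⟨pullback.snd f j⟩
  let x₀ : (⊤ : S.Opens) := ⟨s, trivial⟩
  letI : Algebra Γ(S, ⊤) (S.presheaf.stalk s) := S.presheaf.algebra_section_stalk x₀
  haveI hloc : IsLocalization.AtPrime (S.presheaf.stalk s)
      ((isAffineOpen_top S).primeIdealOf x₀).asIdeal := (isAffineOpen_top S).isLocalization_stalk x₀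
  set P := ((isAffineOpen_top S).primeIdealOf x₀).asIdeal with hP
  haveI : Module.Flat Γ(S, ⊤) (S.presheaf.stalk s) := IsLocalization.flat _ P.primeCompl
  have hjeq : j ≫ S.isoSpec.hom =
      Spec.map (CommRingCat.ofHom (algebraMap Γ(S, ⊤) (S.presheaf.stalk s))) := by
    rw [hj, ← (isAffineOpen_top S).fromSpecStalk_eq_fromSpecStalk (x := s) trivial,
      IsAffineOpen.fromSpecStalk, IsAffineOpen.fromSpec_top, Category.assoc, Iso.inv_hom_id,
      Category.comp_id]
    rfl
  have hsq : IsPullback (pullback.fst f j)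
      ((pullback f j) ↘ Spec (CommRingCat.of (S.presheaf.stalk s)))
      (X ↘ Spec (CommRingCat.of Γ(S, ⊤)))
      (Spec.map (CommRingCat.ofHom (algebraMap Γ(S, ⊤) (S.presheaf.stalk s)))) := by
    have h2 : IsPullback j (𝟙 _) S.isoSpec.hom
        (Spec.map (CommRingCat.ofHom (algebraMap Γ(S, ⊤) (S.presheaf.stalk s)))) :=
      IsPullback.of_vert_isIso ⟨hjeq.trans (Category.id_comp _).symm⟩
    have h3 := hpb.paste_vert h2
    rw [Category.comp_id] at h3
    exact h3
  obtain ⟨e⟩ := Groth.Agent.S0034.result Γ(S, ⊤) (S.presheaf.stalk s) X (pullback f j)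
    (pullback.fst f j) hsq (Coh.structureModule X) d
  have hsub : Subsingleton (Coh.HH (pullback f j)
      ((Scheme.Modules.pullback (pullback.fst f j)).obj (Coh.structureModule X)) d) :=
    subsingleton_HH_of_iso (Groth.Agent.Lib.Helper16.RS.pullbackUnitIso (pullback.fst f j)) d hX'
  have hT : Subsingleton (TensorProduct Γ(S, ⊤) (S.presheaf.stalk s)
      (Coh.HH X (Coh.structureModule X) d)) := e.toEquiv.subsingleton
  have hfin : Module.Finite Γ(S, ⊤) (Coh.HH X (Coh.structureModule X) d) :=
    finite_HH_of_egood f d hE rfl _ (Groth.Agent.Lib.Helper1.RefHullLib.isCoh_structureModule X)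
  haveI hlm : IsLocalizedModule P.primeCompl
      (TensorProduct.mk Γ(S, ⊤) (S.presheaf.stalk s) (Coh.HH X (Coh.structureModule X) d) 1) :=
    (isLocalizedModule_iff_isBaseChange P.primeCompl (S.presheaf.stalk s) _).mpr
      (TensorProduct.isBaseChange Γ(S, ⊤) (Coh.HH X (Coh.structureModule X) d) (S.presheaf.stalk s))
  have hkill : ∀ x : Coh.HH X (Coh.structureModule X) d, ∃ c : P.primeCompl, c • x = 0 := by
    intro x
    exact (IsLocalizedModule.eq_zero_iff P.primeCompl
      (TensorProduct.mk Γ(S, ⊤) (S.presheaf.stalk s) (Coh.HH X (Coh.structureModule X) d) 1)).1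
      (Subsingleton.elim _ _)
  obtain ⟨gens, hgens⟩ := hfin.fg_top
  choose c hc using hkill
  let g : Γ(S, ⊤) := ∏ x ∈ gens, (c x : Γ(S, ⊤))
  have hgP : g ∈ P.primeCompl := Submonoid.prod_mem _ fun x _ => (c x).2
  refine ⟨g, ?_, ?_⟩
  · rw [Scheme.mem_basicOpen_top]
    have h4 := IsLocalization.map_units (S.presheaf.stalk s) (⟨g, hgP⟩ : P.primeCompl)
    exact h4
  · have hall : ∀ x : Coh.HH X (Coh.structureModule X) d, g • x = 0 := by
      intro x
      have hx : x ∈ Submodule.span Γ(S, ⊤) (gens : Set (Coh.HH X (Coh.structureModule X) d)) := by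
        rw [hgens]; trivial
      induction hx using Submodule.span_induction with
      | mem y hy =>
        have h5 : g = (∏ z ∈ gens.erase y, (c z : Γ(S, ⊤))) * (c y : Γ(S, ⊤)) :=
          (Finset.prod_erase_mul gens _ hy).symm
        rw [h5, mul_smul]
        have h6 : ((c y : Γ(S, ⊤)) • y) = 0 := hc y
        rw [h6, smul_zero]
      | zero => exact smul_zero _
      | add y z _ _ hy hz => rw [smul_add, hy, hz, add_zero]
      | smul r y _ hy => rw [smul_comm, hy, smul_zero]
    intro x
    have h7 := hall x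
    change Sheaf.H.map (Coh.smulAb (Coh.structureModule X)
      (Coh.toGlobal (X ↘ Spec (CommRingCat.of Γ(S, ⊤))) g)) d x = 0 at h7
    have h8 : Coh.toGlobal (X ↘ Spec (CommRingCat.of Γ(S, ⊤))) g = f.appTop.hom g :=
      Groth.Agent.Lib.Helper4.LinLeray.toGlobal_overΓ f g
    rw [h8] at h7
    exact h7


/-- **vanishing of the top cohomology near a fibre** -/
theorem exists_basicOpen_vanishing {X S : Scheme.{u}} (f : X ⟶ S) [IsAffine S] (d : ℕ)
    (hE : EGood d f) (s : S)
    (hs : Subsingleton (Coh.HH (f.fiber s) (Coh.structureModule (f.fiber s)) d)) :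
    ∃ g : Γ(S, ⊤), s ∈ S.basicOpen g ∧
      Subsingleton (Coh.HHon X (Coh.structureModule X) (X.basicOpen (f.appTop.hom g)) d) := by
  obtain ⟨g, hsg, hkill⟩ := exists_smul_eq_zero f d hE s hs
  refine ⟨g, hsg, ?_⟩
  haveI := isProper_of_egood hE
  haveI : CompactSpace X := QuasiCompact.compactSpace_of_compactSpace f
  haveI : X.IsSeparated := ⟨by rw [← terminal.comp_from f]; infer_instance⟩
  haveI : Coh.IsQCoh (Coh.structureModule X) := inferInstanceAs (Coh.structureModule X).IsQuasicoherent
  obtain ⟨e⟩ := Groth.Agent.S2416.result X (f.appTop.hom g) (Coh.structureModule X) d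
  suffices h : Subsingleton (LocalizedModule (Submonoid.powers (f.appTop.hom g))
      (Coh.HH X (Coh.structureModule X) d)) from e.toEquiv.subsingleton
  refine ⟨fun a b => ?_⟩
  have key : ∀ z : LocalizedModule (Submonoid.powers (f.appTop.hom g))
      (Coh.HH X (Coh.structureModule X) d), z = 0 := by
    intro z
    induction z using LocalizedModule.induction_on with
    | h m t =>
      rw [← LocalizedModule.zero_mk 1, LocalizedModule.mk_eq]
      refine ⟨⟨f.appTop.hom g, Submonoid.mem_powers _⟩, ?_⟩
      rw [smul_zero, smul_zero]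
      change (f.appTop.hom g) • ((1 : Submonoid.powers (f.appTop.hom g)) • m) = 0
      rw [one_smul]
      exact hkill m
  rw [key a, key b]

end Groth.Agent.Lib.lead.FibOne
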