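import Groth.Agent.Lib.lead.FibOneD
import Mathlib

/-!
# Transport tools for the top cohomology of the structure sheaf
-/

set_option backward.isDefEq.respectTransparency.types false
set_option linter.style.haveILetI false
set_option autoImplicit false
universe u
open CategoryTheory CategoryTheory.Limits AlgebraicGeometry Opposite TopologicalSpace Abelian

noncomputable section

namespace Groth.Agent.Lib.lead.FibOne

open Groth.Agent.Lib.Helper21.FibVan Groth.Agent.Lib.Helper2 Groth.Agent.Lib.Helper2.HomExt
open Groth.Agent.Lib.Helper28.QCohLoc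

/-- the restriction of the structure module to an open is the structure module -/
def restrictUnitIso {X : Scheme.{u}} (U : X.Opens) :
    (Coh.structureModule X).restrict U.ι ≅ Coh.structureModule (↑U : Scheme.{u}) :=
  (Scheme.Modules.restrictFunctorIsoPullback U.ι).app _ ≪≫
    Groth.Agent.Lib.Helper16.RS.pullbackUnitIso U.ι

theorem subsingleton_HHon_iff {X : Scheme.{u}} (U : X.Opens) (d : ℕ) :
    Subsingleton (Coh.HHon X (Coh.structureModule X) U d) ↔
      Subsingleton (Coh.HH (↑U : Scheme.{u}) (Coh.structureModule (↑U : Scheme.{u})) d) :=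
  ⟨fun h => subsingleton_HH_of_iso (restrictUnitIso U).symm d h,
    fun h => subsingleton_HH_of_iso (restrictUnitIso U) d h⟩

/-- flat base change for the structure sheaf, vanishing form -/
theorem subsingleton_HH_of_flat_baseChange (A B : Type u) [CommRing A] [CommRing B] [Algebra A B]
    [Module.Flat A B] (X X' : Scheme.{u}) [X.Over (Spec (CommRingCat.of A))]
    [X'.Over (Spec (CommRingCat.of B))] [CompactSpace X] [QuasiSeparatedSpace X] (g' : X' ⟶ X)
    (h : IsPullback g' (X' ↘ Spec (CommRingCat.of B)) (X ↘ Spec (CommRingCat.of A))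
      (Spec.map (CommRingCat.ofHom (algebraMap A B)))) (d : ℕ)
    (h0 : Subsingleton (Coh.HH X (Coh.structureModule X) d)) :
    Subsingleton (Coh.HH X' (Coh.structureModule X') d) := by
  haveI : Coh.IsQCoh (Coh.structureModule X) :=
    inferInstanceAs (Coh.structureModule X).IsQuasicoherent
  obtain ⟨e⟩ := Groth.Agent.S0034.result A B X X' g' h (Coh.structureModule X) d
  have h1 : Subsingleton (TensorProduct A B (Coh.HH X (Coh.structureModule X) d)) := by
    refine ⟨fun a b => ?_⟩
    have key : ∀ z : TensorProduct A B (Coh.HH X (Coh.structureModule X) d), z = 0 := by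
      intro z
      induction z using TensorProduct.induction_on with
      | zero => rfl
      | tmul b x => rw [Subsingleton.elim x 0, TensorProduct.tmul_zero]
      | add x y hx hy => rw [hx, hy, add_zero]
    rw [key a, key b]
  have h2 : Subsingleton (Coh.HH X' ((Scheme.Modules.pullback g').obj (Coh.structureModule X)) d) :=
    e.symm.toEquiv.subsingleton
  exact subsingleton_HH_of_iso (Groth.Agent.Lib.Helper16.RS.pullbackUnitIso g').symm d h2

/-- faithfully flat descent of vanishing -/
theorem subsingleton_HH_of_faithfullyFlat_baseChange (A B : Type u) [CommRing A] [CommRing B]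
    [Algebra A B] [Module.FaithfullyFlat A B] (X X' : Scheme.{u})
    [X.Over (Spec (CommRingCat.of A))]
    [X'.Over (Spec (CommRingCat.of B))] [CompactSpace X] [QuasiSeparatedSpace X] (g' : X' ⟶ X)
    (h : IsPullback g' (X' ↘ Spec (CommRingCat.of B)) (X ↘ Spec (CommRingCat.of A))
      (Spec.map (CommRingCat.ofHom (algebraMap A B)))) (d : ℕ)
    (h0 : Subsingleton (Coh.HH X' (Coh.structureModule X') d)) :
    Subsingleton (Coh.HH X (Coh.structureModule X) d) := by
  haveI : Coh.IsQCoh (Coh.structureModule X) :=
    inferInstanceAs (Coh.structureModule X).IsQuasicoherent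
  obtain ⟨e⟩ := Groth.Agent.S0034.result A B X X' g' h (Coh.structureModule X) d
  have h2 : Subsingleton (Coh.HH X' ((Scheme.Modules.pullback g').obj (Coh.structureModule X)) d) :=
    subsingleton_HH_of_iso (Groth.Agent.Lib.Helper16.RS.pullbackUnitIso g') d h0
  have h1 : Subsingleton (TensorProduct A B (Coh.HH X (Coh.structureModule X) d)) :=
    e.toEquiv.subsingleton
  exact Module.FaithfullyFlat.lTensor_reflects_triviality A B _


/-- transport along an isomorphism of (qcqs) schemes -/
theorem subsingleton_HH_of_schemeIso {X X' : Scheme.{u}} (g' : X' ⟶ X) [IsIso g'] [CompactSpace X]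
    [QuasiSeparatedSpace X] (d : ℕ) (h0 : Subsingleton (Coh.HH X (Coh.structureModule X) d)) :
    Subsingleton (Coh.HH X' (Coh.structureModule X') d) := by
  letI : X.Over (Spec (CommRingCat.of Γ(X, ⊤))) := ⟨X.toSpecΓ⟩
  letI : X'.Over (Spec (CommRingCat.of Γ(X, ⊤))) := ⟨g' ≫ X.toSpecΓ⟩
  have hid : Spec.map (CommRingCat.ofHom (algebraMap Γ(X, ⊤) Γ(X, ⊤))) = 𝟙 _ := by
    rw [Algebra.algebraMap_self]
    exact Spec.map_id _
  refine subsingleton_HH_of_flat_baseChange Γ(X, ⊤) Γ(X, ⊤) X X' g' ?_ d h0
  rw [hid]
  exact IsPullback.of_horiz_isIso ⟨by simp; rfl⟩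

/-- fibres of a base change: the top cohomology of the structure sheaf vanishes simultaneously -/
theorem subsingleton_HH_fiber_iff {X Y X' Y' : Scheme.{u}} {f : X ⟶ Y} {g : Y' ⟶ Y}
    {f' : X' ⟶ Y'} {g' : X' ⟶ X} (hc : IsPullback g' f' f g) [QuasiCompact f] [QuasiSeparated f]
    (y' : Y') (d : ℕ) :
    Subsingleton (Coh.HH (f'.fiber y') (Coh.structureModule (f'.fiber y')) d) ↔
      Subsingleton (Coh.HH (f.fiber (g y')) (Coh.structureModule (f.fiber (g y'))) d) := by
  have hfib := isPullback_fiberToSpecResidueField_of_isPullback hc y'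
  letI : Algebra (Y.residueField (g y')) (Y'.residueField y') :=
    (g.residueFieldMap y').hom.toAlgebra
  haveI : Module.FaithfullyFlat (Y.residueField (g y')) (Y'.residueField y') := inferInstance
  letI : (f.fiber (g y')).Over (Spec (CommRingCat.of (Y.residueField (g y')))) :=
    ⟨f.fiberToSpecResidueField (g y')⟩
  letI : (f'.fiber y').Over (Spec (CommRingCat.of (Y'.residueField y'))) :=
    ⟨f'.fiberToSpecResidueField y'⟩
  haveI : QuasiCompact (f.fiberToSpecResidueField (g y')) :=
    MorphismProperty.pullback_snd (P := @QuasiCompact) _ _ inferInstance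
  haveI : QuasiSeparated (f.fiberToSpecResidueField (g y')) :=
    MorphismProperty.pullback_snd (P := @QuasiSeparated) _ _ inferInstance
  haveI : CompactSpace (f.fiber (g y')) :=
    QuasiCompact.compactSpace_of_compactSpace (f.fiberToSpecResidueField (g y'))
  haveI : QuasiSeparatedSpace (f.fiber (g y')) :=
    quasiSeparatedSpace_of_quasiSeparated (f.fiberToSpecResidueField (g y'))
  constructor
  · exact subsingleton_HH_of_faithfullyFlat_baseChange (Y.residueField (g y')) (Y'.residueField y')
      (f.fiber (g y')) (f'.fiber y') _ hfib d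
  · exact subsingleton_HH_of_flat_baseChange (Y.residueField (g y')) (Y'.residueField y')
      (f.fiber (g y')) (f'.fiber y') _ hfib d

end Groth.Agent.Lib.lead.FibOne
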