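import Groth.Agent.Lib.lead.FibOneE
import Mathlib

/-!
# Vanishing of the top cohomology of the structure sheaf near a fibre: global form
-/

set_option backward.isDefEq.respectTransparency.types false
set_option linter.style.haveILetI false
set_option autoImplicit false
universe u
open CategoryTheory CategoryTheory.Limits AlgebraicGeometry Opposite TopologicalSpace Abelian

noncomputable section

namespace Groth.Agent.Lib.lead.FibOne

open Groth.Agent.Lib.Helper21.FibVan Groth.Agent.Lib.Helper2 Groth.Agent.Lib.Helper2.HomExt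
open Groth.Agent.Lib.Helper28.QCohLoc

theorem exists_nhd_vanishing {X Y : Scheme.{u}} (f : X ⟶ Y) [IsProper f] (y : Y) (d : ℕ)
    (hdim : topologicalKrullDim ↥(f.fiber y) ≤ d)
    (hH : Subsingleton (Coh.HH (f.fiber y) (Coh.structureModule (f.fiber y)) d)) :
    ∃ V : Y.Opens, y ∈ V ∧ IsAffineOpen V ∧ EGood d (f ∣_ V) ∧
      Subsingleton (Coh.HH (↑(f ⁻¹ᵁ V) : Scheme.{u})
        (Coh.structureModule (↑(f ⁻¹ᵁ V) : Scheme.{u})) d) := by
  obtain ⟨V₀, hyV₀, hV₀, hE₀⟩ := exists_egood_nhd f y d hdim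
  haveI : IsAffine ↑V₀ := hV₀
  let y₀ : ↑V₀ := ⟨y, hyV₀⟩
  have hfib₀ : Subsingleton (Coh.HH ((f ∣_ V₀).fiber y₀)
      (Coh.structureModule ((f ∣_ V₀).fiber y₀)) d) :=
    (subsingleton_HH_fiber_iff (isPullback_morphismRestrict f V₀).flip y₀ d).2 hH
  obtain ⟨g, hyg, hvan⟩ := exists_basicOpen_vanishing (f ∣_ V₀) d hE₀ y₀ hfib₀
  set D : (↑V₀ : Scheme.{u}).Opens := (↑V₀ : Scheme.{u}).basicOpen g with hD
  have hW : (↑(f ⁻¹ᵁ V₀) : Scheme.{u}).basicOpen ((f ∣_ V₀).appTop.hom g) = (f ∣_ V₀) ⁻¹ᵁ D :=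
    (Scheme.preimage_basicOpen (f ∣_ V₀) g).symm
  rw [hW] at hvan
  have hDaff : IsAffineOpen D := (isAffineOpen_top (↑V₀ : Scheme.{u})).basicOpen g
  refine ⟨V₀.ι ''ᵁ D, ⟨y₀, hyg, rfl⟩, hDaff.image_of_isOpenImmersion V₀.ι, ?_, ?_⟩
  · have hE₁ : EGood d ((f ∣_ V₀) ∣_ D) :=
      egood_of_isPullback hE₀ (isPullback_morphismRestrict (f ∣_ V₀) D).flip
    let e := morphismRestrictRestrict f V₀ D
    have hw : e.inv.left ≫ (f ∣_ V₀ ∣_ D) = (f ∣_ V₀.ι ''ᵁ D) ≫ e.inv.right := by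
      simpa using e.inv.w
    haveI : IsIso e.inv.left := inferInstance
    haveI : IsIso e.inv.right := inferInstance
    exact hE₁.transfer e.inv.left e.inv.right hw
  · have h1 := (subsingleton_HHon_iff ((f ∣_ V₀) ⁻¹ᵁ D) d).1 hvan
    let e := morphismRestrictRestrict f V₀ D
    haveI : IsIso e.inv.left := inferInstance
    haveI : IsAffine (↑D : Scheme.{u}) := hDaff
    haveI : CompactSpace (↑((f ∣_ V₀) ⁻¹ᵁ D) : Scheme.{u}) :=
      QuasiCompact.compactSpace_of_compactSpace ((f ∣_ V₀) ∣_ D)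
    haveI : QuasiSeparatedSpace (↑((f ∣_ V₀) ⁻¹ᵁ D) : Scheme.{u}) :=
      quasiSeparatedSpace_of_quasiSeparated ((f ∣_ V₀) ∣_ D)
    exact @subsingleton_HH_of_schemeIso _ _ e.inv.left inferInstance
      ‹CompactSpace (↑((f ∣_ V₀) ⁻¹ᵁ D) : Scheme.{u})›
      ‹QuasiSeparatedSpace (↑((f ∣_ V₀) ⁻¹ᵁ D) : Scheme.{u})› d h1

end Groth.Agent.Lib.lead.FibOne
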