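import Groth.Agent.Lib.lead.FibOneG
import Mathlib

/-!
# Base change: vanishing of the top cohomology persists
-/

set_option backward.isDefEq.respectTransparency.types false
set_option linter.style.haveILetI false
set_option autoImplicit false
universe u
open CategoryTheory CategoryTheory.Limits AlgebraicGeometry Opposite TopologicalSpace Abelian

noncomputable section

namespace Groth.Agent.Lib.lead.FibOne

open Groth.Agent.Lib.Helper21.FibVan Groth.Agent.Lib.Helper2 Groth.Agent.Lib.Helper2.HomExt
open Groth.Agent.Lib.Helper28.QCohLoc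

/-- vanishing of the top cohomology of the structure sheaf is stable under affine base change -/
theorem subsingleton_HH_baseChange {X S X' T : Scheme.{u}} {f : X ⟶ S} [IsAffine S] [IsAffine T]
    {p : X' ⟶ X} {q : X' ⟶ T} {h : T ⟶ S} (hpb : IsPullback p q f h) (d : ℕ) (hE : EGood d f)
    (h0 : Subsingleton (Coh.HH X (Coh.structureModule X) d)) :
    Subsingleton (Coh.HH X' (Coh.structureModule X') d) := by
  haveI := isProper_of_egood hE
  haveI : CompactSpace X := QuasiCompact.compactSpace_of_compactSpace f
  haveI : QuasiSeparatedSpace X := quasiSeparatedSpace_of_quasiSeparated f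
  haveI : IsAffineHom h := inferInstance
  haveI : IsAffineHom p := MorphismProperty.of_isPullback hpb.flip inferInstance
  have hgood := good_of_egood hE
  have hgen : Gen p q.appTop.hom := by
    have h1 := gen_of_isPullback hpb (𝟙 X')
    simpa using h1
  refine subsingleton_HH_of_gen hgen d (fun K hK => ?_) h0
  haveI := hK
  exact hgood.subsingleton_HH K (d + 1) (Nat.lt_succ_self d)

/-- the restriction of a base change over an open of the new base mapping into an open of the old
base is a base change of the restriction -/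
theorem exists_isPullback_restrict {X Y Y' : Scheme.{u}} (f : X ⟶ Y) (g : Y' ⟶ Y) (U : Y'.Opens)
    (V : Y.Opens) (gU : (↑U : Scheme.{u}) ⟶ (↑V : Scheme.{u})) (hgU : gU ≫ V.ι = U.ι ≫ g) :
    ∃ q : (↑(pullback.snd f g ⁻¹ᵁ U) : Scheme.{u}) ⟶ (↑(f ⁻¹ᵁ V) : Scheme.{u}),
      IsPullback q (pullback.snd f g ∣_ U) (f ∣_ V) gU := by
  have h1 : IsPullback (pullback.snd f g ⁻¹ᵁ U).ι (pullback.snd f g ∣_ U) (pullback.snd f g) U.ι :=
    (isPullback_morphismRestrict (pullback.snd f g) U).flip
  have h2 : IsPullback (pullback.fst f g) (pullback.snd f g) f g := IsPullback.of_hasPullback f g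
  have h12 := h1.paste_horiz h2
  have h3 : IsPullback (f ⁻¹ᵁ V).ι (f ∣_ V) f V.ι := (isPullback_morphismRestrict f V).flip
  have hw : ((pullback.snd f g ⁻¹ᵁ U).ι ≫ pullback.fst f g) ≫ f =
      ((pullback.snd f g ∣_ U) ≫ gU) ≫ V.ι := by
    rw [h12.w, Category.assoc, hgU]
  refine ⟨h3.lift _ _ hw, ?_⟩
  refine IsPullback.of_right ?_ (h3.lift_snd _ _ hw) h3
  rw [h3.lift_fst, hgU]
  exact h12

end Groth.Agent.Lib.lead.FibOne
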