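import Groth.Agent.Lib.lead.FibOneH
import Mathlib

/-!
# Surjectivity of `O_S → f_* O_X` is stable under base change (fibres of dimension `≤ 1`, `H¹ = 0`)
-/

set_option backward.isDefEq.respectTransparency.types false
set_option linter.style.haveILetI false
set_option autoImplicit false
universe u
open CategoryTheory CategoryTheory.Limits AlgebraicGeometry Opposite TopologicalSpace Abelian

noncomputable section

namespace Groth.Agent.Lib.lead.FibOne

open Groth.Agent.Lib.Helper21.FibVan Groth.Agent.Lib.Helper2 Groth.Agent.Lib.Helper2.HomExt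
open Groth.Agent.Lib.Helper28.QCohLoc Groth.Agent.Lib.Helper17.CohKer

/-- flat base change of surjectivity on global sections -/
theorem surjective_appTop_of_flat {X S X' T : Scheme.{u}} {f : X ⟶ S} [IsAffine S] [IsAffine T]
    {p : X' ⟶ X} {q : X' ⟶ T} {h : T ⟶ S} (hpb : IsPullback p q f h) [Flat h]
    [CompactSpace X] [QuasiSeparatedSpace X]
    (hs : Function.Surjective f.appTop.hom) : Function.Surjective q.appTop.hom := by
  have hUY : (⊤ : X'.Opens) = p ⁻¹ᵁ ⊤ ⊓ q ⁻¹ᵁ ⊤ := by simp
  have hST : (⊤ : T.Opens) ≤ h ⁻¹ᵁ ⊤ := le_top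
  have hSX : (⊤ : X.Opens) ≤ f ⁻¹ᵁ ⊤ := le_top
  haveI := isIso_pushoutSection_of_isQuasiSeparated_of_flat_right hpb hST hSX hUY
    (isAffineOpen_top _) (isAffineOpen_top _) isCompact_univ isQuasiSeparated_univ
  have hp := (isIso_pushoutSection_iff hpb hST hSX hUY).mp inferInstance
  intro y
  have hy := mem_closure_of_isPushout hp y
  have hq : q.appLE ⊤ ⊤ (by simp) = q.appTop := by
    rw [Scheme.Hom.appLE]; simp
  have hf : f.appLE ⊤ ⊤ hSX = f.appTop := by
    rw [Scheme.Hom.appLE]; simp
  induction hy using AddSubgroup.closure_induction with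
  | mem z hz =>
    obtain ⟨⟨c, b⟩, rfl⟩ := hz
    obtain ⟨a, ha⟩ := hs c
    have hw := congrArg (fun θ => θ.hom a) hp.w
    simp only [CommRingCat.hom_comp, RingHom.comp_apply] at hw
    refine ⟨(h.appLE ⊤ ⊤ hST).hom a * b, ?_⟩
    rw [← hq, map_mul, ← hw, hf, ha]
  | zero => exact ⟨0, map_zero _⟩
  | add y z _ _ hy hz =>
    obtain ⟨a, ha⟩ := hy
    obtain ⟨b, hb⟩ := hz
    exact ⟨a + b, by rw [map_add, ha, hb]⟩
  | neg y _ hy =>
    obtain ⟨a, ha⟩ := hy
    exact ⟨-a, by rw [map_neg, ha]⟩

/-- surjectivity on `H⁰` gives surjectivity on global sections -/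
theorem surjective_app_top_of_surjective_H0 {X : Scheme.{u}} {F G : X.Modules} (e : F ⟶ G)
    (h : ∀ x : Coh.HH X G 0, ∃ w : Coh.HH X F 0,
      Sheaf.H.map ((SheafOfModules.toSheaf X.ringCatSheaf).map e) 0 w = x) :
    Function.Surjective (e.app ⊤) := by
  intro s
  obtain ⟨x, hx⟩ := h ((Sheaf.H.equiv₀ (Coh.toAb G) Limits.isTerminalTop).symm s)
  refine ⟨Sheaf.H.equiv₀ (Coh.toAb F) Limits.isTerminalTop x, ?_⟩
  have h1 := Sheaf.H.equiv₀_naturality (Limits.isTerminalTop (α := TopologicalSpace.Opens X))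
    ((SheafOfModules.toSheaf X.ringCatSheaf).map e) x
  have h2 : Sheaf.H.equiv₀ (Coh.toAb G) Limits.isTerminalTop
      (Sheaf.H.map ((SheafOfModules.toSheaf X.ringCatSheaf).map e) 0 x) = s :=
    (congrArg _ hx).trans (AddEquiv.apply_symm_apply _ s)
  exact h1.trans h2

/-- base change of surjectivity on global sections along a closed immersion of affine bases -/
theorem surjective_appTop_of_closed {Z X' T S' : Scheme.{u}} [IsAffine T] [IsAffine S']
    {k : Z ⟶ X'} {q : Z ⟶ T} {f' : X' ⟶ S'} {i : T ⟶ S'} (hpb : IsPullback k q f' i)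
    [IsClosedImmersion i] (hE : EGood 1 f')
    (h0 : Subsingleton (Coh.HH X' (Coh.structureModule X') 1))
    (hs : Function.Surjective f'.appTop.hom) : Function.Surjective q.appTop.hom := by
  haveI := isProper_of_egood hE
  haveI : CompactSpace X' := QuasiCompact.compactSpace_of_compactSpace f'
  haveI : QuasiSeparatedSpace X' := quasiSeparatedSpace_of_quasiSeparated f'
  have hcf := isClosedFibre_of_isPullback hpb
  have hgood := good_of_egood hE
  have hvan : ∀ K : X'.Modules, K.IsQuasicoherent → Subsingleton (Coh.HH X' K (1 + 1)) :=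
    fun K hK => by
      haveI := hK
      exact hgood.subsingleton_HH K (1 + 1) (Nat.lt_succ_self 1)
  haveI : IsAffineHom i := inferInstance
  haveI : IsAffineHom k := MorphismProperty.of_isPullback hpb.flip inferInstance
  haveI : (Coh.structureModule X').IsQuasicoherent := inferInstance
  haveI : (Coh.structureModule Z).IsQuasicoherent := inferInstance
  haveI : (PM k (Coh.structureModule Z)).IsQuasicoherent := isQuasicoherent_pushforward k _
  haveI := epi_unitPush hcf
  haveI := epi_descLam hcf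
  haveI hK : (kernel (unitPush k)).IsQuasicoherent := isQuasicoherent_kernel _
  have hK1 : Subsingleton (Coh.HH X' (kernel (unitPush k)) 1) :=
    subsingleton_HH_of_epi_sigma _ (descLam hcf) 1 hvan h0
  have hsurj := surjective_app_top_of_surjective_H0 (unitPush k)
    (surjective_HH_of_epi (unitPush k) 0 hK1)
  intro z
  have hz : ∃ c : Γ(X', ⊤), k.appTop.hom c = z := by
    obtain ⟨c, hc⟩ := hsurj (ofM k (Coh.structureModule Z) ⊤
      (show Γ(Coh.structureModule Z, k ⁻¹ᵁ ⊤) from z))
    refine ⟨(show Γ(X', ⊤) from c), ?_⟩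
    have h1 := congrArg (toM k (Coh.structureModule Z) ⊤) hc
    rw [toM_ofM] at h1
    exact (toM_unitPush k ⊤ (show Γ(X', ⊤) from c)).symm.trans h1
  obtain ⟨c, rfl⟩ := hz
  obtain ⟨b, rfl⟩ := hs c
  refine ⟨i.appTop.hom b, ?_⟩
  have := congrArg (fun φ => (Scheme.Hom.appTop φ).hom b) hpb.w
  simpa [Scheme.Hom.comp_appTop] using this.symm

/-- base change of surjectivity on global sections along an arbitrary morphism of affine bases -/
theorem surjective_appTop_baseChange {X S X' T : Scheme.{u}} {f : X ⟶ S} [IsAffine S] [IsAffine T]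
    {p : X' ⟶ X} {q : X' ⟶ T} {h : T ⟶ S} (hpb : IsPullback p q f h) (hE : EGood 1 f)
    (h0 : Subsingleton (Coh.HH X (Coh.structureModule X) 1))
    (hs : Function.Surjective f.appTop.hom) : Function.Surjective q.appTop.hom := by
  haveI := isProper_of_egood hE
  haveI : CompactSpace X := QuasiCompact.compactSpace_of_compactSpace f
  haveI : QuasiSeparatedSpace X := quasiSeparatedSpace_of_quasiSeparated f
  letI : Algebra Γ(S, ⊤) Γ(T, ⊤) := h.appTop.hom.toAlgebra
  let P := MvPolynomial Γ(T, ⊤) Γ(S, ⊤)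
  let ev : P →ₐ[Γ(S, ⊤)] Γ(T, ⊤) := MvPolynomial.aeval id
  have hev : Function.Surjective ev := fun b => ⟨MvPolynomial.X b, MvPolynomial.aeval_X _ _⟩
  let π : Spec (CommRingCat.of P) ⟶ S :=
    Spec.map (CommRingCat.ofHom (algebraMap Γ(S, ⊤) P)) ≫ S.isoSpec.inv
  let i : T ⟶ Spec (CommRingCat.of P) := T.isoSpec.hom ≫ Spec.map (CommRingCat.ofHom ev.toRingHom)
  haveI : Flat π := by
    haveI : Flat (Spec.map (CommRingCat.ofHom (algebraMap Γ(S, ⊤) P))) := by
      rw [Flat.SpecMap_iff]
      exact (RingHom.flat_algebraMap_iff).2 inferInstance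
    infer_instance
  haveI : IsClosedImmersion i := by
    haveI : IsClosedImmersion (Spec.map (CommRingCat.ofHom ev.toRingHom)) :=
      IsClosedImmersion.spec_of_surjective _ hev
    infer_instance
  have hiπ : i ≫ π = h := by
    have h1 : CommRingCat.ofHom (algebraMap Γ(S, ⊤) P) ≫ CommRingCat.ofHom ev.toRingHom =
        h.appTop := by
      ext b
      simp [ev, RingHom.algebraMap_toAlgebra]
    simp only [i, π, Category.assoc]
    rw [← Spec.map_comp_assoc, h1, Scheme.isoSpec_hom_naturality_assoc]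
    simp
  have hpb₁ : IsPullback (pullback.fst f π) (pullback.snd f π) f π := IsPullback.of_hasPullback f π
  have hw : p ≫ f = (q ≫ i) ≫ π := by rw [hpb.w, Category.assoc, hiπ]
  have hpb₂ : IsPullback (hpb₁.lift p (q ≫ i) hw) q (pullback.snd f π) i := by
    refine IsPullback.of_right ?_ (hpb₁.lift_snd _ _ hw) hpb₁
    rw [hpb₁.lift_fst, hiπ]
    exact hpb
  have hs₁ := surjective_appTop_of_flat hpb₁ hs
  have hE₁ := egood_of_isPullback hE hpb₁
  have h0₁ := subsingleton_HH_baseChange hpb₁ 1 hE h0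
  exact surjective_appTop_of_closed hpb₂ hE₁ h0₁ hs₁

end Groth.Agent.Lib.lead.FibOne
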