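import Groth.Agent.Lib.lead.FibOneI
import Mathlib

/-!
# Surjectivity of `O_Y → f_* O_X` is stable under arbitrary base change
(fibres of dimension `≤ 1` with `H¹(X_y, O) = 0`)
-/

set_option backward.isDefEq.respectTransparency.types false
set_option linter.style.haveILetI false
set_option autoImplicit false
universe u
open CategoryTheory CategoryTheory.Limits AlgebraicGeometry Opposite TopologicalSpace Abelian

noncomputable section

namespace Groth.Agent.Lib.lead.FibOne

open Groth.Agent.Lib.Helper21.FibVan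

theorem res_eq_zero_of_eq {X : Scheme.{u}} {U W₁ W₂ : X.Opens} (e : W₁ = W₂) (h₁ : W₁ ≤ U)
    (h₂ : W₂ ≤ U) (x : Γ(X, U)) (hx : X.presheaf.map (homOfLE h₁).op x = 0) :
    X.presheaf.map (homOfLE h₂).op x = 0 := by
  subst e; exact hx

/-- surjectivity of `O_Y(U) → O_X(f⁻¹U)` for `U` affine is local on `U` (`f` quasi-compact) -/
theorem surjective_app_of_locally {X' Y' : Scheme.{u}} (f' : X' ⟶ Y') [QuasiCompact f']
    (U' : Y'.Opens) (hU' : IsAffineOpen U')
    (hloc : ∀ y' ∈ U', ∃ h : Γ(Y', U'), y' ∈ Y'.basicOpen h ∧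
      Function.Surjective (f'.app (Y'.basicOpen h)).hom) :
    Function.Surjective (f'.app U').hom := by
  intro t
  set φ := (f'.app U').hom with hφ
  let J : Ideal Γ(Y', U') :=
    { carrier := {r | φ r * t ∈ Set.range φ}
      add_mem' := by
        rintro a b ⟨x, hx⟩ ⟨y, hy⟩
        exact ⟨x + y, by rw [map_add, hx, hy, map_add, add_mul]⟩
      zero_mem' := ⟨0, by rw [map_zero, zero_mul]⟩
      smul_mem' := by
        rintro c a ⟨x, hx⟩
        exact ⟨c * x, by rw [map_mul, hx, smul_eq_mul, map_mul, mul_assoc]⟩ }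
  have hcomp : IsCompact (f' ⁻¹ᵁ U').1 := QuasiCompact.isCompact_preimage U'.1 U'.2 hU'.isCompact
  have hrad : J.radical = ⊤ := by
    have hspan : Ideal.span (J.radical : Set Γ(Y', U')) = ⊤ := by
      rw [← hU'.self_le_iSup_basicOpen_iff]
      intro y' hy'
      obtain ⟨h, hyh, hs⟩ := hloc y' hy'
      rw [Opens.mem_iSup]
      refine ⟨⟨h, ?_⟩, hyh⟩
      -- h ∈ J.radical
      have hle : Y'.basicOpen h ≤ U' := Y'.basicOpen_le h
      obtain ⟨b', hb'⟩ := hs (X'.presheaf.map (homOfLE (f'.preimage_mono hle)).op t)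
      haveI := hU'.isLocalization_basicOpen h
      obtain ⟨⟨b, ⟨_, n, rfl⟩⟩, hb⟩ := IsLocalization.surj (Submonoid.powers h) b'
      have hnat : ∀ r : Γ(Y', U'), (f'.app (Y'.basicOpen h)).hom
          ((Y'.presheaf.map (homOfLE hle).op).hom r) =
          (X'.presheaf.map (homOfLE (f'.preimage_mono hle)).op).hom (φ r) := fun r =>
        congrArg (fun θ => θ.hom r) (f'.naturality (homOfLE hle).op)
      have hb2 : b' * (Y'.presheaf.map (homOfLE hle).op).hom (h ^ n) =
          (Y'.presheaf.map (homOfLE hle).op).hom b := hb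
      have h3 := congrArg (f'.app (Y'.basicOpen h)).hom hb2
      rw [map_mul, hb', hnat, hnat] at h3
      have h4 : (X'.presheaf.map (homOfLE (f'.preimage_mono hle)).op).hom
          (t * φ (h ^ n) - φ b) = 0 := by
        rw [map_sub, map_mul, sub_eq_zero]
        exact h3
      have h5 := res_eq_zero_of_eq (Scheme.preimage_basicOpen f' h) (f'.preimage_mono hle)
        (X'.basicOpen_le _) _ h4
      obtain ⟨m, hm⟩ := exists_pow_mul_eq_zero_of_res_basicOpen_eq_zero_of_isCompact X' hcomp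
        (t * φ (h ^ n) - φ b) (f'.app U' h) h5
      change h ∈ J.radical
      rw [Ideal.mem_radical_iff]
      refine ⟨m + n, h ^ m * b, ?_⟩
      have h6 : φ h ^ m * (t * φ (h ^ n) - φ b) = 0 := hm
      rw [mul_sub, sub_eq_zero] at h6
      rw [map_mul, map_pow, ← h6, pow_add, map_mul, map_pow, map_pow]
      ring
    rwa [Ideal.span_eq] at hspan
  have h1 : (1 : Γ(Y', U')) ∈ J := by
    rw [Ideal.radical_eq_top] at hrad
    rw [hrad]; trivial
  obtain ⟨x, hx⟩ := h1
  exact ⟨x, by rw [hx, map_one, one_mul]⟩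

/-- the restriction of a base change over an open of the new base mapping into an open of the old
base is a base change of the restriction (abstract pullback squares) -/
theorem exists_isPullback_restrict' {X Y X' Y' : Scheme.{u}} {f : X ⟶ Y} {g : Y' ⟶ Y}
    {f' : X' ⟶ Y'} {g' : X' ⟶ X} (hc : IsPullback g' f' f g) (U : Y'.Opens)
    (V : Y.Opens) (gU : (↑U : Scheme.{u}) ⟶ (↑V : Scheme.{u})) (hgU : gU ≫ V.ι = U.ι ≫ g) :
    ∃ q : (↑(f' ⁻¹ᵁ U) : Scheme.{u}) ⟶ (↑(f ⁻¹ᵁ V) : Scheme.{u}),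
      IsPullback q (f' ∣_ U) (f ∣_ V) gU := by
  have h1 : IsPullback (f' ⁻¹ᵁ U).ι (f' ∣_ U) f' U.ι := (isPullback_morphismRestrict f' U).flip
  have h12 := h1.paste_horiz hc
  have h3 : IsPullback (f ⁻¹ᵁ V).ι (f ∣_ V) f V.ι := (isPullback_morphismRestrict f V).flip
  have hw : ((f' ⁻¹ᵁ U).ι ≫ g') ≫ f = ((f' ∣_ U) ≫ gU) ≫ V.ι := by
    rw [h12.w, Category.assoc, hgU]
  refine ⟨h3.lift _ _ hw, ?_⟩
  refine IsPullback.of_right ?_ (h3.lift_snd _ _ hw) h3
  rw [h3.lift_fst, hgU]
  exact h12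

theorem surjective_app_of_eq {X Y : Scheme.{u}} (f : X ⟶ Y) {W₁ W₂ : Y.Opens} (e : W₁ = W₂)
    (h : Function.Surjective (f.app W₁).hom) : Function.Surjective (f.app W₂).hom := by
  subst e; exact h

theorem surjective_appTop_restrict_iff {X Y : Scheme.{u}} (f : X ⟶ Y) (V : Y.Opens) :
    Function.Surjective (f ∣_ V).appTop.hom ↔ Function.Surjective (f.app V).hom := by
  have h1 := morphismRestrict_appTop f V
  have hbij : Function.Bijective
      (X.presheaf.map (eqToHom (image_morphismRestrict_preimage f V ⊤)).op).hom :=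
    ConcreteCategory.bijective_of_isIso _
  have h2 : ∀ b : Γ(Y, V.ι ''ᵁ ⊤), (f ∣_ V).appTop.hom b =
      (X.presheaf.map (eqToHom (image_morphismRestrict_preimage f V ⊤)).op).hom
        ((f.app (V.ι ''ᵁ ⊤)).hom b) := fun b => congrArg (fun θ => θ.hom b) h1
  have h3 : Function.Surjective (f ∣_ V).appTop.hom ↔
      Function.Surjective (f.app (V.ι ''ᵁ ⊤)).hom := by
    constructor
    · intro hs z
      obtain ⟨b, hb⟩ := hs ((X.presheaf.map (eqToHom
        (image_morphismRestrict_preimage f V ⊤)).op).hom z)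
      exact ⟨b, hbij.1 ((h2 b).symm.trans hb)⟩
    · intro hs z
      obtain ⟨z', hz'⟩ := hbij.2 z
      obtain ⟨b, hb⟩ := hs z'
      exact ⟨b, (h2 b).trans ((congrArg _ hb).trans hz')⟩
  rw [h3]
  exact ⟨surjective_app_of_eq f (Scheme.Opens.ι_image_top V),
    surjective_app_of_eq f (Scheme.Opens.ι_image_top V).symm⟩

/-- **stability of surjectivity of `O_Y → f_* O_X` under base change** -/
theorem surjective_app_baseChange {X Y : Scheme.{u}} (f : X ⟶ Y) [IsProper f]
    (hdim : ∀ y : Y, topologicalKrullDim ↑(f.fiber y) ≤ 1)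
    (hH1 : ∀ y : Y, Subsingleton (Coh.HH (f.fiber y) (Coh.structureModule (f.fiber y)) 1))
    (hsurj : ∀ U : Y.Opens, IsAffineOpen U → Function.Surjective (f.app U).hom)
    {X' Y' : Scheme.{u}} (f' : X' ⟶ Y') (g' : X' ⟶ X) (g : Y' ⟶ Y) (hc : IsPullback g' f' f g)
    (U' : Y'.Opens) (hU' : IsAffineOpen U') : Function.Surjective (f'.app U').hom := by
  haveI : IsProper f' := MorphismProperty.of_isPullback (P := @IsProper) hc inferInstance
  refine surjective_app_of_locally f' U' hU' (fun y' hy' => ?_)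
  obtain ⟨V, hyV, hV, hE, hvan⟩ := exists_nhd_vanishing f (g y') 1 (hdim _) (hH1 _)
  obtain ⟨h, hle, hyh⟩ := hU'.exists_basicOpen_le (V := U' ⊓ g ⁻¹ᵁ V) ⟨y', ⟨hy', hyV⟩⟩ hy'
  refine ⟨h, hyh, ?_⟩
  have hW' : IsAffineOpen (Y'.basicOpen h) := hU'.basicOpen h
  have hWV : Y'.basicOpen h ≤ g ⁻¹ᵁ V := hle.trans inf_le_right
  obtain ⟨q, hq⟩ := exists_isPullback_restrict' hc (Y'.basicOpen h) V
    (g.resLE V (Y'.basicOpen h) hWV) (Scheme.Hom.resLE_comp_ι _ _)
  haveI : IsAffine (↑V : Scheme.{u}) := hV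
  haveI : IsAffine (↑(Y'.basicOpen h) : Scheme.{u}) := hW'
  have hsV : Function.Surjective (f ∣_ V).appTop.hom :=
    (surjective_appTop_restrict_iff f V).2 (hsurj V hV)
  exact (surjective_appTop_restrict_iff f' _).1 (surjective_appTop_baseChange hq hE hvan hsV)

end Groth.Agent.Lib.lead.FibOne
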