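import Mathlib

set_option linter.style.haveILetI false

/-!
# A prime of coheight one avoiding a closed set

In a Noetherian ring `B` with a prime `n`, an ideal `I ≤ n` and a prime `q₀ ≤ n` not containing `I`,
there is a prime `p ≤ n` not containing `I` such that there is no prime strictly between `p`
and `n`.
-/

universe u

namespace Groth.Agent.Lib.lead.FinBCOpen

section Algebra

/-- Domain `A`, prime `n`, `a ≠ 0` contained in every nonzero prime below `n`. Then `n` is minimal
over `(a)`. -/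
theorem mem_minimalPrimes_span_of_forall_mem {A : Type*} [CommRing A] [IsDomain A]
    [IsNoetherianRing A] (n : Ideal A) [n.IsPrime] (a : A) (ha : a ≠ 0) (han : a ∈ n)
    (h : ∀ q : Ideal A, q.IsPrime → q ≤ n → q ≠ ⊥ → a ∈ q) :
    n ∈ (Ideal.span {a}).minimalPrimes := by
  classical
  by_contra hnot
  have hfin : (Ideal.span {a}).minimalPrimes.Finite :=
    Ideal.finite_minimalPrimes_of_isNoetherianRing A _
  have hle : Ideal.span {a} ≤ n := (Ideal.span_singleton_le_iff_mem _).mpr han
  have hnle : ∀ q ∈ (Ideal.span {a}).minimalPrimes, ¬ n ≤ q := by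
    intro q hq hnq
    apply hnot
    have : q ≤ n := hq.2 ⟨inferInstance, hle⟩ hnq
    rwa [le_antisymm hnq this]
  have havoid : ¬ ((n : Set A) ⊆ ⋃ q ∈ (hfin.toFinset : Set (Ideal A)), ((id q : Ideal A) : Set A)) := by
    rw [Ideal.subset_union_prime (R := A) (s := hfin.toFinset) (f := id) ⊥ ⊥]
    · rintro ⟨q, hq, hnq⟩
      exact hnle q (hfin.mem_toFinset.mp hq) hnq
    · intro q hq _ _
      exact (hfin.mem_toFinset.mp hq).1.1
  rw [Set.not_subset] at havoid
  obtain ⟨b, hbn, hb⟩ := havoid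
  simp only [Set.mem_iUnion, not_exists] at hb
  have hbn' : Ideal.span {b} ≤ n := (Ideal.span_singleton_le_iff_mem _).mpr hbn
  obtain ⟨q, hq, hqn⟩ := Ideal.exists_minimalPrimes_le hbn'
  haveI : q.IsPrime := hq.1.1
  have hbq : b ∈ q := hq.1.2 (Ideal.mem_span_singleton_self b)
  -- some minimal prime over (a) exists
  obtain ⟨q₁, hq₁, hq₁n⟩ := Ideal.exists_minimalPrimes_le hle
  have hb0 : b ≠ 0 := by
    rintro rfl
    exact hb q₁ (hfin.mem_toFinset.mpr hq₁) (by simp)
  have hq0 : q ≠ ⊥ := by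
    rintro rfl
    exact hb0 (by simpa using hbq)
  have haq : a ∈ q := h q inferInstance hqn hq0
  have haq' : Ideal.span {a} ≤ q := (Ideal.span_singleton_le_iff_mem _).mpr haq
  obtain ⟨q₂, hq₂, hq₂q⟩ := Ideal.exists_minimalPrimes_le haq'
  haveI : q₂.IsPrime := hq₂.1.1
  have hq₂0 : q₂ ≠ ⊥ := by
    rintro rfl
    exact ha (by simpa using hq₂.1.2 (Ideal.mem_span_singleton_self a))
  have hht : q.height ≤ 1 := Ideal.height_le_one_of_isPrincipal_of_mem_minimalPrimes _ q hq
  have heq : q₂ = q := by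
    by_contra hne
    have hlt : q₂ < q := lt_of_le_of_ne hq₂q hne
    have h1 : q₂.height < q.height := Ideal.height_strict_mono_of_isPrime hlt
    have h2 : q₂.height = 0 := by
      have : q₂.height < 1 := lt_of_lt_of_le h1 hht
      exact Order.lt_one_iff.mp this
    exact hq₂0 (Ideal.height_eq_zero_iff_eq_bot.mp h2)
  exact hb q₂ (hfin.mem_toFinset.mpr hq₂) (by rw [heq]; exact hbq)

/-- In a Noetherian ring `B` with a prime `n`, an ideal `I ≤ n` and a prime `q₀ ≤ n` not
containing `I`, there is a prime `p ≤ n` not containing `I` such that there is no prime strictly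
between `p` and `n`. -/
theorem exists_prime_covBy {B : Type*} [CommRing B] [IsNoetherianRing B] (n : Ideal B) [n.IsPrime]
    (I : Ideal B) (hI : I ≤ n) (q₀ : Ideal B) [q₀.IsPrime] (hq₀n : q₀ ≤ n) (hq₀ : ¬ I ≤ q₀) :
    ∃ p : Ideal B, p.IsPrime ∧ p ≤ n ∧ ¬ I ≤ p ∧
      ∀ q : Ideal B, q.IsPrime → p ≤ q → q ≤ n → q = p ∨ q = n := by
  classical
  let S : Set (Ideal B) := {p | p.IsPrime ∧ p ≤ n ∧ ¬ I ≤ p}
  have hS : S.Nonempty := ⟨q₀, inferInstance, hq₀n, hq₀⟩
  obtain ⟨p, hpS, hpmax⟩ := (wellFounded_gt (α := Ideal B)).has_min S hS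
  obtain ⟨hpp, hpn, hIp⟩ := hpS
  haveI := hpp
  refine ⟨p, hpp, hpn, hIp, ?_⟩
  obtain ⟨j, hjI, hjp⟩ := Set.not_subset.mp hIp
  let A := B ⧸ p
  let π : B →+* A := Ideal.Quotient.mk p
  have hπ : Function.Surjective π := Ideal.Quotient.mk_surjective
  have hker : RingHom.ker π = p := Ideal.mk_ker
  let nA : Ideal A := n.map π
  haveI : nA.IsPrime := Ideal.map_isPrime_of_surjective hπ (by rw [hker]; exact hpn)
  have hcomap : ∀ q : Ideal B, p ≤ q → (q.map π).comap π = q := by
    intro q hpq
    rw [Ideal.comap_map_of_surjective _ hπ, ← RingHom.ker_eq_comap_bot, hker]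
    exact sup_eq_left.mpr hpq
  have ha : π j ≠ 0 := by
    intro h0
    exact hjp (by rw [← hker]; exact h0)
  have han : π j ∈ nA := Ideal.mem_map_of_mem π (hI hjI)
  have hmin : nA ∈ (Ideal.span {π j}).minimalPrimes := by
    apply mem_minimalPrimes_span_of_forall_mem nA (π j) ha han
    intro qA hqA hqAn hqA0
    haveI := hqA
    by_contra hjq
    have hq1 : (qA.comap π).IsPrime := inferInstance
    have hq2 : qA.comap π ≤ n := by
      rw [← hcomap n hpn]
      exact Ideal.comap_mono hqAn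
    have hq3 : ¬ I ≤ qA.comap π := fun hle => hjq (hle hjI)
    have hpq : p ≤ qA.comap π := by
      have h1 : RingHom.ker π ≤ qA.comap π := by
        rw [RingHom.ker_eq_comap_bot]
        exact Ideal.comap_mono bot_le
      exact le_trans (le_of_eq hker.symm) h1
    have hne : qA.comap π ≠ p := by
      intro heq
      apply hqA0
      rw [← Ideal.map_comap_of_surjective π hπ qA, heq]
      exact Ideal.map_quotient_self p
    exact hpmax _ ⟨hq1, hq2, hq3⟩ (lt_of_le_of_ne hpq (Ne.symm hne))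
  have hht : nA.height ≤ 1 := Ideal.height_le_one_of_isPrincipal_of_mem_minimalPrimes _ nA hmin
  intro q hq hpq hqn
  haveI := hq
  by_contra hcon
  push_neg at hcon
  obtain ⟨hqp, hqn'⟩ := hcon
  let qA : Ideal A := q.map π
  haveI : qA.IsPrime := Ideal.map_isPrime_of_surjective hπ (by rw [hker]; exact hpq)
  have hlt : qA < nA := by
    refine lt_of_le_of_ne (Ideal.map_mono hqn) ?_
    intro heq
    apply hqn'
    rw [← hcomap q hpq, ← hcomap n hpn]
    exact congrArg (Ideal.comap π) heq
  have h1 : qA.height < nA.height := Ideal.height_strict_mono_of_isPrime hlt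
  have h2 : qA.height = 0 := Order.lt_one_iff.mp (lt_of_lt_of_le h1 hht)
  have h3 : qA = ⊥ := Ideal.height_eq_zero_iff_eq_bot.mp h2
  apply hqp
  apply le_antisymm _ hpq
  have h4 : Ideal.comap π qA = q := hcomap q hpq
  rw [← h4, h3, ← RingHom.ker_eq_comap_bot, hker]

end Algebra

end Groth.Agent.Lib.lead.FinBCOpen
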