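import Mathlib
import Groth.Agent.Lib.lead.FinBCOpenA
import Groth.Agent.Lib.Helper4.IsolatedPoint
import Groth.Agent.Lib.Helper13.ZMTFinMain

/-!
# Finite base change criterion for universal openness: scheme-theoretic lemmas
-/

set_option autoImplicit false
set_option linter.style.haveILetI false

universe u

open CategoryTheory CategoryTheory.Limits AlgebraicGeometry TopologicalSpace

namespace Groth.Agent.Lib.lead.FinBCOpen

/-- Scheme version of `exists_prime_covBy`: in a locally Noetherian scheme, given a point `t` in a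
closed set `D` and a generalization `η` of `t` outside `D`, there is a generalization `τ` of `t`
outside `D` with no point strictly between `τ` and `t`. -/
theorem exists_generalization_covBy {Y : Scheme.{u}} [IsLocallyNoetherian Y] (t : Y) (D : Set Y)
    (hD : IsClosed D) (htD : t ∈ D) (η : Y) (hη : η ⤳ t) (hηD : η ∉ D) :
    ∃ τ : Y, τ ⤳ t ∧ τ ∉ D ∧ ∀ σ : Y, τ ⤳ σ → σ ⤳ t → σ = τ ∨ σ = t := by
  obtain ⟨U, hU, htU, -⟩ := exists_isAffineOpen_mem_and_subset (X := Y) (x := t) (U := ⊤) (by simp)
  haveI : IsNoetherianRing Γ(Y, U) := IsLocallyNoetherian.component_noetherian ⟨U, hU⟩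
  have hemb : Topology.IsOpenEmbedding hU.fromSpec := hU.fromSpec.isOpenEmbedding
  have hrange : Set.range hU.fromSpec = U := hU.range_fromSpec
  have hmem : ∀ σ : Y, σ ⤳ t → σ ∈ Set.range hU.fromSpec := by
    intro σ hσ
    rw [hrange]
    exact hσ.mem_open U.isOpen htU
  obtain ⟨n, rfl⟩ := hmem t specializes_rfl
  obtain ⟨q₀, rfl⟩ := hmem η hη
  let D' : Set (PrimeSpectrum Γ(Y, U)) := hU.fromSpec ⁻¹' D
  have hD' : IsClosed D' := hD.preimage hU.fromSpec.continuous
  let I : Ideal Γ(Y, U) := PrimeSpectrum.vanishingIdeal D'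
  have hDI : D' = PrimeSpectrum.zeroLocus (I : Set Γ(Y, U)) := by
    rw [PrimeSpectrum.zeroLocus_vanishingIdeal_eq_closure, hD'.closure_eq]
  have hmemD : ∀ p : PrimeSpectrum Γ(Y, U), hU.fromSpec p ∈ D ↔ I ≤ p.asIdeal := by
    intro p
    show p ∈ D' ↔ _
    rw [hDI, PrimeSpectrum.mem_zeroLocus]
    rfl
  have hqn : q₀.asIdeal ≤ n.asIdeal := by
    have : q₀ ⤳ n := hemb.isInducing.specializes_iff.mp hη
    exact (PrimeSpectrum.le_iff_specializes _ _).mpr this
  obtain ⟨p, hp, hpn, hIp, hcov⟩ := exists_prime_covBy n.asIdeal I ((hmemD n).mp htD) q₀.asIdeal hqn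
    (fun h => hηD ((hmemD q₀).mpr h))
  let τ' : PrimeSpectrum Γ(Y, U) := ⟨p, hp⟩
  have hτn : τ' ⤳ n := (PrimeSpectrum.le_iff_specializes τ' n).mp hpn
  refine ⟨hU.fromSpec τ', hemb.isInducing.specializes_iff.mpr hτn, ?_, ?_⟩
  · intro h
    exact hIp ((hmemD τ').mp h)
  · intro σ hτσ hσt
    obtain ⟨s, rfl⟩ := hmem σ hσt
    have h1 : τ' ⤳ s := hemb.isInducing.specializes_iff.mp hτσ
    have h2 : s ⤳ n := hemb.isInducing.specializes_iff.mp hσt
    have h1' : p ≤ s.asIdeal := (PrimeSpectrum.le_iff_specializes τ' s).mpr h1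
    have h2' : s.asIdeal ≤ n.asIdeal := (PrimeSpectrum.le_iff_specializes s n).mpr h2
    rcases hcov s.asIdeal s.2 h1' h2' with h | h
    · left
      congr 1
      exact PrimeSpectrum.ext h
    · right
      congr 1
      exact PrimeSpectrum.ext h

/-- A point which is closed in its fibre and has no proper generalization in its fibre is a point
where the morphism is quasi-finite. -/
theorem quasiFiniteAt_of_isolated {X S : Scheme.{u}} (f : X ⟶ S) [LocallyOfFiniteType f] (x : X)
    (h1 : ∀ x' : X, f x' = f x → x ⤳ x' → x' = x)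
    (h2 : ∀ x' : X, f x' = f x → x' ⤳ x → x' = x) : f.QuasiFiniteAt x := by
  rw [Groth.Agent.Lib.Helper4.IsolatedPoint.main]
  have hemb := (f.fiberι (f x)).isEmbedding
  have hx : f.fiberι (f x) (f.asFiber x) = x := f.fiberι_asFiber x
  have hfib : ∀ u : f.fiber (f x), f (f.fiberι (f x) u) = f x := by
    intro u
    have : f.fiberι (f x) u ∈ Set.range (f.fiberι (f x)) := ⟨u, rfl⟩
    rw [f.range_fiberι] at this
    exact this
  constructor
  · rw [← closure_eq_iff_isClosed]
    apply Set.Subset.antisymm _ subset_closure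
    intro u hu
    have h3 : f.asFiber x ⤳ u := specializes_iff_mem_closure.mpr hu
    have h4 : x ⤳ f.fiberι (f x) u := by
      have := hemb.isInducing.specializes_iff.mpr h3
      rwa [hx] at this
    have h5 := h1 _ (hfib u) h4
    exact hemb.injective (h5.trans hx.symm)
  · intro u hu
    have h4 : f.fiberι (f x) u ⤳ x := by
      have := hemb.isInducing.specializes_iff.mpr hu
      rwa [hx] at this
    have h5 := h2 _ (hfib u) h4
    exact hemb.injective (h5.trans hx.symm)

section Square

variable {X Y Y₁ V : Scheme.{u}} (f : X ⟶ Y) (π : Y₁ ⟶ Y) (j : V ⟶ Y₁)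

/-- The comparison map `X ×_Y V ⟶ X ×_Y Y₁`. -/
noncomputable def liftComp : pullback f (j ≫ π) ⟶ pullback f π :=
  pullback.lift (pullback.fst f (j ≫ π)) (pullback.snd f (j ≫ π) ≫ j)
    (by rw [Category.assoc, pullback.condition])

theorem isPullback_liftComp :
    IsPullback (liftComp f π j) (pullback.snd f (j ≫ π)) (pullback.snd f π) j := by
  refine IsPullback.of_right (h₁₂ := pullback.fst f π) (h₂₂ := π) (v₁₃ := f) ?_ ?_
    (IsPullback.of_hasPullback f π)
  · rw [liftComp, pullback.lift_fst]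
    exact IsPullback.of_hasPullback f (j ≫ π)
  · rw [liftComp, pullback.lift_snd]

/-- Base change of an open map along an open immersion is an open map. -/
theorem isOpenMap_snd_comp_of_isOpenImmersion [IsOpenImmersion j]
    (h : IsOpenMap (pullback.snd f π)) : IsOpenMap (pullback.snd f (j ≫ π)) := by
  have hsq := isPullback_liftComp f π j
  haveI : IsOpenImmersion (liftComp f π j) :=
    MorphismProperty.of_isPullback (P := @IsOpenImmersion) hsq.flip inferInstance
  intro U hU
  have hU' : IsOpen ((liftComp f π j) '' U) := (liftComp f π j).isOpenEmbedding.isOpenMap U hU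
  have heq : (pullback.snd f (j ≫ π)) '' U =
      j ⁻¹' ((pullback.snd f π) '' ((liftComp f π j) '' U)) := by
    ext v
    have hw : ∀ u : ↥(pullback f (j ≫ π)),
        (pullback.snd f π) ((liftComp f π j) u) = j ((pullback.snd f (j ≫ π)) u) := by
      intro u
      rw [← Scheme.Hom.comp_apply, ← Scheme.Hom.comp_apply, hsq.w]
    constructor
    · rintro ⟨u, hu, rfl⟩
      exact ⟨_, ⟨u, hu, rfl⟩, hw u⟩
    · rintro ⟨_, ⟨u, hu, rfl⟩, h2⟩
      refine ⟨u, hu, ?_⟩
      rw [hw u] at h2
      exact j.isOpenEmbedding.injective h2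
  rw [heq]
  exact (h _ hU').preimage j.continuous

/-- Base change of a universally open map is an open map. -/
theorem isOpenMap_snd_comp_of_universallyOpen [UniversallyOpen (pullback.snd f π)] :
    IsOpenMap (pullback.snd f (j ≫ π)) := by
  have hsq := isPullback_liftComp f π j
  haveI : UniversallyOpen (pullback.snd f (j ≫ π)) :=
    MorphismProperty.of_isPullback (P := @UniversallyOpen) hsq inferInstance
  exact (pullback.snd f (j ≫ π)).isOpenMap

end Square

/-- Transport of generalizations inside the image of an open set along an inducing morphism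
over which the base change is an open map. -/
theorem mem_image_of_specializes {X Y Y' V : Scheme.{u}} (f : X ⟶ Y) (g : Y' ⟶ Y) (k : V ⟶ Y')
    (gk : V ⟶ Y) (hk : k ≫ g = gk) (hemb : Topology.IsInducing k)
    (hopen : IsOpenMap (pullback.snd f gk))
    (W : Set ↥(pullback f g)) (hW : IsOpen W) (v₁ v₀ : V) (hv : k v₁ ⤳ k v₀)
    (h0 : k v₀ ∈ (pullback.snd f g) '' W) : k v₁ ∈ (pullback.snd f g) '' W := by
  subst hk
  have hsq := isPullback_liftComp f g k
  obtain ⟨w, hwW, hw⟩ := h0
  obtain ⟨p', hp'₁, hp'₂⟩ := Scheme.exists_preimage_of_isPullback hsq w v₀ hw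
  let W' : Set ↥(pullback f (k ≫ g)) := (liftComp f g k) ⁻¹' W
  have hW' : IsOpen W' := hW.preimage (liftComp f g k).continuous
  have h1 : IsOpen ((pullback.snd f (k ≫ g)) '' W') := hopen _ hW'
  have h2 : v₀ ∈ (pullback.snd f (k ≫ g)) '' W' := ⟨p', by show _ ∈ W; rw [hp'₁]; exact hwW, hp'₂⟩
  have h3 : v₁ ⤳ v₀ := hemb.specializes_iff.mp hv
  obtain ⟨p₁, hp₁, hp₁'⟩ := h3.mem_open h1 h2
  refine ⟨(liftComp f g k) p₁, hp₁, ?_⟩
  rw [← Scheme.Hom.comp_apply, hsq.w, Scheme.Hom.comp_apply, hp₁']

end Groth.Agent.Lib.lead.FinBCOpen
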