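import Mathlib
import Groth.Agent.Lib.lead.UnivOpenAffine

open CategoryTheory CategoryTheory.Limits AlgebraicGeometry TensorProduct

universe u

namespace Groth.Agent.Lib.lead.UnivOpenComp

open Groth.Agent.Lib.lead.UnivOpenAffine

/-- Lifting a generalization through a pullback square in which every irreducible component
of the pullback dominates `Y'`. -/
theorem exists_specializes_of_components_dominate {P X' Y' T : Scheme.{u}} {p₁ : P ⟶ X'}
    {p₂ : P ⟶ Y'} {F : X' ⟶ T} {ι : Y' ⟶ T} (hP : IsPullback p₁ p₂ F ι)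
    (hdom : ∀ Z ∈ irreducibleComponents (↥P : Type u), Dense (p₂.base '' Z))
    (y₁ y₀ : Y') (hy₁ : ∀ y : Y', y₁ ⤳ y) (x' : X') (hx' : F.base x' = ι.base y₀) :
    ∃ x₁ : X', x₁ ⤳ x' ∧ F.base x₁ = ι.base y₁ := by
  obtain ⟨p, hp₁, hp₂⟩ := Scheme.exists_preimage_of_isPullback hP x' y₀ hx'
  have hW := irreducibleComponent_mem_irreducibleComponents p
  have hWirr : IsIrreducible (irreducibleComponent p) := isIrreducible_irreducibleComponent
  have hWcl : IsClosed (irreducibleComponent p) := isClosed_irreducibleComponent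
  obtain ⟨ζ, hζ⟩ := QuasiSober.sober hWirr hWcl
  have hζp : ζ ⤳ p := by
    rw [specializes_iff_mem_closure, hζ.def]
    exact mem_irreducibleComponent
  have hd := hdom _ hW
  -- `p₂ ζ` is generic in `Y'`
  have hgen : ∀ y : Y', p₂.base ζ ⤳ y := by
    intro y
    rw [specializes_iff_mem_closure]
    have h1 : p₂.base '' irreducibleComponent p ⊆ closure {p₂.base ζ} := by
      rw [← hζ.def]
      refine (image_closure_subset_closure_image p₂.continuous).trans ?_
      simp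
    have h2 : closure (p₂.base '' irreducibleComponent p) ⊆ closure {p₂.base ζ} :=
      closure_minimal h1 isClosed_closure
    exact h2 (hd y)
  have heq : p₂.base ζ = y₁ := ((hgen y₁).antisymm (hy₁ _)).eq
  refine ⟨p₁.base ζ, ?_, ?_⟩
  · rw [← hp₁]
    exact hζp.map p₁.continuous
  · have := congrArg (fun g => g.base ζ) hP.w
    simp only [Scheme.Hom.comp_base, TopCat.hom_comp, ContinuousMap.comp_apply] at this
    rw [this, heq]

open AlgebraicGeometry.AffineSpace in
/-- The left square obtained by factoring `pullback f (ι ≫ 𝔸ⁿ_Y ↘ Y)` through `𝔸ⁿ_X`. -/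
theorem isPullback_left {X Y Y' : Scheme.{u}} (f : X ⟶ Y) (n : Type u) (ι : Y' ⟶ 𝔸(n; Y)) :
    IsPullback ((isPullback_map (n := n) f).lift (pullback.snd f (ι ≫ 𝔸(n; Y) ↘ Y) ≫ ι)
        (pullback.fst f (ι ≫ 𝔸(n; Y) ↘ Y)) (by rw [Category.assoc, ← pullback.condition]))
      (pullback.snd f (ι ≫ 𝔸(n; Y) ↘ Y)) (AffineSpace.map n f) ι := by
  refine IsPullback.of_right (h₁₂ := 𝔸(n; X) ↘ X) (h₂₂ := 𝔸(n; Y) ↘ Y) (v₁₃ := f) ?_ ?_
    (isPullback_map (n := n) f).flip
  · rw [IsPullback.lift_snd]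
    exact IsPullback.of_hasPullback f (ι ≫ 𝔸(n; Y) ↘ Y)
  · rw [IsPullback.lift_fst]

open AlgebraicGeometry.AffineSpace in
theorem generalizingMap_map {X Y : Scheme.{u}} (f : X ⟶ Y) (n : Type u)
    (hyp : ∀ t₁ t₀ : 𝔸(n; Y), t₁ ⤳ t₀ → t₁ ≠ t₀ → ∃ (Y' : Scheme.{u}) (ι : Y' ⟶ 𝔸(n; Y))
      (y₁ y₀ : Y'), (∀ y : Y', y₁ ⤳ y) ∧ ι.base y₁ = t₁ ∧ ι.base y₀ = t₀ ∧
      ∀ Z ∈ irreducibleComponents (↥(pullback f (ι ≫ 𝔸(n; Y) ↘ Y)) : Type u),
        Dense ((pullback.snd f (ι ≫ 𝔸(n; Y) ↘ Y)).base '' Z)) :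
    GeneralizingMap (AffineSpace.map n f).base := by
  intro x' t₁ h
  by_cases hne : t₁ = (AffineSpace.map n f).base x'
  · exact ⟨x', specializes_rfl, hne.symm⟩
  obtain ⟨Y', ι, y₁, y₀, hy₁, e₁, e₀, hdom⟩ := hyp t₁ _ h hne
  obtain ⟨x₁, hx₁, hF⟩ := exists_specializes_of_components_dominate (isPullback_left f n ι) hdom
    y₁ y₀ hy₁ x' e₀.symm
  exact ⟨x₁, hx₁, hF.trans e₁⟩

open AlgebraicGeometry.AffineSpace in
theorem S2558 {X Y : Scheme.{u}} (f : X ⟶ Y) [LocallyOfFinitePresentation f]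
    (h : ∀ (Y' : Scheme.{u}) (g : Y' ⟶ Y) [IrreducibleSpace Y'] [LocallyOfFiniteType g] [QuasiCompact g],
      ∀ Z ∈ irreducibleComponents (↥(pullback f g) : Type u), Dense ((pullback.snd f g).base '' Z)) :
    UniversallyOpen f := by
  apply universallyOpen_of_affOpen
  intro n _
  have : LocallyOfFinitePresentation (AffineSpace.map n f) :=
    MorphismProperty.of_isPullback (P := @LocallyOfFinitePresentation) (isPullback_map f).flip
      inferInstance
  apply isOpenMap_of_generalizingMap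
  apply generalizingMap_map
  intro t₁ t₀ hsp _
  let Zc : TopologicalSpace.Closeds 𝔸(n; Y) := ⟨closure {t₁}, isClosed_closure⟩
  let I := Scheme.IdealSheafData.vanishingIdeal Zc
  obtain ⟨ι, hι⟩ : ∃ ι : I.subscheme ⟶ 𝔸(n; Y), ι = I.subschemeι := ⟨_, rfl⟩
  have : IsClosedImmersion ι := hι ▸ inferInstance
  have hrange : Set.range ι = closure {t₁} := by
    rw [hι]
    exact I.range_subschemeι.trans (Scheme.IdealSheafData.coe_support_vanishingIdeal Zc)
  obtain ⟨y₁, hy₁⟩ : t₁ ∈ Set.range ι := hrange ▸ subset_closure rfl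
  obtain ⟨y₀, hy₀⟩ : t₀ ∈ Set.range ι := hrange ▸ hsp.mem_closure
  have hgen : ∀ y, y₁ ⤳ y := by
    intro y
    rw [← ι.isEmbedding.specializes_iff, specializes_iff_mem_closure, hy₁, ← hrange]
    exact Set.mem_range_self y
  have : IrreducibleSpace I.subscheme := by
    rw [irreducibleSpace_def]
    have : closure {y₁} = Set.univ := by
      ext y
      simpa using (specializes_iff_mem_closure.mp (hgen y))
    show IsIrreducible (Set.univ : Set I.subscheme)
    rw [← this]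
    exact isIrreducible_singleton.closure
  refine ⟨I.subscheme, ι, y₁, y₀, hgen, hy₁, hy₀, ?_⟩
  exact h _ (ι ≫ 𝔸(n; Y) ↘ Y)


end Groth.Agent.Lib.lead.UnivOpenComp
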