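import Mathlib
import Groth.Agent.Lib.lead.FinBCOpenB
import Groth.Agent.Lib.lead.GenNowhereDense
import Groth.Agent.Lib.lead.GenFiniteGen
import Groth.Agent.Lib.lead.UnivOpenGUQuasiSec
import Groth.Agent.Lib.lead.UnivOpenComp

/-!
# Finite base change criterion for universal openness (EGA IV 14.4)
-/

set_option autoImplicit false
set_option linter.style.haveILetI false

universe u

open CategoryTheory CategoryTheory.Limits AlgebraicGeometry TopologicalSpace

namespace Groth.Agent.Lib.lead.FinBCOpen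

/-- If `w` is closed in its fibre over `Y`, then `F w` is closed in its fibre over `Y`. -/
theorem closed_in_fibre_image {P Y' Y : Scheme.{u}} (F : P ⟶ Y') (g : Y' ⟶ Y)
    [LocallyOfFiniteType F] [LocallyOfFiniteType g] (w : P)
    (hw : ∀ x' : P, (F ≫ g) x' = (F ≫ g) w → w ⤳ x' → x' = w) :
    ∀ s : Y', g s = (F ≫ g) w → F w ⤳ s → s = F w := by
  obtain ⟨h, hh⟩ : ∃ h : P ⟶ Y, h = F ≫ g := ⟨_, rfl⟩
  haveI : LocallyOfFiniteType h := hh ▸ inferInstance
  rw [← hh] at hw ⊢
  obtain ⟨y, hy⟩ : ∃ y : Y, y = h w := ⟨_, rfl⟩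
  rw [← hy] at hw ⊢
  let φ : h.fiber y ⟶ g.fiber y :=
    pullback.lift (h.fiberι y ≫ F) (h.fiberToSpecResidueField y)
      (by rw [Category.assoc, ← hh, h.fiber_fac y])
  have hφ1 : φ ≫ g.fiberι y = h.fiberι y ≫ F := pullback.lift_fst _ _ _
  have hφ2 : φ ≫ g.fiberToSpecResidueField y = h.fiberToSpecResidueField y :=
    pullback.lift_snd _ _ _
  haveI : LocallyOfFiniteType (h.fiberToSpecResidueField y) :=
    MorphismProperty.pullback_snd _ _ inferInstance
  haveI : LocallyOfFiniteType (φ ≫ g.fiberToSpecResidueField y) := by rw [hφ2]; infer_instance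
  haveI : LocallyOfFiniteType φ := locallyOfFiniteType_of_comp φ (g.fiberToSpecResidueField y)
  have hwr : w ∈ Set.range (h.fiberι y) := by rw [h.range_fiberι]; exact hy.symm
  obtain ⟨w₀, hw₀⟩ := hwr
  have hembh := (h.fiberι y).isEmbedding
  have hembg := (g.fiberι y).isEmbedding
  have hw₀cl : w₀ ∈ closedPoints (h.fiber y) := by
    rw [mem_closedPoints_iff, ← closure_eq_iff_isClosed]
    apply Set.Subset.antisymm _ subset_closure
    intro u hu
    have h3 : w₀ ⤳ u := specializes_iff_mem_closure.mpr hu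
    have h4 : w ⤳ h.fiberι y u := by
      have := hembh.isInducing.specializes_iff.mpr h3
      rwa [hw₀] at this
    have h5 : h (h.fiberι y u) = y := by
      have : h.fiberι y u ∈ Set.range (h.fiberι y) := ⟨u, rfl⟩
      rw [h.range_fiberι] at this
      exact this
    have h6 := hw _ h5 h4
    exact hembh.injective (h6.trans hw₀.symm)
  have ht₀cl : φ w₀ ∈ closedPoints (g.fiber y) := φ.closePoints_subset_preimage_closedPoints hw₀cl
  have ht₀ : g.fiberι y (φ w₀) = F w := by
    rw [← Scheme.Hom.comp_apply, hφ1, Scheme.Hom.comp_apply, hw₀]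
  intro s hs hsp
  have hsr : s ∈ Set.range (g.fiberι y) := by rw [g.range_fiberι]; exact hs
  obtain ⟨s₀, rfl⟩ := hsr
  rw [← ht₀] at hsp ⊢
  have h7 : φ w₀ ⤳ s₀ := hembg.isInducing.specializes_iff.mp hsp
  have h8 : s₀ ∈ closure {φ w₀} := h7.mem_closure
  rw [(mem_closedPoints_iff.mp ht₀cl).closure_eq] at h8
  rw [Set.mem_singleton_iff.mp h8]

/-- Local finite factorization: around a point `t` closed in its fibre, the closure of an
immediate generalization `τ` of `t` not lying in the fibre of `t` is, near `t`, open in a finite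
`Y`-scheme. -/
theorem exists_local_finite_factorization {Y' Y : Scheme.{u}} [IsNoetherian Y] (g : Y' ⟶ Y)
    [LocallyOfFiniteType g] [QuasiCompact g]
    (t τ : Y') (hτt : τ ⤳ t) (hgτ : g τ ≠ g t)
    (hcl : ∀ s : Y', g s = g t → t ⤳ s → s = t)
    (himm : ∀ σ : Y', τ ⤳ σ → σ ⤳ t → σ = τ ∨ σ = t) :
    ∃ (V Y₁ : Scheme.{u}) (k : V ⟶ Y') (j : V ⟶ Y₁) (π : Y₁ ⟶ Y) (v₁ v₀ : V),
      Topology.IsInducing k ∧ IsOpenImmersion j ∧ IsFinite π ∧ k ≫ g = j ≫ π ∧
        k v₁ = τ ∧ k v₀ = t := by
  let Zc : TopologicalSpace.Closeds Y' := ⟨closure {τ}, isClosed_closure⟩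
  let I := Scheme.IdealSheafData.vanishingIdeal Zc
  obtain ⟨ι, hι⟩ : ∃ ι : I.subscheme ⟶ Y', ι = I.subschemeι := ⟨_, rfl⟩
  haveI : IsClosedImmersion ι := hι ▸ inferInstance
  have hrange : Set.range ι = closure {τ} := by
    rw [hι]
    exact I.range_subschemeι.trans (Scheme.IdealSheafData.coe_support_vanishingIdeal Zc)
  obtain ⟨τ₁, hτ₁⟩ : τ ∈ Set.range ι := hrange ▸ subset_closure rfl
  obtain ⟨t₁, ht₁⟩ : t ∈ Set.range ι := hrange ▸ hτt.mem_closure
  have hιemb := ι.isEmbedding
  obtain ⟨gT, hgT⟩ : ∃ gT : I.subscheme ⟶ Y, gT = ι ≫ g := ⟨_, rfl⟩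
  haveI : LocallyOfFiniteType gT := hgT ▸ inferInstance
  have hgTapp : ∀ x : I.subscheme, gT x = g (ι x) := by
    intro x
    rw [hgT, Scheme.Hom.comp_apply]
  have hqf : gT.QuasiFiniteAt t₁ := by
    apply quasiFiniteAt_of_isolated
    · intro x' hx' hsp
      have h1 : t ⤳ ι x' := by
        have := hsp.map ι.continuous
        rwa [ht₁] at this
      have h2 : g (ι x') = g t := by
        rw [← hgTapp, hx', hgTapp, ht₁]
      exact hιemb.injective ((hcl _ h2 h1).trans ht₁.symm)
    · intro x' hx' hsp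
      have h1 : ι x' ⤳ t := by
        have := hsp.map ι.continuous
        rwa [ht₁] at this
      have h2 : g (ι x') = g t := by
        rw [← hgTapp, hx', hgTapp, ht₁]
      have h0 : τ ⤳ ι x' := by
        rw [specializes_iff_mem_closure, ← hrange]
        exact ⟨x', rfl⟩
      rcases himm _ h0 h1 with h | h
      · exfalso
        apply hgτ
        rw [← h, h2]
      · exact hιemb.injective (h.trans ht₁.symm)
  obtain ⟨V, hV, ht₁V, hVU⟩ := exists_isAffineOpen_mem_and_subset (x := t₁)
    (U := gT.quasiFiniteLocus) hqf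
  haveI : IsAffine (V : Scheme.{u}) := hV
  have hτ₁V : τ₁ ∈ V := by
    have : τ₁ ⤳ t₁ := hιemb.isInducing.specializes_iff.mp (by rw [hτ₁, ht₁]; exact hτt)
    exact this.mem_open V.isOpen ht₁V
  obtain ⟨gV, hgV⟩ : ∃ gV : (V : Scheme.{u}) ⟶ Y, gV = V.ι ≫ gT := ⟨_, rfl⟩
  haveI : LocallyOfFiniteType gV := hgV ▸ inferInstance
  have hlqf : LocallyQuasiFinite (V.ι ≫ gT) := by
    rw [← Scheme.Hom.quasiFiniteLocus_eq_top_iff, Scheme.Hom.quasiFiniteLocus_comp]
    apply top_le_iff.mp
    intro x _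
    exact hVU x.2
  haveI : LocallyQuasiFinite gV := hgV ▸ hlqf
  haveI : QuasiCompact gV := inferInstance
  haveI : IsSeparated gV := inferInstance
  obtain ⟨Y₁, j, π, hj, -, -, hπ, hfac⟩ :=
    Groth.Agent.Lib.Helper13.ZMTFin.exists_finite_factorization gV
  refine ⟨V, Y₁, V.ι ≫ ι, j, π, ⟨τ₁, hτ₁V⟩, ⟨t₁, ht₁V⟩, ?_, hj, hπ, ?_, ?_, ?_⟩
  · have := hιemb.isInducing.comp V.ι.isEmbedding.isInducing
    have e : ⇑(V.ι ≫ ι) = ⇑ι ∘ ⇑V.ι := by
      ext x
      rw [Scheme.Hom.comp_apply]
      rfl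
    rw [e]
    exact this
  · rw [hfac, hgV, hgT, Category.assoc]
  · rw [Scheme.Hom.comp_apply]
    exact hτ₁
  · rw [Scheme.Hom.comp_apply]
    exact ht₁

/-- The key step: under the finite base change hypothesis, every irreducible component of a
finite type base change to an irreducible scheme dominates. -/
theorem dense_image_of_finite_baseChange {X Y Y' : Scheme.{u}} [IsNoetherian Y] (f : X ⟶ Y)
    [LocallyOfFiniteType f]
    (H : ∀ (Y₁ : Scheme.{u}) (π : Y₁ ⟶ Y) [IsFinite π], IsOpenMap (pullback.snd f π))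
    (g : Y' ⟶ Y) [IrreducibleSpace Y'] [LocallyOfFiniteType g] [QuasiCompact g]
    (Z : Set ↥(pullback f g)) (hZ : Z ∈ irreducibleComponents ↥(pullback f g)) :
    Dense ((pullback.snd f g) '' Z) := by
  haveI : IsLocallyNoetherian Y' := LocallyOfFiniteType.isLocallyNoetherian g
  haveI : IsLocallyNoetherian (pullback f g) := inferInstance
  by_contra hnd
  obtain ⟨C, hCdef⟩ : ∃ C : Set Y', C = closure ((pullback.snd f g) '' Z) := ⟨_, rfl⟩
  have hCcl : IsClosed C := hCdef ▸ isClosed_closure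
  have hZC : ∀ z ∈ Z, (pullback.snd f g) z ∈ C := by
    intro z hz
    rw [hCdef]
    exact subset_closure ⟨z, hz, rfl⟩
  have hC : C ≠ Set.univ := fun h => hnd (dense_iff_closure_eq.mpr (hCdef ▸ h))
  have hη : ∀ s : Y', genericPoint Y' ⤳ s := genericPoint_specializes
  have hηC : genericPoint Y' ∉ C := by
    intro h
    apply hC
    ext s
    simp only [Set.mem_univ, iff_true]
    exact (hη s).mem_closed hCcl h
  obtain ⟨ζ, hζ⟩ := QuasiSober.sober hZ.1 (isClosed_of_mem_irreducibleComponents Z hZ)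
  have hcomp : closure {ζ} ∈ irreducibleComponents ↥(pullback f g) := by
    rw [hζ.def]
    exact hZ
  have hζmax : IsMax ζ := by
    intro b hb
    have := GenFiniteGen.maximal_of_mem_irreducibleComponents hcomp b
      ((Scheme.le_iff_specializes).mp hb)
    rw [this]
  obtain ⟨W, hWo, hWne, hWsub⟩ :=
    GenNowhereDense.exists_open_subset_closure_of_isMax _ ζ hζmax
  have hWZ : W ⊆ Z := by
    rw [← hζ.def]
    exact hWsub
  obtain ⟨w, hw⟩ := hWne
  obtain ⟨y, hy⟩ : ∃ y : Y, y = g ((pullback.snd f g) w) := ⟨_, rfl⟩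
  by_cases hgy : g (genericPoint Y') = y
  · -- the generic point lies in the same fibre
    have hopen : IsOpenMap (pullback.snd f
        (g.fiberToSpecResidueField y ≫ Y.fromSpecResidueField y)) :=
      isOpenMap_snd_comp_of_universallyOpen f (Y.fromSpecResidueField y)
        (g.fiberToSpecResidueField y)
    have hr0 : (pullback.snd f g) w ∈ Set.range (g.fiberι y) := by
      rw [g.range_fiberι]
      exact hy.symm
    have hr1 : genericPoint Y' ∈ Set.range (g.fiberι y) := by
      rw [g.range_fiberι]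
      exact hgy
    obtain ⟨v₀, hv₀⟩ := hr0
    obtain ⟨v₁, hv₁⟩ := hr1
    have := mem_image_of_specializes f g (g.fiberι y) _ (g.fiber_fac y)
      (g.fiberι y).isEmbedding.isInducing hopen W hWo v₁ v₀ (by rw [hv₁, hv₀]; exact hη _)
      (by rw [hv₀]; exact ⟨w, hw, rfl⟩)
    rw [hv₁] at this
    obtain ⟨z, hzW, hz⟩ := this
    exact hηC (hz ▸ hZC z (hWZ hzW))
  · -- the generic point lies in a different fibre
    obtain ⟨w', ⟨-, hw'W⟩, hw'y, hw'cl⟩ :=
      UnivOpenGUQuasiSec.exists_closed_in_fibre_open (pullback.snd f g ≫ g) y Set.univ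
        isClosed_univ W hWo ⟨w, ⟨⟨trivial, hw⟩, by
          show (pullback.snd f g ≫ g) w = y
          rw [Scheme.Hom.comp_apply, hy]⟩⟩
    have hcl' : ∀ s : Y', g s = g ((pullback.snd f g) w') → (pullback.snd f g) w' ⤳ s →
        s = (pullback.snd f g) w' := by
      have := closed_in_fibre_image (pullback.snd f g) g w' (by
        intro x' hx' hsp
        exact hw'cl x' (hx'.trans hw'y) hsp)
      intro s hs hsp
      exact this s (by rw [hs, Scheme.Hom.comp_apply]) hsp
    have hgt' : g ((pullback.snd f g) w') = y := by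
      rw [← Scheme.Hom.comp_apply]
      exact hw'y
    obtain ⟨D, hDdef⟩ : ∃ D : Set Y', D = C ∪ g ⁻¹' closure {y} := ⟨_, rfl⟩
    have hD : IsClosed D := by
      rw [hDdef]
      exact hCcl.union (isClosed_closure.preimage g.continuous)
    have ht'D : (pullback.snd f g) w' ∈ D := by
      rw [hDdef]
      exact Or.inl (hZC _ (hWZ hw'W))
    have hηD : genericPoint Y' ∉ D := by
      rw [hDdef]
      rintro (h | h)
      · exact hηC h
      · have h1 : y ⤳ g (genericPoint Y') := specializes_iff_mem_closure.mpr h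
        have h2 : g (genericPoint Y') ⤳ y := by
          rw [← hgt']
          exact (hη _).map g.continuous
        exact hgy (h2.antisymm h1).eq
    obtain ⟨τ, hτt, hτD, himm⟩ := exists_generalization_covBy _ D hD ht'D _ (hη _) hηD
    have hτC : τ ∉ C := fun h => hτD (by rw [hDdef]; exact Or.inl h)
    have hgτ : g τ ≠ g ((pullback.snd f g) w') := by
      rw [hgt']
      intro h
      apply hτD
      rw [hDdef]
      right
      show g τ ∈ closure {y}
      rw [h]
      exact subset_closure rfl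
    obtain ⟨V, Y₁, k, j, π, v₁, v₀, hkind, hj, hπ, hfac, hv₁, hv₀⟩ :=
      exists_local_finite_factorization g _ τ hτt hgτ hcl' himm
    haveI := hj
    haveI := hπ
    have hopen : IsOpenMap (pullback.snd f (j ≫ π)) :=
      isOpenMap_snd_comp_of_isOpenImmersion f π j (H Y₁ π)
    have := mem_image_of_specializes f g k (j ≫ π) hfac hkind hopen W hWo v₁ v₀
      (by rw [hv₁, hv₀]; exact hτt) (by rw [hv₀]; exact ⟨w', hw'W, rfl⟩)
    rw [hv₁] at this
    obtain ⟨z, hzW, hz⟩ := this
    exact hτC (hz ▸ hZC z (hWZ hzW))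

/-- **EGA IV 14.4**: over a Noetherian base, universal openness of a morphism locally of finite
type can be tested on finite base changes. -/
theorem S2557 {X Y : Scheme.{u}} [IsNoetherian Y] (f : X ⟶ Y) [LocallyOfFiniteType f] :
    UniversallyOpen f ↔
      ∀ (Y₁ : Scheme.{u}) (g : Y₁ ⟶ Y) [IsFinite g], IsOpenMap (pullback.snd f g).base := by
  constructor
  · intro hf Y₁ g _
    exact (pullback.snd f g).isOpenMap
  · intro H
    apply UnivOpenComp.S2558 f
    intro Y' g _ _ _ Z hZ
    exact dense_image_of_finite_baseChange f (fun Y₁ π _ => H Y₁ π) g Z hZ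

end Groth.Agent.Lib.lead.FinBCOpen
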