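import Mathlib
import Groth.Prelude.Def_EGA43
import Groth.Agent.Lib.lead.FinBCOpenC
import Groth.Agent.Lib.lead.OpenAtSch

/-!
# Pointwise finite base change criterion for universal openness (EGA IV 14.4.1)
-/

set_option autoImplicit false
set_option linter.style.haveILetI false

universe u

open CategoryTheory CategoryTheory.Limits AlgebraicGeometry TopologicalSpace EGA43

namespace Groth.Agent.Lib.lead.FinBCOpen

/-- In a locally Noetherian scheme, every point `q` has an open neighbourhood covered by the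
closures of finitely many generalizations of `q`. -/
theorem exists_open_finite_cover (P : Scheme.{u}) [IsLocallyNoetherian P] (q : P) :
    ∃ (W : Set P) (M : Set P), IsOpen W ∧ q ∈ W ∧ M.Finite ∧ (∀ ζ ∈ M, ζ ⤳ q) ∧
      ∀ p ∈ W, ∃ ζ ∈ M, ζ ⤳ p := by
  obtain ⟨A, hA, hqA, -⟩ := exists_isAffineOpen_mem_and_subset (X := P) (x := q) (U := ⊤) (by simp)
  haveI : IsNoetherianRing Γ(P, A) := IsLocallyNoetherian.component_noetherian ⟨A, hA⟩
  haveI : NoetherianSpace A.toScheme := noetherianSpace_of_isAffineOpen A hA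
  have hfin : (irreducibleComponents A.toScheme).Finite :=
    NoetherianSpace.finite_irreducibleComponents
  have hgen : ∀ Z ∈ irreducibleComponents A.toScheme, ∃ ζ : A.toScheme, IsGenericPoint ζ Z :=
    fun Z hZ => QuasiSober.sober hZ.1 (isClosed_of_mem_irreducibleComponents Z hZ)
  obtain ⟨q₀, hq₀⟩ : q ∈ Set.range A.ι := by rw [Scheme.Opens.range_ι]; exact hqA
  haveI : Nonempty ↥A.toScheme := ⟨q₀⟩
  choose! γ hγ using hgen
  let S₁ : Set (Set A.toScheme) := {Z | Z ∈ irreducibleComponents A.toScheme ∧ q₀ ∈ Z}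
  let S₂ : Set (Set A.toScheme) := {Z | Z ∈ irreducibleComponents A.toScheme ∧ q₀ ∉ Z}
  have hS₂ : IsClosed (⋃ Z ∈ S₂, Z) :=
    (hfin.subset (fun Z hZ => hZ.1)).isClosed_biUnion
      (fun Z hZ => isClosed_of_mem_irreducibleComponents Z hZ.1)
  refine ⟨A.ι '' (⋃ Z ∈ S₂, Z)ᶜ, (fun Z => A.ι (γ Z)) '' S₁,
    A.ι.isOpenEmbedding.isOpenMap _ hS₂.isOpen_compl, ⟨q₀, ?_, hq₀⟩,
    (hfin.subset (fun Z hZ => hZ.1)).image _, ?_, ?_⟩
  · simp only [Set.mem_compl_iff, Set.mem_iUnion, not_exists]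
    intro Z hZ hq
    exact hZ.2 hq
  · rintro _ ⟨Z, ⟨hZ, hqZ⟩, rfl⟩
    have : γ Z ⤳ q₀ := (hγ Z hZ).specializes hqZ
    rw [← hq₀]
    exact this.map A.ι.continuous
  · rintro _ ⟨p, hp, rfl⟩
    have hZ := irreducibleComponent_mem_irreducibleComponents p
    have hpZ : p ∈ irreducibleComponent p := mem_irreducibleComponent
    have hqZ : q₀ ∈ irreducibleComponent p := by
      by_contra h
      exact hp (Set.mem_biUnion (show irreducibleComponent p ∈ S₂ from ⟨hZ, h⟩) hpZ)
    exact ⟨_, ⟨irreducibleComponent p, ⟨hZ, hqZ⟩, rfl⟩,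
      ((hγ _ hZ).specializes hpZ).map A.ι.continuous⟩

/-- Inside an open neighbourhood of a point `q` of `X ×_Y Y'` there is a point lying over the same
point of `X` whose image in `Y'` is closed in its fibre over `Y`. -/
theorem exists_mem_over_closed_in_fibre {X Y Y' : Scheme.{u}} (f : X ⟶ Y) (g : Y' ⟶ Y)
    [LocallyOfFiniteType g] (W : Set ↥(pullback f g)) (hW : IsOpen W) (q : ↥(pullback f g))
    (hq : q ∈ W) :
    ∃ q' ∈ W, (pullback.fst f g) q' = (pullback.fst f g) q ∧
      ∀ s : Y', g s = g ((pullback.snd f g) q') → (pullback.snd f g) q' ⤳ s →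
        s = (pullback.snd f g) q' := by
  obtain ⟨x, hx⟩ : ∃ x : X, x = (pullback.fst f g) q := ⟨_, rfl⟩
  rw [← hx]
  have hsq : IsPullback (pullback.snd f g) (pullback.fst f g) g f :=
    (IsPullback.of_hasPullback f g).flip
  have hfib := isPullback_fiberToSpecResidueField_of_isPullback hsq x
  obtain ⟨ψ, hψ, hψι⟩ : ∃ ψ : (pullback.fst f g).fiber x ⟶ g.fiber (f x),
      IsPullback ψ ((pullback.fst f g).fiberToSpecResidueField x)
        (g.fiberToSpecResidueField (f x)) (Spec.map (f.residueFieldMap x)) ∧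
      ψ ≫ g.fiberι (f x) = (pullback.fst f g).fiberι x ≫ pullback.snd f g :=
    ⟨_, hfib, by
      simp only [Scheme.Hom.fiberι]
      exact pullback.lift_fst _ _ _⟩
  haveI : UniversallyOpen ψ :=
    MorphismProperty.of_isPullback (P := @UniversallyOpen) hψ.flip inferInstance
  have hqr : q ∈ Set.range ((pullback.fst f g).fiberι x) := by
    rw [(pullback.fst f g).range_fiberι]
    exact hx.symm
  obtain ⟨q₀, hq₀⟩ := hqr
  let W₁ : Set ((pullback.fst f g).fiber x) := ((pullback.fst f g).fiberι x) ⁻¹' W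
  have hW₁ : IsOpen W₁ := hW.preimage ((pullback.fst f g).fiberι x).continuous
  have hq₀W : q₀ ∈ W₁ := by show _ ∈ W; rw [hq₀]; exact hq
  have hopen : IsOpen (ψ '' W₁) := ψ.isOpenMap _ hW₁
  obtain ⟨s₀, ⟨p₀, hp₀, rfl⟩, hs₀cl⟩ :=
    nonempty_inter_closedPoints (Z := ψ '' W₁) ⟨_, q₀, hq₀W, rfl⟩ hopen.isLocallyClosed
  have hF : (pullback.snd f g) (((pullback.fst f g).fiberι x) p₀) = g.fiberι (f x) (ψ p₀) := by
    rw [← Scheme.Hom.comp_apply, ← Scheme.Hom.comp_apply, hψι]
  have hgF : g ((pullback.snd f g) (((pullback.fst f g).fiberι x) p₀)) = f x := by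
    rw [hF]
    have : g.fiberι (f x) (ψ p₀) ∈ Set.range (g.fiberι (f x)) := ⟨_, rfl⟩
    rw [g.range_fiberι] at this
    exact this
  refine ⟨((pullback.fst f g).fiberι x) p₀, hp₀, ?_, ?_⟩
  · have : ((pullback.fst f g).fiberι x) p₀ ∈ Set.range ((pullback.fst f g).fiberι x) := ⟨_, rfl⟩
    rw [(pullback.fst f g).range_fiberι] at this
    exact this
  · intro s hs hsp
    rw [hgF] at hs
    have hsr : s ∈ Set.range (g.fiberι (f x)) := by rw [g.range_fiberι]; exact hs
    obtain ⟨s₁, rfl⟩ := hsr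
    rw [hF] at hsp ⊢
    have h7 : ψ p₀ ⤳ s₁ := (g.fiberι (f x)).isEmbedding.isInducing.specializes_iff.mp hsp
    have h8 : s₁ ∈ closure {ψ p₀} := h7.mem_closure
    rw [(mem_closedPoints_iff.mp hs₀cl).closure_eq] at h8
    rw [Set.mem_singleton_iff.mp h8]

section Square

variable {X Y Y₁ V : Scheme.{u}} (f : X ⟶ Y) (π : Y₁ ⟶ Y) (j : V ⟶ Y₁)

theorem liftComp_fst : liftComp f π j ≫ pullback.fst f π = pullback.fst f (j ≫ π) := by
  rw [liftComp, pullback.lift_fst]

/-- Pointwise openness is preserved by base change along an open immersion. -/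
theorem isOpenAt_snd_comp_of_isOpenImmersion [IsOpenImmersion j] (x : X)
    (h : ∀ p : ↥(pullback f π), (pullback.fst f π) p = x → IsOpenAt (pullback.snd f π) p)
    (p' : ↥(pullback f (j ≫ π))) (hp' : (pullback.fst f (j ≫ π)) p' = x) :
    IsOpenAt (pullback.snd f (j ≫ π)) p' := by
  have hsq := isPullback_liftComp f π j
  haveI : IsOpenImmersion (liftComp f π j) :=
    MorphismProperty.of_isPullback (P := @IsOpenImmersion) hsq.flip inferInstance
  have hw : ∀ u : ↥(pullback f (j ≫ π)),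
      (pullback.snd f π) ((liftComp f π j) u) = j ((pullback.snd f (j ≫ π)) u) := by
    intro u
    rw [← Scheme.Hom.comp_apply, ← Scheme.Hom.comp_apply, hsq.w]
  intro U hU
  have hU' : (liftComp f π j) '' U ∈ nhds ((liftComp f π j) p') :=
    (liftComp f π j).isOpenEmbedding.image_mem_nhds.mpr hU
  have hp : (pullback.fst f π) ((liftComp f π j) p') = x := by
    rw [← Scheme.Hom.comp_apply, liftComp_fst, hp']
  have h1 := h _ hp _ hU'
  rw [hw p'] at h1
  have heq : (pullback.snd f (j ≫ π)) '' U =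
      j ⁻¹' ((pullback.snd f π) '' ((liftComp f π j) '' U)) := by
    ext v
    constructor
    · rintro ⟨u, hu, rfl⟩
      exact ⟨_, ⟨u, hu, rfl⟩, hw u⟩
    · rintro ⟨_, ⟨u, hu, rfl⟩, h2⟩
      refine ⟨u, hu, ?_⟩
      rw [hw u] at h2
      exact j.isOpenEmbedding.injective h2
  rw [heq]
  exact j.continuous.continuousAt.preimage_mem_nhds h1

end Square

/-- Pointwise variant of `mem_image_of_specializes`. -/
theorem mem_image_of_specializes_at {X Y Y' V : Scheme.{u}} (f : X ⟶ Y) (g : Y' ⟶ Y) (k : V ⟶ Y')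
    (gk : V ⟶ Y) (hk : k ≫ g = gk) (hemb : Topology.IsInducing k)
    (W : Set ↥(pullback f g)) (hW : IsOpen W) (w : ↥(pullback f g)) (hw : w ∈ W)
    (hopen : ∀ p' : ↥(pullback f gk), (pullback.fst f gk) p' = (pullback.fst f g) w →
      IsOpenAt (pullback.snd f gk) p')
    (v₁ v₀ : V) (hv : k v₁ ⤳ k v₀) (h0 : (pullback.snd f g) w = k v₀) :
    k v₁ ∈ (pullback.snd f g) '' W := by
  subst hk
  have hsq := isPullback_liftComp f g k
  obtain ⟨p', hp'₁, hp'₂⟩ := Scheme.exists_preimage_of_isPullback hsq w v₀ h0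
  let W' : Set ↥(pullback f (k ≫ g)) := (liftComp f g k) ⁻¹' W
  have hW' : IsOpen W' := hW.preimage (liftComp f g k).continuous
  have hp'W : p' ∈ W' := by show _ ∈ W; rw [hp'₁]; exact hw
  have hfst : (pullback.fst f (k ≫ g)) p' = (pullback.fst f g) w := by
    rw [← hp'₁, ← Scheme.Hom.comp_apply, liftComp_fst]
  have h1 := hopen p' hfst W' (hW'.mem_nhds hp'W)
  rw [hp'₂] at h1
  have h3 : v₁ ⤳ v₀ := hemb.specializes_iff.mp hv
  obtain ⟨O, hOsub, hO, hv₀O⟩ := mem_nhds_iff.mp h1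
  obtain ⟨p₁, hp₁, hp₁'⟩ := hOsub (h3.mem_open hO hv₀O)
  refine ⟨(liftComp f g k) p₁, hp₁, ?_⟩
  rw [← Scheme.Hom.comp_apply, hsq.w, Scheme.Hom.comp_apply, hp₁']

/-- The key pointwise step. -/
theorem exists_generalization_over_generic {X Y Y' : Scheme.{u}} [IsNoetherian Y] (f : X ⟶ Y)
    [LocallyOfFiniteType f] (x : X)
    (H : ∀ (Y₁ : Scheme.{u}) (π : Y₁ ⟶ Y) [IsFinite π] (p : ↥(pullback f π)),
      (pullback.fst f π) p = x → IsOpenAt (pullback.snd f π) p)
    (g : Y' ⟶ Y) [IrreducibleSpace Y'] [LocallyOfFiniteType g] [QuasiCompact g]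
    (q : ↥(pullback f g)) (hq : (pullback.fst f g) q = x) :
    ∃ q₁ : ↥(pullback f g), q₁ ⤳ q ∧ (pullback.snd f g) q₁ = genericPoint Y' := by
  haveI : IsLocallyNoetherian Y' := LocallyOfFiniteType.isLocallyNoetherian g
  haveI : IsLocallyNoetherian (pullback f g) := inferInstance
  by_contra hno
  push Not at hno
  have hη : ∀ s : Y', genericPoint Y' ⤳ s := genericPoint_specializes
  obtain ⟨W, M, hWo, hqW, hMfin, hMq, hWM⟩ := exists_open_finite_cover (pullback f g) q
  obtain ⟨C, hCdef⟩ : ∃ C : Set Y', C = ⋃ ζ ∈ M, closure {(pullback.snd f g) ζ} := ⟨_, rfl⟩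
  have hCcl : IsClosed C := by
    rw [hCdef]
    exact hMfin.isClosed_biUnion fun _ _ => isClosed_closure
  have hηC : genericPoint Y' ∉ C := by
    rw [hCdef]
    simp only [Set.mem_iUnion, not_exists]
    intro ζ hζ h
    have h1 : (pullback.snd f g) ζ ⤳ genericPoint Y' := specializes_iff_mem_closure.mpr h
    exact hno ζ (hMq ζ hζ) (h1.antisymm (hη _)).eq
  have hWC : ∀ z ∈ W, (pullback.snd f g) z ∈ C := by
    intro z hz
    obtain ⟨ζ, hζ, hζz⟩ := hWM z hz
    rw [hCdef]
    simp only [Set.mem_iUnion]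
    exact ⟨ζ, hζ, (hζz.map (pullback.snd f g).continuous).mem_closure⟩
  obtain ⟨q', hq'W, hq'x, hcl'⟩ := exists_mem_over_closed_in_fibre f g W hWo q hqW
  rw [hq] at hq'x
  obtain ⟨y, hy⟩ : ∃ y : Y, y = g ((pullback.snd f g) q') := ⟨_, rfl⟩
  by_cases hgy : g (genericPoint Y') = y
  · have hopen : IsOpenMap (pullback.snd f
        (g.fiberToSpecResidueField y ≫ Y.fromSpecResidueField y)) :=
      isOpenMap_snd_comp_of_universallyOpen f (Y.fromSpecResidueField y)
        (g.fiberToSpecResidueField y)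
    have hr0 : (pullback.snd f g) q' ∈ Set.range (g.fiberι y) := by
      rw [g.range_fiberι]
      exact hy.symm
    have hr1 : genericPoint Y' ∈ Set.range (g.fiberι y) := by
      rw [g.range_fiberι]
      exact hgy
    obtain ⟨v₀, hv₀⟩ := hr0
    obtain ⟨v₁, hv₁⟩ := hr1
    have := mem_image_of_specializes f g (g.fiberι y) _ (g.fiber_fac y)
      (g.fiberι y).isEmbedding.isInducing hopen W hWo v₁ v₀ (by rw [hv₁, hv₀]; exact hη _)
      (by rw [hv₀]; exact ⟨q', hq'W, rfl⟩)
    rw [hv₁] at this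
    obtain ⟨z, hzW, hz⟩ := this
    exact hηC (hz ▸ hWC z hzW)
  · obtain ⟨D, hDdef⟩ : ∃ D : Set Y', D = C ∪ g ⁻¹' closure {y} := ⟨_, rfl⟩
    have hD : IsClosed D := by
      rw [hDdef]
      exact hCcl.union (isClosed_closure.preimage g.continuous)
    have ht'D : (pullback.snd f g) q' ∈ D := by
      rw [hDdef]
      exact Or.inl (hWC _ hq'W)
    have hηD : genericPoint Y' ∉ D := by
      rw [hDdef]
      rintro (h | h)
      · exact hηC h
      · have h1 : y ⤳ g (genericPoint Y') := specializes_iff_mem_closure.mpr h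
        have h2 : g (genericPoint Y') ⤳ y := by
          rw [hy]
          exact (hη _).map g.continuous
        exact hgy (h2.antisymm h1).eq
    obtain ⟨τ, hτt, hτD, himm⟩ := exists_generalization_covBy _ D hD ht'D _ (hη _) hηD
    have hτC : τ ∉ C := fun h => hτD (by rw [hDdef]; exact Or.inl h)
    have hgτ : g τ ≠ g ((pullback.snd f g) q') := by
      rw [← hy]
      intro h
      apply hτD
      rw [hDdef]
      right
      show g τ ∈ closure {y}
      rw [h]
      exact subset_closure rfl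
    obtain ⟨V, Y₁, k, j, π, v₁, v₀, hkind, hj, hπ, hfac, hv₁, hv₀⟩ :=
      exists_local_finite_factorization g _ τ hτt hgτ hcl' himm
    haveI := hj
    haveI := hπ
    have hopen : ∀ p' : ↥(pullback f (j ≫ π)), (pullback.fst f (j ≫ π)) p' = x →
        IsOpenAt (pullback.snd f (j ≫ π)) p' :=
      isOpenAt_snd_comp_of_isOpenImmersion f π j x (H Y₁ π)
    have := mem_image_of_specializes_at f g k (j ≫ π) hfac hkind W hWo q' hq'W
      (by rw [hq'x]; exact hopen) v₁ v₀ (by rw [hv₁, hv₀]; exact hτt) hv₀.symm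
    rw [hv₁] at this
    obtain ⟨z, hzW, hz⟩ := this
    exact hτC (hz ▸ hWC z hzW)

end Groth.Agent.Lib.lead.FinBCOpen
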