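import Mathlib
import Groth.Prelude.Def_EGA43
import Groth.Agent.Lib.lead.FinBCOpenD

/-!
# Pointwise finite base change criterion for universal openness (EGA IV 14.4.1): assembly
-/

set_option autoImplicit false
set_option linter.style.haveILetI false

universe u

open CategoryTheory CategoryTheory.Limits AlgebraicGeometry TopologicalSpace EGA43

namespace Groth.Agent.Lib.lead.FinBCOpen

open AlgebraicGeometry.AffineSpace in
theorem S4940 {X Y : Scheme.{u}} [IsNoetherian Y] (f : X ⟶ Y) [LocallyOfFiniteType f] (x : X) :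
    EGA43.IsUnivOpenAt f x ↔
      ∀ (Y' : Scheme.{u}) (g : Y' ⟶ Y) [IsFinite g], ∀ x' : ↥(pullback f g),
        (pullback.fst f g).base x' = x → EGA43.IsOpenAt (pullback.snd f g).base x' := by
  constructor
  · intro h Y' g _ x' hx'
    exact h Y' g x' hx'
  · intro H
    apply OpenAtSch.isUnivOpenAt_of_affOpenAt
    intro n _ q hq
    haveI : LocallyOfFinitePresentation (AffineSpace.map n f) :=
      MorphismProperty.of_isPullback (P := @LocallyOfFinitePresentation) (isPullback_map f).flip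
        inferInstance
    apply OpenAtSch.isOpenAt_of_generalizing
    intro t₁ hsp
    let Zc : TopologicalSpace.Closeds 𝔸(n; Y) := ⟨closure {t₁}, isClosed_closure⟩
    let I := Scheme.IdealSheafData.vanishingIdeal Zc
    obtain ⟨ι, hι⟩ : ∃ ι : I.subscheme ⟶ 𝔸(n; Y), ι = I.subschemeι := ⟨_, rfl⟩
    haveI : IsClosedImmersion ι := hι ▸ inferInstance
    have hrange : Set.range ι = closure {t₁} := by
      rw [hι]
      exact I.range_subschemeι.trans (Scheme.IdealSheafData.coe_support_vanishingIdeal Zc)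
    obtain ⟨y₁, hy₁⟩ : t₁ ∈ Set.range ι := hrange ▸ subset_closure rfl
    obtain ⟨y₀, hy₀⟩ : (AffineSpace.map n f) q ∈ Set.range ι := hrange ▸ hsp.mem_closure
    have hgen : ∀ y, y₁ ⤳ y := by
      intro y
      rw [← ι.isEmbedding.specializes_iff, specializes_iff_mem_closure, hy₁, ← hrange]
      exact Set.mem_range_self y
    haveI : IrreducibleSpace I.subscheme := by
      rw [irreducibleSpace_def]
      have : closure {y₁} = Set.univ := by
        ext y
        simpa using (specializes_iff_mem_closure.mp (hgen y))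
      show IsIrreducible (Set.univ : Set I.subscheme)
      rw [← this]
      exact isIrreducible_singleton.closure
    have hgp : genericPoint I.subscheme = y₁ :=
      ((genericPoint_specializes y₁).antisymm (hgen _)).eq
    obtain ⟨a, hsq, ha₂⟩ : ∃ a : pullback f (ι ≫ 𝔸(n; Y) ↘ Y) ⟶ 𝔸(n; X),
        IsPullback a (pullback.snd f (ι ≫ 𝔸(n; Y) ↘ Y)) (AffineSpace.map n f) ι ∧
        a ≫ 𝔸(n; X) ↘ X = pullback.fst f (ι ≫ 𝔸(n; Y) ↘ Y) :=
      ⟨_, UnivOpenComp.isPullback_left f n ι, IsPullback.lift_snd _ _ _ _⟩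
    obtain ⟨p, hp₁, hp₂⟩ := Scheme.exists_preimage_of_isPullback hsq q y₀ hy₀.symm
    have hpx : (pullback.fst f (ι ≫ 𝔸(n; Y) ↘ Y)) p = x := by
      rw [← ha₂, Scheme.Hom.comp_apply, hp₁]
      exact hq
    obtain ⟨q₁, hq₁, hq₁'⟩ := exists_generalization_over_generic f x
      (fun Y₁ π _ p hp => H Y₁ π p hp) (ι ≫ 𝔸(n; Y) ↘ Y) p hpx
    refine ⟨a q₁, ?_, ?_⟩
    · rw [← hp₁]
      exact hq₁.map a.continuous
    · rw [← Scheme.Hom.comp_apply, hsq.w, Scheme.Hom.comp_apply, hq₁', hgp, hy₁]

end Groth.Agent.Lib.lead.FinBCOpen
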