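import Mathlib
import Groth.Agent.Lib.lead.FlatGenDim
import Groth.Agent.Lib.lead.FibreRingDim
import Groth.Agent.Lib.Helper24.FibreDim.Core3448
import Groth.Agent.Lib.lead.ResTrdegBridge
import Groth.Agent.Lib.Helper18.Chev.FibreSplit
import Groth.Prelude.Def_Flat

set_option autoImplicit false
set_option linter.style.haveILetI false
set_option linter.unusedSectionVars false
universe u
open CategoryTheory CategoryTheory.Limits AlgebraicGeometry Topology TopologicalSpace

namespace Groth.Agent.Lib.lead.FlatLocalDimFormula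

open Groth.Agent.Lib.lead

section Mono

variable {R A : Type u} [CommRing R] [CommRing A] [Algebra R A] {ι : Type u}

/-- algebraic independence is linear independence of the monomials -/
theorem algebraicIndependent_iff_linearIndependent_monomials (x : ι → A) :
    AlgebraicIndependent R x ↔
      LinearIndependent R (fun m : ι →₀ ℕ => MvPolynomial.aeval x (MvPolynomial.monomial m (1 : R))) := by
  have hcomp : Finsupp.linearCombination R
      (fun m : ι →₀ ℕ => MvPolynomial.aeval x (MvPolynomial.monomial m (1 : R))) =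
      (MvPolynomial.aeval x).toLinearMap ∘ₗ
        (Finsupp.linearCombination R (MvPolynomial.basisMonomials ι R)) := by
    ext m
    simp [MvPolynomial.coe_basisMonomials]
  have hbij : Function.Bijective (Finsupp.linearCombination R (MvPolynomial.basisMonomials ι R)) := by
    rw [← Module.Basis.coe_repr_symm]
    exact (MvPolynomial.basisMonomials ι R).repr.symm.bijective
  unfold AlgebraicIndependent LinearIndependent
  rw [hcomp]
  constructor
  · intro h
    exact h.comp hbij.injective
  · intro h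
    have : Function.Injective ((MvPolynomial.aeval (R := R) x).toLinearMap) := by
      intro a b hab
      obtain ⟨a', rfl⟩ := hbij.surjective a
      obtain ⟨b', rfl⟩ := hbij.surjective b
      exact congrArg _ (h hab)
    exact this

end Mono

open TensorProduct in
/-- **lifting algebraic independence along a flat extension of a local ring** -/
theorem algebraicIndependent_of_flat {A B' : Type u} [CommRing A] [IsLocalRing A] [CommRing B']
    [Algebra A B'] [Module.Flat A B'] (p : Ideal A) (hp : p = IsLocalRing.maximalIdeal A)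
    (𝔪' : Ideal B') [𝔪'.LiesOver p]
    {ι : Type u} (t : ι → B')
    (ht : AlgebraicIndependent (A ⧸ p)
      (fun i => Ideal.Quotient.mk 𝔪' (t i))) :
    AlgebraicIndependent A t := by
  subst hp
  rw [algebraicIndependent_iff_linearIndependent_monomials] at ht ⊢
  apply Module.IsLocalRing.linearIndependent_of_flat
  show LinearIndependent (A ⧸ IsLocalRing.maximalIdeal A)
    (TensorProduct.mk A (A ⧸ IsLocalRing.maximalIdeal A) B' 1 ∘
      (fun m : ι →₀ ℕ => MvPolynomial.aeval t (MvPolynomial.monomial m (1 : A))))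
  let g : B' →ₗ[A] (B' ⧸ 𝔪') := (Ideal.Quotient.mkₐ A 𝔪').toLinearMap
  let φ : (A ⧸ IsLocalRing.maximalIdeal A) ⊗[A] B' →ₗ[A ⧸ IsLocalRing.maximalIdeal A] (B' ⧸ 𝔪') :=
    LinearMap.liftBaseChange (A ⧸ IsLocalRing.maximalIdeal A) g
  refine LinearIndependent.of_comp φ ?_
  have hfun : (φ ∘ (TensorProduct.mk A (A ⧸ IsLocalRing.maximalIdeal A) B' 1 ∘
      (fun m : ι →₀ ℕ => MvPolynomial.aeval t (MvPolynomial.monomial m (1 : A))))) =
      (fun m : ι →₀ ℕ => MvPolynomial.aeval (fun i => Ideal.Quotient.mk 𝔪' (t i))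
        (MvPolynomial.monomial m (1 : A ⧸ IsLocalRing.maximalIdeal A))) := by
    funext m
    have h1 := FlatGenDim.aeval_mk_map (IsLocalRing.maximalIdeal A) 𝔪' t
      (MvPolynomial.monomial m (1 : A))
    rw [MvPolynomial.map_monomial, map_one] at h1
    rw [h1]
    simp [φ, g]
  rw [hfun]
  exact ht

open Cardinal in
/-- the residue transcendence degree at a prime where the algebra is flat over the local base is
at most the transcendence degree of the algebra. -/
theorem trdeg_quotient_le_of_flat {A C : Type u} [CommRing A] [IsLocalRing A] [CommRing C]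
    [Algebra A C] (B' : Type u) [CommRing B'] [Algebra A B'] [Algebra C B'] [IsScalarTower A C B']
    [Module.Flat A B'] (p : Ideal A) (hp : p = IsLocalRing.maximalIdeal A)
    (𝔪' : Ideal B') [𝔪'.LiesOver p]
    (Q₀ : Ideal C) [Q₀.IsPrime] [Q₀.LiesOver p] [h𝔪Q : 𝔪'.LiesOver Q₀] :
    Algebra.trdeg (A ⧸ p) (C ⧸ Q₀) ≤ Algebra.trdeg A C := by
  classical
  subst hp
  obtain ⟨s, hs⟩ := exists_isTranscendenceBasis (A ⧸ IsLocalRing.maximalIdeal A) (C ⧸ Q₀)
  choose t ht using fun i : s => Ideal.Quotient.mk_surjective (I := Q₀) i.1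
  have hfun : (fun i => Ideal.Quotient.mk Q₀ (t i)) = ((↑) : s → C ⧸ Q₀) := funext ht
  have h1 : AlgebraicIndependent (A ⧸ IsLocalRing.maximalIdeal A)
      (fun i : s => Ideal.Quotient.mk 𝔪' (algebraMap C B' (t i))) := by
    rw [algebraicIndependent_iff]
    intro Pbar hPbar
    obtain ⟨P, rfl⟩ := MvPolynomial.map_surjective
      (Ideal.Quotient.mk (IsLocalRing.maximalIdeal A)) Ideal.Quotient.mk_surjective Pbar
    rw [FlatGenDim.aeval_mk_map (IsLocalRing.maximalIdeal A) 𝔪' (fun i => algebraMap C B' (t i)) P,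
      Ideal.Quotient.eq_zero_iff_mem] at hPbar
    have h2 : MvPolynomial.aeval (fun i => algebraMap C B' (t i)) P =
        algebraMap C B' (MvPolynomial.aeval t P) :=
      (MvPolynomial.comp_aeval_apply (f := t) (IsScalarTower.toAlgHom A C B') P).symm
    rw [h2] at hPbar
    have h3 : MvPolynomial.aeval t P ∈ Q₀ := (Ideal.mem_of_liesOver 𝔪' Q₀ _).mpr hPbar
    have h4 := FlatGenDim.aeval_mk_map (IsLocalRing.maximalIdeal A) Q₀ t P
    rw [Ideal.Quotient.eq_zero_iff_mem.2 h3, hfun] at h4
    exact (algebraicIndependent_iff.1 hs.1) _ h4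
  have h5 : AlgebraicIndependent A (fun i : s => algebraMap C B' (t i)) :=
    algebraicIndependent_of_flat _ rfl 𝔪' _ h1
  have h6 : AlgebraicIndependent A t :=
    AlgebraicIndependent.of_comp (IsScalarTower.toAlgHom A C B') h5
  rw [← hs.cardinalMk_eq_trdeg]
  exact h6.cardinalMk_le_trdeg

/-- the dimension of the closed fibre of the local ring `B = C_q` over `A` is the height of `q`
in its fibre. -/
theorem ringKrullDim_quotient_eq_height {A C B : Type u} [CommRing A] [CommRing C] [Algebra A C]
    (q : Ideal C) [q.IsPrime] [hmax : (q.under A).IsMaximal] [CommRing B] [Algebra C B]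
    [IsLocalization.AtPrime B q] [Algebra A B] [IsScalarTower A C B] :
    ringKrullDim (B ⧸ Ideal.map (algebraMap A B) (q.under A)) =
      ((Order.height (⟨⟨q, inferInstance⟩, rfl⟩ : PrimeSpectrum.comap (algebraMap A C) ⁻¹'
        {PrimeSpectrum.comap (algebraMap A C) ⟨q, inferInstance⟩}) : ℕ∞) : WithBot ℕ∞) := by
  classical
  haveI hloc : IsLocalRing B := IsLocalization.AtPrime.isLocalRing B q
  set I : Ideal B := Ideal.map (algebraMap A B) (q.under A) with hI
  let ψ : C →+* B ⧸ I := (Ideal.Quotient.mk I).comp (algebraMap C B)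
  let q₀ : PrimeSpectrum C := ⟨q, inferInstance⟩
  -- `ψ` kills the maximal ideal
  have hψA : ∀ r ∈ q.under A, ψ (algebraMap A C r) = 0 := by
    intro r hr
    show Ideal.Quotient.mk I (algebraMap C B (algebraMap A C r)) = 0
    rw [← IsScalarTower.algebraMap_apply A C B, Ideal.Quotient.eq_zero_iff_mem]
    exact Ideal.mem_map_of_mem _ hr
  have hfib : ∀ a : PrimeSpectrum (B ⧸ I),
      PrimeSpectrum.comap (algebraMap A C) (PrimeSpectrum.comap ψ a) =
        PrimeSpectrum.comap (algebraMap A C) q₀ := by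
    intro a
    apply PrimeSpectrum.ext
    symm
    refine hmax.eq_of_le ?_ ?_
    · exact ((PrimeSpectrum.comap (algebraMap A C) (PrimeSpectrum.comap ψ a)).isPrime).ne_top
    · intro r hr
      show ψ (algebraMap A C r) ∈ a.asIdeal
      rw [hψA r hr]
      exact a.asIdeal.zero_mem
  let φ : PrimeSpectrum (B ⧸ I) → (PrimeSpectrum.comap (algebraMap A C) ⁻¹'
        {PrimeSpectrum.comap (algebraMap A C) q₀}) := fun a => ⟨PrimeSpectrum.comap ψ a, hfib a⟩
  -- units
  have hunit : ∀ s : q.primeCompl, IsUnit (ψ s) := fun s =>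
    (IsLocalization.map_units B s).map (Ideal.Quotient.mk I)
  have hemb : ∀ a a' : PrimeSpectrum (B ⧸ I), φ a ≤ φ a' → a ≤ a' := by
    intro a a' h x hx
    obtain ⟨b, rfl⟩ := Ideal.Quotient.mk_surjective x
    obtain ⟨⟨c, s⟩, hcs⟩ := IsLocalization.surj q.primeCompl b
    have h1 : ψ c = Ideal.Quotient.mk I b * ψ s := by
      show Ideal.Quotient.mk I (algebraMap C B c) = _
      rw [← hcs, map_mul]; rfl
    have h2 : c ∈ (PrimeSpectrum.comap ψ a).asIdeal := by
      show ψ c ∈ a.asIdeal
      rw [h1]; exact Ideal.mul_mem_right _ _ hx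
    have h3 : ψ c ∈ a'.asIdeal := h h2
    rw [h1] at h3
    rcases a'.isPrime.mem_or_mem h3 with h4 | h4
    · exact h4
    · exact absurd (Ideal.eq_top_of_isUnit_mem _ h4 (hunit s)) a'.isPrime.ne_top
  have hmono : StrictMono φ := by
    intro a a' haa'
    refine lt_of_le_of_ne ?_ ?_
    · show (PrimeSpectrum.comap ψ a).asIdeal ≤ (PrimeSpectrum.comap ψ a').asIdeal
      exact Ideal.comap_mono haa'.le
    · intro h
      exact haa'.ne (le_antisymm (hemb _ _ h.le) (hemb _ _ h.ge))
  -- everything in the image lies below `q`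
  have hle : ∀ a : PrimeSpectrum (B ⧸ I), (PrimeSpectrum.comap ψ a).asIdeal ≤ q := by
    intro a
    have h1 : (a.asIdeal.comap (Ideal.Quotient.mk I)) ≤ IsLocalRing.maximalIdeal B :=
      IsLocalRing.le_maximalIdeal (Ideal.IsPrime.ne_top (Ideal.comap_isPrime _ _))
    have h2 := Ideal.comap_mono (f := algebraMap C B) h1
    have h3 : (IsLocalRing.maximalIdeal B).comap (algebraMap C B) = q :=
      IsLocalization.AtPrime.under_maximalIdeal B q
    rw [h3] at h2
    exact h2
  -- surjectivity onto the part below `q`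
  have hsurj : ∀ b' : (PrimeSpectrum.comap (algebraMap A C) ⁻¹'
        {PrimeSpectrum.comap (algebraMap A C) q₀}), b'.1.asIdeal ≤ q → ∃ a', φ a' = b' := by
    rintro ⟨P, hP⟩ hPq
    have hdisj : Disjoint (q.primeCompl : Set C) (P.asIdeal : Set C) :=
      Set.disjoint_left.2 fun x hx hxP => hx (hPq hxP)
    have hP'prime := IsLocalization.isPrime_of_isPrime_disjoint q.primeCompl B P.asIdeal
      P.isPrime hdisj
    have hP'comap : (Ideal.map (algebraMap C B) P.asIdeal).comap (algebraMap C B) = P.asIdeal :=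
      IsLocalization.under_map_of_isPrime_disjoint q.primeCompl B P.isPrime hdisj
    have hPu : P.asIdeal.under A = q.under A := congrArg PrimeSpectrum.asIdeal hP
    have hIP' : I ≤ Ideal.map (algebraMap C B) P.asIdeal := by
      rw [hI, Ideal.map_le_iff_le_comap]
      intro r hr
      rw [Ideal.mem_comap, IsScalarTower.algebraMap_apply A C B]
      apply Ideal.mem_map_of_mem
      rw [← hPu] at hr
      exact hr
    have hprime : ((Ideal.map (algebraMap C B) P.asIdeal).map (Ideal.Quotient.mk I)).IsPrime :=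
      Ideal.map_isPrime_of_surjective Ideal.Quotient.mk_surjective
        (by rw [Ideal.mk_ker]; exact hIP')
    refine ⟨⟨_, hprime⟩, ?_⟩
    apply Subtype.ext
    apply PrimeSpectrum.ext
    show (((Ideal.map (algebraMap C B) P.asIdeal).map (Ideal.Quotient.mk I)).comap
      (Ideal.Quotient.mk I)).comap (algebraMap C B) = P.asIdeal
    rw [Ideal.comap_map_of_surjective _ Ideal.Quotient.mk_surjective, ← RingHom.ker_eq_comap_bot,
      Ideal.mk_ker, sup_eq_left.2 hIP', hP'comap]
  have hheight : ∀ a, Order.height a = Order.height (φ a) := by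
    apply Order.height_eq_of_strictMono φ hmono
    intro a b' hb'
    obtain ⟨a', ha'⟩ := hsurj b' (le_trans (show b'.1.asIdeal ≤ (φ a).1.asIdeal from hb'.le) (hle a))
    refine ⟨a', ?_, ha'⟩
    refine lt_of_le_of_ne (hemb _ _ (by rw [ha']; exact hb'.le)) ?_
    rintro rfl
    rw [ha'] at hb'
    exact lt_irrefl _ hb'
  obtain ⟨a₀, ha₀⟩ := hsurj ⟨q₀, rfl⟩ le_rfl
  rw [ringKrullDim, Order.krullDim_eq_iSup_height]
  apply le_antisymm
  · apply iSup_le
    intro a
    rw [hheight a]
    have : φ a ≤ ⟨q₀, rfl⟩ := hle a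
    exact_mod_cast Order.height_mono this
  · rw [← ha₀, ← hheight a₀]
    exact le_iSup (fun a : PrimeSpectrum (B ⧸ I) => ((Order.height a : ℕ∞) : WithBot ℕ∞)) a₀


open Cardinal in
/-- the transcendence degree does not drop modulo the zero ideal. -/
theorem trdeg_le_quotient_bot {A C : Type u} [CommRing A] [Nontrivial A] [CommRing C] [IsDomain C]
    [Algebra A C] [FaithfulSMul A C] (p : Ideal A) [p.IsPrime] (P : Ideal C) [P.LiesOver p] (hP : P = ⊥) :
    Algebra.trdeg A C ≤ Algebra.trdeg (A ⧸ p) (C ⧸ P) := by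
  classical
  obtain ⟨s, hs⟩ := exists_isTranscendenceBasis A C
  rw [← hs.cardinalMk_eq_trdeg]
  have h1 : AlgebraicIndependent (A ⧸ p) (fun i : s => Ideal.Quotient.mk P (i : C)) := by
    rw [algebraicIndependent_iff]
    intro Pbar hPbar
    obtain ⟨Q, rfl⟩ := MvPolynomial.map_surjective
      (Ideal.Quotient.mk p) Ideal.Quotient.mk_surjective Pbar
    rw [FlatGenDim.aeval_mk_map p P (fun i : s => (i : C)) Q,
      Ideal.Quotient.eq_zero_iff_mem, hP, Ideal.mem_bot] at hPbar
    rw [(algebraicIndependent_iff.1 hs.1) Q hPbar, map_zero]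
  exact h1.cardinalMk_le_trdeg

open Groth.Agent.Lib.Helper24 Groth.Agent.Lib.Helper18 in
/-- every chain in the closed fibre ending at `q` is bounded by the flat dimension count. -/
theorem chain_bound {A C B : Type u} [CommRing A] [IsDomain A] [IsLocalRing A] [CommRing C]
    [IsDomain C] [Algebra A C] [Algebra.FiniteType A C] (q : Ideal C) [q.IsPrime]
    (hq : q.under A = IsLocalRing.maximalIdeal A) [CommRing B] [Algebra C B]
    [IsLocalization.AtPrime B q] [Algebra A B] [IsScalarTower A C B] [Module.Flat A B]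
    (e N : ℕ) (he : Algebra.trdeg (A ⧸ q.under A) (C ⧸ q) = e) (hN : Algebra.trdeg A C = N)
    (l : LTSeries (PrimeSpectrum.comap (algebraMap A C) ⁻¹'
        {PrimeSpectrum.comap (algebraMap A C) ⟨q, inferInstance⟩}))
    (hl : l.last = ⟨⟨q, inferInstance⟩, rfl⟩) : l.length + e ≤ N := by
  classical
  haveI hloc : IsLocalRing B := IsLocalization.AtPrime.isLocalRing B q
  set m := l.length with hm
  let Q : Fin (m + 1) → PrimeSpectrum C := fun i => (l i).1
  have hQ : StrictMono Q := fun i j hij => l.strictMono hij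
  have hover : ∀ i, (Q i).asIdeal.LiesOver (q.under A) := fun i =>
    ⟨(congrArg PrimeSpectrum.asIdeal (l i).2).symm⟩
  have hex : ∀ i, ∃ n : ℕ, haveI := hover i;
      Algebra.trdeg (A ⧸ q.under A) (C ⧸ (Q i).asIdeal) = n := fun i => by
    haveI := hover i
    exact FibreDim.exists_nat_trdeg_quot (q.under A) (Q i).asIdeal
  choose t ht using hex
  have h1 := FibreDim.trdeg_add_le_of_chain A C (q.under A) Q hQ hover t ht 0
  have hlast : Q (Fin.last m) = ⟨q, inferInstance⟩ := congrArg Subtype.val hl
  have htl : t (Fin.last m) = e := by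
    have h2 := ht (Fin.last m)
    have h3 : Algebra.trdeg (A ⧸ q.under A) (C ⧸ q) = (t (Fin.last m) : Cardinal) := by
      haveI := hover (Fin.last m)
      rw [← h2]
      exact FibreDim.trdeg_congr_ideal (q.under A) (Q (Fin.last m)).asIdeal q
        (congrArg PrimeSpectrum.asIdeal hlast).symm
    rw [he] at h3
    exact_mod_cast h3.symm
  -- the flat bound at the bottom of the chain
  set Q₀ : Ideal C := (Q 0).asIdeal with hQ₀
  haveI hQ₀over := hover 0
  have hQ₀q : Q₀ ≤ q := by
    have : Q 0 ≤ Q (Fin.last m) := hQ.monotone (Fin.zero_le _)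
    rw [hlast] at this
    exact this
  have hdisj : Disjoint (q.primeCompl : Set C) (Q₀ : Set C) :=
    Set.disjoint_left.2 fun x hx hxP => hx (hQ₀q hxP)
  let P' : Ideal B := Ideal.map (algebraMap C B) Q₀
  haveI hP'prime : P'.IsPrime :=
    IsLocalization.isPrime_of_isPrime_disjoint q.primeCompl B Q₀ (Q 0).isPrime hdisj
  haveI hP'over : P'.LiesOver Q₀ :=
    ⟨(IsLocalization.under_map_of_isPrime_disjoint q.primeCompl B (Q 0).isPrime hdisj).symm⟩
  let B' := Localization.AtPrime P'
  haveI : Module.Flat B B' := IsLocalization.flat B' P'.primeCompl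
  haveI : Module.Flat A B' := Module.Flat.trans A B B'
  let 𝔪' : Ideal B' := IsLocalRing.maximalIdeal B'
  haveI h1' : 𝔪'.LiesOver P' := inferInstance
  haveI h2' : 𝔪'.LiesOver Q₀ := Ideal.LiesOver.trans 𝔪' P' Q₀
  haveI h3' : 𝔪'.LiesOver (q.under A) := Ideal.LiesOver.trans 𝔪' Q₀ (q.under A)
  have h4 := trdeg_quotient_le_of_flat (A := A) (C := C) B' (q.under A) hq 𝔪' Q₀
  have h5 := ht 0
  rw [h5, hN] at h4
  have h6 : t 0 ≤ N := by exact_mod_cast h4
  rw [htl] at h1
  simp only [Fin.val_zero, Nat.sub_zero] at h1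
  omega


open Groth.Agent.Lib.Helper24 Groth.Agent.Lib.Helper18 in
/-- Chevalley's semicontinuity, in the form: the transcendence degree of a finite type domain
over a domain is at most the local dimension of any fibre. -/
theorem trdeg_le_fibre {A C : Type u} [CommRing A] [IsDomain A] [CommRing C]
    [IsDomain C] [Algebra A C] [FaithfulSMul A C] [Algebra.FiniteType A C] (q : Ideal C) [q.IsPrime]
    (e h N : ℕ) (he : Algebra.trdeg (A ⧸ q.under A) (C ⧸ q) = e) (hN : Algebra.trdeg A C = N)
    (hh : Order.height (⟨⟨q, inferInstance⟩, rfl⟩ : PrimeSpectrum.comap (algebraMap A C) ⁻¹'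
        {PrimeSpectrum.comap (algebraMap A C) ⟨q, inferInstance⟩}) = h) : N ≤ e + h := by
  classical
  let f : Spec (CommRingCat.of C) ⟶ Spec (CommRingCat.of A) :=
    Spec.map (CommRingCat.ofHom (algebraMap A C))
  haveI : LocallyOfFiniteType f := by
    rw [HasRingHomProperty.Spec_iff (P := @LocallyOfFiniteType)]
    show (algebraMap A C).FiniteType
    rw [RingHom.finiteType_algebraMap]
    infer_instance
  let q₀ : PrimeSpectrum C := ⟨q, inferInstance⟩
  let η : PrimeSpectrum C := ⟨⊥, Ideal.isPrime_bot⟩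
  -- the special point
  obtain ⟨n, hn⟩ := Chev.exists_nat_fibreDimAt f (q₀ : Spec (CommRingCat.of C))
  let Q : PrimeSpectrum ((q.under A).Fiber C) :=
    PrimeSpectrum.preimageOrderIsoFiber A C ⟨q.under A, inferInstance⟩ ⟨q₀, rfl⟩
  have hQ : Q.asIdeal.comap (Algebra.TensorProduct.includeRight.toRingHom) = q := by
    have := (PrimeSpectrum.preimageOrderIsoFiber A C ⟨q.under A, inferInstance⟩).symm_apply_apply
      ⟨q₀, rfl⟩
    exact congrArg (fun z => z.1.asIdeal) this
  have hdim : FlatMor.localDim (PrimeSpectrum ((q.under A).Fiber C)) Q = (n : WithBot ℕ∞) := by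
    rw [← hn]
    exact FibreRingDim.localDim_fiberRing_eq A C q₀ Q hQ
  obtain ⟨e₁, h₁, hn1, he₁, hh₁⟩ := Chev.fibre_localDim_split A C (q.under A) q Q hQ n hdim
  -- the generic point
  obtain ⟨n', hn'⟩ := Chev.exists_nat_fibreDimAt f (η : Spec (CommRingCat.of C))
  let Q' : PrimeSpectrum (((⊥ : Ideal C).under A).Fiber C) :=
    PrimeSpectrum.preimageOrderIsoFiber A C ⟨(⊥ : Ideal C).under A, inferInstance⟩ ⟨η, rfl⟩
  have hQ' : Q'.asIdeal.comap (Algebra.TensorProduct.includeRight.toRingHom) = (⊥ : Ideal C) := by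
    have := (PrimeSpectrum.preimageOrderIsoFiber A C
      ⟨(⊥ : Ideal C).under A, inferInstance⟩).symm_apply_apply ⟨η, rfl⟩
    exact congrArg (fun z => z.1.asIdeal) this
  have hdim' : FlatMor.localDim (PrimeSpectrum (((⊥ : Ideal C).under A).Fiber C)) Q' =
      (n' : WithBot ℕ∞) := by
    rw [← hn']
    exact FibreRingDim.localDim_fiberRing_eq A C η Q' hQ'
  obtain ⟨e₂, h₂, hn2, he₂, -⟩ :=
    Chev.fibre_localDim_split A C ((⊥ : Ideal C).under A) ⊥ Q' hQ' n' hdim'
  -- semicontinuity
  have hopen := Chev.isOpen_fibreDimAt_le f n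
  have hspec : (η : Spec (CommRingCat.of C)) ⤳ (q₀ : Spec (CommRingCat.of C)) := by
    rw [← PrimeSpectrum.le_iff_specializes]
    show (⊥ : Ideal C) ≤ q
    exact bot_le
  have hmem : (η : Spec (CommRingCat.of C)) ∈ {x | FlatMor.fibreDimAt f x ≤ n} :=
    hspec.mem_open hopen (show FlatMor.fibreDimAt f q₀ ≤ n from hn.le)
  have hle : (n' : WithBot ℕ∞) ≤ n := by
    rw [← hn']; exact hmem
  have hle' : n' ≤ n := by exact_mod_cast hle
  -- the transcendence degrees
  have h3 := trdeg_le_quotient_bot (A := A) (C := C) ((⊥ : Ideal C).under A) ⊥ rfl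
  rw [he₂, hN] at h3
  have h4 : N ≤ e₂ := by exact_mod_cast h3
  have h5 : e₁ = e := by
    rw [he] at he₁
    exact_mod_cast he₁.symm
  have h6 : h₁ = h := by
    rw [hh] at hh₁
    exact_mod_cast hh₁.symm
  omega

/-- **Core**: the dimension formula for a flat local ring essentially of finite type, presented as
a localization of a finite type domain. -/
theorem core {A C B : Type u} [CommRing A] [IsDomain A] [IsLocalRing A] [CommRing C]
    [IsDomain C] [Algebra A C] [FaithfulSMul A C] [Algebra.FiniteType A C] (q : Ideal C) [q.IsPrime]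
    (hq : q.under A = IsLocalRing.maximalIdeal A) [CommRing B] [Algebra C B]
    [IsLocalization.AtPrime B q] [Algebra A B] [IsScalarTower A C B] [Module.Flat A B] :
    ∃ d e : ℕ, ringKrullDim (B ⧸ Ideal.map (algebraMap A B) (q.under A)) = d ∧
      Algebra.trdeg (A ⧸ q.under A) (C ⧸ q) = e ∧ Algebra.trdeg A C = (d + e : ℕ) := by
  classical
  obtain ⟨e, he⟩ := Groth.Agent.Lib.Helper24.FibreDim.exists_nat_trdeg_quot (q.under A) q
  have hfin : Algebra.trdeg A C < Cardinal.aleph0 := trdeg_lt_aleph0_of_finiteType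
  obtain ⟨N, hN⟩ : ∃ N : ℕ, Algebra.trdeg A C = N :=
    ⟨_, (Cardinal.cast_toNat_of_lt_aleph0 hfin).symm⟩
  have hbound := chain_bound (B := B) q hq e N he hN
  have hht : Order.height (⟨⟨q, inferInstance⟩, rfl⟩ : PrimeSpectrum.comap (algebraMap A C) ⁻¹'
        {PrimeSpectrum.comap (algebraMap A C) ⟨q, inferInstance⟩}) ≤ ((N - e : ℕ) : ℕ∞) := by
    apply Order.height_le
    intro l hl
    have := hbound l hl
    exact_mod_cast (show l.length ≤ N - e by omega)
  obtain ⟨h, hh⟩ : ∃ h : ℕ, Order.height (⟨⟨q, inferInstance⟩, rfl⟩ :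
      PrimeSpectrum.comap (algebraMap A C) ⁻¹'
        {PrimeSpectrum.comap (algebraMap A C) ⟨q, inferInstance⟩}) = h :=
    ⟨_, (ENat.natCast_toNat (ne_top_of_le_ne_top (ENat.natCast_ne_top _) hht)).symm⟩
  obtain ⟨l, hl, hlen⟩ := Order.exists_series_of_height_eq_coe _ hh
  have h1 := hbound l hl
  rw [hlen] at h1
  have h2 := trdeg_le_fibre q e h N he hN hh
  haveI hmax : (q.under A).IsMaximal := by rw [hq]; infer_instance
  refine ⟨h, e, ?_, he, ?_⟩
  · rw [ringKrullDim_quotient_eq_height (A := A) (C := C) (B := B) q, hh]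
    rfl
  · rw [hN]
    have : N = h + e := by omega
    rw [this]


/-- **S1403** -/
theorem S1403 {A B : Type u} [CommRing A] [CommRing B] [IsDomain A] [IsDomain B] [IsLocalRing A]
    [IsLocalRing B] [Algebra A B] [IsLocalHom (algebraMap A B)] [FaithfulSMul A B]
    [Algebra.EssFiniteType A B] [Module.Flat A B] :
    ∃ d e : ℕ, ringKrullDim (B ⧸ Ideal.map (algebraMap A B) (IsLocalRing.maximalIdeal A)) = d ∧
      Algebra.trdeg (IsLocalRing.ResidueField A) (IsLocalRing.ResidueField B) = e ∧
      Algebra.trdeg A B = (d + e : ℕ) := by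
  classical
  let C : Subalgebra A B := Algebra.EssFiniteType.subalgebra A B
  haveI : FaithfulSMul A C := by
    rw [faithfulSMul_iff_algebraMap_injective]
    intro x y h
    apply FaithfulSMul.algebraMap_injective A B
    have := congrArg (algebraMap C B) h
    rwa [← IsScalarTower.algebraMap_apply, ← IsScalarTower.algebraMap_apply] at this
  haveI : FaithfulSMul C B := by
    rw [faithfulSMul_iff_algebraMap_injective]
    exact Subtype.val_injective
  let q : Ideal C := (IsLocalRing.maximalIdeal B).under C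
  have hM : Algebra.EssFiniteType.submonoid A B = q.primeCompl := by
    ext c
    show IsUnit (algebraMap C B c) ↔ ¬ (algebraMap C B c ∈ IsLocalRing.maximalIdeal B)
    rw [IsLocalRing.mem_maximalIdeal, mem_nonunits_iff, not_not]
  haveI hloc : IsLocalization.AtPrime B q := by
    show IsLocalization q.primeCompl B
    rw [← hM]
    infer_instance
  have hq : q.under A = IsLocalRing.maximalIdeal A := by
    rw [← IsLocalRing.maximalIdeal_comap (algebraMap A B)]
    show ((IsLocalRing.maximalIdeal B).comap (algebraMap C B)).comap (algebraMap A C) = _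
    rw [Ideal.comap_comap, ← IsScalarTower.algebraMap_eq]
  obtain ⟨d, e, hd, he, hN⟩ := core (A := A) (C := C) (B := B) q hq
  refine ⟨d, e, ?_, ?_, ?_⟩
  · rw [← hq]; exact hd
  · rw [← he]
    have ha : RingHom.ker (IsLocalRing.residue A) = q.under A := by
      rw [IsLocalRing.ker_residue, hq]
    have hb : RingHom.ker ((IsLocalRing.residue B).comp (algebraMap C B)) = q := by
      rw [← RingHom.comap_ker, IsLocalRing.ker_residue]
    have hsq : (algebraMap (IsLocalRing.ResidueField A) (IsLocalRing.ResidueField B)).comp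
        (IsLocalRing.residue A) =
        ((IsLocalRing.residue B).comp (algebraMap C B)).comp (algebraMap A C) := by
      ext r
      rfl
    have key := ResTrdegBridge.trdeg_eq_of_square (A := A) (B := C)
      (K := IsLocalRing.ResidueField A) (L := IsLocalRing.ResidueField B) (q.under A) q
      (IsLocalRing.residue A) ((IsLocalRing.residue B).comp (algebraMap C B))
      (algebraMap (IsLocalRing.ResidueField A) (IsLocalRing.ResidueField B)) ha hb hsq ?_ ?_
    · rw [← key]
      congr 1
    · intro k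
      obtain ⟨s, rfl⟩ := IsLocalRing.residue_surjective k
      exact ⟨s, 1, by simp, by simp⟩
    · intro l
      obtain ⟨x, rfl⟩ := IsLocalRing.residue_surjective l
      obtain ⟨⟨s, t⟩, hst⟩ := IsLocalization.surj q.primeCompl x
      have ht : ((IsLocalRing.residue B).comp (algebraMap C B)) t ≠ 0 := by
        intro h0
        have : (t : C) ∈ RingHom.ker ((IsLocalRing.residue B).comp (algebraMap C B)) := h0
        rw [hb] at this
        exact t.2 this
      refine ⟨s, t, ht, ?_⟩
      rw [eq_div_iff ht]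
      show IsLocalRing.residue B x * IsLocalRing.residue B (algebraMap C B t) =
        IsLocalRing.residue B (algebraMap C B s)
      rw [← map_mul, hst]
  · rw [← hN]
    haveI : Algebra.IsAlgebraic C B := IsLocalization.isAlgebraic (R := C) (S := B) q.primeCompl
    have h1 := trdeg_add_eq A C (A := B)
    rw [trdeg_eq_zero (R := C) (A := B), add_zero] at h1
    exact h1.symm

end Groth.Agent.Lib.lead.FlatLocalDimFormula
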