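import Groth.Agent.Lib.lead.FormalA
import Groth.Agent.S0045

/-!
# Formal functions, layer B (lead): the case of a principal ideal
-/

set_option backward.isDefEq.respectTransparency.types false
set_option autoImplicit false
universe u
open CategoryTheory CategoryTheory.Limits AlgebraicGeometry Opposite Abelian

noncomputable section

namespace Groth.Agent.Lib.Lead.FormalB

open Formal Groth.Agent.Lib.Helper23.FQuot Groth.Agent.Lib.Lead.FormalA
open Groth.Agent.Lib.Helper2.HLes Groth.Agent.Lib.Helper2.HLesLin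

variable {A : Type u} [CommRing A] {X : Scheme.{u}} [X.Over (Spec (CommRingCat.of A))]

/-! ## naturality of the connecting map -/

theorem δ_naturality {S S' : ShortComplex (SheafOfModules.{u} X.ringCatSheaf)} (hS : S.ShortExact)
    (hS' : S'.ShortExact) (φ : S ⟶ S') (p : ℕ) (x : Coh.HH X S.X₃ p) :
    δLin S' hS' A p (Canon.HHlin A φ.τ₃ p x) = Canon.HHlin A φ.τ₁ (p + 1) (δLin S hS A p x) := by
  have hnat := ShortComplex.ShortExact.extClass_naturality (shortExact_Sab S hS)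
    (shortExact_Sab S' hS') ((SheafOfModules.toSheaf.{u} X.ringCatSheaf).mapShortComplex.map φ)
  change ((x.comp (Ext.mk₀ ((SheafOfModules.toSheaf.{u} X.ringCatSheaf).map φ.τ₃)) (add_zero p)).comp
      (shortExact_Sab S' hS').extClass rfl) =
    ((x.comp (shortExact_Sab S hS).extClass rfl).comp
      (Ext.mk₀ ((SheafOfModules.toSheaf.{u} X.ringCatSheaf).map φ.τ₁)) (add_zero (p + 1)))
  rw [Ext.comp_assoc_of_second_deg_zero, Ext.comp_assoc_of_third_deg_zero]
  congr 1
  exact hnat.symm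

/-! ## the transfer lemma for images -/

theorem range_le_transfer {M M₁ M' N N' : X.Modules} (p : ℕ) (π₁ : M ⟶ M₁) (π' : M ⟶ M')
    (t₀ : M' ⟶ M₁) (h₀ : π' ≫ t₀ = π₁)
    (hle : LinearMap.range (Canon.HHlin A t₀ p) ≤ LinearMap.range (Canon.HHlin A π₁ p))
    (f : M ⟶ N) (f' : M ⟶ N') [Epi f'] (t : N' ⟶ N) (ht : f' ≫ t = f)
    (s : N' ⟶ M') (hs : f' ≫ s = π') (r : M₁ ⟶ N) (hr : π₁ ≫ r = f) :
    LinearMap.range (Canon.HHlin A t p) ≤ LinearMap.range (Canon.HHlin A f p) := by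
  have ht' : t = s ≫ t₀ ≫ r := by
    rw [← cancel_epi f', ht, ← Category.assoc, hs, ← Category.assoc, h₀, hr]
  rintro _ ⟨z, rfl⟩
  obtain ⟨x, hx⟩ := hle ⟨Canon.HHlin A s p z, rfl⟩
  refine ⟨x, ?_⟩
  rw [ht', ← HHlin_comp_apply, ← HHlin_comp_apply, ← hx, HHlin_comp_apply A π₁ r, hr]

/-! ## the predicates -/

variable (A) in
/-- (a'): the kernel filtration is finer than the `I`-adic one. -/
def PropA (I : Ideal A) (M : X.Modules) (p : ℕ) : Prop :=
  ∀ n : ℕ, ∃ n' : ℕ, ∀ {N : X.Modules} (f : M ⟶ N), IsQuot (I ^ n') f →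
    LinearMap.ker (Canon.HHlin A f p) ≤ I ^ n • (⊤ : Submodule A (Coh.HH X M p))

variable (A) in
/-- (b'): the Mittag-Leffler property, with stable images equal to the images of `H^p(X, M)`. -/
def PropB (I : Ideal A) (M : X.Modules) (p : ℕ) : Prop :=
  ∀ n : ℕ, ∃ n' : ℕ, n ≤ n' ∧ ∀ {N N' : X.Modules} (f : M ⟶ N) (f' : M ⟶ N') (t : N' ⟶ N),
    IsQuot (I ^ n) f → IsQuot (I ^ n') f' → f' ≫ t = f →
    LinearMap.range (Canon.HHlin A t p) ≤ LinearMap.range (Canon.HHlin A f p)

theorem ker_HHlin_eq_of_isQuot {J : Ideal A} {M N N' : X.Modules} {f : M ⟶ N} {f' : M ⟶ N'}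
    (hf : IsQuot J f) (hf' : IsQuot J f') (p : ℕ) :
    LinearMap.ker (Canon.HHlin A f p) = LinearMap.ker (Canon.HHlin A f' p) := by
  obtain ⟨e, he⟩ := IsQuot.exists_iso hf hf'
  ext x
  rw [LinearMap.mem_ker, LinearMap.mem_ker, ← he, ← HHlin_comp_apply]
  constructor
  · intro h
    rw [h, map_zero]
  · intro h
    exact (HHlin_bijective_of_isIso A e.hom p).1 (h.trans (map_zero _).symm)

theorem ker_HHlin_le_of_le {J J' : Ideal A} (h : J' ≤ J) {M N N' : X.Modules} {f : M ⟶ N}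
    {f' : M ⟶ N'} (hf : IsQuot J f) (hf' : IsQuot J' f') (p : ℕ) :
    LinearMap.ker (Canon.HHlin A f' p) ≤ LinearMap.ker (Canon.HHlin A f p) := by
  obtain ⟨t, ht⟩ := IsQuot.exists_trans h hf hf'
  intro x hx
  rw [LinearMap.mem_ker] at hx ⊢
  rw [← ht, ← HHlin_comp_apply, hx, map_zero]

/-! ## the principal case -/

section Principal

variable (M : X.Modules) (a : A)

/-- multiplication by `a ^ n`. -/
abbrev u (n : ℕ) : M ⟶ M := smulMod A M (a ^ n)

theorem u_add (m n : ℕ) : u M a (m + n) = u M a m ≫ u M a n := smulMod_pow_add M a m n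

/-- the chain of kernels. -/
def kerChain : ℕ →o Subobject M where
  toFun n := kernelSubobject (u M a n)
  monotone' := by
    intro m n h
    obtain ⟨k, rfl⟩ := Nat.exists_eq_add_of_le h
    change kernelSubobject (u M a m) ≤ kernelSubobject (u M a (m + k))
    rw [u_add]
    exact kernelSubobject_comp_le _ _

theorem kerChain_qcoh [hM : M.IsQuasicoherent] (n : ℕ) :
    Coh.IsQCoh ((kerChain M a n : Subobject M) : X.Modules) := by
  haveI := Groth.Agent.Lib.Helper17.CohKer.isQuasicoherent_kernel (u M a n)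
  exact (SheafOfModules.isQuasicoherent X.ringCatSheaf).prop_of_iso
    (kernelSubobjectIso (u M a n)).symm (inferInstance : (kernel (u M a n)).IsQuasicoherent)

theorem exists_stab [IsNoetherian X] (hM : Coh.IsCoh M) :
    ∃ N : ℕ, ∀ n, N ≤ n → kernel.ι (u M a n) ≫ u M a N = 0 := by
  haveI : M.IsQuasicoherent := hM.1
  obtain ⟨N, hN⟩ := Groth.Agent.S0045.result X M hM (kerChain M a) (kerChain_qcoh M a)
  refine ⟨N, fun n hn => ?_⟩
  have h1 : kernelSubobject (u M a n) ≤ kernelSubobject (u M a N) := le_of_eq (hN n hn)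
  have h2 : kernel.ι (u M a n) = (kernelSubobjectIso (u M a n)).inv ≫
      Subobject.ofLE _ _ h1 ≫ (kernelSubobject (u M a N)).arrow := by
    rw [Subobject.ofLE_arrow, ← kernelSubobject_arrow, Iso.inv_hom_id_assoc]
  rw [h2, Category.assoc, Category.assoc, kernelSubobject_arrow_comp, comp_zero, comp_zero]

variable (N : ℕ)

/-- `M / ker(a^N)`. -/
abbrev Mbar : X.Modules := Abelian.coimage (u M a N)

/-- the projection. -/
abbrev q : M ⟶ Mbar M a N := Abelian.coimage.π (u M a N)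

/-- the monomorphism `M / ker(a^N) → M` induced by `a^(N+k)`. -/
def ψ (k : ℕ) : Mbar M a N ⟶ M := Abelian.factorThruCoimage (u M a N) ≫ u M a k

theorem q_ψ (k : ℕ) : q M a N ≫ ψ M a N k = u M a (N + k) := by
  rw [ψ, ← Category.assoc, Abelian.coimage.fac, u_add]

theorem ψ_add (k m : ℕ) : ψ M a N (k + m) = ψ M a N k ≫ u M a m := by
  rw [ψ, ψ, u_add, Category.assoc]

theorem ψ_add' (k m : ℕ) : ψ M a N (k + m) = smulMod A (Mbar M a N) (a ^ m) ≫ ψ M a N k := by
  rw [ψ_add, smulMod_naturality]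

variable (hN : ∀ n, N ≤ n → kernel.ι (u M a n) ≫ u M a N = 0)

include hN in
theorem mono_ψ (k : ℕ) : Mono (ψ M a N k) := by
  apply Preadditive.mono_of_cancel_zero
  intro T t ht
  haveI : Epi (pullback.fst t (q M a N)) := Abelian.epi_pullback_of_epi_g t (q M a N)
  have h1 : pullback.snd t (q M a N) ≫ u M a (N + k) = 0 := by
    rw [← q_ψ, ← Category.assoc, ← pullback.condition, Category.assoc, ht, comp_zero]
  have h2 : pullback.snd t (q M a N) ≫ u M a N = 0 := by
    rw [← kernel.lift_ι (u M a (N + k)) _ h1, Category.assoc, hN (N + k) (Nat.le_add_right N k),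
      comp_zero]
  have h3 : pullback.snd t (q M a N) ≫ q M a N = 0 := by
    rw [← cancel_mono (Abelian.factorThruCoimage (u M a N)), Category.assoc, Abelian.coimage.fac,
      h2, zero_comp]
  rw [← cancel_epi (pullback.fst t (q M a N)), pullback.condition, h3, comp_zero]

/-- the quotient `M / a^n M`. -/
abbrev Mq (n : ℕ) : X.Modules := cokernel (u M a n)

/-- the projection to `M / a^n M`. -/
abbrev πq (n : ℕ) : M ⟶ Mq M a n := cokernel.π (u M a n)

theorem ψ_πq (k : ℕ) : ψ M a N k ≫ πq M a (N + k) = 0 := by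
  rw [← cancel_epi (q M a N), ← Category.assoc, q_ψ, cokernel.condition, comp_zero]

/-- the short complex `M / ker(a^N) → M → M / a^(N+k) M`. -/
abbrev SC (k : ℕ) : ShortComplex X.Modules := ShortComplex.mk (ψ M a N k) (πq M a (N + k)) (ψ_πq M a N k)

include hN in
theorem SC_shortExact (k : ℕ) : (SC M a N k).ShortExact := by
  have hex : (SC M a N k).Exact := by
    refine ShortComplex.exact_of_g_is_cokernel _ ?_
    exact CokernelCofork.IsColimit.ofπ' (f := ψ M a N k) (πq M a (N + k)) (ψ_πq M a N k)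
      (fun g' h' => ⟨cokernel.desc (u M a (N + k)) g' (by
        rw [← q_ψ M a N k, Category.assoc, h', comp_zero]), cokernel.π_desc _ _ _⟩)
  exact ShortComplex.ShortExact.mk' hex (mono_ψ M a N hN k)
    (inferInstanceAs (Epi (cokernel.π (u M a (N + k)))))


/-! ### part (a) -/

include hN in
theorem ker_πq_le (p k : ℕ) :
    LinearMap.ker (Canon.HHlin A (πq M a (N + k)) p) ≤
      Ideal.span {a} ^ k • (⊤ : Submodule A (Coh.HH X M p)) := by
  intro x hx
  have hr := range_eq_ker₂ (SC M a N k) (SC_shortExact M a N hN k) A p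
  have hx' : x ∈ LinearMap.ker (Canon.HHlin A (SC M a N k).g p) := hx
  rw [← hr] at hx'
  obtain ⟨y, rfl⟩ := hx'
  change Canon.HHlin A (ψ M a N k) p y ∈ _
  rw [ψ, ← HHlin_comp_apply, HHlin_smulMod]
  refine Submodule.smul_mem_smul ?_ trivial
  rw [Ideal.span_singleton_pow]
  exact Ideal.mem_span_singleton_self _

theorem propA_principal [IsNoetherian X] (hM : Coh.IsCoh M) (p : ℕ) :
    PropA A (Ideal.span {a}) M p := by
  obtain ⟨N, hN⟩ := exists_stab M a hM
  intro n
  refine ⟨N + n, fun f hf => ?_⟩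
  rw [ker_HHlin_eq_of_isQuot hf (isQuot_cokernel_smulMod_pow M a (N + n)) p]
  exact ker_πq_le M a N hN p n

/-! ### part (b) -/

theorem smul_eq_zero_of_killedBy {J : Ideal A} {F : X.Modules} (hF : KilledBy J F) (b : A)
    (hb : b ∈ J) (p : ℕ) (z : Coh.HH X F p) : b • z = 0 := by
  rw [← HHlin_smulMod, hF b hb, HHlin_zero]
  rfl

/-- the chain of kernels of `H^(p+1)(ψ k)`. -/
def Qchain (p : ℕ) : ℕ →o Submodule A (Coh.HH X (Mbar M a N) (p + 1)) where
  toFun k := LinearMap.ker (Canon.HHlin A (ψ M a N k) (p + 1))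
  monotone' := by
    intro k l h
    obtain ⟨m, rfl⟩ := Nat.exists_eq_add_of_le h
    intro x hx
    change x ∈ LinearMap.ker (Canon.HHlin A (ψ M a N k) (p + 1)) at hx
    change x ∈ LinearMap.ker (Canon.HHlin A (ψ M a N (k + m)) (p + 1))
    rw [LinearMap.mem_ker] at hx ⊢
    rw [ψ_add, ← HHlin_comp_apply, hx, map_zero]

include hN in
theorem smul_eq_zero_of_mem_Qchain (p k : ℕ) (y : Coh.HH X (Mbar M a N) (p + 1))
    (hy : y ∈ Qchain M a N p k) : a ^ (N + k) • y = 0 := by
  have hy' : y ∈ LinearMap.ker (Canon.HHlin A (SC M a N k).f (p + 1)) := hy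
  rw [← Groth.Agent.Lib.Helper4.HLesFin1.range_eq_ker₁ (SC M a N k) (SC_shortExact M a N hN k) A p]
    at hy'
  obtain ⟨z, rfl⟩ := hy'
  have hz : a ^ (N + k) • z = 0 := by
    refine smul_eq_zero_of_killedBy (J := Ideal.span {a} ^ (N + k))
      (IsQuot.killed (isQuot_cokernel_smulMod_pow M a (N + k))) _ ?_ p z
    rw [Ideal.span_singleton_pow]
    exact Ideal.mem_span_singleton_self _
  exact ((δLin (SC M a N k) (SC_shortExact M a N hN k) A p).map_smul _ z).symm.trans
    ((congrArg (δLin (SC M a N k) (SC_shortExact M a N hN k) A p) hz).trans (map_zero _))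

include hN in
theorem range_trans_le (p k m K₀ : ℕ)
    (hK : ∀ l, K₀ ≤ l → Qchain M a N p K₀ = Qchain M a N p l) (hk : K₀ ≤ k)
    (hm : N + K₀ ≤ m) (t : Mq M a (N + (k + m)) ⟶ Mq M a (N + k))
    (ht : πq M a (N + (k + m)) ≫ t = πq M a (N + k)) :
    LinearMap.range (Canon.HHlin A t p) ≤ LinearMap.range (Canon.HHlin A (πq M a (N + k)) p) := by
  let φ : SC M a N (k + m) ⟶ SC M a N k :=
    ShortComplex.homMk (smulMod A (Mbar M a N) (a ^ m)) (𝟙 M) t
      (by
        change smulMod A (Mbar M a N) (a ^ m) ≫ ψ M a N k = ψ M a N (k + m) ≫ 𝟙 M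
        rw [Category.comp_id, ψ_add'])
      (by
        change 𝟙 M ≫ πq M a (N + k) = πq M a (N + (k + m)) ≫ t
        rw [Category.id_comp, ht])
  rintro _ ⟨z, rfl⟩
  have h1 := δ_naturality (A := A) (SC_shortExact M a N hN (k + m)) (SC_shortExact M a N hN k) φ p z
  have h2 : δLin (SC M a N (k + m)) (SC_shortExact M a N hN (k + m)) A p z ∈
      Qchain M a N p K₀ := by
    rw [hK (k + m) (hk.trans (Nat.le_add_right k m))]
    change _ ∈ LinearMap.ker (Canon.HHlin A (SC M a N (k + m)).f (p + 1))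
    rw [← Groth.Agent.Lib.Helper4.HLesFin1.range_eq_ker₁ (SC M a N (k + m))
      (SC_shortExact M a N hN (k + m)) A p]
    exact ⟨z, rfl⟩
  have h3' : ∀ (w : Coh.HH X (Mbar M a N) (p + 1)), a ^ (N + K₀) • w = 0 → a ^ m • w = 0 := by
    intro w hw
    obtain ⟨j, rfl⟩ := Nat.exists_eq_add_of_le hm
    rw [pow_add, mul_comm, mul_smul, hw, smul_zero]
  have h3 : a ^ m • δLin (SC M a N (k + m)) (SC_shortExact M a N hN (k + m)) A p z = 0 :=
    h3' _ (smul_eq_zero_of_mem_Qchain M a N hN p K₀ _ h2)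
  have h4 : δLin (SC M a N k) (SC_shortExact M a N hN k) A p (Canon.HHlin A t p z) = 0 :=
    h1.trans ((HHlin_smulMod A (Mbar M a N) (a ^ m) (p + 1) _).trans h3)
  have h5 : Canon.HHlin A t p z ∈ LinearMap.ker (δLin (SC M a N k) (SC_shortExact M a N hN k) A p) :=
    h4
  rw [← range_eq_ker₃ (SC M a N k) (SC_shortExact M a N hN k) A p] at h5
  exact h5

theorem isCoh_Mbar [IsLocallyNoetherian X] (hM : Coh.IsCoh M) : Coh.IsCoh (Mbar M a N) :=
  Groth.Agent.Lib.Helper6.DevCore.isCoh_cokernel (kernel.ι (u M a N))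
    (Groth.Agent.Lib.Helper6.DevCore.isCoh_kernel _ hM hM) hM

theorem propB_principal [IsNoetherian X] [IsNoetherianRing A]
    (hfin : ∀ F : X.Modules, Coh.IsCoh F → ∀ p, Module.Finite A (Coh.HH X F p))
    (hM : Coh.IsCoh M) (p : ℕ) : PropB A (Ideal.span {a}) M p := by
  obtain ⟨N, hN⟩ := exists_stab M a hM
  haveI : Module.Finite A (Coh.HH X (Mbar M a N) (p + 1)) := hfin _ (isCoh_Mbar M a N hM) _
  haveI : IsNoetherian A (Coh.HH X (Mbar M a N) (p + 1)) :=
    isNoetherian_of_isNoetherianRing_of_finite A _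
  obtain ⟨K₀, hK⟩ := monotone_stabilizes_iff_noetherian.2 inferInstance (Qchain M a N p)
  intro n
  refine ⟨N + ((K₀ + n) + (N + K₀)), by omega, fun {P P'} f f' t hf hf' ht => ?_⟩
  have hq1 := isQuot_cokernel_smulMod_pow M a (N + (K₀ + n))
  have hq' := isQuot_cokernel_smulMod_pow M a (N + ((K₀ + n) + (N + K₀)))
  obtain ⟨t₀, ht₀⟩ := IsQuot.exists_trans
    (Ideal.pow_le_pow_right (I := Ideal.span {a}) (show N + (K₀ + n) ≤ N + ((K₀ + n) + (N + K₀)) by omega))
    hq1 hq'
  have hle := range_trans_le M a N hN p (K₀ + n) (N + K₀) K₀ hK (Nat.le_add_right _ _) le_rfl t₀ ht₀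
  haveI := hf'.epi
  obtain ⟨e', he'⟩ := IsQuot.exists_iso hf' hq'
  obtain ⟨r, hr⟩ := IsQuot.exists_trans
    (Ideal.pow_le_pow_right (I := Ideal.span {a}) (show n ≤ N + (K₀ + n) by omega)) hf hq1
  exact range_le_transfer p _ _ t₀ ht₀ hle f f' t ht e'.hom he' r hr

end Principal

end Groth.Agent.Lib.Lead.FormalB
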