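import Groth.Agent.Lib.lead.FormalC

/-!
# Formal functions, layer E (lead): the induction relative to a class of coherent modules
closed under coherent quotients (for modules with proper support)
-/

set_option backward.isDefEq.respectTransparency.types false
set_option autoImplicit false
universe u
open CategoryTheory CategoryTheory.Limits AlgebraicGeometry Opposite Abelian

noncomputable section

namespace Groth.Agent.Lib.Lead.FormalE

open Formal Groth.Agent.Lib.Helper23.FQuot Groth.Agent.Lib.Lead.FormalA Groth.Agent.Lib.Lead.FormalB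
  Groth.Agent.Lib.Lead.FormalC

variable {A : Type u} [CommRing A] [IsNoetherianRing A] {X : Scheme.{u}}
  [X.Over (Spec (CommRingCat.of A))] [IsNoetherian X]

/-- the principal case of (b'), assuming finiteness only for coherent quotients of `M`. -/
theorem propB_principal_q (M : X.Modules) (a : A)
    (hfinq : ∀ {F : X.Modules} (f : M ⟶ F), Epi f → Coh.IsCoh F →
      ∀ q, Module.Finite A (Coh.HH X F q))
    (hM : Coh.IsCoh M) (p : ℕ) : PropB A (Ideal.span {a}) M p := by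
  obtain ⟨N, hN⟩ := exists_stab M a hM
  haveI : Module.Finite A (Coh.HH X (Mbar M a N) (p + 1)) :=
    hfinq (q M a N) inferInstance (isCoh_Mbar M a N hM) _
  haveI : IsNoetherian A (Coh.HH X (Mbar M a N) (p + 1)) :=
    isNoetherian_of_isNoetherianRing_of_finite A _
  obtain ⟨K₀, hK⟩ := monotone_stabilizes_iff_noetherian.2 inferInstance (Qchain M a N p)
  intro n
  refine ⟨N + ((K₀ + n) + (N + K₀)), by omega, fun {P P'} f f' t hf hf' ht => ?_⟩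
  have hq1 := isQuot_cokernel_smulMod_pow M a (N + (K₀ + n))
  have hq' := isQuot_cokernel_smulMod_pow M a (N + ((K₀ + n) + (N + K₀)))
  obtain ⟨t₀, ht₀⟩ := IsQuot.exists_trans
    (Ideal.pow_le_pow_right (I := Ideal.span {a}) (show N + (K₀ + n) ≤ N + ((K₀ + n) + (N + K₀)) by omega))
    hq1 hq'
  have hle := range_trans_le M a N hN p (K₀ + n) (N + K₀) K₀ hK (Nat.le_add_right _ _) le_rfl t₀ ht₀
  haveI := hf'.epi
  obtain ⟨e', he'⟩ := IsQuot.exists_iso hf' hq'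
  obtain ⟨r, hr⟩ := IsQuot.exists_trans
    (Ideal.pow_le_pow_right (I := Ideal.span {a}) (show n ≤ N + (K₀ + n) by omega)) hf hq1
  exact range_le_transfer p _ _ t₀ ht₀ hle f f' t ht e'.hom he' r hr

variable (Pq : X.Modules → Prop)

variable (A) in
/-- the statement proved by induction on the ideal, relative to the class `Pq`. -/
def GoodQ (I : Ideal A) : Prop :=
  ∀ M : X.Modules, Coh.IsCoh M → Pq M → ∀ p : ℕ, PropA A I M p ∧ PropB A I M p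

variable (hPq : ∀ {M N : X.Modules} (f : M ⟶ N), Epi f → Coh.IsCoh M → Coh.IsCoh N → Pq M → Pq N)
  (hfin : ∀ F : X.Modules, Coh.IsCoh F → Pq F → ∀ p, Module.Finite A (Coh.HH X F p))

include hPq hfin in
theorem propA_sup_q (I₁ I₂ : Ideal A) (h₁ : GoodQ A Pq I₁) (h₂ : GoodQ A Pq I₂) (M : X.Modules)
    (hM : Coh.IsCoh M) (hPM : Pq M) (p : ℕ) : PropA A (I₁ ⊔ I₂) M p := by
  intro n
  obtain ⟨k, hk⟩ := (h₁ M hM hPM p).1 n
  have hq₁ : IsQuot (I₁ ^ k) (modPowπ I₁ k M) := isQuot_modPowπ I₁ k M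
  have hM₁ : Coh.IsCoh (modPow I₁ k M) := isCoh_of_isQuot (fg _) _ hM hq₁
  have hPM₁ : Pq (modPow I₁ k M) := hPq (modPowπ I₁ k M) inferInstance hM hM₁ hPM
  haveI : Module.Finite A (Coh.HH X (modPow I₁ k M) p) := hfin _ hM₁ hPM₁ p
  obtain ⟨c, hc⟩ := Ideal.exists_pow_inf_eq_pow_smul I₂
    (LinearMap.range (Canon.HHlin A (modPowπ I₁ k M) p))
  obtain ⟨m, hm⟩ := (h₂ _ hM₁ hPM₁ p).1 (n + c)
  have hq₂ : IsQuot (I₂ ^ m) (modPowπ I₂ m (modPow I₁ k M)) := isQuot_modPowπ I₂ m _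
  refine ⟨k + m, fun {P} f hf => ?_⟩
  have hq₁₂ := IsQuot.comp_sup hq₁ hq₂
  refine (ker_HHlin_le_of_le Ideal.sup_pow_add_le_pow_sup_pow hq₁₂ hf p).trans ?_
  intro x hx
  rw [LinearMap.mem_ker, ← HHlin_comp_apply] at hx
  have hx1 : Canon.HHlin A (modPowπ I₁ k M) p x ∈
      I₂ ^ (n + c) • (⊤ : Submodule A (Coh.HH X (modPow I₁ k M) p)) := hm _ hq₂ hx
  have hx2 : Canon.HHlin A (modPowπ I₁ k M) p x ∈
      I₂ ^ (n + c) • (⊤ : Submodule A (Coh.HH X (modPow I₁ k M) p)) ⊓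
        LinearMap.range (Canon.HHlin A (modPowπ I₁ k M) p) := ⟨hx1, ⟨x, rfl⟩⟩
  rw [hc (n + c) (Nat.le_add_left c n), Nat.add_sub_cancel] at hx2
  have hx3 : Canon.HHlin A (modPowπ I₁ k M) p x ∈
      I₂ ^ n • LinearMap.range (Canon.HHlin A (modPowπ I₁ k M) p) :=
    Submodule.smul_mono le_rfl inf_le_right hx2
  rw [LinearMap.range_eq_map, ← Submodule.map_smul''] at hx3
  obtain ⟨y, hy, hyx⟩ := hx3
  have hxy : x - y ∈ LinearMap.ker (Canon.HHlin A (modPowπ I₁ k M) p) := by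
    rw [LinearMap.mem_ker, map_sub, hyx, sub_self]
  have h4 : x - y ∈ I₁ ^ n • (⊤ : Submodule A (Coh.HH X M p)) := hk _ hq₁ hxy
  have h5 : x = (x - y) + y := by abel
  rw [h5]
  exact Submodule.add_mem _
    (Submodule.smul_mono_left (Ideal.pow_right_mono le_sup_left n) h4)
    (Submodule.smul_mono_left (Ideal.pow_right_mono le_sup_right n) hy)

include hPq in
theorem propB_sup_q (I₁ I₂ : Ideal A) (h₁ : GoodQ A Pq I₁) (h₂ : GoodQ A Pq I₂) (M : X.Modules)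
    (hM : Coh.IsCoh M) (hPM : Pq M) (p : ℕ) : PropB A (I₁ ⊔ I₂) M p := by
  intro n
  obtain ⟨k, hnk, hk⟩ := (h₁ M hM hPM p).2 n
  have hq₁ : IsQuot (I₁ ^ k) (modPowπ I₁ k M) := isQuot_modPowπ I₁ k M
  have hq₀ : IsQuot (I₁ ^ n) (modPowπ I₁ n M) := isQuot_modPowπ I₁ n M
  have hM₁ : Coh.IsCoh (modPow I₁ k M) := isCoh_of_isQuot (fg _) _ hM hq₁
  have hPM₁ : Pq (modPow I₁ k M) := hPq (modPowπ I₁ k M) inferInstance hM hM₁ hPM
  obtain ⟨m, hnm, hm⟩ := (h₂ _ hM₁ hPM₁ p).2 n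
  have hq₁₂ : IsQuot (I₂ ^ m) (modPowπ I₂ m (modPow I₁ k M)) := isQuot_modPowπ I₂ m _
  have hq₁₀ : IsQuot (I₂ ^ n) (modPowπ I₂ n (modPow I₁ k M)) := isQuot_modPowπ I₂ n _
  have hq₀₀ : IsQuot (I₂ ^ n) (modPowπ I₂ n (modPow I₁ n M)) := isQuot_modPowπ I₂ n _
  refine ⟨k + m, by omega, fun {P P'} f f' t hf hf' ht => ?_⟩
  haveI := hf'.epi
  obtain ⟨τ, hτ⟩ := IsQuot.exists_trans (Ideal.pow_le_pow_right hnk) hq₀ hq₁
  obtain ⟨σ, hσ⟩ := IsQuot.exists_trans (Ideal.pow_le_pow_right hnm) hq₁₀ hq₁₂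
  obtain ⟨τ', hτ'⟩ := IsQuot.exists_map hq₁₀ hq₀₀ τ
  obtain ⟨s, hs⟩ := IsQuot.exists_trans Ideal.sup_pow_add_le_pow_sup_pow
    (IsQuot.comp_sup hq₁ hq₁₂) hf'
  obtain ⟨r, hr⟩ := IsQuot.exists_trans (pow_sup_pow_le I₁ I₂ n) hf (IsQuot.comp_sup hq₀ hq₀₀)
  have ht' : t = s ≫ σ ≫ τ' ≫ r := by
    rw [← cancel_epi f', ht]
    calc f = (modPowπ I₁ n M ≫ modPowπ I₂ n _) ≫ r := hr.symm
      _ = ((modPowπ I₁ k M ≫ τ) ≫ modPowπ I₂ n _) ≫ r := by rw [hτ]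
      _ = (modPowπ I₁ k M ≫ (τ ≫ modPowπ I₂ n _)) ≫ r := by simp only [Category.assoc]
      _ = (modPowπ I₁ k M ≫ (modPowπ I₂ n _ ≫ τ')) ≫ r := by rw [hτ']
      _ = (modPowπ I₁ k M ≫ ((modPowπ I₂ m _ ≫ σ) ≫ τ')) ≫ r := by rw [hσ]
      _ = ((modPowπ I₁ k M ≫ modPowπ I₂ m _) ≫ σ ≫ τ') ≫ r := by simp only [Category.assoc]
      _ = ((f' ≫ s) ≫ σ ≫ τ') ≫ r := by rw [hs]
      _ = f' ≫ s ≫ σ ≫ τ' ≫ r := by simp only [Category.assoc]
  rintro _ ⟨z, rfl⟩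
  obtain ⟨y, hy⟩ := hm _ _ σ hq₁₀ hq₁₂ hσ ⟨Canon.HHlin A s p z, rfl⟩
  obtain ⟨x, hx⟩ := hk _ _ τ hq₀ hq₁ hτ ⟨y, rfl⟩
  refine ⟨x, ?_⟩
  have e1 : Canon.HHlin A t p z =
      Canon.HHlin A (τ' ≫ r) p (Canon.HHlin A σ p (Canon.HHlin A s p z)) := by
    rw [HHlin_comp_apply, HHlin_comp_apply, ht']
  have e2 : Canon.HHlin A (τ' ≫ r) p (Canon.HHlin A (modPowπ I₂ n (modPow I₁ k M)) p y) =
      Canon.HHlin A (modPowπ I₂ n (modPow I₁ n M) ≫ r) p (Canon.HHlin A τ p y) := by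
    rw [HHlin_comp_apply, HHlin_comp_apply, ← Category.assoc, hτ', Category.assoc]
  have e3 : Canon.HHlin A (modPowπ I₂ n (modPow I₁ n M) ≫ r) p
      (Canon.HHlin A (modPowπ I₁ n M) p x) = Canon.HHlin A f p x := by
    rw [HHlin_comp_apply, ← Category.assoc, hr]
  rw [e1, ← hy, e2, ← hx, e3]

include hPq hfin in
theorem goodQ (I : Ideal A) : GoodQ A Pq I := by
  have hI := fg I
  induction I, hI using Submodule.fg_induction with
  | singleton a =>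
    intro M hM hPM p
    refine ⟨propA_principal M a hM p, propB_principal_q M a ?_ hM p⟩
    intro F f hf hF q
    exact hfin F hF (hPq f hf hM hF hPM) q
  | sup J₁ J₂ _ _ ih₁ ih₂ =>
    intro M hM hPM p
    exact ⟨propA_sup_q Pq hPq hfin J₁ J₂ ih₁ ih₂ M hM hPM p, propB_sup_q Pq hPq J₁ J₂ ih₁ ih₂ M hM hPM p⟩

end Groth.Agent.Lib.Lead.FormalE
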