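import Mathlib
import Groth.Agent.Lib.lead.GenFibreDim
import Groth.Agent.S1299

set_option autoImplicit false
set_option linter.style.haveILetI false
universe u
open CategoryTheory CategoryTheory.Limits AlgebraicGeometry Topology TopologicalSpace

namespace Groth.Agent.Lib.lead.GenConnComp

open Groth.Agent.Lib.lead

variable {X Y : Scheme.{u}}

/-- finite intersection of open neighbourhoods -/
theorem exists_opens_le_of_finite {κ : Type*} [Finite κ] (η : Y) (V : κ → Y.Opens)
    (h : ∀ k, η ∈ V k) : ∃ V₀ : Y.Opens, η ∈ V₀ ∧ ∀ k, V₀ ≤ V k := by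
  refine ⟨⟨⋂ k, (V k : Set Y), isOpen_iInter_of_finite fun k => (V k).isOpen⟩, ?_, ?_⟩
  · exact Set.mem_iInter.2 h
  · intro k x hx
    exact Set.mem_iInter.1 hx k

/-- a finite family of pairwise disjoint nonempty closed sets covering a space gives at least that
many connected components -/
theorem le_card_connectedComponents {T : Type*} [TopologicalSpace T] (n : ℕ) (S : Fin n → Set T)
    (hcl : ∀ i, IsClosed (S i)) (hne : ∀ i, (S i).Nonempty) (hcov : ⋃ i, S i = Set.univ)
    (hdis : ∀ i j, i ≠ j → Disjoint (S i) (S j)) :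
    (n : ℕ∞) ≤ ENat.card (ConnectedComponents T) := by
  have hopen : ∀ i, IsOpen (S i) := by
    intro i
    have : S i = (⋃ j ∈ {j : Fin n | j ≠ i}, S j)ᶜ := by
      ext x
      simp only [Set.mem_compl_iff, Set.mem_iUnion, Set.mem_setOf_eq, not_exists]
      constructor
      · intro hx j hj hxj
        exact Set.disjoint_iff.1 (hdis j i hj) ⟨hxj, hx⟩
      · intro hx
        have : x ∈ ⋃ i, S i := by rw [hcov]; trivial
        obtain ⟨j, hj⟩ := Set.mem_iUnion.1 this
        by_cases hji : j = i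
        · rw [← hji]; exact hj
        · exact absurd hj (hx j hji)
    rw [this, isOpen_compl_iff]
    exact (Set.toFinite _).isClosed_biUnion fun j _ => hcl j
  choose w hw using hne
  let φ : Fin n → ConnectedComponents T := fun i => ConnectedComponents.mk (w i)
  have hφ : Function.Injective φ := by
    intro i j hij
    by_contra hne
    have h1 : connectedComponent (w i) = connectedComponent (w j) :=
      ConnectedComponents.coe_eq_coe.1 hij
    have h2 : connectedComponent (w i) ⊆ S i :=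
      (IsClopen.connectedComponent_subset ⟨hcl i, hopen i⟩ (hw i))
    have h3 : w j ∈ S i := h2 (by rw [h1]; exact mem_connectedComponent)
    exact Set.disjoint_iff.1 (hdis i j hne) ⟨h3, hw j⟩
  have := ENat.card_le_card_of_injective hφ
  simpa using this

theorem S1329 (f : X ⟶ Y) [IrreducibleSpace ↑Y] [LocallyOfFiniteType f] [QuasiCompact f] (n : ℕ)
    (h : ENat.card (_root_.ConnectedComponents ↑(f.fiber (genericPoint ↑Y))) = n) :
    ∃ V : Y.Opens, (V : Set ↑Y).Nonempty ∧
      ∀ y ∈ V, (n : ℕ∞) ≤ ENat.card (_root_.ConnectedComponents ↑(f.fiber y)) := by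
  classical
  set η := genericPoint Y with hη
  have hfin : Finite (_root_.ConnectedComponents (f.fiber η)) := by
    rw [← ENat.card_lt_top, h]; exact ENat.coe_lt_top n
  haveI : Fintype (_root_.ConnectedComponents (f.fiber η)) := Fintype.ofFinite _
  have hcard : Fintype.card (_root_.ConnectedComponents (f.fiber η)) = n := by
    rw [ENat.card_eq_coe_fintype_card] at h
    exact_mod_cast h
  let e : _root_.ConnectedComponents (f.fiber η) ≃ Fin n := Fintype.equivFinOfCardEq hcard
  let Z : Fin n → Set (f.fiber η) := fun i => _root_.ConnectedComponents.mk ⁻¹' {e.symm i}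
  have hZcl : ∀ i, IsClosed (Z i) := by
    intro i
    obtain ⟨w, hw⟩ := _root_.ConnectedComponents.surjective_coe (e.symm i)
    show IsClosed (_root_.ConnectedComponents.mk ⁻¹' {e.symm i})
    rw [← hw, connectedComponents_preimage_singleton]
    exact isClosed_connectedComponent
  have hZne : ∀ i, (Z i).Nonempty := by
    intro i
    obtain ⟨w, hw⟩ := _root_.ConnectedComponents.surjective_coe (e.symm i)
    exact ⟨w, hw⟩
  have hZcov : ⋃ i, Z i = Set.univ := by
    rw [Set.eq_univ_iff_forall]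
    intro w
    refine Set.mem_iUnion.2 ⟨e (_root_.ConnectedComponents.mk w), ?_⟩
    show _root_.ConnectedComponents.mk w = e.symm (e _)
    rw [Equiv.symm_apply_apply]
  have hZdis : ∀ i j, i ≠ j → Disjoint (Z i) (Z j) := by
    intro i j hij
    rw [Set.disjoint_iff]
    rintro w ⟨h1, h2⟩
    have h1' : _root_.ConnectedComponents.mk w = e.symm i := h1
    have h2' : _root_.ConnectedComponents.mk w = e.symm j := h2
    exact hij (e.symm.injective (h1'.symm.trans h2'))
  let T : Fin n → Set X := fun i => closure (f.fiberι η '' Z i)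
  have hTcl : ∀ i, IsClosed (T i) := fun i => isClosed_closure
  have hTpre : ∀ i, (f.fiberι η) ⁻¹' T i = Z i := by
    intro i
    show (f.fiberι η) ⁻¹' closure (f.fiberι η '' Z i) = Z i
    rw [← (f.fiberι η).isEmbedding.isInducing.closure_eq_preimage_closure_image, (hZcl i).closure_eq]
  -- (1) cover
  obtain ⟨V1, hV1ne, H1⟩ := Groth.Agent.S1299.result f Z hZcl hZcov
  have hηV1 : η ∈ V1 := ((genericPoint_spec Y).mem_open_set_iff V1.isOpen).2 (by simpa using hV1ne)
  -- (2) disjoint
  have hdisj : ∀ p : {p : Fin n × Fin n // p.1 ≠ p.2}, ∃ V : Y.Opens, η ∈ V ∧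
      ∀ x : X, f x ∈ V → x ∈ T p.1.1 → x ∈ T p.1.2 → False := by
    rintro ⟨⟨i, j⟩, hij⟩
    have hnot : η ∉ f '' (T i ∩ T j) := by
      rintro ⟨x, ⟨hxi, hxj⟩, hfx⟩
      have hx' : x ∈ Set.range (f.fiberι η) := by
        rw [f.range_fiberι η]; exact hfx
      obtain ⟨w, rfl⟩ := hx'
      have h1 : w ∈ Z i := by rw [← hTpre i]; exact hxi
      have h2 : w ∈ Z j := by rw [← hTpre j]; exact hxj
      exact Set.disjoint_iff.1 (hZdis i j hij) ⟨h1, h2⟩
    have hcl := GenFibreDim.genericPoint_not_mem_closure_image f (T i ∩ T j)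
      ((hTcl i).inter (hTcl j)) hnot
    refine ⟨⟨(closure (f '' (T i ∩ T j)))ᶜ, isClosed_closure.isOpen_compl⟩, hcl, ?_⟩
    intro x hx hxi hxj
    exact hx (subset_closure ⟨x, ⟨hxi, hxj⟩, rfl⟩)
  choose V2 hV2 H2 using hdisj
  obtain ⟨V2', hηV2', hV2'⟩ := exists_opens_le_of_finite η V2 hV2
  -- (3) nonempty
  have hnonempty : ∀ i : Fin n, ∃ V : Y.Opens, η ∈ V ∧ (V : Set Y) ⊆ f '' T i := by
    intro i
    obtain ⟨w, hw⟩ := hZne i
    apply GenFibreDim.exists_open_subset_image f (T i) (hTcl i) (f.fiberι η w)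
      (subset_closure ⟨w, hw, rfl⟩)
    have : f.fiberι η w ∈ Set.range (f.fiberι η) := ⟨w, rfl⟩
    rw [f.range_fiberι η] at this
    exact this
  choose V3 hV3 H3 using hnonempty
  obtain ⟨V3', hηV3', hV3'⟩ := exists_opens_le_of_finite η V3 hV3
  refine ⟨V1 ⊓ V2' ⊓ V3', ⟨η, ⟨hηV1, hηV2'⟩, hηV3'⟩, ?_⟩
  rintro y ⟨⟨hy1, hy2⟩, hy3⟩
  apply le_card_connectedComponents n (fun i => (f.fiberι y) ⁻¹' T i)
  · intro i
    exact (hTcl i).preimage (f.fiberι y).continuous
  · intro i
    obtain ⟨x, hxT, hfx⟩ := H3 i (hV3' i hy3)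
    have hx' : x ∈ Set.range (f.fiberι y) := by
      rw [f.range_fiberι y]; exact hfx
    obtain ⟨w, rfl⟩ := hx'
    exact ⟨w, hxT⟩
  · exact H1 y hy1
  · intro i j hij
    rw [Set.disjoint_iff]
    rintro w ⟨hwi, hwj⟩
    have hfw : f (f.fiberι y w) = y := by
      have : f.fiberι y w ∈ Set.range (f.fiberι y) := ⟨w, rfl⟩
      rw [f.range_fiberι y] at this
      exact this
    exact H2 ⟨⟨i, j⟩, hij⟩ (f.fiberι y w) (by rw [hfw]; exact hV2' _ hy2) hwi hwj

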