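import Mathlib
import Groth.Agent.Lib.lead.QFRelDim
import Groth.Agent.Lib.Helper18.Chev.Main
import Groth.Agent.Lib.Helper24.FibreDim.Main3448
import Groth.Prelude.Def_Flat

set_option autoImplicit false
set_option linter.style.haveILetI false
universe u
open CategoryTheory CategoryTheory.Limits AlgebraicGeometry Topology

namespace Groth.Agent.Lib.lead.GenFibreSub

open Groth.Agent.Lib.Helper18 Groth.Agent.Lib.lead Groth.Agent.Lib.Helper24

theorem S11561 {X Y : Scheme.{u}} (f : X ⟶ Y)
    [IrreducibleSpace ↥Y] [IrreducibleSpace ↥X] [LocallyOfFiniteType f]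
    (y : Y) [Nonempty ↥(f.fiber y)] [Finite ↥(f.fiber y)] :
    Subsingleton ↥(f.fiber (genericPoint ↥Y)) := by
  obtain ⟨w⟩ := ‹Nonempty ↥(f.fiber y)›
  have hy : f (f.fiberι y w) = y := by
    have : f.fiberι y w ∈ Set.range (f.fiberι y) := ⟨w, rfl⟩
    rw [f.range_fiberι] at this; exact this
  generalize f.fiberι y w = x₀ at hy
  subst hy
  haveI : LocallyQuasiFinite (f.fiberToSpecResidueField (f x₀)) :=
    .of_finite_preimage_singleton _ (fun _ => Set.toFinite _)
  haveI : IsLocallyArtinian (f.fiber (f x₀)) :=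
    .of_locallyQuasiFinite (f.fiberToSpecResidueField (f x₀))
  have hqf : f.QuasiFiniteAt x₀ :=
    Scheme.Hom.quasiFiniteAt_iff_isOpen_singleton_asFiber.2 (isOpen_discrete _)
  have h0 : FlatMor.fibreDimAt f x₀ = 0 := (QFRelDim.quasiFiniteAt_iff_fibreDimAt_eq_zero f x₀).1 hqf
  have hopen := Chev.isOpen_fibreDimAt_le f 0
  have hξsp : ∀ x : X, genericPoint X ⤳ x := fun x =>
    (genericPoint_spec X).specializes (Set.mem_univ x)
  have hξ : FlatMor.fibreDimAt f (genericPoint X) ≤ ((0 : ℕ) : WithBot ℕ∞) :=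
    (hξsp x₀).mem_open hopen (by show FlatMor.fibreDimAt f x₀ ≤ ((0 : ℕ) : WithBot ℕ∞); rw [h0]; rfl)
  have htr : FibreDim.tr f (genericPoint X) = 0 := by
    rw [FibreDim.fibreDimAt_eq_tr_add_G] at hξ
    have h1 : ((FibreDim.tr f (genericPoint X) : ℕ) : ℕ∞) + FibreOrder.G f (genericPoint X) ≤ 0 := by
      exact_mod_cast hξ
    have h2 : ((FibreDim.tr f (genericPoint X) : ℕ) : ℕ∞) ≤ 0 := le_trans le_self_add h1
    exact_mod_cast Nat.le_zero.1 (by exact_mod_cast h2)
  have key : ∀ c : f.fiber (genericPoint Y), f.fiberι (genericPoint Y) c = genericPoint X := by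
    intro c
    have hx : f (f.fiberι (genericPoint Y) c) = genericPoint Y := by
      have : f.fiberι (genericPoint Y) c ∈ Set.range (f.fiberι (genericPoint Y)) := ⟨c, rfl⟩
      rw [f.range_fiberι] at this; exact this
    generalize f.fiberι (genericPoint Y) c = x at hx
    have hsp := hξsp x
    have hfξ : f (genericPoint X) = genericPoint Y := by
      have h1 : f (genericPoint X) ⤳ genericPoint Y := by
        rw [← hx]; exact hsp.map f.continuous
      have h2 : genericPoint Y ⤳ f (genericPoint X) :=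
        (genericPoint_spec Y).specializes (Set.mem_univ _)
      exact (h1.antisymm h2).eq
    by_contra hne
    have hle : x ≤ genericPoint X := hsp
    have hlt : x < genericPoint X := by
      rw [lt_iff_le_not_ge]
      refine ⟨hle, fun hge => hne ?_⟩
      have h3 : x ⤳ genericPoint X := hge
      exact (h3.antisymm hsp).eq
    have h1 := FibreDim.tr_lt_of_lt f hlt (hx.trans hfξ.symm)
    omega
  refine ⟨fun a b => ?_⟩
  apply (f.fiberι (genericPoint Y)).isEmbedding.injective
  rw [key a, key b]


end Groth.Agent.Lib.lead.GenFibreSub
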