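import Mathlib
import Groth.Agent.Lib.lead.GenFiniteGen

set_option autoImplicit false
universe u
open CategoryTheory CategoryTheory.Limits AlgebraicGeometry Topology

namespace Groth.Agent.Lib.lead.GenFiniteDense

theorem eq_of_closure_eq {T : Type*} [TopologicalSpace T] [T0Space T] {x y : T}
    (h : closure {x} = closure {y}) : x = y :=
  (inseparable_iff_closure_eq.2 h).eq

/-- Generic points of distinct irreducible components have disjoint neighbourhoods when there are
finitely many components. -/
theorem disjoint_nhds_of_finite_irreducibleComponents {T : Type*} [TopologicalSpace T] [T0Space T]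
    (hT : (irreducibleComponents T).Finite) (x x' : T)
    (hx : closure {x} ∈ irreducibleComponents T) (hx' : closure {x'} ∈ irreducibleComponents T)
    (hne : x ≠ x') : Disjoint (𝓝 x) (𝓝 x') := by
  have key : ∀ z : T, closure {z} ∈ irreducibleComponents T →
      ∃ U : Set T, IsOpen U ∧ z ∈ U ∧ U ⊆ closure {z} ∧
        ∀ Z ∈ irreducibleComponents T, Z ≠ closure {z} → Disjoint U Z := by
    intro z hz
    have hfin : (irreducibleComponents T \ {closure {z}}).Finite := hT.subset Set.diff_subset
    have hcl : IsClosed (⋃₀ (irreducibleComponents T \ {closure {z}})) :=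
      by
        rw [Set.sUnion_eq_biUnion]
        exact hfin.isClosed_biUnion (fun Z hZ => isClosed_of_mem_irreducibleComponents Z hZ.1)
    refine ⟨(⋃₀ (irreducibleComponents T \ {closure {z}}))ᶜ, hcl.isOpen_compl, ?_, ?_, ?_⟩
    · rintro ⟨Z, ⟨hZ, hZne⟩, hzZ⟩
      apply hZne
      have h1 : closure {z} ⊆ Z :=
        (isClosed_of_mem_irreducibleComponents Z hZ).closure_subset_iff.2
          (Set.singleton_subset_iff.2 hzZ)
      exact le_antisymm (hz.2 hZ.1 h1) h1
    · intro a ha
      by_contra hna
      apply ha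
      refine ⟨irreducibleComponent a, ⟨irreducibleComponent_mem_irreducibleComponents a, ?_⟩,
        mem_irreducibleComponent⟩
      intro h
      rw [Set.mem_singleton_iff] at h
      exact hna (h ▸ mem_irreducibleComponent)
    · intro Z hZ hZne
      rw [Set.disjoint_left]
      intro a ha haZ
      exact ha ⟨Z, ⟨hZ, hZne⟩, haZ⟩
  obtain ⟨U, hU, hxU, hUZ, -⟩ := key x hx
  obtain ⟨U', hU', hxU', -, hUd'⟩ := key x' hx'
  rw [Filter.disjoint_iff]
  refine ⟨U, hU.mem_nhds hxU, U', hU'.mem_nhds hxU', ?_⟩
  have hZne : closure {x} ≠ closure {x'} := fun h => hne (eq_of_closure_eq h)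
  exact (Set.disjoint_of_subset_right hUZ (hUd' _ hx hZne)).symm

set_option backward.isDefEq.respectTransparency.types false in
theorem isZariskiLocalAtTarget_isFinite : IsZariskiLocalAtTarget @IsFinite.{u} := inferInstance

theorem S2081 {X Y : Scheme.{u}} (f : X ⟶ Y) [LocallyOfFiniteType f]
    [QuasiCompact f] (hX : (irreducibleComponents (X : Type u)).Finite)
    (hgen : ∀ x : X, closure {x} ∈ irreducibleComponents (X : Type u) ↔
      closure {f.base x} ∈ irreducibleComponents (Y : Type u)) :
    ∃ V : Y.Opens, Dense (V : Set Y) ∧ IsFinite (f ∣_ V) := by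
  classical
  -- the local statement at each generic point
  have hloc : ∀ η : Y, closure {η} ∈ irreducibleComponents (Y : Type u) →
      ∃ V : Y.Opens, η ∈ V ∧ IsFinite (f ∣_ V) := by
    intro η hη
    have hmax := GenFiniteGen.maximal_of_mem_irreducibleComponents hη
    have hfib : ∀ x : X, f x = η → closure {x} ∈ irreducibleComponents (X : Type u) := by
      intro x hx
      rw [hgen]
      have : f.base x = η := hx
      rw [this]
      exact hη
    have hfin : (f ⁻¹' {η}).Finite := by
      refine Set.Finite.of_injOn (f := fun x : X => closure ({x} : Set X))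
        (t := irreducibleComponents (X : Type u)) ?_ ?_ hX
      · intro x hx
        exact hfib x hx
      · intro x _ x' _ h
        exact eq_of_closure_eq h
    obtain ⟨V, -, hηV, hV⟩ := GenFiniteGen.core f η hmax hfin (fun x x' hx hx' hne =>
      disjoint_nhds_of_finite_irreducibleComponents hX x x' (hfib x hx) (hfib x' hx') hne)
    exact ⟨V, hηV, hV⟩
  let S : Set Y := {η | closure {η} ∈ irreducibleComponents (Y : Type u)}
  have hloc' : ∀ η : S, ∃ V : Y.Opens, η.1 ∈ V ∧ IsFinite (f ∣_ V) := fun η => hloc η.1 η.2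
  choose W hηW hWfin using hloc'
  let V : Y.Opens := ⨆ η : S, W η
  refine ⟨V, ?_, ?_⟩
  · -- density
    intro y
    have hZ := irreducibleComponent_mem_irreducibleComponents y
    obtain ⟨η, hη⟩ := QuasiSober.sober hZ.1 isClosed_irreducibleComponent
    have hηS : η ∈ S := by
      show closure {η} ∈ irreducibleComponents (Y : Type u)
      rw [hη.def]
      exact hZ
    have hy : y ∈ closure ({η} : Set Y) := by
      rw [hη.def]
      exact mem_irreducibleComponent
    refine closure_mono ?_ hy
    rw [Set.singleton_subset_iff]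
    exact TopologicalSpace.Opens.mem_iSup.2 ⟨⟨η, hηS⟩, hηW ⟨η, hηS⟩⟩
  · -- finiteness is local on the target
    have hcov : (⨆ η : S, V.ι ⁻¹ᵁ W η) = (⊤ : V.toScheme.Opens) := by
      rw [eq_top_iff]
      rintro ⟨y, hy⟩ -
      obtain ⟨η, hη⟩ := TopologicalSpace.Opens.mem_iSup.1 hy
      exact TopologicalSpace.Opens.mem_iSup.2 ⟨η, hη⟩
    haveI := isZariskiLocalAtTarget_isFinite.{u}
    rw [IsZariskiLocalAtTarget.iff_of_iSup_eq_top (P := @IsFinite) _ hcov]
    intro η
    haveI : MorphismProperty.RespectsIso @IsFinite.{u} :=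
      MorphismProperty.IsStableUnderBaseChange.respectsIso
    rw [MorphismProperty.arrow_mk_iso_iff @IsFinite (morphismRestrictRestrict f V (V.ι ⁻¹ᵁ W η))]
    have heq : V.ι ''ᵁ (V.ι ⁻¹ᵁ W η) = W η := by
      rw [Scheme.Hom.image_preimage_eq_opensRange_inf, Scheme.Opens.opensRange_ι]
      exact inf_eq_right.2 (le_iSup W η)
    rw [MorphismProperty.arrow_mk_iso_iff @IsFinite (morphismRestrictEq f heq)]
    exact hWfin η


end Groth.Agent.Lib.lead.GenFiniteDense
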