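import Mathlib
import Groth.Agent.Lib.lead.GenNowhereDense
import Groth.Agent.Lib.lead.GenConnComp
import Groth.Agent.S1299

set_option autoImplicit false
set_option linter.style.haveILetI false
universe u
open CategoryTheory CategoryTheory.Limits AlgebraicGeometry Topology TopologicalSpace

namespace Groth.Agent.Lib.lead.GenIrredComp

open Groth.Agent.Lib.lead

variable {X Y : Scheme.{u}}

/-- a closed set missing a point whose closure is everything is nowhere dense -/
theorem isNowhereDense_of_generic {F : Type*} [TopologicalSpace F] (φ : F)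
    (hφ : ∀ w : F, φ ⤳ w) (S : Set F) (hS : IsClosed S) (h : φ ∉ S) : IsNowhereDense S := by
  show interior (closure S) = ∅
  rw [hS.closure_eq, Set.eq_empty_iff_forall_notMem]
  intro w hw
  exact h (interior_subset ((hφ w).mem_open isOpen_interior hw))

/-- (N) -/
theorem exists_open_forall_exists_notMem (f : X ⟶ Y) [IrreducibleSpace Y] [LocallyOfFiniteType f]
    [QuasiCompact f] (T B : Set X) (hT : IsClosed T) (hB : IsClosed B) (x₀ : X)
    (hx₀T : T = closure {x₀}) (hx₀ : f x₀ = genericPoint Y) (hx₀B : x₀ ∉ B) :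
    ∃ V : Y.Opens, genericPoint Y ∈ V ∧ ∀ y ∈ V, ∃ x ∈ T, f x = y ∧ x ∉ B := by
  set η := genericPoint Y with hη
  let J := Scheme.IdealSheafData.vanishingIdeal (X := X) ⟨T, hT⟩
  have hrange : Set.range J.subschemeι = T := by
    rw [J.range_subschemeι]
    exact Scheme.IdealSheafData.coe_support_vanishingIdeal _
  set ι := J.subschemeι with hι
  set k := ι ≫ f with hk
  have hx₀mem : x₀ ∈ T := by rw [hx₀T]; exact subset_closure rfl
  obtain ⟨t₀, ht₀⟩ : x₀ ∈ Set.range ι := by rw [hrange]; exact hx₀mem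
  have hkt₀ : k t₀ = η := by
    rw [hk, Scheme.Hom.comp_apply, ht₀, hx₀]
  obtain ⟨φ, hφ⟩ : t₀ ∈ Set.range (k.fiberι η) := by
    rw [k.range_fiberι η]; exact hkt₀
  have hgen : ∀ w : k.fiber η, φ ⤳ w := by
    intro w
    rw [← (k.fiberι η).isEmbedding.isInducing.specializes_iff, hφ,
      ← ι.isEmbedding.isInducing.specializes_iff, ht₀, specializes_iff_mem_closure, ← hx₀T,
      ← hrange]
    exact ⟨_, rfl⟩
  have hS : IsClosed ((k.fiberι η) ⁻¹' (ι ⁻¹' B)) :=
    (hB.preimage ι.continuous).preimage (k.fiberι η).continuous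
  have hnd : IsNowhereDense ((k.fiberι η) ⁻¹' (ι ⁻¹' B)) := by
    apply isNowhereDense_of_generic φ hgen _ hS
    show ι (k.fiberι η φ) ∉ B
    rw [hφ, ht₀]
    exact hx₀B
  obtain ⟨V1, hV1ne, H1⟩ := GenNowhereDense.S1298 k (ι ⁻¹' B) (hB.preimage ι.continuous) hnd
  have hηV1 : η ∈ V1 := ((genericPoint_spec Y).mem_open_set_iff V1.isOpen).2 (by simpa using hV1ne)
  obtain ⟨V2, hηV2, H2⟩ := GenFibreDim.exists_open_subset_image f T hT x₀ hx₀mem hx₀
  refine ⟨V1 ⊓ V2, ⟨hηV1, hηV2⟩, ?_⟩
  rintro y ⟨hy1, hy2⟩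
  obtain ⟨x, hxT, hfx⟩ := H2 hy2
  obtain ⟨t, ht⟩ : x ∈ Set.range ι := by rw [hrange]; exact hxT
  have hkt : k t = y := by rw [hk, Scheme.Hom.comp_apply, ht, hfx]
  obtain ⟨w, hw⟩ : t ∈ Set.range (k.fiberι y) := by
    rw [k.range_fiberι y]; exact hkt
  have hnd' := H1 y hy1
  -- a nowhere dense subset of a nonempty space is not everything
  have hex : ∃ w' : k.fiber y, w' ∉ (k.fiberι y) ⁻¹' (ι ⁻¹' B) := by
    by_contra hall
    push Not at hall
    have huniv : (k.fiberι y) ⁻¹' (ι ⁻¹' B) = Set.univ := Set.eq_univ_iff_forall.2 hall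
    have h1 : interior (closure ((k.fiberι y) ⁻¹' (ι ⁻¹' B))) = ∅ := hnd'
    rw [huniv, closure_univ, interior_univ] at h1
    exact (Set.nonempty_iff_univ_nonempty.1 ⟨w⟩).ne_empty h1
  obtain ⟨w', hw'⟩ := hex
  refine ⟨ι (k.fiberι y w'), ?_, ?_, hw'⟩
  · rw [← hrange]; exact ⟨_, rfl⟩
  · have : k.fiberι y w' ∈ Set.range (k.fiberι y) := ⟨w', rfl⟩
    rw [k.range_fiberι y] at this
    have h2 : k (k.fiberι y w') = y := this
    have h3 : k (k.fiberι y w') = f (ι (k.fiberι y w')) := Scheme.Hom.comp_apply _ _ _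
    rw [← h3]; exact h2

theorem S1328 (f : X ⟶ Y) [IrreducibleSpace ↑Y] [LocallyOfFiniteType f] [QuasiCompact f] (n : ℕ)
    (h : (irreducibleComponents ↑(f.fiber (genericPoint ↑Y))).encard = n) :
    ∃ V : Y.Opens, (V : Set ↑Y).Nonempty ∧
      ∀ y ∈ V, (n : ℕ∞) ≤ (irreducibleComponents ↑(f.fiber y)).encard := by
  classical
  set η := genericPoint Y with hη
  have h' : ENat.card ↥(irreducibleComponents ↑(f.fiber η)) = n := h
  have hfin : Finite ↥(irreducibleComponents ↑(f.fiber η)) := by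
    rw [← ENat.card_lt_top, h']; exact ENat.coe_lt_top n
  haveI : Fintype ↥(irreducibleComponents ↑(f.fiber η)) := Fintype.ofFinite _
  have hcard : Fintype.card ↥(irreducibleComponents ↑(f.fiber η)) = n := by
    rw [ENat.card_eq_coe_fintype_card] at h'
    exact_mod_cast h'
  let e : ↥(irreducibleComponents ↑(f.fiber η)) ≃ Fin n := Fintype.equivFinOfCardEq hcard
  let Z : Fin n → Set (f.fiber η) := fun i => (e.symm i).1
  have hZmem : ∀ i, Z i ∈ irreducibleComponents ↑(f.fiber η) := fun i => (e.symm i).2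
  have hZcl : ∀ i, IsClosed (Z i) := fun i => isClosed_of_mem_irreducibleComponents _ (hZmem i)
  have hZcov : ⋃ i, Z i = Set.univ := by
    rw [Set.eq_univ_iff_forall]
    intro w
    have : w ∈ ⋃₀ irreducibleComponents ↑(f.fiber η) := by
      rw [sUnion_irreducibleComponents]; trivial
    obtain ⟨C, hC, hwC⟩ := this
    refine Set.mem_iUnion.2 ⟨e ⟨C, hC⟩, ?_⟩
    show w ∈ (e.symm (e ⟨C, hC⟩)).1
    rw [Equiv.symm_apply_apply]
    exact hwC
  have hgen : ∀ i, ∃ ζ : f.fiber η, IsGenericPoint ζ (Z i) := fun i =>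
    QuasiSober.sober (hZmem i).1 (hZcl i)
  choose ζ hζ using hgen
  let x : Fin n → X := fun i => f.fiberι η (ζ i)
  have hfx : ∀ i, f (x i) = η := by
    intro i
    have : x i ∈ Set.range (f.fiberι η) := ⟨ζ i, rfl⟩
    rw [f.range_fiberι η] at this
    exact this
  let T : Fin n → Set X := fun i => closure (f.fiberι η '' Z i)
  have hTcl : ∀ i, IsClosed (T i) := fun i => isClosed_closure
  have hTgen : ∀ i, T i = closure {x i} := by
    intro i
    show closure (f.fiberι η '' Z i) = closure {x i}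
    rw [← (hζ i).def, closure_image_closure (f.fiberι η).continuous, Set.image_singleton]
  have hTpre : ∀ i, (f.fiberι η) ⁻¹' T i = Z i := by
    intro i
    show (f.fiberι η) ⁻¹' closure (f.fiberι η '' Z i) = Z i
    rw [← (f.fiberι η).isEmbedding.isInducing.closure_eq_preimage_closure_image, (hZcl i).closure_eq]
  have hxT : ∀ i j, i ≠ j → x i ∉ T j := by
    intro i j hij hx
    have h1 : ζ i ∈ Z j := by rw [← hTpre j]; exact hx
    have h2 : Z i ⊆ Z j := by
      rw [← (hζ i).def]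
      exact closure_minimal (by rintro _ rfl; exact h1) (hZcl j)
    have h3 : Z j ⊆ Z i := (hZmem i).2 (hZmem j).1 h2
    have h4 : Z i = Z j := Set.Subset.antisymm h2 h3
    exact hij (e.symm.injective (Subtype.ext h4))
  -- (1) cover
  obtain ⟨V1, hV1ne, H1⟩ := Groth.Agent.S1299.result f Z hZcl hZcov
  have hηV1 : η ∈ V1 := ((genericPoint_spec Y).mem_open_set_iff V1.isOpen).2 (by simpa using hV1ne)
  -- (2) points outside the other T_j
  let B : Fin n → Set X := fun i => ⋃ j ∈ {j : Fin n | j ≠ i}, T j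
  have hBcl : ∀ i, IsClosed (B i) := fun i =>
    (Set.toFinite _).isClosed_biUnion fun j _ => hTcl j
  have hpts : ∀ i : Fin n, ∃ V : Y.Opens, η ∈ V ∧ ∀ y ∈ V, ∃ x' ∈ T i, f x' = y ∧ x' ∉ B i := by
    intro i
    apply exists_open_forall_exists_notMem f (T i) (B i) (hTcl i) (hBcl i) (x i) (hTgen i) (hfx i)
    intro hx
    simp only [B, Set.mem_iUnion, Set.mem_setOf_eq] at hx
    obtain ⟨j, hj, hxj⟩ := hx
    exact hxT i j (Ne.symm hj) hxj
  choose V2 hV2 H2 using hpts
  obtain ⟨V2', hηV2', hV2'⟩ := GenConnComp.exists_opens_le_of_finite η V2 hV2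
  refine ⟨V1 ⊓ V2', ⟨η, hηV1, hηV2'⟩, ?_⟩
  rintro y ⟨hy1, hy2⟩
  -- points in the fibre
  have hw : ∀ i : Fin n, ∃ w : f.fiber y, f.fiberι y w ∈ T i ∧ ∀ j, j ≠ i → f.fiberι y w ∉ T j := by
    intro i
    obtain ⟨x', hx'T, hfx', hx'B⟩ := H2 i y (hV2' i hy2)
    obtain ⟨w, rfl⟩ : x' ∈ Set.range (f.fiberι y) := by
      rw [f.range_fiberι y]; exact hfx'
    refine ⟨w, hx'T, fun j hj hwj => hx'B ?_⟩
    simp only [B, Set.mem_iUnion, Set.mem_setOf_eq]
    exact ⟨j, hj, hwj⟩
  choose w hwT hwn using hw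
  let S : Fin n → Set (f.fiber y) := fun j => (f.fiberι y) ⁻¹' T j
  have hScl : ∀ j, IsClosed (S j) := fun j => (hTcl j).preimage (f.fiberι y).continuous
  have hScov : ⋃ j, S j = Set.univ := H1 y hy1
  have hCsub : ∀ i, irreducibleComponent (w i) ⊆ S i := by
    intro i
    have hirr : IsIrreducible (irreducibleComponent (w i)) := isIrreducible_irreducibleComponent
    obtain ⟨z, hz, hsub⟩ := isIrreducible_iff_sUnion_isClosed.1 hirr (Finset.univ.image S)
      (by
        intro z hz
        obtain ⟨j, -, rfl⟩ := Finset.mem_image.1 hz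
        exact hScl j)
      (by
        intro v _
        have : v ∈ ⋃ j, S j := by rw [hScov]; trivial
        obtain ⟨j, hj⟩ := Set.mem_iUnion.1 this
        exact ⟨S j, by simp, hj⟩)
    obtain ⟨j, -, rfl⟩ := Finset.mem_image.1 hz
    have hwj : w i ∈ S j := hsub mem_irreducibleComponent
    by_cases hji : j = i
    · subst hji; exact hsub
    · exact absurd hwj (hwn i j hji)
  let ψ : Fin n → ↥(irreducibleComponents ↑(f.fiber y)) := fun i =>
    ⟨irreducibleComponent (w i), irreducibleComponent_mem_irreducibleComponents _⟩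
  have hψ : Function.Injective ψ := by
    intro i j hij
    by_contra hne
    have h1 : irreducibleComponent (w i) = irreducibleComponent (w j) := congrArg Subtype.val hij
    have h2 : w j ∈ S i := hCsub i (by rw [h1]; exact mem_irreducibleComponent)
    exact hwn j i hne h2
  have := ENat.card_le_card_of_injective hψ
  simpa using this

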