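import Groth.Prelude.Def_AlgSpGpd

/-!
Point-style calculus for groupoids in sheaves (`AlgSp.GroupoidSp`): `m α β h` is the composite
`α ∘ β` of two composable `T`-valued points.
-/

set_option autoImplicit false
universe u
open CategoryTheory CategoryTheory.Limits AlgebraicGeometry
open AlgSp AlgSp.GroupoidSp

namespace Groth.Agent.Lib.lead.GpdSp

variable {S : Scheme.{u}} {B : AlgSp.Sp S} (G : AlgSp.GroupoidSp B)

/-- composition of two composable `T`-points -/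
noncomputable def m {T : AlgSp.Sp S} (α β : T ⟶ G.R) (h : α ≫ G.s = β ≫ G.t) : T ⟶ G.R :=
  pullback.lift α β h ≫ G.c

theorem m_congr {T : AlgSp.Sp S} {α α' β β' : T ⟶ G.R} (hα : α = α') (hβ : β = β')
    (h : α ≫ G.s = β ≫ G.t) (h' : α' ≫ G.s = β' ≫ G.t) : m G α β h = m G α' β' h' := by
  subst hα hβ
  rfl

theorem m_pre {T T' : AlgSp.Sp S} (f : T' ⟶ T) (α β : T ⟶ G.R) (h : α ≫ G.s = β ≫ G.t) :
    f ≫ m G α β h = m G (f ≫ α) (f ≫ β) (by rw [Category.assoc, Category.assoc, h]) := by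
  unfold m
  rw [← Category.assoc]
  congr 1
  apply pullback.hom_ext
  · rw [Category.assoc, pullback.lift_fst, pullback.lift_fst]
  · rw [Category.assoc, pullback.lift_snd, pullback.lift_snd]

theorem m_s {T : AlgSp.Sp S} (α β : T ⟶ G.R) (h : α ≫ G.s = β ≫ G.t) :
    m G α β h ≫ G.s = β ≫ G.s := G.comp_s α β h

theorem m_t {T : AlgSp.Sp S} (α β : T ⟶ G.R) (h : α ≫ G.s = β ≫ G.t) :
    m G α β h ≫ G.t = α ≫ G.t := G.comp_t α β h

theorem m_assoc {T : AlgSp.Sp S} (α β γ : T ⟶ G.R) (h₁ : α ≫ G.s = β ≫ G.t)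
    (h₂ : β ≫ G.s = γ ≫ G.t) :
    m G (m G α β h₁) γ ((m_s G α β h₁).trans h₂) =
      m G α (m G β γ h₂) (h₁.trans (m_t G β γ h₂).symm) := G.assoc α β γ h₁ h₂

theorem m_e_left {T : AlgSp.Sp S} (α : T ⟶ G.R) (x : T ⟶ G.R) (hx : x = α ≫ G.t ≫ G.e)
    (h : x ≫ G.s = α ≫ G.t) : m G x α h = α := by
  subst hx
  exact G.e_comp α

theorem m_e_right {T : AlgSp.Sp S} (α : T ⟶ G.R) (x : T ⟶ G.R) (hx : x = α ≫ G.s ≫ G.e)
    (h : α ≫ G.s = x ≫ G.t) : m G α x h = α := by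
  subst hx
  exact G.comp_e α

theorem m_i_left {T : AlgSp.Sp S} (α : T ⟶ G.R) (x : T ⟶ G.R) (hx : x = α ≫ G.i)
    (h : x ≫ G.s = α ≫ G.t) : m G x α h = α ≫ G.s ≫ G.e := by
  subst hx
  exact G.i_comp α

theorem m_i_right {T : AlgSp.Sp S} (α : T ⟶ G.R) (x : T ⟶ G.R) (hx : x = α ≫ G.i)
    (h : α ≫ G.s = x ≫ G.t) : m G α x h = α ≫ G.t ≫ G.e := by
  subst hx
  exact G.comp_i α

/-- the point of `R ×_{s,t} R` given by a composable pair composes to `m`. -/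
theorem lift_c {T : AlgSp.Sp S} (α β : T ⟶ G.R) (h : α ≫ G.s = β ≫ G.t) :
    pullback.lift α β h ≫ G.c = m G α β h := rfl

/-- any point `x` of `R ×_{s,t} R` composes to `m (x ≫ fst) (x ≫ snd)`. -/
theorem comp_c {T : AlgSp.Sp S} (x : T ⟶ pullback G.s G.t) :
    x ≫ G.c = m G (x ≫ pullback.fst G.s G.t) (x ≫ pullback.snd G.s G.t)
      (by rw [Category.assoc, Category.assoc, pullback.condition]) := by
  unfold m
  congr 1
  apply pullback.hom_ext
  · rw [pullback.lift_fst]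
  · rw [pullback.lift_snd]

end Groth.Agent.Lib.lead.GpdSp
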