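import Mathlib
import Groth.Agent.Lib.lead.GrpdEquidim
import Groth.Agent.Lib.lead.ClosedLocalDim
import Groth.Prelude.Def_Grpd

set_option autoImplicit false
set_option linter.style.haveILetI false
universe u
open CategoryTheory CategoryTheory.Limits AlgebraicGeometry Topology TopologicalSpace

namespace Groth.Agent.Lib.lead.GrpdClosedPt

open Groth.Agent.Lib.lead

theorem S1887 (S : Scheme.{u}) (G : Grpd.GroupoidScheme S) (k : Type u) [Field k]
    (eU : G.U ≅ Spec (CommRingCat.of k)) [LocallyOfFiniteType G.s] [LocallyOfFiniteType G.t]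
    (r : G.R) (hr : IsClosed ({r} : Set G.R)) :
    (ringKrullDim (G.R.presheaf.stalk r) : WithBot ℕ∞) = topologicalKrullDim G.R := by
  letI oR : G.R.Over (Spec (CommRingCat.of k)) := ⟨G.s ≫ eU.hom⟩
  haveI : LocallyOfFiniteType (G.R ↘ Spec (CommRingCat.of k)) :=
    inferInstanceAs (LocallyOfFiniteType (G.s ≫ eU.hom))
  rw [← ClosedLocalDim.main k G.R r hr]
  exact (GrpdEquidim.S7518 S G k eU).2 r

end Groth.Agent.Lib.lead.GrpdClosedPt
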