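import Mathlib

set_option autoImplicit false
universe u
open CategoryTheory CategoryTheory.Limits AlgebraicGeometry

namespace Groth.Agent.Lib.lead.GrpdEquivRel

/-- A formally unramified morphism locally of finite type which is injective on points with values
in algebraically closed fields is a monomorphism. -/
theorem mono_of_unramified_of_injective {R V : Scheme.{u}} (j : R ⟶ V) [FormallyUnramified j]
    [LocallyOfFiniteType j]
    (h : ∀ (k : Type u) [Field k] [IsAlgClosed k],
      Function.Injective (fun r : Spec (CommRingCat.of k) ⟶ R => r ≫ j)) : Mono j := by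
  rw [← pullback.isIso_diagonal_iff]
  apply isIso_of_isOpenImmersion_of_opensRange_eq_top
  rw [eq_top_iff]
  rintro z -
  let K := AlgebraicClosure ((pullback.diagonalObj j).residueField z)
  let t : Spec (CommRingCat.of K) ⟶ pullback.diagonalObj j :=
    Spec.map (CommRingCat.ofHom (algebraMap ((pullback.diagonalObj j).residueField z) K)) ≫
      (pullback.diagonalObj j).fromSpecResidueField z
  have h12 : t ≫ pullback.fst j j = t ≫ pullback.snd j j := by
    apply h K
    simp only [Category.assoc, pullback.condition]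
  have ht : t = (t ≫ pullback.fst j j) ≫ pullback.diagonal j := by
    apply pullback.hom_ext
    · simp
    · simp [h12]
  have hz : t (IsLocalRing.closedPoint K) = z := by
    simp only [t, Scheme.Hom.comp_apply]
    exact Scheme.fromSpecResidueField_apply z _
  rw [← hz, ht]
  exact ⟨_, rfl⟩

theorem main {S U R : Scheme.{u}} (pU : U ⟶ S) (j : R ⟶ pullback pU pU)
    [FormallyUnramified (j ≫ pullback.fst pU pU)] [LocallyOfFiniteType (j ≫ pullback.fst pU pU)]
    (h₂ : ∀ (k : Type u) [Field k] [IsAlgClosed k],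
      Function.Injective (fun r : Spec (CommRingCat.of k) ⟶ R => r ≫ j))
    (e : U ⟶ R) (he : e ≫ j = pullback.lift (𝟙 U) (𝟙 U) rfl) (i : R ⟶ R)
    (hi : i ≫ j = j ≫ (pullbackSymmetry pU pU).hom)
    (c : pullback (j ≫ pullback.snd pU pU) (j ≫ pullback.fst pU pU) ⟶ R)
    (hc₁ : c ≫ j ≫ pullback.fst pU pU =
      pullback.fst (j ≫ pullback.snd pU pU) (j ≫ pullback.fst pU pU) ≫ j ≫ pullback.fst pU pU)
    (hc₂ : c ≫ j ≫ pullback.snd pU pU =
      pullback.snd (j ≫ pullback.snd pU pU) (j ≫ pullback.fst pU pU) ≫ j ≫ pullback.snd pU pU) :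
    Mono j ∧ ∀ T : Scheme.{u}, Equivalence (fun a b : T ⟶ U =>
      ∃ r : T ⟶ R, r ≫ j ≫ pullback.fst pU pU = a ∧ r ≫ j ≫ pullback.snd pU pU = b) := by
  have : FormallyUnramified j := FormallyUnramified.of_comp j (pullback.fst pU pU)
  have : LocallyOfFiniteType j := locallyOfFiniteType_of_comp j (pullback.fst pU pU)
  refine ⟨mono_of_unramified_of_injective j h₂, fun T => ⟨fun a => ?_, ?_, ?_⟩⟩
  · refine ⟨a ≫ e, ?_, ?_⟩
    · rw [Category.assoc, ← Category.assoc e, he, pullback.lift_fst, Category.comp_id]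
    · rw [Category.assoc, ← Category.assoc e, he, pullback.lift_snd, Category.comp_id]
  · rintro a b ⟨r, rfl, rfl⟩
    refine ⟨r ≫ i, ?_, ?_⟩
    · rw [Category.assoc, ← Category.assoc i, hi, Category.assoc, pullbackSymmetry_hom_comp_fst]
    · rw [Category.assoc, ← Category.assoc i, hi, Category.assoc, pullbackSymmetry_hom_comp_snd]
  · rintro a b d ⟨r, rfl, rfl⟩ ⟨r', hr', rfl⟩
    refine ⟨pullback.lift r r' hr'.symm ≫ c, ?_, ?_⟩
    · rw [Category.assoc, hc₁, pullback.lift_fst_assoc]
    · rw [Category.assoc, hc₂, pullback.lift_snd_assoc]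

end Groth.Agent.Lib.lead.GrpdEquivRel

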