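import Mathlib
import Groth.Agent.Lib.lead.GenFiniteCore
import Groth.Agent.Lib.Helper9.VCov4
import Groth.Prelude.Def_W4c2submetdescSubtr
import Groth.Prelude.Def_SGA1

set_option autoImplicit false
set_option linter.style.haveILetI false
set_option linter.unusedSectionVars false
universe u
open CategoryTheory CategoryTheory.Limits AlgebraicGeometry Topology TopologicalSpace

namespace Groth.Agent.Lib.lead.SubmVal

open Groth.Agent.Lib.lead Groth.Agent.Lib.Helper9

/-- a quasi-compact surjective morphism under which closedness of preimages forces stability under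
specialization is a quotient map -/
theorem isQuotientMap_of_stable {X Y : Scheme.{u}} (f : X ⟶ Y) [QuasiCompact f]
    (hsurj : Function.Surjective f)
    (h : ∀ Z : Set Y, IsClosed (f ⁻¹' Z) → StableUnderSpecialization Z) :
    Topology.IsQuotientMap f := by
  rw [isQuotientMap_iff_isClosed]
  refine ⟨hsurj, fun Z => ⟨fun hZ => hZ.preimage f.continuous, fun hZ => ?_⟩⟩
  rw [← closure_subset_iff_isClosed]
  intro y hy
  have himg : f '' (f ⁻¹' Z) = Z := Set.image_preimage_eq Z hsurj
  rw [← himg] at hy
  obtain ⟨c, hc, hcy⟩ := GenFiniteCore.exists_specializes_of_mem_closure_image f _ hZ y hy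
  exact h Z hZ hcy hc

set_option backward.isDefEq.respectTransparency.types false in
theorem S14767 {X Y : Scheme.{u}} (f : X ⟶ Y) [QuasiCompact f] :
    SGA1.UnivSubmersive f ↔
      ∀ (V : Type u) [CommRing V] [IsDomain V] [ValuationRing V] (g : Spec (CommRingCat.of V) ⟶ Y),
        Topology.IsQuotientMap (pullback.snd f g) := by
  constructor
  · intro h V _ _ _ g
    exact h _ _ _ (IsPullback.of_hasPullback f g).flip
  · intro h X' Y' i₁ i₂ f' hpb
    haveI : QuasiCompact f' := MorphismProperty.of_isPullback (P := @QuasiCompact) hpb.flip ‹_›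
    -- the comparison map from a valuation-ring base change into `X'`
    have key : ∀ (W : CommRingCat.{u}) (k : Spec W ⟶ Y'),
        ∃ u : pullback f (k ≫ i₂) ⟶ X', u ≫ f' = pullback.snd f (k ≫ i₂) ≫ k := by
      intro W k
      exact ⟨hpb.lift (pullback.snd f (k ≫ i₂) ≫ k) (pullback.fst f (k ≫ i₂))
        (by rw [Category.assoc, pullback.condition]), hpb.lift_fst _ _ _⟩
    show Topology.IsQuotientMap f'
    refine isQuotientMap_of_stable f' ?_ ?_
    · intro y
      obtain ⟨W, hD, hV, k, hk1, hk2⟩ :=
        VCov.exists_valuationRing_of_specializes (specializes_rfl : y ⤳ y)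
      obtain ⟨u, hu⟩ := key W k
      obtain ⟨p, hp⟩ := (h W (k ≫ i₂)).surjective (VCov.clPt W)
      refine ⟨u p, ?_⟩
      rw [← Scheme.Hom.comp_apply, hu, Scheme.Hom.comp_apply, hp, hk2]
    · intro Z hZ y y' hyy' hy
      -- `y ⤳ y'`, `y ∈ Z`
      obtain ⟨W, hD, hV, k, hk1, hk2⟩ := VCov.exists_valuationRing_of_specializes hyy'
      obtain ⟨u, hu⟩ := key W k
      have hq := h W (k ≫ i₂)
      have hcl : IsClosed (k ⁻¹' Z) := by
        rw [← hq.isClosed_preimage]
        have : pullback.snd f (k ≫ i₂) ⁻¹' (k ⁻¹' Z) = u ⁻¹' (f' ⁻¹' Z) := by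
          ext p
          show k (pullback.snd f (k ≫ i₂) p) ∈ Z ↔ f' (u p) ∈ Z
          rw [← Scheme.Hom.comp_apply, ← Scheme.Hom.comp_apply, hu]
        rw [this]
        exact hZ.preimage u.continuous
      have hgen : VCov.genPt W ∈ k ⁻¹' Z := by
        show k (VCov.genPt W) ∈ Z
        rw [hk1]; exact hy
      have hcl' : VCov.clPt W ∈ k ⁻¹' Z :=
        hcl.stableUnderSpecialization (VCov.genPt_specializes W _) hgen
      have : k (VCov.clPt W) ∈ Z := hcl'
      rwa [hk2] at this

end Groth.Agent.Lib.lead.SubmVal
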