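import Mathlib
import Groth.Agent.Lib.lead.UnivOpenComp
import Groth.Agent.Lib.Helper4.OpenGeneralizing
import Groth.Agent.S4450

open CategoryTheory CategoryTheory.Limits AlgebraicGeometry TensorProduct

universe u

namespace Groth.Agent.Lib.lead.UnivOpenDvr

open Groth.Agent.Lib.lead.UnivOpenAffine Groth.Agent.Lib.lead.UnivOpenComp

/-- An open morphism: every irreducible component dominates an irreducible target whose generic
point is `η`. -/
theorem dense_image_of_isOpenMap {P T : Scheme.{u}} (F : P ⟶ T) (hF : IsOpenMap F.base)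
    (η : T) (hη : ∀ t : T, η ⤳ t) (Z : Set P) (hZ : Z ∈ irreducibleComponents (↥P : Type u)) :
    Dense (F.base '' Z) := by
  have hZirr : IsIrreducible Z := hZ.1
  have hZcl : IsClosed Z := isClosed_of_mem_irreducibleComponents Z hZ
  obtain ⟨ζ, hζ⟩ := QuasiSober.sober hZirr hZcl
  have hgen := Groth.Agent.Lib.Helper4.OpenGeneralizing.main F hF
  obtain ⟨ζ', hζ', hFζ'⟩ := hgen (hη (F.base ζ))
  -- closure {ζ'} is irreducible and contains Z
  have hsub : Z ⊆ closure {ζ'} := by
    rw [← hζ.def]
    exact closure_minimal (Set.singleton_subset_iff.mpr hζ'.mem_closure) isClosed_closure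
  have hle : closure {ζ'} ⊆ Z := hZ.2 isIrreducible_singleton.closure hsub
  have hmem : ζ' ∈ Z := hle (subset_closure rfl)
  intro t
  have : η ∈ F.base '' Z := ⟨ζ', hmem, hFζ'⟩
  exact closure_mono (Set.singleton_subset_iff.mpr this) (hη t).mem_closure

/-- the point of `Spec A` (A a valuation subring of `K`) hit by `Spec K`. -/
theorem specMap_subtype_apply {K : Type u} [Field K] (A : ValuationSubring K)
    (pt : Spec (CommRingCat.of K)) :
    (Spec.map (CommRingCat.ofHom A.subtype)).base pt = (⊥ : PrimeSpectrum A) := by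
  apply PrimeSpectrum.ext
  change Ideal.comap A.subtype pt.asIdeal = ⊥
  have : pt.asIdeal = ⊥ := by
    have := pt.2
    exact ((Ideal.eq_bot_or_top pt.asIdeal).resolve_right this.ne_top)
  rw [this]
  ext a
  simp only [Ideal.mem_comap, Ideal.mem_bot]
  exact ⟨fun h => Subtype.ext h, fun h => by rw [h]; rfl⟩

open AlgebraicGeometry.AffineSpace in
theorem S4931 {X Y : Scheme.{u}} [IsLocallyNoetherian Y] (f : X ⟶ Y)
    [LocallyOfFiniteType f] :
    UniversallyOpen f ↔
      ∀ (A : Type u) [CommRing A] [IsDomain A] [IsDiscreteValuationRing A] (g : Spec (CommRingCat.of A) ⟶ Y),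
        ∀ Z ∈ irreducibleComponents (↥(pullback f g) : Type u), Dense ((pullback.snd f g).base '' Z) := by
  constructor
  · intro hf A _ _ _ g Z hZ
    have hopen : IsOpenMap (pullback.snd f g).base := (pullback.snd f g).isOpenMap
    refine dense_image_of_isOpenMap (pullback.snd f g) hopen (⊥ : PrimeSpectrum A) ?_ Z hZ
    intro t
    exact (PrimeSpectrum.le_iff_specializes _ _).mp bot_le
  · intro h
    apply universallyOpen_of_affOpen
    intro n _
    have : IsLocallyNoetherian 𝔸(n; Y) := LocallyOfFiniteType.isLocallyNoetherian (𝔸(n; Y) ↘ Y)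
    have : LocallyOfFiniteType (AffineSpace.map n f) :=
      MorphismProperty.of_isPullback (P := @LocallyOfFiniteType) (isPullback_map f).flip
        inferInstance
    apply isOpenMap_of_generalizingMap
    apply generalizingMap_map
    intro t₁ t₀ hsp hne
    obtain ⟨A, hA, hdvr, hcl, hcomm⟩ := Groth.Agent.S4450.result (𝟙 𝔸(n; Y)) t₁ t₀ hsp hne.symm
    refine ⟨Spec (CommRingCat.of A), hA, (⊥ : PrimeSpectrum A), IsLocalRing.closedPoint A,
      ?_, ?_, hcl, ?_⟩
    · intro t
      exact (PrimeSpectrum.le_iff_specializes _ _).mp bot_le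
    · obtain ⟨pt⟩ : Nonempty (Spec (CommRingCat.of (𝔸(n; Y).residueField t₁))) := inferInstance
      rw [← specMap_subtype_apply A pt, ← Scheme.Hom.comp_apply, hcomm, Category.comp_id]
      exact Scheme.fromSpecResidueField_apply t₁ pt
    · exact h A (hA ≫ 𝔸(n; Y) ↘ Y)


end Groth.Agent.Lib.lead.UnivOpenDvr
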