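import Mathlib
import Groth.Prelude.Def_EGA43
import Groth.Agent.Lib.lead.OpenAtSch
import Groth.Agent.Lib.lead.UnivOpenDvr
import Groth.Agent.S4450

open CategoryTheory CategoryTheory.Limits AlgebraicGeometry TensorProduct Topology

universe u

namespace Groth.Agent.Lib.lead.UnivOpenAtDvr

open EGA43 Groth.Agent.Lib.lead.UnivOpenAffine Groth.Agent.Lib.lead.OpenAt
  Groth.Agent.Lib.lead.OpenAtSch Groth.Agent.Lib.lead.UnivOpenComp Groth.Agent.Lib.lead.UnivOpenDvr

/-- a point of the spectrum of a DVR is the generic or the closed point -/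
theorem eq_bot_of_ne_closedPoint (A : Type u) [CommRing A] [IsDomain A]
    [IsDiscreteValuationRing A] (P : PrimeSpectrum A) (hP : P ≠ IsLocalRing.closedPoint A) :
    P = (⊥ : PrimeSpectrum A) := by
  by_contra hne
  apply hP
  have h1 : P.asIdeal ≠ ⊥ := fun h => hne (PrimeSpectrum.ext h)
  have h2 : P.asIdeal.IsMaximal := Ring.DimensionLEOne.maximalOfPrime h1 P.2
  exact PrimeSpectrum.ext (IsLocalRing.eq_maximalIdeal h2)

theorem bot_ne_closedPoint (A : Type u) [CommRing A] [IsDomain A]
    [IsDiscreteValuationRing A] : (⊥ : PrimeSpectrum A) ≠ IsLocalRing.closedPoint A := by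
  intro h
  have := congrArg PrimeSpectrum.asIdeal h
  exact IsDiscreteValuationRing.not_a_field A this.symm

theorem bot_specializes (A : Type u) [CommRing A] [IsDomain A] (t : PrimeSpectrum A) :
    (⊥ : PrimeSpectrum A) ⤳ t :=
  (PrimeSpectrum.le_iff_specializes _ _).mp bot_le

open AlgebraicGeometry.AffineSpace in
theorem S2587 {X Y : Scheme.{u}} [IsLocallyNoetherian Y] (f : X ⟶ Y)
    [LocallyOfFiniteType f] (x : X) :
    EGA43.IsUnivOpenAt f x ↔
      ∀ (A : Type u) [CommRing A] [IsDomain A] [IsDiscreteValuationRing A]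
        (g : Spec (CommRingCat.of A) ⟶ Y), g.base (IsLocalRing.closedPoint A) = f.base x →
        ∀ x' : ↥(pullback f g), (pullback.fst f g).base x' = x →
          (pullback.snd f g).base x' = IsLocalRing.closedPoint A →
          ∃ z' : ↥(pullback f g), z' ⤳ x' ∧ (pullback.snd f g).base z' ≠ IsLocalRing.closedPoint A := by
  constructor
  · intro h A _ _ _ g hg x' hx' hs
    have hopen := h _ g x' hx'
    obtain ⟨z', hz', hz'η⟩ := exists_specializes_of_isOpenAt (pullback.snd f g) x' hopen
      (⊥ : PrimeSpectrum A) (bot_specializes A _)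
    refine ⟨z', hz', ?_⟩
    rw [hz'η]
    exact bot_ne_closedPoint A
  · intro h
    apply isUnivOpenAt_of_affOpenAt
    intro n _ q hq
    have : IsLocallyNoetherian 𝔸(n; Y) := LocallyOfFiniteType.isLocallyNoetherian (𝔸(n; Y) ↘ Y)
    have : LocallyOfFiniteType (AffineSpace.map n f) :=
      MorphismProperty.of_isPullback (P := @LocallyOfFiniteType) (isPullback_map f).flip
        inferInstance
    apply isOpenAt_of_generalizing
    intro t₁ ht₁
    by_cases hne : t₁ = (AffineSpace.map n f).base q
    · exact ⟨q, specializes_rfl, hne.symm⟩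
    obtain ⟨A, hA, hdvr, hcl, hcomm⟩ := Groth.Agent.S4450.result (𝟙 𝔸(n; Y)) t₁ _ ht₁
      (Ne.symm hne)
    have hP := isPullback_left f n hA
    obtain ⟨p, hp₁, hp₂⟩ := Scheme.exists_preimage_of_isPullback hP q
      (IsLocalRing.closedPoint A) hcl.symm
    have hfst : (pullback.fst f (hA ≫ 𝔸(n; Y) ↘ Y)).base p = x := by
      rw [← hq, ← hp₁, ← Scheme.Hom.comp_apply, IsPullback.lift_snd]
    have hg : (hA ≫ 𝔸(n; Y) ↘ Y).base (IsLocalRing.closedPoint A) = f.base x := by
      rw [Scheme.Hom.comp_apply, hcl, ← Scheme.Hom.comp_apply, map_over, Scheme.Hom.comp_apply, hq]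
    obtain ⟨z', hz', hz'ne⟩ := h A (hA ≫ 𝔸(n; Y) ↘ Y) hg p hfst hp₂
    have hz'bot := eq_bot_of_ne_closedPoint A _ hz'ne
    refine ⟨_, (hp₁ ▸ hz'.map (Scheme.Hom.continuous _)), ?_⟩
    have h1 := congr(($hP.w).base z')
    simp only [Scheme.Hom.comp_base, TopCat.hom_comp, ContinuousMap.comp_apply] at h1
    rw [h1, hz'bot]
    obtain ⟨pt⟩ : Nonempty (Spec (CommRingCat.of (𝔸(n; Y).residueField t₁))) := inferInstance
    rw [← specMap_subtype_apply A pt, ← Scheme.Hom.comp_apply, hcomm, Category.comp_id]
    exact Scheme.fromSpecResidueField_apply t₁ pt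


/-- the generic point of a closed irreducible set with dense image maps to a generic point -/
theorem specializes_of_dense_image {P T : Scheme.{u}} (F : P ⟶ T) (Z : Set P) (ζ : P)
    (hζ : IsGenericPoint ζ Z) (hd : Dense (F.base '' Z)) (t : T) : F.base ζ ⤳ t := by
  rw [specializes_iff_mem_closure]
  have h1 : F.base '' Z ⊆ closure {F.base ζ} := by
    rw [← hζ.def]
    refine (image_closure_subset_closure_image F.continuous).trans ?_
    simp
  exact (closure_minimal h1 isClosed_closure) (hd t)

theorem S4930 {X Y : Scheme.{u}} [IsLocallyNoetherian Y] (f : X ⟶ Y)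
    [LocallyOfFiniteType f] (y : Y) :
    (∀ x : X, f.base x = y → EGA43.IsUnivOpenAt f x) ↔
      ∀ (A : Type u) [CommRing A] [IsDomain A] [IsDiscreteValuationRing A] (g : Spec (CommRingCat.of A) ⟶ Y),
        g.base (IsLocalRing.closedPoint A) = y →
        ∀ Z ∈ irreducibleComponents (↥(pullback f g) : Type u), Dense ((pullback.snd f g).base '' Z) := by
  constructor
  · intro h A _ _ _ g hg Z hZ
    have hZirr : IsIrreducible Z := hZ.1
    have hZcl : IsClosed Z := isClosed_of_mem_irreducibleComponents Z hZ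
    obtain ⟨ζ, hζ⟩ := QuasiSober.sober hZirr hZcl
    have hbot : (pullback.snd f g).base ζ = (⊥ : PrimeSpectrum A) := by
      apply eq_bot_of_ne_closedPoint
      intro hs
      have hfx : f.base ((pullback.fst f g).base ζ) = y := by
        rw [← Scheme.Hom.comp_apply, pullback.condition, Scheme.Hom.comp_apply, hs, hg]
      obtain ⟨z', hz', hz'ne⟩ := (S2587 f _).mp (h _ hfx) A g (hg.trans hfx.symm) ζ rfl hs
      -- `z'` is also a generic point of `Z`
      have hsub : Z ⊆ closure {z'} := by
        rw [← hζ.def]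
        exact closure_minimal (Set.singleton_subset_iff.mpr hz'.mem_closure) isClosed_closure
      have hle : closure {z'} ⊆ Z := hZ.2 isIrreducible_singleton.closure hsub
      have hz'gen : IsGenericPoint z' Z := Set.Subset.antisymm hle hsub
      have : z' = ζ := hz'gen.eq hζ
      exact hz'ne (this ▸ hs)
    intro t
    have : (⊥ : PrimeSpectrum A) ∈ (pullback.snd f g).base '' Z :=
      ⟨ζ, hζ.mem, hbot⟩
    exact closure_mono (Set.singleton_subset_iff.mpr this) (bot_specializes A t).mem_closure
  · intro h x hx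
    rw [S2587]
    intro A _ _ _ g hg x' hx' hs
    have hW := irreducibleComponent_mem_irreducibleComponents x'
    obtain ⟨ζ, hζ⟩ := QuasiSober.sober (isIrreducible_irreducibleComponent (x := x'))
      isClosed_irreducibleComponent
    have hζx' : ζ ⤳ x' := by
      rw [specializes_iff_mem_closure, hζ.def]
      exact mem_irreducibleComponent
    have hd := h A g (hg.trans hx) _ hW
    have h1 := specializes_of_dense_image (pullback.snd f g) _ ζ hζ hd (⊥ : PrimeSpectrum A)
    have h2 : (pullback.snd f g).base ζ = (⊥ : PrimeSpectrum A) :=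
      (h1.antisymm (bot_specializes A _)).eq
    exact ⟨ζ, hζx', h2 ▸ bot_ne_closedPoint A⟩


end Groth.Agent.Lib.lead.UnivOpenAtDvr
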