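import Mathlib
import Groth.Agent.Lib.lead.UnivSubtrAffine
import Groth.Agent.Lib.lead.SubmVal
import Groth.Agent.Lib.lead.UnivOpenAtDvr

open CategoryTheory CategoryTheory.Limits AlgebraicGeometry TensorProduct Topology

universe u

namespace Groth.Agent.Lib.lead.SubmSubtr

open AlgebraicGeometry.AffineSpace MorphismProperty
open Groth.Agent.Lib.lead.UnivOpenDvr Groth.Agent.Lib.lead.UnivOpenAtDvr
open Groth.Agent.Lib.Helper9

/-- quasi-compact + S-subtrusive ⇒ quotient map -/
theorem isQuotientMap_of_isSSubtrusive {X Y : Scheme.{u}} (f : X ⟶ Y) [QuasiCompact f]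
    (h : Subtr.IsSSubtrusive f) : Topology.IsQuotientMap f := by
  refine SubmVal.isQuotientMap_of_stable f ?_ ?_
  · intro y
    obtain ⟨x, x', -, hx, -⟩ := h (specializes_rfl : y ⤳ y)
    exact ⟨x, hx⟩
  · intro Z hZ a b hab ha
    obtain ⟨x, x', hxx', hx, hx'⟩ := h hab
    have hx'Z : x' ∈ f ⁻¹' Z := by
      show f x' ∈ Z
      rw [hx']; exact ha
    have hxZ : x ∈ f ⁻¹' Z := hxx'.mem_closed hZ hx'Z
    rw [← hx]
    exact hxZ

theorem univSubmersive_of_univSSubtrusive {X Y : Scheme.{u}} (f : X ⟶ Y) [QuasiCompact f]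
    (h : Subtr.UnivSSubtrusive f) : SGA1.UnivSubmersive f := by
  intro X' Y' i₁ i₂ f' hpb
  have : QuasiCompact f' := MorphismProperty.of_isPullback (P := @QuasiCompact) hpb.flip ‹_›
  exact isQuotientMap_of_isSSubtrusive f' (h _ _ _ hpb)

set_option backward.isDefEq.respectTransparency.types false in
/-- over a locally Noetherian base a universally submersive morphism is S-subtrusive -/
theorem isSSubtrusive_of_univSubmersive {P T : Scheme.{u}} [IsLocallyNoetherian T] (F : P ⟶ T)
    (hF : SGA1.UnivSubmersive F) : Subtr.IsSSubtrusive F := by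
  have hFq : Topology.IsQuotientMap F := hF _ _ _ IsPullback.of_id_snd
  intro y y' hyy'
  by_cases hne : y = y'
  · subst hne
    obtain ⟨x, hx⟩ := hFq.surjective y
    exact ⟨x, x, specializes_rfl, hx, hx⟩
  obtain ⟨A, k, hdvr, hcl, hcomm⟩ := Groth.Agent.S4450.result (𝟙 T) y' y hyy' hne
  have hgen : k.base (⊥ : PrimeSpectrum A) = y' := by
    obtain ⟨pt⟩ : Nonempty (Spec (CommRingCat.of (T.residueField y'))) := inferInstance
    rw [← specMap_subtype_apply A pt, ← Scheme.Hom.comp_apply, hcomm, Category.comp_id]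
    exact Scheme.fromSpecResidueField_apply y' pt
  set G := pullback.snd F k with hG
  have hq : Topology.IsQuotientMap G := hF _ _ _ (IsPullback.of_hasPullback F k).flip
  have hS : Subtr.IsSSubtrusive G := by
    refine ((SubtrVal.S14765 A G).out 2 1).mp ?_
    intro t
    by_cases ht : t = IsLocalRing.closedPoint A
    · subst ht
      by_contra hcon
      push Not at hcon
      -- then the generic fibre is closed
      have hclosed : IsClosed (G ⁻¹' {(⟨⊥, Ideal.isPrime_bot⟩ : PrimeSpectrum A)}) := by
        rw [← closure_subset_iff_isClosed]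
        intro x hx
        have h1 : G x ≠ IsLocalRing.closedPoint A := hcon x hx
        exact eq_bot_of_ne_closedPoint A _ h1
      have h2 : IsClosed ({(⟨⊥, Ideal.isPrime_bot⟩ : PrimeSpectrum A)} : Set (Spec (CommRingCat.of A))) :=
        hq.isClosed_preimage.mp hclosed
      have h3 : (⊥ : PrimeSpectrum A) ⤳ IsLocalRing.closedPoint A := bot_specializes A _
      have h4 : IsLocalRing.closedPoint A ∈
          ({(⟨⊥, Ideal.isPrime_bot⟩ : PrimeSpectrum A)} : Set (Spec (CommRingCat.of A))) :=
        h3.mem_closed h2 rfl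
      exact bot_ne_closedPoint A h4.symm
    · have ht' : t = (⊥ : PrimeSpectrum A) := eq_bot_of_ne_closedPoint A t ht
      obtain ⟨x, hx⟩ := hq.surjective t
      refine ⟨x, subset_closure ?_, hx⟩
      show G x = _
      rw [hx, ht']
      rfl
  obtain ⟨p, p', hpp', hp, hp'⟩ := hS (bot_specializes A (IsLocalRing.closedPoint A))
  refine ⟨(pullback.fst F k).base p, (pullback.fst F k).base p',
    hpp'.map (Scheme.Hom.continuous _), ?_, ?_⟩
  · show F.base ((pullback.fst F k).base p) = y
    rw [← Scheme.Hom.comp_apply, pullback.condition, Scheme.Hom.comp_apply]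
    have : (pullback.snd F k).base p = IsLocalRing.closedPoint A := hp
    rw [this, hcl]
  · show F.base ((pullback.fst F k).base p') = y'
    rw [← Scheme.Hom.comp_apply, pullback.condition, Scheme.Hom.comp_apply]
    have : (pullback.snd F k).base p' = (⊥ : PrimeSpectrum A) := hp'
    rw [this, hgen]

theorem S14770 {X Y : Scheme.{u}}
    [IsLocallyNoetherian Y] (f : X ⟶ Y) [QuasiCompact f] :
    SGA1.UnivSubmersive f ↔ Subtr.UnivSSubtrusive f := by
  constructor
  · intro h
    rw [UnivSubtrAffine.S14772]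
    intro n _
    have : IsLocallyNoetherian 𝔸(ULift.{u} (Fin n); Y) :=
      LocallyOfFiniteType.isLocallyNoetherian (𝔸(ULift.{u} (Fin n); Y) ↘ Y)
    apply isSSubtrusive_of_univSubmersive
    intro X' Y' i₁ i₂ f' hpb
    exact h _ _ _ (hpb.paste_vert (IsPullback.of_hasPullback f _).flip)
  · exact univSubmersive_of_univSSubtrusive f


end Groth.Agent.Lib.lead.SubmSubtr
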