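import Mathlib
import Groth.Agent.Lib.lead.SubmSubtr

open CategoryTheory CategoryTheory.Limits AlgebraicGeometry TensorProduct Topology

universe u

namespace Groth.Agent.Lib.lead.SubmSubtrDvr

open AlgebraicGeometry.AffineSpace MorphismProperty
open Groth.Agent.Lib.lead.UnivOpenDvr Groth.Agent.Lib.lead.UnivOpenAtDvr
open Groth.Agent.Lib.lead.UnivSubtrAffine Groth.Agent.Lib.lead.SubmSubtr
open Groth.Agent.Lib.Helper9

example (D : Type u) [CommRing D] [IsDomain D] [IsDiscreteValuationRing D] : ValuationRing D :=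
  inferInstance

set_option backward.isDefEq.respectTransparency.types false in
/-- over a locally Noetherian base, S-subtrusiveness can be tested after base change to DVRs -/
theorem isSSubtrusive_of_dvr {P T : Scheme.{u}} [IsLocallyNoetherian T] (F : P ⟶ T)
    (hF : ∀ (D : Type u) [CommRing D] [IsDomain D] [IsDiscreteValuationRing D]
      (g : Spec (CommRingCat.of D) ⟶ T), Subtr.IsSSubtrusive (pullback.snd F g)) :
    Subtr.IsSSubtrusive F := by
  intro y y' hyy'
  by_cases hne : y = y'
  · subst hne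
    let D := PowerSeries (T.residueField y)
    let g : Spec (CommRingCat.of D) ⟶ T :=
      Spec.map (CommRingCat.ofHom (PowerSeries.C : T.residueField y →+* D)) ≫
        T.fromSpecResidueField y
    have hS := hF D g
    obtain ⟨p, p', -, hp, -⟩ := hS (specializes_rfl : IsLocalRing.closedPoint D ⤳ _)
    have hx : F.base ((pullback.fst F g).base p) = y := by
      rw [← Scheme.Hom.comp_apply, pullback.condition, Scheme.Hom.comp_apply, Scheme.Hom.comp_apply]
      exact Scheme.fromSpecResidueField_apply y _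
    exact ⟨_, _, specializes_rfl, hx, hx⟩
  obtain ⟨A, k, hdvr, hcl, hcomm⟩ := Groth.Agent.S4450.result (𝟙 T) y' y hyy' hne
  have hgen : k.base (⊥ : PrimeSpectrum A) = y' := by
    obtain ⟨pt⟩ : Nonempty (Spec (CommRingCat.of (T.residueField y'))) := inferInstance
    rw [← specMap_subtype_apply A pt, ← Scheme.Hom.comp_apply, hcomm, Category.comp_id]
    exact Scheme.fromSpecResidueField_apply y' pt
  have hS : Subtr.IsSSubtrusive (pullback.snd F k) := hF A k
  obtain ⟨p, p', hpp', hp, hp'⟩ := hS (bot_specializes A (IsLocalRing.closedPoint A))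
  refine ⟨(pullback.fst F k).base p, (pullback.fst F k).base p',
    hpp'.map (Scheme.Hom.continuous _), ?_, ?_⟩
  · show F.base ((pullback.fst F k).base p) = y
    rw [← Scheme.Hom.comp_apply, pullback.condition, Scheme.Hom.comp_apply]
    have : (pullback.snd F k).base p = IsLocalRing.closedPoint A := hp
    rw [this, hcl]
  · show F.base ((pullback.fst F k).base p') = y'
    rw [← Scheme.Hom.comp_apply, pullback.condition, Scheme.Hom.comp_apply]
    have : (pullback.snd F k).base p' = (⊥ : PrimeSpectrum A) := hp'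
    rw [this, hgen]

/-- the lifting data make the base change to `Spec D` S-subtrusive -/
theorem isSSubtrusive_snd_of_lift {X Y : Scheme.{u}} (f : X ⟶ Y) (D : Type u) [CommRing D]
    [IsDomain D] [IsDiscreteValuationRing D] (g : Spec (CommRingCat.of D) ⟶ Y)
    (h : ∃ (D' : Type u) (_ : CommRing D') (_ : IsDomain D') (_ : IsDiscreteValuationRing D')
          (a : Spec (CommRingCat.of D') ⟶ X) (b : Spec (CommRingCat.of D') ⟶ Spec (CommRingCat.of D)),
          Surjective b ∧ a ≫ f = b ≫ g) :
    Subtr.IsSSubtrusive (pullback.snd f g) := by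
  obtain ⟨D', hC, hD, hV, a, b, hsurj, hab⟩ := h
  refine ((SubtrVal.S14765 D (pullback.snd f g)).out 4 1).mp ?_
  refine ⟨D', hC, hD, inferInstance, pullback.lift a b hab, ?_⟩
  rw [pullback.lift_snd]
  exact hsurj

set_option backward.isDefEq.respectTransparency.types false in
theorem exists_lift_of_univSSubtrusive {X Y : Scheme.{u}} [IsLocallyNoetherian Y]
    (f : X ⟶ Y) [LocallyOfFiniteType f] (h : Subtr.UnivSSubtrusive f)
    (D : Type u) [CommRing D] [IsDomain D] [IsDiscreteValuationRing D]
    (g : Spec (CommRingCat.of D) ⟶ Y) :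
    ∃ (D' : Type u) (_ : CommRing D') (_ : IsDomain D') (_ : IsDiscreteValuationRing D')
      (a : Spec (CommRingCat.of D') ⟶ X) (b : Spec (CommRingCat.of D') ⟶ Spec (CommRingCat.of D)),
      Surjective b ∧ a ≫ f = b ≫ g := by
  set G := pullback.snd f g with hG
  have hS : Subtr.IsSSubtrusive G := h _ _ _ (IsPullback.of_hasPullback f g).flip
  obtain ⟨p, p', hpp', hp, hp'⟩ := hS (bot_specializes D (IsLocalRing.closedPoint D))
  have hne : p ≠ p' := by
    intro e
    rw [e] at hp
    have : (⊥ : PrimeSpectrum D) = IsLocalRing.closedPoint D := hp'.symm.trans hp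
    exact bot_ne_closedPoint D this
  have : IsLocallyNoetherian (pullback f g) := LocallyOfFiniteType.isLocallyNoetherian G
  obtain ⟨A, k, hdvr, hcl, hcomm⟩ := Groth.Agent.S4450.result (𝟙 (pullback f g)) p' p hpp' hne
  have hgen : k.base (⊥ : PrimeSpectrum A) = p' := by
    obtain ⟨pt⟩ : Nonempty (Spec (CommRingCat.of ((pullback f g).residueField p'))) := inferInstance
    rw [← specMap_subtype_apply A pt, ← Scheme.Hom.comp_apply, hcomm, Category.comp_id]
    exact Scheme.fromSpecResidueField_apply p' pt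
  refine ⟨A, inferInstance, inferInstance, hdvr, k ≫ pullback.fst f g, k ≫ G, ⟨fun t => ?_⟩, ?_⟩
  · by_cases ht : t = IsLocalRing.closedPoint D
    · refine ⟨IsLocalRing.closedPoint A, ?_⟩
      rw [Scheme.Hom.comp_apply, hcl, ht]
      exact hp
    · have ht' : t = (⊥ : PrimeSpectrum D) := eq_bot_of_ne_closedPoint D t ht
      refine ⟨(⊥ : PrimeSpectrum A), ?_⟩
      rw [Scheme.Hom.comp_apply, hgen, ht']
      exact hp'
  · rw [Category.assoc, Category.assoc, pullback.condition]

theorem univSSubtrusive_of_exists_lift {X Y : Scheme.{u}} [IsLocallyNoetherian Y]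
    (f : X ⟶ Y) [QuasiCompact f]
    (h : ∀ (D : Type u) [CommRing D] [IsDomain D] [IsDiscreteValuationRing D]
      (g : Spec (CommRingCat.of D) ⟶ Y),
        ∃ (D' : Type u) (_ : CommRing D') (_ : IsDomain D') (_ : IsDiscreteValuationRing D')
          (a : Spec (CommRingCat.of D') ⟶ X) (b : Spec (CommRingCat.of D') ⟶ Spec (CommRingCat.of D)),
          Surjective b ∧ a ≫ f = b ≫ g) :
    Subtr.UnivSSubtrusive f := by
  rw [UnivSubtrAffine.S14772]
  intro n _
  have : IsLocallyNoetherian 𝔸(ULift.{u} (Fin n); Y) :=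
    LocallyOfFiniteType.isLocallyNoetherian (𝔸(ULift.{u} (Fin n); Y) ↘ Y)
  apply isSSubtrusive_of_dvr
  intro D _ _ _ g
  set j := 𝔸(ULift.{u} (Fin n); Y) ↘ Y with hj
  have h5 := pullbackLeftPullbackSndIso_hom_snd f j g
  have h6 : pullback.snd (pullback.snd f j) g = (pullbackLeftPullbackSndIso f j g).hom ≫
      pullback.snd f (g ≫ j) := h5.symm
  rw [h6]
  exact isSSubtrusive_iso_comp _ (isSSubtrusive_snd_of_lift f D (g ≫ j) (h D (g ≫ j)))

theorem S14771 {X Y : Scheme.{u}} [IsLocallyNoetherian Y]
    (f : X ⟶ Y) [LocallyOfFiniteType f] [QuasiCompact f] :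
    List.TFAE [
      SGA1.UnivSubmersive f,
      Subtr.UnivSSubtrusive f,
      ∀ (D : Type u) [CommRing D] [IsDomain D] [IsDiscreteValuationRing D] (g : Spec (CommRingCat.of D) ⟶ Y),
        ∃ (D' : Type u) (_ : CommRing D') (_ : IsDomain D') (_ : IsDiscreteValuationRing D')
          (a : Spec (CommRingCat.of D') ⟶ X) (b : Spec (CommRingCat.of D') ⟶ Spec (CommRingCat.of D)),
          Surjective b ∧ a ≫ f = b ≫ g] := by
  tfae_have 1 ↔ 2 := SubmSubtr.S14770 f
  tfae_have 2 → 3 := fun h D _ _ _ g => exists_lift_of_univSSubtrusive f h D g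
  tfae_have 3 → 2 := univSSubtrusive_of_exists_lift f
  tfae_finish


end Groth.Agent.Lib.lead.SubmSubtrDvr
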