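import Mathlib
import Groth.Agent.Lib.lead.SubmSubtrDvr

open CategoryTheory CategoryTheory.Limits AlgebraicGeometry TensorProduct Topology

universe u

namespace Groth.Agent.Lib.lead.HTopDvr

theorem S13734 {X S : Scheme.{u}} [IsNoetherian S] [S.IsSeparated] (f : X ⟶ S) [LocallyOfFiniteType f] [QuasiCompact f] [IsSeparated f] : SGA1.UnivSubmersive f ↔ ∀ (R : Type u) [CommRing R] [IsDomain R] [IsDiscreteValuationRing R] (g : Spec (CommRingCat.of R) ⟶ S), ∃ (R' : Type u) (_ : CommRing R') (_ : IsDomain R') (_ : IsDiscreteValuationRing R') (φ : Spec (CommRingCat.of R') ⟶ Spec (CommRingCat.of R)) (h : Spec (CommRingCat.of R') ⟶ X), Surjective φ ∧ h ≫ f = φ ≫ g := by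
  have key := (SubmSubtrDvr.S14771 f).out 0 2
  refine key.trans ?_
  constructor
  · intro h R _ _ _ g
    obtain ⟨R', h1, h2, h3, a, b, hb, hab⟩ := h R g
    exact ⟨R', h1, h2, h3, b, a, hb, hab⟩
  · intro h R _ _ _ g
    obtain ⟨R', h1, h2, h3, b, a, hb, hab⟩ := h R g
    exact ⟨R', h1, h2, h3, a, b, hb, hab⟩


end Groth.Agent.Lib.lead.HTopDvr
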