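import Mathlib
import Groth.Agent.Lib.lead.ValFlatF

set_option autoImplicit false
set_option linter.style.haveILetI false
set_option linter.unusedSectionVars false
universe u
open TensorProduct

namespace Groth.Agent.Lib.lead.ValFlatG

/-- flatness of a localization of a ring `D` over `R`, from flatness of the local rings of `D` at
the primes disjoint from the multiplicative set. -/
theorem flat_of_isLocalizedModule_of_forall_prime {R D : Type u} [CommRing R] [CommRing D]
    [Algebra R D] (T' : Submonoid D) {X' : Type u} [AddCommGroup X'] [Module D X'] [Module R X']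
    [IsScalarTower R D X'] (g : D →ₗ[D] X') [IsLocalizedModule T' g]
    (H : ∀ (𝔔 : Ideal D) [𝔔.IsPrime], Disjoint (𝔔 : Set D) T' →
      Module.Flat R (Localization.AtPrime 𝔔)) : Module.Flat R X' := by
  rw [Module.Flat.iff_lTensor_preserves_injective_linearMap]
  intro Q' Q _ _ _ _ j hj
  rw [injective_iff_map_eq_zero]
  intro y hy
  haveI : IsLocalizedModule T' (AlgebraTensorModule.rTensor R Q' g) := inferInstance
  haveI : IsLocalizedModule T' (AlgebraTensorModule.rTensor R Q g) := inferInstance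
  obtain ⟨⟨y₀, t⟩, hy₀⟩ := IsLocalizedModule.surj T' (AlgebraTensorModule.rTensor R Q' g) y
  have hy₀' : (t : D) • y = (AlgebraTensorModule.rTensor R Q' g) y₀ := hy₀
  have hcomm : ∀ z : D ⊗[R] Q', (AlgebraTensorModule.rTensor R Q g) (j.lTensor D z) =
      (AlgebraTensorModule.lTensor D X' j) ((AlgebraTensorModule.rTensor R Q' g) z) := by
    intro z
    induction z using TensorProduct.induction_on with
    | zero => simp
    | add a b ha hb => simp only [map_add, ha, hb]
    | tmul m q => simp
  have h1 : (AlgebraTensorModule.rTensor R Q g) (j.lTensor D y₀) = 0 := by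
    rw [hcomm, ← hy₀', map_smul]
    have : (AlgebraTensorModule.lTensor D X' j) y = j.lTensor X' y := rfl
    rw [this, hy, smul_zero]
  obtain ⟨t', ht'⟩ := (IsLocalizedModule.eq_zero_iff T' (AlgebraTensorModule.rTensor R Q g)).mp h1
  have ht'' : (t' : D) • (j.lTensor D y₀) = 0 := ht'
  set z : D ⊗[R] Q' := (t' : D) • y₀ with hz
  have hzker : j.lTensor D z = 0 := by
    have : j.lTensor D z = (AlgebraTensorModule.lTensor D D j) z := rfl
    rw [this, hz, map_smul]
    exact ht''
  -- the annihilator of `z` meets `T'`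
  let 𝔠 : Ideal D := LinearMap.ker (LinearMap.toSpanSingleton D (D ⊗[R] Q') z)
  have h𝔠 : ∀ b : D, b ∈ 𝔠 ↔ b • z = 0 := by
    intro b
    rw [LinearMap.mem_ker, LinearMap.toSpanSingleton_apply]
  have hmeet : ¬ Disjoint (𝔠 : Set D) T' := by
    intro hdis
    obtain ⟨𝔔, h𝔔p, hle, h𝔔dis⟩ := Ideal.exists_le_prime_disjoint 𝔠 T' hdis
    haveI := H 𝔔 h𝔔dis
    let ℓ : D →ₗ[D] Localization.AtPrime 𝔔 := Algebra.linearMap D (Localization.AtPrime 𝔔)
    haveI : IsLocalizedModule 𝔔.primeCompl ℓ := inferInstance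
    haveI : IsLocalizedModule 𝔔.primeCompl (AlgebraTensorModule.rTensor R Q' ℓ) := inferInstance
    have hcomm2 : ∀ w : D ⊗[R] Q', (j.lTensor (Localization.AtPrime 𝔔))
        ((AlgebraTensorModule.rTensor R Q' ℓ) w) =
        (AlgebraTensorModule.rTensor R Q ℓ) (j.lTensor D w) := by
      intro w
      induction w using TensorProduct.induction_on with
      | zero => simp
      | add a b ha hb => simp only [map_add, ha, hb]
      | tmul m q => simp
    have h2 : (AlgebraTensorModule.rTensor R Q' ℓ) z = 0 := by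
      apply Module.Flat.lTensor_preserves_injective_linearMap (M := Localization.AtPrime 𝔔) j hj
      rw [hcomm2, hzker, map_zero, map_zero]
    obtain ⟨s, hs⟩ := (IsLocalizedModule.eq_zero_iff 𝔔.primeCompl
      (AlgebraTensorModule.rTensor R Q' ℓ)).mp h2
    have hs' : (s : D) • z = 0 := hs
    exact s.2 (hle ((h𝔠 _).mpr hs'))
  rw [Set.not_disjoint_iff] at hmeet
  obtain ⟨t'', ht''c, ht''T⟩ := hmeet
  have h3 : t'' • z = 0 := (h𝔠 _).mp ht''c
  have h4 : (AlgebraTensorModule.rTensor R Q' g) z = 0 := by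
    have h5 := IsLocalizedModule.smul_injective (AlgebraTensorModule.rTensor R Q' g)
      (⟨t'', ht''T⟩ : T')
    apply h5
    change t'' • (AlgebraTensorModule.rTensor R Q' g) z = (⟨t'', ht''T⟩ : T') • 0
    rw [← map_smul, h3, map_zero, smul_zero]
  have h6 : ((t' : D) * (t : D)) • y = 0 := by
    rw [mul_smul, hy₀', ← map_smul]
    exact h4
  have h7 := IsLocalizedModule.smul_injective (AlgebraTensorModule.rTensor R Q' g) (t' * t)
  apply h7
  change ((t' : D) * (t : D)) • y = (t' * t) • (0 : X' ⊗[R] Q')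
  rw [h6, smul_zero]

/-- flatness over `R` of `R ⊗ B_q` from flatness of the local rings of the pushout `B_R`. -/
theorem flat_tensor_localized_of_forall_prime (A₀ R B B_R : Type u) [CommRing A₀] [CommRing R]
    [CommRing B] [CommRing B_R] [Algebra A₀ R] [Algebra A₀ B] [Algebra A₀ B_R] [Algebra R B_R]
    [Algebra B B_R] [IsScalarTower A₀ R B_R] [IsScalarTower A₀ B B_R]
    [Algebra.IsPushout A₀ R B B_R] (q : Ideal B) [q.IsPrime]
    (H : ∀ (𝔔 : Ideal B_R) [𝔔.IsPrime], 𝔔.comap (algebraMap B B_R) ≤ q →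
      Module.Flat R (Localization.AtPrime 𝔔)) :
    Module.Flat R (R ⊗[A₀] LocalizedModule q.primeCompl B) := by
  let N := LocalizedModule q.primeCompl B
  let mk : B →ₗ[B] N := LocalizedModule.mkLinearMap q.primeCompl B
  let e : B_R ⊗[B] N ≃ₗ[R] R ⊗[A₀] N := Algebra.IsPushout.cancelBaseChange A₀ R B B_R N
  suffices h : Module.Flat R (B_R ⊗[B] N) from Module.Flat.of_linearEquiv e.symm
  let T' : Submonoid B_R := Algebra.algebraMapSubmonoid B_R q.primeCompl
  let f2 : (B_R ⊗[B] B) →ₗ[B_R] B_R ⊗[B] N := AlgebraTensorModule.lTensor B_R B_R mk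
  have hf2 : f2.restrictScalars B =
      (TensorProduct.comm B N B_R).toLinearMap ∘ₗ
        (AlgebraTensorModule.rTensor B B_R mk) ∘ₗ
        (TensorProduct.comm B B_R B).toLinearMap := by
    ext x
    simp [f2]
  haveI : IsLocalizedModule q.primeCompl (f2.restrictScalars B) := by
    rw [hf2]
    infer_instance
  haveI : IsLocalizedModule T' f2 := IsLocalizedModule.of_restrictScalars q.primeCompl f2
  let g : B_R →ₗ[B_R] B_R ⊗[B] N :=
    f2 ∘ₗ (AlgebraTensorModule.rid B B_R B_R).symm.toLinearMap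
  haveI : IsLocalizedModule T' g := inferInstance
  refine flat_of_isLocalizedModule_of_forall_prime T' g ?_
  intro 𝔔 _ hdis
  apply H 𝔔
  intro b hb
  by_contra hbq
  have h1 : algebraMap B B_R b ∈ T' := ⟨b, hbq, rfl⟩
  exact Set.disjoint_left.mp hdis hb h1

end Groth.Agent.Lib.lead.ValFlatG
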