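import Mathlib
import Groth.Prelude.Def_EGA43
import Groth.Prelude.Def_FDesc
import Groth.Agent.Lib.lead.ValFlatF
import Groth.Agent.Lib.lead.ValFlatG
import Groth.Agent.Lib.lead.UnivOpenAtDvr
import Groth.Agent.Lib.Helper21.FibreBC
import Groth.Agent.Lib.Helper5.StalkBCH
import Groth.Agent.Lib.Helper24.FlatDvr.Core
import Groth.Agent.Lib.Helper24.FlatClosure.Generic
import Groth.Agent.Lib.Helper7.FlatChart
import Groth.Agent.Lib.Helper21.FlatDescK

set_option autoImplicit false
set_option linter.style.haveILetI false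
set_option linter.unusedSectionVars false
universe u
open CategoryTheory CategoryTheory.Limits AlgebraicGeometry TensorProduct Topology

namespace Groth.Agent.Lib.lead.ValFlatH

variable {X Y : Scheme.{u}}

/-- the hypothesis of universal openness at the maximal points of the fibre, in terms of points
of `X`. -/
theorem isUnivOpenAt_of_maximal (f : X ⟶ Y) (x : X)
    (hopen : ∀ z : ↥(f.fiber (f.base x)), f.asFiber x ∈ closure {z} →
      (∀ z' : ↥(f.fiber (f.base x)), z ∈ closure {z'} → z' = z) →
      EGA43.IsUnivOpenAt f ((f.fiberι (f.base x)).base z))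
    (z : X) (hz : f.base z = f.base x) (hzx : z ⤳ x)
    (hmax : ∀ z₁ : X, f.base z₁ = f.base x → z₁ ⤳ z → z₁ = z) : EGA43.IsUnivOpenAt f z := by
  have hemb := (f.fiberι (f.base x)).isEmbedding
  have hmem : z ∈ Set.range (f.fiberι (f.base x)) := by
    rw [Scheme.Hom.range_fiberι]; exact hz
  obtain ⟨zf, rfl⟩ := hmem
  refine hopen zf ?_ ?_
  · rw [← specializes_iff_mem_closure, ← hemb.isInducing.specializes_iff,
      Scheme.Hom.fiberι_asFiber]
    exact hzx
  · intro z' hz'
    rw [← specializes_iff_mem_closure] at hz'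
    apply hemb.injective
    apply hmax
    · have : f.fiberι (f.base x) z' ∈ Set.range (f.fiberι (f.base x)) := ⟨z', rfl⟩
      rw [Scheme.Hom.range_fiberι] at this
      exact this
    · exact hemb.isInducing.specializes_iff.mpr hz'

section GoingDown

open Groth.Agent.Lib.Helper21.FibreBC

variable {X' Y' : Scheme.{u}} {f : X ⟶ Y} {f' : X' ⟶ Y'} {g' : X' ⟶ X} {g : Y' ⟶ Y}

attribute [local instance] resAlg fibOver

/-- the map between the fibres of a pullback square. -/
noncomputable def fibreMap (hc : IsPullback g' f' f g) (y' : Y') :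
    f'.fiber y' ⟶ f.fiber (g y') :=
  pullback.map _ _ _ _ g' (Spec.map (g.residueFieldMap y')) g hc.w.symm (by simp)

theorem fibreMap_fiberι (hc : IsPullback g' f' f g) (y' : Y') :
    fibreMap hc y' ≫ f.fiberι (g y') = f'.fiberι y' ≫ g' := by
  unfold fibreMap Scheme.Hom.fiberι pullback.map
  exact pullback.lift_fst _ _ _

instance flat_fibreMap (hc : IsPullback g' f' f g) (y' : Y') : Flat (fibreMap hc y') := by
  have h1 : fibreMap hc y' = (fiberIsoBC hc y').hom ≫
      Curv2.bcFst (Y.residueField (g y')) (f.fiber (g y')) (Y'.residueField y') :=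
    (fiberIsoBC_hom_fst hc y').symm
  rw [h1]
  haveI : Flat (Spec.map (CommRingCat.ofHom
      (algebraMap (Y.residueField (g y')) (Y'.residueField y')))) := by
    rw [HasRingHomProperty.Spec_iff (P := @Flat)]
    change (algebraMap (Y.residueField (g y')) (Y'.residueField y')).Flat
    rw [RingHom.flat_algebraMap_iff]
    infer_instance
  infer_instance

/-- going down along the fibres of a base change. -/
theorem exists_generization_in_fibre (hc : IsPullback g' f' f g) (ξ : X') (z₁ : X)
    (hz₁ : z₁ ⤳ g' ξ) (hfz₁ : f z₁ = f (g' ξ)) :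
    ∃ ξ₁ : X', ξ₁ ⤳ ξ ∧ g' ξ₁ = z₁ ∧ f' ξ₁ = f' ξ := by
  have hw : f (g' ξ) = g (f' ξ) := by
    rw [← Scheme.Hom.comp_apply, hc.w, Scheme.Hom.comp_apply]
  have hemb := (f.fiberι (g (f' ξ))).isEmbedding
  have hmem : z₁ ∈ Set.range (f.fiberι (g (f' ξ))) := by
    rw [Scheme.Hom.range_fiberι]; exact hfz₁.trans hw
  obtain ⟨z₁f, rfl⟩ := hmem
  set ξs := f'.asFiber ξ with hξs
  have h1 : f.fiberι (g (f' ξ)) (fibreMap hc (f' ξ) ξs) = g' ξ := by
    rw [← Scheme.Hom.comp_apply, fibreMap_fiberι, Scheme.Hom.comp_apply, hξs,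
      Scheme.Hom.fiberι_asFiber]
  have h2 : z₁f ⤳ fibreMap hc (f' ξ) ξs := by
    rw [← hemb.isInducing.specializes_iff, h1]
    exact hz₁
  obtain ⟨ξ₁s, hξ₁s, hξ₁z⟩ := (Flat.generalizingMap (fibreMap hc (f' ξ))) h2
  refine ⟨f'.fiberι (f' ξ) ξ₁s, ?_, ?_, ?_⟩
  · have := hξ₁s.map (f'.fiberι (f' ξ)).continuous
    rwa [hξs, Scheme.Hom.fiberι_asFiber] at this
  · rw [← Scheme.Hom.comp_apply, ← fibreMap_fiberι hc, Scheme.Hom.comp_apply, hξ₁z]
  · have : f'.fiberι (f' ξ) ξ₁s ∈ Set.range (f'.fiberι (f' ξ)) := ⟨ξ₁s, rfl⟩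
    rw [Scheme.Hom.range_fiberι] at this
    exact this

open Groth.Agent.Lib.Helper5.StalkBC in
/-- reducedness of the local rings of the base change of the fibre at points above generizations
of a geometrically reduced point. -/
theorem isReduced_stalk_bc_of_specializes (f : X ⟶ Y) (x : X)
    (hred : FBase.IsGeomReducedAt (f.fiberToSpecResidueField (f.base x)) (f.asFiber x))
    (y₁ : Y) (h : y₁ = f.base x) (K : Type u) [Field K] [Algebra (Y.residueField y₁) K]
    (w : Curv2.bc (Y.residueField y₁) (f.fiber y₁) K)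
    (hw : f.fiberι y₁ (Curv2.bcFst (Y.residueField y₁) (f.fiber y₁) K w) ⤳ x) :
    IsReduced ((Curv2.bc (Y.residueField y₁) (f.fiber y₁) K).presheaf.stalk w) := by
  subst h
  have hred' : Curv2.IsGeomReducedAt (Y.residueField (f.base x)) (f.fiber (f.base x))
      (f.asFiber x) := hred
  have h1 := reduced_tensor_of_isGeomReducedAt (Y.residueField (f.base x)) (f.fiber (f.base x)) K
    (f.asFiber x) hred'
  refine reduced_point_of_reduced_tensor (Y.residueField (f.base x)) (f.fiber (f.base x)) K
    (f.asFiber x) h1 w ?_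
  rw [← (f.fiberι (f.base x)).isEmbedding.isInducing.specializes_iff, Scheme.Hom.fiberι_asFiber]
  exact hw

/-- reducedness of the fibre of a base change at points above generizations of a geometrically
reduced point of the fibre. -/
theorem isReduced_fibre_stalk (hc : IsPullback g' f' f g) (x : X)
    (hred : FBase.IsGeomReducedAt (f.fiberToSpecResidueField (f.base x)) (f.asFiber x))
    (x' : X') (hx' : g' x' ⤳ x) (hfx' : f (g' x') = f x) :
    IsReduced ((f'.fiber (f' x')).presheaf.stalk (f'.asFiber x')) := by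
  have hw : f (g' x') = g (f' x') := by
    rw [← Scheme.Hom.comp_apply, hc.w, Scheme.Hom.comp_apply]
  set w := (fiberIsoBC hc (f' x')).hom (f'.asFiber x') with hwdef
  have h1 : Curv2.bcFst (Y.residueField (g (f' x'))) (f.fiber (g (f' x')))
      (Y'.residueField (f' x')) w = fibreMap hc (f' x') (f'.asFiber x') := by
    have := congr($(fiberIsoBC_hom_fst hc (f' x')) (f'.asFiber x'))
    exact this
  have h2 : f.fiberι (g (f' x')) (fibreMap hc (f' x') (f'.asFiber x')) = g' x' := by
    rw [← Scheme.Hom.comp_apply, fibreMap_fiberι, Scheme.Hom.comp_apply,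
      Scheme.Hom.fiberι_asFiber]
  have h3 := isReduced_stalk_bc_of_specializes f x hred (g (f' x')) (hw.symm.trans hfx')
    (Y'.residueField (f' x')) w (by rw [h1, h2]; exact hx')
  let e1 : (f'.fiber (f' x')).presheaf.stalk (f'.asFiber x') ≃+* _ :=
    (asIso ((fiberIsoBC hc (f' x')).hom.stalkMap (f'.asFiber x'))).commRingCatIsoToRingEquiv.symm
  exact isReduced_of_injective e1.toRingHom e1.injective

end GoingDown

/-- a ring homomorphism out of a local ring with zero maximal ideal is flat. -/
theorem ringHom_flat_of_maximalIdeal_eq_bot {K S : Type u} [CommRing K] [IsLocalRing K]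
    [CommRing S] (h : IsLocalRing.maximalIdeal K = ⊥) (φ : K →+* S) : φ.Flat := by
  have hf : IsField K := IsLocalRing.isField_iff_maximalIdeal_eq.mpr h
  letI : Field K := hf.toField
  letI : Algebra K S := φ.toAlgebra
  change Module.Flat K S
  infer_instance

/-- flatness at the points of the generic fibre, over a domain. -/
theorem flat_stalkMap_of_generic (R : Type u) [CommRing R] [IsDomain R] {Z : Scheme.{u}}
    (h : Z ⟶ Spec (CommRingCat.of R)) (z : Z) (hz : h z = (⊥ : PrimeSpectrum R)) :
    (h.stalkMap z).hom.Flat := by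
  apply ringHom_flat_of_maximalIdeal_eq_bot
  set p : Spec (CommRingCat.of R) := h z with hp
  letI : Algebra R ↑((Spec (CommRingCat.of R)).presheaf.stalk p) :=
    StructureSheaf.stalkAlgebra R p
  haveI : IsLocalization.AtPrime (↑((Spec (CommRingCat.of R)).presheaf.stalk p)) p.asIdeal :=
    StructureSheaf.IsLocalization.to_stalk R p
  rw [← IsLocalization.AtPrime.map_eq_maximalIdeal p.asIdeal
    (↑((Spec (CommRingCat.of R)).presheaf.stalk p))]
  have : p.asIdeal = ⊥ := by
    have h1 : p = (⊥ : PrimeSpectrum R) := hz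
    rw [h1]; rfl
  rw [this, Ideal.map_bot]

open Groth.Agent.Lib.lead.UnivOpenAtDvr Groth.Agent.Lib.lead.OpenAtSch
  Groth.Agent.Lib.Helper24.Unibranch in
/-- **The discrete valuation ring case**, at a point of the base change above a generization
of `x`. -/
theorem flat_stalkMap_pullback_dvr [IsLocallyNoetherian Y] (f : X ⟶ Y) [LocallyOfFiniteType f]
    (x : X)
    (hopen : ∀ z : ↥(f.fiber (f.base x)), f.asFiber x ∈ closure {z} →
      (∀ z' : ↥(f.fiber (f.base x)), z ∈ closure {z'} → z' = z) →
      EGA43.IsUnivOpenAt f ((f.fiberι (f.base x)).base z))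
    (hred : FBase.IsGeomReducedAt (f.fiberToSpecResidueField (f.base x)) (f.asFiber x))
    (R : Type u) [CommRing R] [IsDomain R] [IsDiscreteValuationRing R]
    (g : Spec (CommRingCat.of R) ⟶ Y) (hg : g (IsLocalRing.closedPoint R) = f x)
    (x' : ↥(pullback f g)) (hx' : pullback.fst f g x' ⤳ x) :
    ((pullback.snd f g).stalkMap x').hom.Flat := by
  have hc : IsPullback (pullback.fst f g) (pullback.snd f g) f g := IsPullback.of_hasPullback f g
  haveI : IsLocallyNoetherian (pullback f g) :=
    LocallyOfFiniteType.isLocallyNoetherian (pullback.snd f g)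
  by_cases hs : pullback.snd f g x' = IsLocalRing.closedPoint R
  · have hcomp : ∀ ξ : ↥(pullback f g), pullback.snd f g ξ = IsLocalRing.closedPoint R →
        f (pullback.fst f g ξ) = f x := by
      intro ξ hξ
      rw [← Scheme.Hom.comp_apply, pullback.condition, Scheme.Hom.comp_apply, hξ, hg]
    refine Groth.Agent.Lib.Helper24.FlatDvr.flat_stalkMap_dvr (pullback.snd f g) x' hs ?_ ?_
    · exact isReduced_fibre_stalk hc x hred x' hx' (hcomp x' hs)
    · intro ξ hξmax hξx' hξs
      have hz : f (pullback.fst f g ξ) = f x := hcomp ξ hξs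
      have hzx : pullback.fst f g ξ ⤳ x :=
        (hξx'.map (pullback.fst f g).continuous).trans hx'
      have hmaxz : ∀ z₁ : X, f z₁ = f x → z₁ ⤳ pullback.fst f g ξ → z₁ = pullback.fst f g ξ := by
        intro z₁ hfz₁ hz₁
        obtain ⟨ξ₁, hξ₁, hξ₁z, -⟩ := exists_generization_in_fibre hc ξ z₁ hz₁ (hfz₁.trans hz.symm)
        rw [← hξ₁z, hξmax ξ₁ hξ₁]
      have huo := isUnivOpenAt_of_maximal f x hopen _ hz hzx hmaxz
      have hoa := huo _ g ξ rfl
      obtain ⟨ξ₀, hξ₀, hξ₀η⟩ := exists_specializes_of_isOpenAt (pullback.snd f g) ξ hoa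
        (⊥ : PrimeSpectrum R) (bot_specializes R _)
      rw [hξmax ξ₀ hξ₀, hξs] at hξ₀η
      exact bot_ne_closedPoint R hξ₀η.symm
  · exact flat_stalkMap_of_generic R (pullback.snd f g) x' (eq_bot_of_ne_closedPoint R _ hs)

end Groth.Agent.Lib.lead.ValFlatH
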