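import Mathlib
import Groth.Agent.Lib.lead.ValFlatH

set_option autoImplicit false
set_option linter.style.haveILetI false
set_option linter.unusedSectionVars false
universe u
open CategoryTheory CategoryTheory.Limits AlgebraicGeometry TensorProduct Topology

namespace Groth.Agent.Lib.lead.ValFlatI

open Groth.Agent.Lib.lead.ValFlatF Groth.Agent.Lib.lead.ValFlatG Groth.Agent.Lib.lead.ValFlatH
  Groth.Agent.Lib.Helper21.FlatDesc Groth.Agent.Lib.Helper7.FlatChart Groth.Agent.Lib.Helper7.AffPts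

variable {X Y : Scheme.{u}}

/-- the DVR step on charts. -/
theorem flat_tensor_chart [IsLocallyNoetherian Y] (f : X ⟶ Y) [LocallyOfFiniteType f]
    (x : X)
    (hopen : ∀ z : ↥(f.fiber (f.base x)), f.asFiber x ∈ closure {z} →
      (∀ z' : ↥(f.fiber (f.base x)), z ∈ closure {z'} → z' = z) →
      EGA43.IsUnivOpenAt f ((f.fiberι (f.base x)).base z))
    (hred : FBase.IsGeomReducedAt (f.fiberToSpecResidueField (f.base x)) (f.asFiber x))
    {V : Y.Opens} (hV : IsAffineOpen V) {U : X.Opens} (hU : IsAffineOpen U) (hUV : U ≤ f ⁻¹ᵁ V)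
    (hxU : x ∈ U)
    (R : Type u) [CommRing R] [IsDomain R] [IsDiscreteValuationRing R] [Algebra Γ(Y, V) R]
    (hcomap : (IsLocalRing.maximalIdeal R).comap (algebraMap Γ(Y, V) R) =
      (hV.primeIdealOf ⟨f x, hUV hxU⟩).asIdeal) :
    letI := (f.appLE V U hUV).hom.toAlgebra
    Module.Flat R (R ⊗[Γ(Y, V)]
      LocalizedModule (hU.primeIdealOf ⟨x, hxU⟩).asIdeal.primeCompl Γ(X, U)) := by
  letI algAB := (f.appLE V U hUV).hom.toAlgebra
  set q := (hU.primeIdealOf ⟨x, hxU⟩).asIdeal with hq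
  let φ : Γ(Y, V) ⟶ CommRingCat.of R := CommRingCat.ofHom (algebraMap Γ(Y, V) R)
  let g : Spec (CommRingCat.of R) ⟶ Y := Spec.map φ ≫ hV.fromSpec
  have hg : g (IsLocalRing.closedPoint R) = f x := by
    have h1 : Spec.map φ (IsLocalRing.closedPoint R) = hV.primeIdealOf ⟨f x, hUV hxU⟩ := by
      apply PrimeSpectrum.ext
      exact hcomap
    rw [Scheme.Hom.comp_apply, h1, hV.fromSpec_primeIdealOf]
  have e : (⊤ : (Spec (CommRingCat.of R)).Opens) ≤ g ⁻¹ᵁ V := by
    intro p _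
    show hV.fromSpec (Spec.map φ p) ∈ V
    have : hV.fromSpec (Spec.map φ p) ∈ Set.range hV.fromSpec := ⟨_, rfl⟩
    rw [hV.range_fromSpec] at this
    exact this
  have hUT := isAffineOpen_top (Spec (CommRingCat.of R))
  have hc : IsPullback (pullback.fst f g) (pullback.snd f g) f g := IsPullback.of_hasPullback f g
  obtain ⟨hW, hpo⟩ := affine_chart_of_opens hc hV hU hUT hUV e
  set W : (pullback f g).Opens := pullback.fst f g ⁻¹ᵁ U ⊓ pullback.snd f g ⁻¹ᵁ ⊤ with hWdef
  obtain ⟨ι, hgapp⟩ : ∃ ι : CommRingCat.of R ≅ Γ(Spec (CommRingCat.of R), ⊤),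
      g.appLE V ⊤ e = φ ≫ ι.hom :=
    ⟨(Scheme.ΓSpecIso (CommRingCat.of R)).symm,
      Groth.Agent.Lib.Helper24.FlatClosure.appLE_SpecMap_fromSpec hV φ e⟩
  -- algebra structures
  letI algBBR : Algebra Γ(X, U) Γ(pullback f g, W) :=
    ((pullback.fst f g).appLE U W inf_le_left).hom.toAlgebra
  letI algRBR : Algebra R Γ(pullback f g, W) :=
    (ι.hom ≫ (pullback.snd f g).appLE ⊤ W inf_le_right).hom.toAlgebra
  letI algABR : Algebra Γ(Y, V) Γ(pullback f g, W) :=
    (f.appLE V U hUV ≫ (pullback.fst f g).appLE U W inf_le_left).hom.toAlgebra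
  haveI : IsScalarTower Γ(Y, V) Γ(X, U) Γ(pullback f g, W) :=
    IsScalarTower.of_algebraMap_eq (fun _ => rfl)
  have hw' : f.appLE V U hUV ≫ (pullback.fst f g).appLE U W inf_le_left =
      φ ≫ ι.hom ≫ (pullback.snd f g).appLE ⊤ W inf_le_right := by
    rw [hpo.w, hgapp, Category.assoc]
  haveI : IsScalarTower Γ(Y, V) R Γ(pullback f g, W) :=
    IsScalarTower.of_algebraMap_eq (fun a => congr($(hw').hom a))
  have hpo2 : IsPushout φ (f.appLE V U hUV)
      (ι.hom ≫ (pullback.snd f g).appLE ⊤ W inf_le_right)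
      ((pullback.fst f g).appLE U W inf_le_left) :=
    hpo.flip.of_iso (Iso.refl _) ι.symm (Iso.refl _) (Iso.refl _)
      (by simp only [hgapp, Iso.refl_hom, Category.id_comp, Iso.symm_hom, Category.assoc,
        Iso.hom_inv_id, Category.comp_id])
      (by simp only [Iso.refl_hom, Category.id_comp, Category.comp_id])
      (by simp only [Iso.refl_hom, Category.comp_id, Iso.symm_hom, Iso.inv_hom_id_assoc]; rfl)
      (by simp only [Iso.refl_hom, Category.id_comp, Category.comp_id]; rfl)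
  haveI hpush : Algebra.IsPushout Γ(Y, V) R Γ(X, U) Γ(pullback f g, W) :=
    CommRingCat.isPushout_iff_isPushout.mp hpo2
  refine flat_tensor_localized_of_forall_prime Γ(Y, V) R Γ(X, U) Γ(pullback f g, W) q ?_
  intro 𝔔 _ hle
  obtain ⟨x', hx'W, hx'𝔔⟩ := exists_point_of_prime hW 𝔔
  -- `x'` lies above a generization of `x`
  have hx'U : pullback.fst f g x' ∈ U := (inf_le_left : W ≤ _) hx'W
  have hx'x : pullback.fst f g x' ⤳ x := by
    have h1 := IsAffineOpen.comap_primeIdealOf_appLE U hU W hW inf_le_left hx'W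
    have h2 : hU.primeIdealOf ⟨pullback.fst f g x', hx'U⟩ ≤ hU.primeIdealOf ⟨x, hxU⟩ := by
      rw [← h1]
      change Ideal.comap _ (hW.primeIdealOf ⟨x', hx'W⟩).asIdeal ≤ q
      rw [hx'𝔔]
      exact hle
    exact (primeIdealOf_le_iff hU ⟨_, hx'U⟩ ⟨x, hxU⟩).mp h2
  have hflat := flat_stalkMap_pullback_dvr f x hopen hred R g hg x' hx'x
  rw [flat_stalkMap_iff ⊤ hUT W hW inf_le_right hx'W] at hflat
  subst hx'𝔔
  letI algR₁ : Algebra Γ(Spec (CommRingCat.of R), ⊤) Γ(pullback f g, W) :=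
    ((pullback.snd f g).appLE ⊤ W inf_le_right).hom.toAlgebra
  letI algRR₁ : Algebra R Γ(Spec (CommRingCat.of R), ⊤) := ι.hom.hom.toAlgebra
  haveI : IsScalarTower R Γ(Spec (CommRingCat.of R), ⊤) Γ(pullback f g, W) :=
    IsScalarTower.of_algebraMap_eq (fun _ => rfl)
  have hbij : Function.Bijective (Algebra.linearMap R Γ(Spec (CommRingCat.of R), ⊤)) :=
    ConcreteCategory.bijective_of_isIso ι.hom
  haveI : Module.Flat R Γ(Spec (CommRingCat.of R), ⊤) :=
    Module.Flat.of_linearEquiv (LinearEquiv.ofBijective _ hbij).symm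
  haveI := hflat
  haveI : Module.Flat R (LocalizedModule (hW.primeIdealOf ⟨x', hx'W⟩).asIdeal.primeCompl
      Γ(pullback f g, W)) :=
    Module.Flat.trans R Γ(Spec (CommRingCat.of R), ⊤) _
  let e2 := IsLocalizedModule.iso (hW.primeIdealOf ⟨x', hx'W⟩).asIdeal.primeCompl
    (Algebra.linearMap Γ(pullback f g, W)
      (Localization.AtPrime (hW.primeIdealOf ⟨x', hx'W⟩).asIdeal))
  exact Module.Flat.of_linearEquiv (e2.restrictScalars R).symm

/-- **EGA IV 15.2.2**: flatness from universal openness at the maximal points of the fibre,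
geometric reducedness of the fibre and reducedness of the base. -/
theorem main [IsLocallyNoetherian Y] (f : X ⟶ Y) [LocallyOfFiniteType f] (x : X)
    (hopen : ∀ z : ↥(f.fiber (f.base x)), f.asFiber x ∈ closure {z} →
      (∀ z' : ↥(f.fiber (f.base x)), z ∈ closure {z'} → z' = z) →
      EGA43.IsUnivOpenAt f ((f.fiberι (f.base x)).base z))
    (hred : FBase.IsGeomReducedAt (f.fiberToSpecResidueField (f.base x)) (f.asFiber x))
    (hy : _root_.IsReduced (Y.presheaf.stalk (f.base x))) :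
    (f.stalkMap x).hom.Flat := by
  obtain ⟨_, ⟨V, hV : IsAffineOpen V, rfl⟩, hfxV, -⟩ :=
    Y.isBasis_affineOpens.exists_subset_of_mem_open (Set.mem_univ (f x)) isOpen_univ
  obtain ⟨_, ⟨U, hU : IsAffineOpen U, rfl⟩, hxU, hUV⟩ :=
    X.isBasis_affineOpens.exists_subset_of_mem_open (show x ∈ (f ⁻¹ᵁ V : Set X) from hfxV)
      (f ⁻¹ᵁ V).isOpen
  letI := (f.appLE V U hUV).hom.toAlgebra
  rw [flat_stalkMap_iff V hV U hU hUV hxU]
  haveI : IsNoetherianRing Γ(Y, V) := IsLocallyNoetherian.component_noetherian ⟨V, hV⟩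
  haveI : Algebra.FiniteType Γ(Y, V) Γ(X, U) :=
    (HasRingHomProperty.appLE @LocallyOfFiniteType f inferInstance ⟨V, hV⟩ ⟨U, hU⟩ hUV :
      RingHom.FiniteType _)
  have hpq : (hU.primeIdealOf ⟨x, hxU⟩).asIdeal.comap (algebraMap Γ(Y, V) Γ(X, U)) =
      (hV.primeIdealOf ⟨f x, hUV hxU⟩).asIdeal :=
    congr($(IsAffineOpen.comap_primeIdealOf_appLE V hV U hU hUV hxU).1)
  haveI : ((hU.primeIdealOf ⟨x, hxU⟩).asIdeal.comap (algebraMap Γ(Y, V) Γ(X, U))).IsPrime :=
    Ideal.comap_isPrime _ _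
  haveI : IsReduced (Localization.AtPrime
      ((hU.primeIdealOf ⟨x, hxU⟩).asIdeal.comap (algebraMap Γ(Y, V) Γ(X, U)))) := by
    letI := Y.presheaf.algebra_section_stalk ⟨f x, hUV hxU⟩
    haveI := hV.isLocalization_stalk ⟨f x, hUV hxU⟩
    have key : ∀ (P : Ideal Γ(Y, V)) [P.IsPrime], P = (hV.primeIdealOf ⟨f x, hUV hxU⟩).asIdeal →
        IsLocalization.AtPrime (Y.presheaf.stalk (f x)) P := by
      intro P _ hP
      subst hP
      infer_instance
    haveI : IsLocalization.AtPrime (Y.presheaf.stalk (f x))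
        ((hU.primeIdealOf ⟨x, hxU⟩).asIdeal.comap (algebraMap Γ(Y, V) Γ(X, U))) := key _ hpq
    let e := IsLocalization.algEquiv
      ((hU.primeIdealOf ⟨x, hxU⟩).asIdeal.comap (algebraMap Γ(Y, V) Γ(X, U))).primeCompl
      (Localization.AtPrime
        ((hU.primeIdealOf ⟨x, hxU⟩).asIdeal.comap (algebraMap Γ(Y, V) Γ(X, U))))
      (Y.presheaf.stalk (f x))
    exact isReduced_of_injective e.toRingEquiv.toRingHom e.injective
  refine flat_localized_of_forall_dvr' (A := Γ(Y, V)) (B := Γ(X, U)) Γ(X, U)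
    (hU.primeIdealOf ⟨x, hxU⟩).asIdeal ?_
  intro R _ _ _ _ hcomap
  exact flat_tensor_chart f x hopen hred hV hU hUV hxU R (hcomap.trans hpq)

end Groth.Agent.Lib.lead.ValFlatI

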