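import Mathlib
import Groth.Agent.Lib.lead.ValFlatI
import Groth.Agent.Lib.lead.HTopDvr

set_option autoImplicit false
set_option linter.style.haveILetI false
set_option linter.unusedSectionVars false
universe u
open CategoryTheory CategoryTheory.Limits AlgebraicGeometry TensorProduct Topology

namespace Groth.Agent.Lib.lead.HFlatDesc

open Groth.Agent.Lib.Helper7.FlatChart

/-- an extension of DVRs which is surjective on spectra is faithfully flat. -/
theorem ff_of_surj (R R' : Type u) [CommRing R] [IsDomain R] [IsDiscreteValuationRing R]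
    [CommRing R'] [IsDomain R'] [IsDiscreteValuationRing R'] [Algebra R R']
    (h : Function.Surjective (PrimeSpectrum.comap (algebraMap R R'))) :
    Module.FaithfullyFlat R R' := by
  have hinj : Function.Injective (algebraMap R R') := by
    obtain ⟨q, hq⟩ := h ⊥
    rw [injective_iff_map_eq_zero]
    intro a ha
    have : a ∈ ((PrimeSpectrum.comap (algebraMap R R')) q).asIdeal := by
      show algebraMap R R' a ∈ q.asIdeal
      rw [ha]; exact zero_mem _
    rw [hq] at this
    simpa using this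
  haveI : FaithfulSMul R R' := (faithfulSMul_iff_algebraMap_injective R R').mpr hinj
  haveI : Module.IsTorsionFree R R' := inferInstance
  haveI : Module.Flat R R' := inferInstance
  haveI : IsLocalHom (algebraMap R R') := by
    obtain ⟨q, hq⟩ := h (IsLocalRing.closedPoint R)
    constructor
    intro a ha
    by_contra hna
    have h1 : a ∈ IsLocalRing.maximalIdeal R := by
      rwa [IsLocalRing.mem_maximalIdeal, mem_nonunits_iff]
    have h2 : a ∈ ((PrimeSpectrum.comap (algebraMap R R')) q).asIdeal := by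
      rw [hq]; exact h1
    have h3 : algebraMap R R' a ∈ q.asIdeal := h2
    exact q.isPrime.ne_top (Ideal.eq_top_of_isUnit_mem _ h3 ha)
  exact Module.FaithfullyFlat.of_flat_of_isLocalHom

/-- faithfully flat descent of flatness of a module along a ring extension. -/
theorem flat_of_flat_baseChange (R R' N : Type u) [CommRing R] [CommRing R'] [Algebra R R']
    [AddCommGroup N] [Module R N] [Module.FaithfullyFlat R R']
    [Module.Flat R' (R' ⊗[R] N)] : Module.Flat R N := by
  haveI : Module.Flat R (R' ⊗[R] N) := Module.Flat.trans R R' _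
  exact Groth.Agent.Lib.lead.ValFlatB.flat_of_flat_tensor_of_faithfullyFlat R R R' N

variable {X Y : Scheme.{u}}

/-- flatness of the base change to an affine scheme, read on charts. -/
theorem flat_tensor_of_flat_snd (f : X ⟶ Y)
    {V : Y.Opens} (hV : IsAffineOpen V) {U : X.Opens} (hU : IsAffineOpen U) (hUV : U ≤ f ⁻¹ᵁ V)
    (R : Type u) [CommRing R] [Algebra Γ(Y, V) R]
    (hfl : Flat (pullback.snd f
      (Spec.map (CommRingCat.ofHom (algebraMap Γ(Y, V) R)) ≫ hV.fromSpec))) :
    letI := (f.appLE V U hUV).hom.toAlgebra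
    Module.Flat R (R ⊗[Γ(Y, V)] Γ(X, U)) := by
  letI algAB := (f.appLE V U hUV).hom.toAlgebra
  let φ : Γ(Y, V) ⟶ CommRingCat.of R := CommRingCat.ofHom (algebraMap Γ(Y, V) R)
  set g : Spec (CommRingCat.of R) ⟶ Y := Spec.map φ ≫ hV.fromSpec with hgdef
  have e : (⊤ : (Spec (CommRingCat.of R)).Opens) ≤ g ⁻¹ᵁ V := by
    intro p _
    show hV.fromSpec (Spec.map φ p) ∈ V
    have : hV.fromSpec (Spec.map φ p) ∈ Set.range hV.fromSpec := ⟨_, rfl⟩
    rw [hV.range_fromSpec] at this
    exact this
  have hUT := isAffineOpen_top (Spec (CommRingCat.of R))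
  have hc : IsPullback (pullback.fst f g) (pullback.snd f g) f g := IsPullback.of_hasPullback f g
  obtain ⟨hW, hpo⟩ := affine_chart_of_opens hc hV hU hUT hUV e
  set W : (pullback f g).Opens := pullback.fst f g ⁻¹ᵁ U ⊓ pullback.snd f g ⁻¹ᵁ ⊤ with hWdef
  obtain ⟨ι, hgapp⟩ : ∃ ι : CommRingCat.of R ≅ Γ(Spec (CommRingCat.of R), ⊤),
      g.appLE V ⊤ e = φ ≫ ι.hom :=
    ⟨(Scheme.ΓSpecIso (CommRingCat.of R)).symm,
      Groth.Agent.Lib.Helper24.FlatClosure.appLE_SpecMap_fromSpec hV φ e⟩
  letI algBBR : Algebra Γ(X, U) Γ(pullback f g, W) :=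
    ((pullback.fst f g).appLE U W inf_le_left).hom.toAlgebra
  letI algRBR : Algebra R Γ(pullback f g, W) :=
    (ι.hom ≫ (pullback.snd f g).appLE ⊤ W inf_le_right).hom.toAlgebra
  letI algABR : Algebra Γ(Y, V) Γ(pullback f g, W) :=
    (f.appLE V U hUV ≫ (pullback.fst f g).appLE U W inf_le_left).hom.toAlgebra
  haveI : IsScalarTower Γ(Y, V) Γ(X, U) Γ(pullback f g, W) :=
    IsScalarTower.of_algebraMap_eq (fun _ => rfl)
  have hw' : f.appLE V U hUV ≫ (pullback.fst f g).appLE U W inf_le_left =
      φ ≫ ι.hom ≫ (pullback.snd f g).appLE ⊤ W inf_le_right := by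
    rw [hpo.w, hgapp, Category.assoc]
  haveI : IsScalarTower Γ(Y, V) R Γ(pullback f g, W) :=
    IsScalarTower.of_algebraMap_eq (fun a => congr($(hw').hom a))
  have hpo2 : IsPushout φ (f.appLE V U hUV)
      (ι.hom ≫ (pullback.snd f g).appLE ⊤ W inf_le_right)
      ((pullback.fst f g).appLE U W inf_le_left) :=
    hpo.flip.of_iso (Iso.refl _) ι.symm (Iso.refl _) (Iso.refl _)
      (by simp only [hgapp, Iso.refl_hom, Category.id_comp, Iso.symm_hom, Category.assoc,
        Iso.hom_inv_id, Category.comp_id])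
      (by simp only [Iso.refl_hom, Category.id_comp, Category.comp_id])
      (by simp only [Iso.refl_hom, Category.comp_id, Iso.symm_hom, Iso.inv_hom_id_assoc]; rfl)
      (by simp only [Iso.refl_hom, Category.id_comp, Category.comp_id]; rfl)
  haveI hpush : Algebra.IsPushout Γ(Y, V) R Γ(X, U) Γ(pullback f g, W) :=
    CommRingCat.isPushout_iff_isPushout.mp hpo2
  -- flatness of the chart
  have hflat : ((pullback.snd f g).appLE ⊤ W inf_le_right).hom.Flat :=
    HasRingHomProperty.appLE (P := @Flat) _ hfl ⟨⊤, hUT⟩ ⟨W, hW⟩ inf_le_right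
  letI algR₁ : Algebra Γ(Spec (CommRingCat.of R), ⊤) Γ(pullback f g, W) :=
    ((pullback.snd f g).appLE ⊤ W inf_le_right).hom.toAlgebra
  letI algRR₁ : Algebra R Γ(Spec (CommRingCat.of R), ⊤) := ι.hom.hom.toAlgebra
  haveI : IsScalarTower R Γ(Spec (CommRingCat.of R), ⊤) Γ(pullback f g, W) :=
    IsScalarTower.of_algebraMap_eq (fun _ => rfl)
  have hbij : Function.Bijective (Algebra.linearMap R Γ(Spec (CommRingCat.of R), ⊤)) :=
    ConcreteCategory.bijective_of_isIso ι.hom
  haveI : Module.Flat R Γ(Spec (CommRingCat.of R), ⊤) :=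
    Module.Flat.of_linearEquiv (LinearEquiv.ofBijective _ hbij).symm
  haveI : Module.Flat Γ(Spec (CommRingCat.of R), ⊤) Γ(pullback f g, W) := hflat
  haveI : Module.Flat R Γ(pullback f g, W) :=
    Module.Flat.trans R Γ(Spec (CommRingCat.of R), ⊤) _
  exact Module.Flat.of_linearEquiv
    (Algebra.IsPushout.equiv Γ(Y, V) R Γ(X, U) Γ(pullback f g, W)).toLinearEquiv

/-- h-descent of flatness over a reduced Noetherian base. -/
theorem main {X S S' : Scheme.{u}} [IsNoetherian S] [IsReduced S] [S.IsSeparated] (f : X ⟶ S)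
    [LocallyOfFiniteType f] [IsSeparated f] (g : S' ⟶ S) [LocallyOfFiniteType g] [QuasiCompact g]
    [IsSeparated g] (hg : SGA1.UnivSubmersive g) (hflat : Flat (pullback.snd f g)) : Flat f := by
  rw [HasRingHomProperty.iff_appLE (P := @Flat)]
  intro V U hUV
  letI algAB := (f.appLE V.1 U.1 hUV).hom.toAlgebra
  haveI : IsNoetherianRing Γ(S, V.1) := IsLocallyNoetherian.component_noetherian V
  haveI : _root_.IsReduced Γ(S, V.1) := inferInstance
  haveI : Algebra.FiniteType Γ(S, V.1) Γ(X, U.1) :=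
    (HasRingHomProperty.appLE (P := @LocallyOfFiniteType) f inferInstance V U hUV :
      (f.appLE V.1 U.1 hUV).hom.FiniteType)
  show Module.Flat Γ(S, V.1) Γ(X, U.1)
  rw [Groth.Agent.Lib.lead.ValFlatE.main Γ(S, V.1) Γ(X, U.1) Γ(X, U.1)]
  intro R _ _ _ _
  let φ : Γ(S, V.1) ⟶ CommRingCat.of R := CommRingCat.ofHom (algebraMap Γ(S, V.1) R)
  let gR : Spec (CommRingCat.of R) ⟶ S := Spec.map φ ≫ V.2.fromSpec
  obtain ⟨R', _, _, _, ψ, h, hsurj, hcomm⟩ := (Groth.Agent.Lib.lead.HTopDvr.S13734 g).mp hg R gR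
  obtain ⟨ψr, rfl⟩ := Spec.map_surjective ψ
  letI algRR' : Algebra R R' := ψr.hom.toAlgebra
  haveI : Module.FaithfullyFlat R R' := by
    apply ff_of_surj R R'
    exact hsurj.1
  letI algAR' : Algebra Γ(S, V.1) R' := (φ ≫ ψr).hom.toAlgebra
  haveI : IsScalarTower Γ(S, V.1) R R' := IsScalarTower.of_algebraMap_eq (fun _ => rfl)
  -- flatness over R'
  have hfl' : Flat (pullback.snd f
      (Spec.map (CommRingCat.ofHom (algebraMap Γ(S, V.1) R')) ≫ V.2.fromSpec)) := by
    have h1 : Spec.map (CommRingCat.ofHom (algebraMap Γ(S, V.1) R')) ≫ V.2.fromSpec = h ≫ g := by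
      rw [hcomm]
      show Spec.map (φ ≫ ψr) ≫ _ = _
      rw [Spec.map_comp, Category.assoc]
    rw [h1]
    have hbig : IsPullback (pullback.fst f (h ≫ g)) (pullback.snd f (h ≫ g)) f (h ≫ g) :=
      IsPullback.of_hasPullback f (h ≫ g)
    have hsm : IsPullback (pullback.fst f g) (pullback.snd f g) f g :=
      IsPullback.of_hasPullback f g
    let l : pullback f (h ≫ g) ⟶ pullback f g :=
      pullback.lift (pullback.fst f (h ≫ g)) (pullback.snd f (h ≫ g) ≫ h)
        (by rw [Category.assoc]; exact pullback.condition)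
    have hleft : IsPullback l (pullback.snd f (h ≫ g)) (pullback.snd f g) h := by
      have e1 : l ≫ pullback.fst f g = pullback.fst f (h ≫ g) := pullback.lift_fst _ _ _
      have e2 : l ≫ pullback.snd f g = pullback.snd f (h ≫ g) ≫ h := pullback.lift_snd _ _ _
      refine IsPullback.of_right ?_ e2 hsm
      rw [e1]
      exact hbig
    exact MorphismProperty.of_isPullback hleft hflat
  have key := flat_tensor_of_flat_snd f V.2 U.2 hUV R' hfl'
  let e := AlgebraTensorModule.cancelBaseChange Γ(S, V.1) R R' R' Γ(X, U.1)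
  haveI : Module.Flat R' (R' ⊗[R] (R ⊗[Γ(S, V.1)] Γ(X, U.1))) :=
    Module.Flat.of_linearEquiv e
  exact flat_of_flat_baseChange R R' _

end Groth.Agent.Lib.lead.HFlatDesc

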