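import Mathlib
import Groth.Agent.Lib.lead.SubmSubtr
import Groth.Agent.S1681
import Groth.Agent.S1682

open CategoryTheory CategoryTheory.Limits AlgebraicGeometry TensorProduct Topology

universe u

namespace Groth.Agent.Lib.lead.HTopBlowUp

open Groth.Agent.Lib.lead.SubmSubtr Groth.Agent.Lib.Helper9

/-- every point of a scheme has a maximal generization -/
theorem exists_maximal_generization {Y : Scheme.{u}} (x : Y) :
    ∃ ζ : Y, ζ ⤳ x ∧ ∀ y : Y, y ⤳ ζ → y = ζ := by
  have hZ : irreducibleComponent x ∈ irreducibleComponents ↥Y :=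
    irreducibleComponent_mem_irreducibleComponents x
  obtain ⟨ζ, hζ⟩ := QuasiSober.sober (isIrreducible_irreducibleComponent (x := x))
    (isClosed_irreducibleComponent (x := x))
  refine ⟨ζ, ?_, ?_⟩
  · rw [specializes_iff_mem_closure, hζ.def]
    exact mem_irreducibleComponent
  · intro y hy
    have h1 : irreducibleComponent x ⊆ closure {y} := by
      rw [← hζ.def]
      exact closure_minimal (Set.singleton_subset_iff.mpr hy.mem_closure) isClosed_closure
    have h2 : closure {y} ⊆ irreducibleComponent x :=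
      hZ.2 isIrreducible_singleton.closure h1
    have h3 : ζ ⤳ y := by
      rw [specializes_iff_mem_closure, hζ.def]
      exact h2 (subset_closure rfl)
    exact (hy.antisymm h3).eq

set_option backward.isDefEq.respectTransparency.types false in
theorem S13737 {X X' : Scheme.{u}} [IsNoetherian X] [X.IsSeparated] [IsIntegral X] [X'.IsSeparated] (𝓘 : X.IdealSheafData) (b : X' ⟶ X) [LocallyOfFiniteType b] [QuasiCompact b] (hb : BlowUp.IsBlowUp b 𝓘) (U : X'.Opens) (hU : SGA1.UnivSubmersive (U.ι ≫ b)) : U = ⊤ := by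
  have hX' : IsLocallyNoetherian X' := LocallyOfFiniteType.isLocallyNoetherian b
  set q := U.ι ≫ b with hq
  have hmax := Groth.Agent.S1681.result 𝓘 b hb
  have hiso : IsIso (b ∣_ 𝓘.support.compl) := Groth.Agent.S1682.result 𝓘 b hb
  set η := genericPoint X with hη
  have hηsp : ∀ x : X, η ⤳ x := fun x => genericPoint_specializes x
  -- a point over the generic point
  have hqq : Topology.IsQuotientMap q := hU _ _ _ IsPullback.of_id_snd
  obtain ⟨u, hu⟩ := hqq.surjective η
  obtain ⟨ζ, hζu, hζmax⟩ := exists_maximal_generization (U.ι.base u)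
  have hbmax : ∀ ζ' : X', (∀ y : X', y ⤳ ζ' → y = ζ') → b.base ζ' = η ∧ η ∉ 𝓘.support := by
    intro ζ' h
    have h1 := hmax.mapsTo (show ζ' ∈ {x' : ↥X' | ∀ y : ↥X', y ⤳ x' → y = x'} from h)
    have h2 : η = b.base ζ' := h1.1 η (hηsp _)
    exact ⟨h2.symm, h2 ▸ h1.2⟩
  have hbζ := (hbmax ζ hζmax).1
  have hηV := (hbmax ζ hζmax).2
  have hζall : ∀ x' : X', ζ ⤳ x' := by
    intro x'
    obtain ⟨ζ', hζ'x, hζ'max⟩ := exists_maximal_generization x'
    have h1 : ζ' = ζ := hmax.injOn hζ'max hζmax (by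
      show b.base ζ' = b.base ζ
      rw [(hbmax ζ' hζ'max).1, hbζ])
    rw [← h1]
    exact hζ'x
  -- base change along `b`
  set G := pullback.snd q b with hG
  have hGsub : SGA1.UnivSubmersive G := by
    intro X'' Y'' i₁ i₂ f' hpb
    exact hU _ _ _ (hpb.paste_vert (IsPullback.of_hasPullback q b).flip)
  have hGS : Subtr.IsSSubtrusive G :=
    ((SubmSubtr.S14770 G).mp hGsub) _ _ _ IsPullback.of_id_snd
  obtain ⟨φ, hφ⟩ : ∃ φ : pullback q b ⟶ X', φ = pullback.fst q b ≫ U.ι := ⟨_, rfl⟩
  have hφψ : φ ≫ b = G ≫ b := by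
    rw [hφ, Category.assoc, ← hq, pullback.condition]
  -- the open over which `b` is an isomorphism
  set V : X.Opens := 𝓘.support.compl with hV
  set W := b ⁻¹ᵁ V with hW
  apply top_unique
  intro x' _
  obtain ⟨w, ξ, hξw, hw, hξ⟩ := hGS (hζall x')
  obtain ⟨R, hRD, hRV, k, hk1, hk2⟩ := VCov.exists_valuationRing_of_specializes hξw
  have hdense : Dense ({VCov.genPt R} : Set (Spec R)) := by
    intro x
    exact (VCov.genPt_specializes R x).mem_closure
  have key : k ≫ φ = k ≫ G := by
    refine ext_of_fromSpecResidueField_eq (k ≫ φ) (k ≫ G) b {VCov.genPt R} hdense ?_ ?_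
    · rintro _ rfl
      set m := (Spec R).fromSpecResidueField (VCov.genPt R) ≫ k with hm
      have hmφ : ∀ pt, (m ≫ φ).base pt = φ.base ξ := by
        intro pt
        rw [hm, Category.assoc, Scheme.Hom.comp_apply, Scheme.fromSpecResidueField_apply,
          Scheme.Hom.comp_apply, hk1]
      have hmψ : ∀ pt, (m ≫ G).base pt = G.base ξ := by
        intro pt
        rw [hm, Category.assoc, Scheme.Hom.comp_apply, Scheme.fromSpecResidueField_apply,
          Scheme.Hom.comp_apply, hk1]
      have hbφ : b.base (φ.base ξ) = η := by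
        rw [← Scheme.Hom.comp_apply, hφψ, Scheme.Hom.comp_apply]
        have : G.base ξ = ζ := hξ
        rw [this, hbζ]
      have hbψ : b.base (G.base ξ) = η := by
        have : G.base ξ = ζ := hξ
        rw [this, hbζ]
      have hr1 : Set.range (m ≫ φ).base ⊆ Set.range W.ι.base := by
        rw [Scheme.Opens.range_ι]
        rintro _ ⟨pt, rfl⟩
        rw [hmφ]
        show b.base (φ.base ξ) ∈ V
        rw [hbφ]
        exact hηV
      have hr2 : Set.range (m ≫ G).base ⊆ Set.range W.ι.base := by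
        rw [Scheme.Opens.range_ι]
        rintro _ ⟨pt, rfl⟩
        rw [hmψ]
        show b.base (G.base ξ) ∈ V
        rw [hbψ]
        exact hηV
      let l₁ := IsOpenImmersion.lift W.ι (m ≫ φ) hr1
      let l₂ := IsOpenImmersion.lift W.ι (m ≫ G) hr2
      have hl₁ : l₁ ≫ W.ι = m ≫ φ := IsOpenImmersion.lift_fac _ _ _
      have hl₂ : l₂ ≫ W.ι = m ≫ G := IsOpenImmersion.lift_fac _ _ _
      have e1 : l₁ ≫ (b ∣_ V) ≫ V.ι = m ≫ (φ ≫ b) := by
        rw [morphismRestrict_ι, ← Category.assoc, hl₁, Category.assoc]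
      have e2 : l₂ ≫ (b ∣_ V) ≫ V.ι = m ≫ (G ≫ b) := by
        rw [morphismRestrict_ι, ← Category.assoc, hl₂, Category.assoc]
      have hl : l₁ = l₂ := by
        rw [← cancel_mono (b ∣_ V), ← cancel_mono V.ι, Category.assoc, Category.assoc, e1, e2,
          hφψ]
      show m ≫ φ = m ≫ G
      rw [← hl₁, ← hl₂, hl]
    · rw [Category.assoc k φ b, Category.assoc k G b, hφψ]
  have h1 : φ.base w = G.base w := by
    have h0 := congr(($key).base (VCov.clPt R))
    rw [Scheme.Hom.comp_apply, Scheme.Hom.comp_apply, hk2] at h0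
    exact h0
  have h2 : G.base w = x' := hw
  rw [← h2, ← h1, hφ, Scheme.Hom.comp_apply]
  exact ((pullback.fst q b).base w).2


end Groth.Agent.Lib.lead.HTopBlowUp
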