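import Mathlib
import Groth.Agent.Lib.lead.SubmSubtr

open CategoryTheory CategoryTheory.Limits AlgebraicGeometry TensorProduct Topology

universe u

namespace Groth.Agent.Lib.lead.HTopGen

theorem exists_sigmaι_eq {ι : Type u} (g : ι → Scheme.{u}) (z : ↥(∐ g)) :
    ∃ (i : ι) (w : g i), (Sigma.ι g i).base w = z := by
  obtain ⟨⟨i, w⟩, rfl⟩ := (sigmaMk g).surjective z
  exact ⟨i, w, (sigmaMk_mk g i w).symm⟩

theorem quasiCompact_sigmaDesc {ι : Type u} [Finite ι] (g : ι → Scheme.{u}) {X : Scheme.{u}}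
    (f : ∀ i, g i ⟶ X) [∀ i, QuasiCompact (f i)] : QuasiCompact (Sigma.desc f) := by
  refine ⟨fun U hU hUc => ?_⟩
  have : (Sigma.desc f).base ⁻¹' U = ⋃ i, (Sigma.ι g i).base '' ((f i).base ⁻¹' U) := by
    ext z
    simp only [Set.mem_preimage, Set.mem_iUnion, Set.mem_image]
    constructor
    · intro hz
      obtain ⟨i, w, rfl⟩ := exists_sigmaι_eq g z
      refine ⟨i, w, ?_, rfl⟩
      rwa [← Scheme.Hom.comp_apply, Sigma.ι_desc] at hz
    · rintro ⟨i, w, hw, rfl⟩
      rw [← Scheme.Hom.comp_apply, Sigma.ι_desc]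
      exact hw
  rw [this]
  exact isCompact_iUnion fun i =>
    ((QuasiCompact.isCompact_preimage (f := f i) U hU hUc).image (Scheme.Hom.continuous _))

theorem S13731 {X : Scheme.{u}} [IsNoetherian X] [X.IsSeparated] (E : PreZeroHypercover.{u} X) [Finite E.I₀] [∀ i, LocallyOfFiniteType (E.f i)] [∀ i, QuasiCompact (E.f i)] [∀ i, IsSeparated (E.f i)] (hE : SGA1.UnivSubmersive (Sigma.desc E.f)) (x : X) : ∃ (i : E.I₀) (ξ u : E.X i), ξ ⤳ u ∧ E.f i u = x ∧ closure {E.f i ξ} ∈ irreducibleComponents ↥X := by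
  have hqc : QuasiCompact (Sigma.desc E.f) := quasiCompact_sigmaDesc E.X E.f
  have hS : Subtr.IsSSubtrusive (Sigma.desc E.f) :=
    ((SubmSubtr.S14770 (Sigma.desc E.f)).mp hE) _ _ _ IsPullback.of_id_snd
  -- the generic point of an irreducible component through `x`
  have hZ : irreducibleComponent x ∈ irreducibleComponents ↥X := irreducibleComponent_mem_irreducibleComponents x
  obtain ⟨η, hη⟩ := QuasiSober.sober (isIrreducible_irreducibleComponent (x := x))
    (isClosed_irreducibleComponent (x := x))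
  have hηx : η ⤳ x := by
    rw [specializes_iff_mem_closure, hη.def]
    exact mem_irreducibleComponent
  obtain ⟨u', ξ', hsp, hu', hξ'⟩ := hS hηx
  obtain ⟨i, u, rfl⟩ := exists_sigmaι_eq E.X u'
  have hξr : ξ' ∈ Set.range (Sigma.ι E.X i).base :=
    hsp.mem_open (Sigma.ι E.X i).isOpenEmbedding.isOpen_range ⟨u, rfl⟩
  obtain ⟨ξ, rfl⟩ := hξr
  refine ⟨i, ξ, u, ?_, ?_, ?_⟩
  · exact (Sigma.ι E.X i).isOpenEmbedding.isInducing.specializes_iff.mp hsp
  · rw [← Scheme.Hom.comp_apply, Sigma.ι_desc] at hu'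
    exact hu'
  · rw [← Scheme.Hom.comp_apply, Sigma.ι_desc] at hξ'
    have : (E.f i) ξ = η := hξ'
    rw [this, hη.def]
    exact hZ


end Groth.Agent.Lib.lead.HTopGen
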