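import Mathlib
import Groth.Agent.Lib.lead.SubmSubtr
import Groth.Agent.Lib.lead.HTopGen

open CategoryTheory CategoryTheory.Limits AlgebraicGeometry TensorProduct Topology

universe u

namespace Groth.Agent.Lib.lead.HTopCover

open Groth.Agent.Lib.lead.HTopGen Groth.Agent.Lib.lead.SubmSubtr

/-- a morphism from the spectrum of a local ring factors through any open containing the image of
the closed point -/
theorem range_subset_of_closedPoint_mem {Y : Scheme.{u}} (V : Type u) [CommRing V] [IsLocalRing V]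
    (g : Spec (CommRingCat.of V) ⟶ Y) (O : Set Y) (hO : IsOpen O)
    (h : g.base (IsLocalRing.closedPoint V) ∈ O) : Set.range g.base ⊆ O := by
  rintro _ ⟨p, rfl⟩
  have hp : g.base p ⤳ g.base (IsLocalRing.closedPoint V) :=
    (IsLocalRing.specializes_closedPoint p).map (Scheme.Hom.continuous _)
  exact hp.mem_open hO h

set_option backward.isDefEq.respectTransparency.types false in
theorem univSubmersive_of_isVCover {X : Scheme.{u}} [IsNoetherian X] (E : PreZeroHypercover.{u} X)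
    [Finite E.I₀] [∀ i, QuasiCompact (E.f i)] (hE : HTop.IsVCover E) :
    SGA1.UnivSubmersive (Sigma.desc E.f) := by
  have hqc : QuasiCompact (Sigma.desc E.f) := quasiCompact_sigmaDesc E.X E.f
  rw [SubmSubtr.S14770, SubtrVal2.S14769]
  intro V _ _ _ g
  obtain ⟨_, ⟨U₀, hU, rfl⟩, hyU, -⟩ := (X.isBasis_affineOpens).exists_subset_of_mem_open
    (Set.mem_univ (g.base (IsLocalRing.closedPoint V))) isOpen_univ
  let U : X.Opens := U₀
  have hrange : Set.range g.base ⊆ Set.range U.ι.base := by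
    rw [Scheme.Opens.range_ι]
    exact range_subset_of_closedPoint_mem V g U U.isOpen hyU
  let g' : Spec (CommRingCat.of V) ⟶ (U : Scheme.{u}) := IsOpenImmersion.lift U.ι g hrange
  have hg' : g' ≫ U.ι = g := IsOpenImmersion.lift_fac _ _ _
  obtain ⟨F, hF, href⟩ := hE ⟨U, hU⟩
  obtain ⟨W, hWD, hWV, φ, ⟨hinj, hloc⟩, j, g'', hg''⟩ := hF.lift (CommRingCat.of V) g'
  obtain ⟨i, h, hh⟩ := href j
  refine ⟨W, inferInstance, hWD, hWV, g'' ≫ h ≫ Sigma.ι E.X i, Spec.map φ, ⟨?_⟩, ?_⟩
  · have hloc' : (IsLocalRing.maximalIdeal W).comap φ.hom = IsLocalRing.maximalIdeal V :=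
      ((IsLocalRing.local_hom_TFAE φ.hom).out 0 4).mp hloc
    exact SubtrVal.comap_surjective_of_injective_local φ.hom hinj hloc'
  · rw [Category.assoc, Category.assoc, Sigma.ι_desc, hh, ← Category.assoc, hg'', Category.assoc,
      hg']

/-- a ring map inducing a surjection on spectra out of a local domain is injective and local -/
theorem isExtVal_of_surjective (V W : CommRingCat.{u}) [IsDomain V] [ValuationRing V] [IsDomain W]
    [ValuationRing W] (φ : V ⟶ W) (h : Function.Surjective (Spec.map φ).base) :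
    HTop.IsExtVal V W φ := by
  constructor
  · rw [injective_iff_map_eq_zero]
    intro a ha
    obtain ⟨q, hq⟩ := h (⟨⊥, Ideal.isPrime_bot⟩ : PrimeSpectrum V)
    have h1 : a ∈ ((Spec.map φ).base q).asIdeal := by
      show φ.hom a ∈ q.asIdeal
      rw [ha]; exact Ideal.zero_mem _
    rw [hq] at h1
    exact h1
  · constructor
    intro a ha
    obtain ⟨q, hq⟩ := h (IsLocalRing.closedPoint V)
    by_contra hna
    have h1 : a ∈ (IsLocalRing.closedPoint V).asIdeal := (IsLocalRing.mem_maximalIdeal a).mpr hna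
    rw [← hq] at h1
    have h2 : φ.hom a ∈ q.asIdeal := h1
    exact q.2.ne_top (Ideal.eq_top_of_isUnit_mem _ h2 ha)

set_option backward.isDefEq.respectTransparency.types false in
theorem isVCover_of_univSubmersive {X : Scheme.{u}} [IsNoetherian X] (E : PreZeroHypercover.{u} X)
    [Finite E.I₀] [∀ i, QuasiCompact (E.f i)] (hE : SGA1.UnivSubmersive (Sigma.desc E.f)) :
    HTop.IsVCover E := by
  have hqc : QuasiCompact (Sigma.desc E.f) := quasiCompact_sigmaDesc E.X E.f
  rw [SubmSubtr.S14770, SubtrVal2.S14769] at hE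
  rintro ⟨U, hU⟩
  -- finite affine covers of the preimages of `U`
  have hcov : ∀ i : E.I₀, ∃ s : Set (E.X i).affineOpens, s.Finite ∧
      ((E.f i) ⁻¹ᵁ U : Set (E.X i)) = ⋃ W ∈ s, (W : Set (E.X i)) := by
    intro i
    have hc : IsCompact ((E.f i) ⁻¹ᵁ U : Set (E.X i)) :=
      QuasiCompact.isCompact_preimage (f := E.f i) U U.isOpen hU.isCompact
    exact isCompact_and_isOpen_iff_finite_and_eq_biUnion_affineOpens.mp
      ⟨hc, ((E.f i) ⁻¹ᵁ U).isOpen⟩
  choose s hsfin hs using hcov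
  have : ∀ i, Finite ↥(s i) := fun i => (hsfin i).to_subtype
  let Q := Σ i : E.I₀, ↥(s i)
  have : Finite Q := inferInstance
  let n := Nat.card Q
  let e : Fin n ≃ Q := (Finite.equivFin Q).symm
  have hle : ∀ q : Q, ((q.2.1 : (E.X q.1).Opens) : Set (E.X q.1)) ⊆ (E.f q.1) ⁻¹ᵁ U := by
    intro q
    rw [hs q.1]
    exact Set.subset_biUnion_of_mem (u := fun W : (E.X q.1).affineOpens => (W : Set (E.X q.1))) q.2.2
  have hrange : ∀ q : Q, Set.range ((q.2.1 : (E.X q.1).Opens).ι ≫ E.f q.1).base ⊆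
      Set.range U.ι.base := by
    intro q
    rw [Scheme.Opens.range_ι]
    rintro _ ⟨w, rfl⟩
    rw [Scheme.Hom.comp_apply]
    exact hle q w.2
  let F : PreZeroHypercover.{0} (U : Scheme.{u}) :=
    { I₀ := Fin n
      X := fun k => ((e k).2.1 : (E.X (e k).1).Opens)
      f := fun k => IsOpenImmersion.lift U.ι (((e k).2.1 : (E.X (e k).1).Opens).ι ≫ E.f (e k).1)
        (hrange (e k)) }
  have hFf : ∀ k, F.f k ≫ U.ι = ((e k).2.1 : (E.X (e k).1).Opens).ι ≫ E.f (e k).1 :=
    fun k => IsOpenImmersion.lift_fac _ _ _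
  refine ⟨F, ⟨hU, inferInstanceAs (Finite (Fin n)), fun k => (e k).2.1.2, ?_⟩, ?_⟩
  · -- the valuative lifting property
    intro V _ _ g
    obtain ⟨V', hC, hD, hVR, a, b, hb, hab⟩ := hE V (g ≫ U.ι)
    -- where does the closed point go
    obtain ⟨i, w, hw⟩ := exists_sigmaι_eq E.X (a.base (IsLocalRing.closedPoint V'))
    have hwU : w ∈ ((E.f i) ⁻¹ᵁ U : Set (E.X i)) := by
      show (E.f i).base w ∈ (U : Set X)
      have h1 : (E.f i).base w = (Sigma.desc E.f).base (a.base (IsLocalRing.closedPoint V')) := by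
        rw [← hw, ← Scheme.Hom.comp_apply, Sigma.ι_desc]
      rw [h1, ← Scheme.Hom.comp_apply, hab, ← Category.assoc, Scheme.Hom.comp_apply]
      exact (Scheme.Opens.range_ι U) ▸ Set.mem_range_self _
    rw [hs i] at hwU
    obtain ⟨W, hWs, hwW⟩ := Set.mem_iUnion₂.mp hwU
    -- the index
    have hP : ∃ k : Fin n, ∃ w' : E.X (e k).1, (Sigma.ι E.X (e k).1).base w' =
        a.base (IsLocalRing.closedPoint V') ∧ w' ∈ ((e k).2.1 : (E.X (e k).1).Opens) := by
      obtain ⟨k, hk⟩ := e.surjective ⟨i, ⟨W, hWs⟩⟩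
      refine ⟨k, ?_⟩
      rw [hk]
      exact ⟨w, hw, hwW⟩
    obtain ⟨k, w', hw', hw'W⟩ := hP
    set Wk : (E.X (e k).1).Opens := ((e k).2.1 : (E.X (e k).1).Opens) with hWk
    have hra : Set.range a.base ⊆ Set.range (Wk.ι ≫ Sigma.ι E.X (e k).1).base := by
      apply range_subset_of_closedPoint_mem V' a _
        (Wk.ι ≫ Sigma.ι E.X (e k).1).isOpenEmbedding.isOpen_range
      refine ⟨⟨w', hw'W⟩, ?_⟩
      rw [Scheme.Hom.comp_apply]
      exact hw'
    let g₀ : Spec (CommRingCat.of V') ⟶ (Wk : Scheme.{u}) :=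
      IsOpenImmersion.lift (Wk.ι ≫ Sigma.ι E.X (e k).1) a hra
    have hg₀ : g₀ ≫ Wk.ι ≫ Sigma.ι E.X (e k).1 = a := IsOpenImmersion.lift_fac _ _ _
    obtain ⟨φ, hφ⟩ := Spec.map_surjective b
    refine ⟨CommRingCat.of V', hD, hVR, φ, ?_, k, g₀, ?_⟩
    · apply isExtVal_of_surjective
      rw [hφ]
      exact hb.surj
    · rw [← cancel_mono U.ι, Category.assoc, hFf k, hφ, Category.assoc, ← hab, ← hg₀]
      simp only [Category.assoc, Sigma.ι_desc]
      rfl
  · intro k
    exact ⟨(e k).1, ((e k).2.1 : (E.X (e k).1).Opens).ι, (hFf k).symm⟩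

theorem S8977 {X : Scheme.{u}} [IsNoetherian X] (E : PreZeroHypercover.{u} X) [Finite E.I₀] [∀ i, LocallyOfFiniteType (E.f i)] [∀ i, QuasiCompact (E.f i)] : SGA1.UnivSubmersive (Sigma.desc E.f) ↔ HTop.IsHCover E := by
  constructor
  · intro h
    refine ⟨fun i => ?_, isVCover_of_univSubmersive E h⟩
    rw [LocallyOfFinitePresentation.iff_locallyOfFiniteType]
    infer_instance
  · intro h
    exact univSubmersive_of_isVCover E h.2


end Groth.Agent.Lib.lead.HTopCover
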