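import Mathlib
import Groth.Agent.Lib.lead.HensClopenA
import Groth.Agent.Lib.lead.HensClopenC
import Groth.Agent.Lib.Helper13.ZMTFinMain

/-!
# Finite schemes over an arbitrary henselian pair; splitting off the finite part
-/

set_option autoImplicit false
set_option linter.style.haveILetI false
universe u
open CategoryTheory CategoryTheory.Limits AlgebraicGeometry Opposite TopologicalSpace PrimeSpectrum

namespace Groth.Agent.Lib.lead.HensClopen

/-- A closed subset of the source of a closed map to `Spec R` which misses the preimage of `V(K)`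
is empty when `K` lies in the Jacobson radical. -/
theorem eq_empty_of_disjoint_preimage_zeroLocus {Y : Type*} [TopologicalSpace Y] {R : Type*}
    [CommRing R] (K : Ideal R) (hK : K ≤ Ideal.jacobson ⊥) (h : Y → PrimeSpectrum R)
    (hcl : IsClosedMap h) (D : Set Y) (hD : IsClosed D)
    (hdisj : Disjoint D (h ⁻¹' (zeroLocus (K : Set R)))) : D = ∅ := by
  by_contra hne
  obtain ⟨y, hy⟩ := Set.nonempty_iff_ne_empty.mpr hne
  have hT : IsClosed (h '' D) := hcl _ hD
  have hTz : zeroLocus (vanishingIdeal (h '' D) : Set R) = h '' D := by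
    rw [zeroLocus_vanishingIdeal_eq_closure, hT.closure_eq]
  have hJ : vanishingIdeal (h '' D) ≠ ⊤ := by
    intro htop
    have hmem : h y ∈ zeroLocus (vanishingIdeal (h '' D) : Set R) := by
      rw [hTz]; exact ⟨y, hy, rfl⟩
    rw [htop] at hmem
    simp at hmem
  obtain ⟨m, hm, hJm⟩ := Ideal.exists_le_maximal _ hJ
  have hmT : (⟨m, hm.isPrime⟩ : PrimeSpectrum R) ∈ h '' D := by
    rw [← hTz]
    exact hJm
  obtain ⟨y', hy'D, hy'⟩ := hmT
  have hKm : K ≤ m := hK.trans (sInf_le ⟨bot_le, hm⟩)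
  have : y' ∈ h ⁻¹' (zeroLocus (K : Set R)) := by
    change h y' ∈ zeroLocus (K : Set R)
    rw [hy']
    exact hKm
  exact Set.disjoint_left.mp hdisj hy'D this

/-- Clopen subsets lift uniquely for a scheme **finite** over an arbitrary henselian pair. -/
theorem main_finite (R : Type u) [CommRing R] (K : Ideal R) [HenselianRing R K]
    {Y : Scheme.{u}} (h : Y ⟶ Spec (CommRingCat.of R)) [IsFinite h]
    (V' : Set Y) (hV'Z : V' ⊆ h ⁻¹' (zeroLocus (K : Set R)))
    (hV' : IsClosed V') (hV'' : IsClosed (h ⁻¹' (zeroLocus (K : Set R)) \ V')) :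
    ∃! U : Set Y, IsClopen U ∧ U ∩ h ⁻¹' (zeroLocus (K : Set R)) = V' := by
  let ψ : CommRingCat.of R ⟶ Γ(Y, ⊤) := (Scheme.ΓSpecIso (CommRingCat.of R)).inv ≫ h.appTop
  have hfin := (HasAffineProperty.iff_of_isAffine (P := @IsFinite) (f := h)).mp inferInstance
  haveI : IsAffine Y := hfin.1
  have hψfin : ψ.hom.Finite := by
    have h1 : ((Scheme.ΓSpecIso (CommRingCat.of R)).inv).hom.Finite :=
      RingHom.Finite.of_surjective _
        ((ConcreteCategory.bijective_of_isIso (Scheme.ΓSpecIso (CommRingCat.of R)).inv).2)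
    exact hfin.2.comp h1
  letI : Algebra R Γ(Y, ⊤) := ψ.hom.toAlgebra
  haveI : Module.Finite R Γ(Y, ⊤) := hψfin
  have hfac : Y.toSpecΓ ≫ Spec.map ψ = h := by
    rw [Spec.map_comp, ← Category.assoc, ← Scheme.toSpecΓ_naturality, Category.assoc,
      toSpecΓ_SpecMap_ΓSpecIso_inv, Category.comp_id]
  haveI : IsIso Y.toSpecΓ := IsAffine.affine
  let e : Y ≃ₜ Spec Γ(Y, ⊤) := Scheme.homeoOfIso (asIso Y.toSpecΓ)
  have he : ∀ y, e y = Y.toSpecΓ y := fun _ => rfl
  have hsurj : Function.Surjective Y.toSpecΓ := e.surjective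
  have hinj : Function.Injective Y.toSpecΓ := e.injective
  have hcl : IsClosedMap Y.toSpecΓ := e.isClosedMap
  have hfib : ∀ p : Spec Γ(Y, ⊤), _root_.IsPreconnected (Y.toSpecΓ ⁻¹' {p}) := by
    intro p
    apply Set.Subsingleton.isPreconnected
    intro a ha b hb
    exact hinj (ha.trans hb.symm)
  set KB : Ideal Γ(Y, ⊤) := K.map (algebraMap R Γ(Y, ⊤)) with hKB
  have hZ : h ⁻¹' (zeroLocus (K : Set R)) = Y.toSpecΓ ⁻¹' (zeroLocus (KB : Set Γ(Y, ⊤))) := by
    have h1 : (Spec.map ψ) ⁻¹' (zeroLocus (K : Set R)) = zeroLocus (KB : Set Γ(Y, ⊤)) := by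
      have : (zeroLocus (KB : Set Γ(Y, ⊤)) : Set (PrimeSpectrum Γ(Y, ⊤))) =
          zeroLocus (ψ.hom '' (K : Set R)) := by
        rw [hKB, Ideal.map, zeroLocus_span]; rfl
      rw [this, ← PrimeSpectrum.preimage_comap_zeroLocus]
      rfl
    rw [← h1, ← hfac]
    rfl
  refine existsUnique_of_exists_of_unique ?_ ?_
  · rw [hZ] at hV'Z hV'' ⊢
    exact exists_isClopen_inter_eq (fun y => Y.toSpecΓ y) Y.toSpecΓ.continuous hcl hsurj
      hfib (zeroLocus (KB : Set Γ(Y, ⊤)))
      (fun W₀ hW₀ h1 h2 => exists_isClopen_inter_zeroLocus K Γ(Y, ⊤) W₀ hW₀ h1 h2)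
      V' hV'Z hV' hV''
  · rintro U₁ U₂ ⟨hU₁, h₁⟩ ⟨hU₂, h₂⟩
    exact eq_of_inter_eq K HenselianRing.jac (fun y => h y) h.isClosedMap U₁ U₂ hU₁ hU₂
      (h₁.trans h₂.symm)

/-- Etale morphisms are locally quasi-finite. -/
theorem locallyQuasiFinite_of_etale' {X Y : Scheme.{u}} (f : X ⟶ Y) [Etale f] :
    LocallyQuasiFinite f := by
  refine ⟨fun {U} hU {V} hV e => ?_⟩
  have h := HasRingHomProperty.appLE (P := @Etale) f inferInstance ⟨U, hU⟩ ⟨V, hV⟩ e
  algebraize [(f.appLE U V e).hom]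
  change Algebra.QuasiFinite _ _
  infer_instance

/-- **Splitting off the finite part** over a henselian pair: a quasi-compact separated
locally quasi-finite morphism `g : U ⟶ Spec A` of finite type whose reduction mod `I` is finite
has a clopen part which is finite over `A` and contains every point over `V(I)`. -/
theorem split_finite_part (A : Type u) [CommRing A] (I : Ideal A) [HenselianRing A I]
    {U : Scheme.{u}} (g : U ⟶ Spec (CommRingCat.of A)) [QuasiCompact g] [IsSeparated g]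
    [LocallyOfFiniteType g] [LocallyQuasiFinite g]
    (hfin : IsFinite (pullback.snd g (Spec.map (CommRingCat.ofHom (Ideal.Quotient.mk I))))) :
    ∃ W : U.Opens, IsClosed (W : Set U) ∧ IsFinite (W.ι ≫ g) ∧
      ∀ u : U, u ∉ W → ¬ I ≤ (g.base u : PrimeSpectrum A).asIdeal := by
  obtain ⟨T, j, π, hj, hjqc, hjdom, hπ, hfac⟩ :=
    Groth.Agent.Lib.Helper13.ZMTFin.exists_finite_factorization g
  let q := Spec.map (CommRingCat.ofHom (Ideal.Quotient.mk I))
  haveI : IsClosedImmersion q := IsClosedImmersion.spec_of_surjective _ Ideal.Quotient.mk_surjective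
  let i₀ := pullback.fst g q
  have hrange_i₀ : Set.range i₀ = g ⁻¹' (zeroLocus (I : Set A)) := by
    rw [Scheme.Pullback.range_fst, range_SpecMap_quotient]
  have hpi : ∀ u : U, π (j u) = g u := by
    intro u
    rw [← hfac]; rfl
  -- the image of `g⁻¹ V(I)` in `T` is closed
  have hcomp : (i₀ ≫ j) ≫ π = pullback.snd g q ≫ q := by
    rw [Category.assoc, hfac, pullback.condition]
  haveI : IsFinite (pullback.snd g q) := hfin
  haveI : IsProper ((i₀ ≫ j) ≫ π) := by
    rw [hcomp]; infer_instance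
  haveI : IsProper (i₀ ≫ j) := IsProper.of_comp (i₀ ≫ j) π
  have himg : j '' (g ⁻¹' (zeroLocus (I : Set A))) = Set.range (i₀ ≫ j) := by
    rw [← hrange_i₀]
    ext t
    constructor
    · rintro ⟨_, ⟨x, rfl⟩, rfl⟩
      exact ⟨x, rfl⟩
    · rintro ⟨x, rfl⟩
      exact ⟨i₀ x, ⟨x, rfl⟩, rfl⟩
  have hcl : IsClosed (j '' (g ⁻¹' (zeroLocus (I : Set A)))) := by
    rw [himg]
    exact (i₀ ≫ j).isClosedMap.isClosed_range
  have hsub : j '' (g ⁻¹' (zeroLocus (I : Set A))) ⊆ π ⁻¹' (zeroLocus (I : Set A)) := by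
    rintro _ ⟨u, hu, rfl⟩
    show π (j u) ∈ zeroLocus (I : Set A)
    rw [hpi]; exact hu
  have hopen : IsOpen (Set.range j) := j.isOpenEmbedding.isOpen_range
  have hdiff : π ⁻¹' (zeroLocus (I : Set A)) \ j '' (g ⁻¹' (zeroLocus (I : Set A))) =
      π ⁻¹' (zeroLocus (I : Set A)) ∩ (Set.range j)ᶜ := by
    ext t
    constructor
    · rintro ⟨ht, hnt⟩
      refine ⟨ht, ?_⟩
      rintro ⟨u, rfl⟩
      apply hnt
      refine ⟨u, ?_, rfl⟩
      show g u ∈ zeroLocus (I : Set A)
      rw [← hpi]; exact ht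
    · rintro ⟨ht, hnt⟩
      refine ⟨ht, ?_⟩
      rintro ⟨u, -, rfl⟩
      exact hnt ⟨u, rfl⟩
  have hcl2 : IsClosed (π ⁻¹' (zeroLocus (I : Set A)) \ j '' (g ⁻¹' (zeroLocus (I : Set A)))) := by
    rw [hdiff]
    exact ((isClosed_zeroLocus _).preimage π.continuous).inter hopen.isClosed_compl
  obtain ⟨W, ⟨hW, hWZ⟩, -⟩ := main_finite A I π _ hsub hcl hcl2
  -- `W` is contained in the image of `j`
  have hWj : W ⊆ Set.range j := by
    have hD : W \ Set.range j = ∅ := by
      apply eq_empty_of_disjoint_preimage_zeroLocus I HenselianRing.jac (fun t => π t)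
        π.isClosedMap _ (hW.1.sdiff hopen)
      rw [Set.disjoint_left]
      rintro t ⟨htW, htj⟩ htZ
      have : t ∈ j '' (g ⁻¹' (zeroLocus (I : Set A))) := hWZ ▸ ⟨htW, htZ⟩
      obtain ⟨u, -, rfl⟩ := this
      exact htj ⟨u, rfl⟩
    exact Set.sdiff_eq_empty.mp hD
  -- the open subscheme `j⁻¹ W` of `U`
  let WU : U.Opens := ⟨j ⁻¹' W, hW.2.preimage j.continuous⟩
  refine ⟨WU, hW.1.preimage j.continuous, ?_, ?_⟩
  · -- `WU.ι ≫ j` is an open immersion with closed range `W`, hence a closed immersion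
    have hrange : Set.range (WU.ι ≫ j) = W := by
      ext t
      constructor
      · rintro ⟨x, rfl⟩
        exact x.2
      · intro ht
        obtain ⟨u, rfl⟩ := hWj ht
        exact ⟨⟨u, ht⟩, rfl⟩
    haveI : IsClosedImmersion (WU.ι ≫ j) :=
      IsClosedImmersion.of_isPreimmersion _ (by rw [hrange]; exact hW.1)
    have : WU.ι ≫ g = (WU.ι ≫ j) ≫ π := by rw [Category.assoc, hfac]
    rw [this]
    infer_instance
  · intro u hu hIu
    apply hu
    change j u ∈ W
    have : j u ∈ j '' (g ⁻¹' (zeroLocus (I : Set A))) := ⟨u, hIu, rfl⟩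
    rw [← hWZ] at this
    exact this.1

end Groth.Agent.Lib.lead.HensClopen
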