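import Mathlib
import Groth.Agent.Lib.Helper12.PairUniv
import Groth.Agent.Lib.Helper12.PairUnique
import Groth.Agent.Lib.Helper12.PairLimit
import Groth.Agent.Lib.Helper12.HfpLemmas
import Groth.Agent.Lib.Helper12.FlatDescent
import Groth.Agent.Lib.Helper21.FlatDescI
import Groth.Agent.Lib.lead.ValFlatG

set_option autoImplicit false
set_option linter.style.haveILetI false
set_option linter.unusedSectionVars false
universe u
open TensorProduct

namespace Groth.Agent.Lib.lead.HensFlatFP

open Groth.Agent.Lib.Helper12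

/-- a prime of `R₀` containing `I R₀` is in the flat locus when the henselization is flat. -/
theorem flat_localization_of_le (A : Type u) [CommRing A]
    (R₀ : Type u) [CommRing R₀] [Algebra A R₀] (IR : Ideal R₀)
    (B : Type u) [CommRing B] [Algebra R₀ B] [Algebra A B] [IsScalarTower A R₀ B]
    (hB : Hens2.IsPairHenselization R₀ IR B) [Module.Flat A B]
    (q : Ideal R₀) [q.IsPrime] (hq : IR ≤ q) :
    Module.Flat A (Localization.AtPrime q) := by
  -- B flat over R₀
  haveI : Module.Flat R₀ B := by
    obtain ⟨e⟩ := PairUnique.nonempty_algEquiv hB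
      (PairNbhd.Lim.isPairHenselization (A := R₀) (I := IR))
    exact Module.Flat.of_linearEquiv e.toLinearEquiv
  -- the retraction to `R₀ / IR`
  haveI : HenselianRing (R₀ ⧸ IR) ⊥ := henselianRing_bot
  obtain ⟨g, hg, -⟩ := hB.2 (R₀ ⧸ IR) ⊥ (Ideal.Quotient.mk IR) inferInstance
    (by rw [Ideal.map_quotient_self])
  let q₁ : Ideal (R₀ ⧸ IR) := q.map (Ideal.Quotient.mk IR)
  haveI : q₁.IsPrime :=
    Ideal.map_isPrime_of_surjective Ideal.Quotient.mk_surjective (by rwa [Ideal.mk_ker])
  let q' : Ideal B := q₁.comap g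
  haveI : q'.IsPrime := Ideal.comap_isPrime g q₁
  have hq' : q'.comap (algebraMap R₀ B) = q := by
    rw [Ideal.comap_comap, hg]
    show Ideal.comap (Ideal.Quotient.mk IR) (q.map (Ideal.Quotient.mk IR)) = q
    rw [Ideal.comap_map_of_surjective' _ Ideal.Quotient.mk_surjective, Ideal.mk_ker]
    exact sup_eq_left.mpr hq
  haveI : q'.LiesOver q := ⟨hq'.symm⟩
  letI := Localization.AtPrime.algebraOfLiesOver q q'
  haveI : Module.Flat A (Localization.AtPrime q') := Module.Flat.trans A B _
  haveI : Module.Flat R₀ (Localization.AtPrime q') := Module.Flat.trans R₀ B _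
  haveI : Module.Flat (Localization.AtPrime q) (Localization.AtPrime q') :=
    (Module.flat_iff_of_isLocalization (R := R₀) (Localization.AtPrime q) q.primeCompl
      (Localization.AtPrime q')).mpr inferInstance
  haveI : IsLocalHom (algebraMap (Localization.AtPrime q) (Localization.AtPrime q')) := by
    rw [RingHom.algebraMap_toAlgebra]
    exact Localization.isLocalHom_localRingHom q q' (algebraMap R₀ B) Ideal.LiesOver.over
  haveI : Module.FaithfullyFlat (Localization.AtPrime q) (Localization.AtPrime q') :=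
    Module.FaithfullyFlat.of_flat_of_isLocalHom
  exact flat_of_flat_of_faithfullyFlat A (Localization.AtPrime q) (Localization.AtPrime q')

theorem main (A : Type u) [CommRing A] (I : Ideal A) [HenselianRing A I]
    (R₀ : Type u) [CommRing R₀] [Algebra A R₀] [Algebra.FinitePresentation A R₀]
    (B : Type u) [CommRing B] [Algebra R₀ B] [Algebra A B] [IsScalarTower A R₀ B]
    (hB : Hens2.IsPairHenselization R₀ (I.map (algebraMap A R₀)) B) [Module.Flat A B] :
    ∃ (S : Type u) (_ : CommRing S) (_ : Algebra A S) (_ : Algebra S B) (_ : IsScalarTower A S B),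
      Algebra.FinitePresentation A S ∧ Module.Flat A S ∧
      Hens2.IsPairHenselization S (I.map (algebraMap A S)) B := by
  classical
  set IR := I.map (algebraMap A R₀) with hIR
  let U : Set (PrimeSpectrum R₀) :=
    {q | Module.Flat A (LocalizedModule q.asIdeal.primeCompl R₀)}
  have hUopen : IsOpen U :=
    Groth.Agent.Lib.Helper21.FlatDesc.isOpen_flatLocus_of_finitePresentation
      (R := A) (S := R₀) (M := R₀)
  have hflatU : ∀ q : PrimeSpectrum R₀,
      q ∈ U ↔ Module.Flat A (Localization.AtPrime q.asIdeal) := by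
    intro q
    let e := IsLocalizedModule.iso q.asIdeal.primeCompl
      (Algebra.linearMap R₀ (Localization.AtPrime q.asIdeal))
    exact ⟨fun h => by
        haveI : Module.Flat A (LocalizedModule q.asIdeal.primeCompl R₀) := h
        exact Module.Flat.of_linearEquiv (e.restrictScalars A).symm,
      fun h => by
        haveI := h
        exact Module.Flat.of_linearEquiv (e.restrictScalars A)⟩
  have hVU : ∀ q : PrimeSpectrum R₀, IR ≤ q.asIdeal → q ∈ U := fun q hq =>
    (hflatU q).mpr (flat_localization_of_le A R₀ IR B hB q.asIdeal hq)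
  obtain ⟨J, hJ⟩ : ∃ J : Ideal R₀, Uᶜ = PrimeSpectrum.zeroLocus (J : Set R₀) :=
    (PrimeSpectrum.isClosed_iff_zeroLocus_ideal _).mp hUopen.isClosed_compl
  have hsup : J ⊔ IR = ⊤ := by
    by_contra hne
    obtain ⟨m, hm, hle⟩ := Ideal.exists_le_maximal _ hne
    have hmU : (⟨m, hm.isPrime⟩ : PrimeSpectrum R₀) ∈ U := hVU _ (le_sup_right.trans hle)
    have hmc : (⟨m, hm.isPrime⟩ : PrimeSpectrum R₀) ∈ Uᶜ := by
      rw [hJ, PrimeSpectrum.mem_zeroLocus]
      exact fun a ha => hle (Ideal.mem_sup_left ha)
    exact hmc hmU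
  obtain ⟨j, hj, i, hi, hji⟩ := Submodule.mem_sup.1 ((Ideal.eq_top_iff_one _).1 hsup)
  have hpow : ∀ n : ℕ, 1 - j ^ n ∈ IR := by
    intro n
    have h1 : (1 : R₀) - j ∈ IR := by
      have : (1 : R₀) - j = i := by rw [← hji]; ring
      rw [this]; exact hi
    have h2 : (1 : R₀) - j ^ n = (1 - j) * (Finset.range n).sum (fun k => j ^ k) :=
      (mul_neg_geom_sum j n).symm
    rw [h2]
    exact IR.mul_mem_right _ h1
  let S := Localization.Away j
  have hflatS : Module.Flat A S := by
    apply Groth.Agent.Lib.lead.ValFlatG.flat_of_isLocalizedModule_of_forall_prime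
      (Submonoid.powers j) (Algebra.linearMap R₀ S)
    intro Q _ hdisj
    have hjQ : j ∉ Q := fun h => Set.disjoint_left.mp hdisj h ⟨1, pow_one j⟩
    have hQU : (⟨Q, ‹_›⟩ : PrimeSpectrum R₀) ∈ U := by
      by_contra hnot
      have h3 : (⟨Q, ‹_›⟩ : PrimeSpectrum R₀) ∈ PrimeSpectrum.zeroLocus (J : Set R₀) := by
        rw [← hJ]; exact hnot
      exact hjQ (h3 hj)
    exact (hflatU _).mp hQU
  have hunit : IsUnit (algebraMap R₀ B j) := by
    haveI := hB.1
    have hjac : IR.map (algebraMap R₀ B) ≤ Ideal.jacobson ⊥ := HenselianRing.jac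
    have h1 : algebraMap R₀ B j = -algebraMap R₀ B i * 1 + 1 := by
      have : j = 1 - i := by rw [← hji]; ring
      rw [this, map_sub, map_one]; ring
    rw [h1]
    have h2 : -algebraMap R₀ B i ∈ Ideal.jacobson (⊥ : Ideal B) :=
      neg_mem (hjac (Ideal.mem_map_of_mem _ hi))
    exact Ideal.mem_jacobson_bot.mp h2 1
  letI algSB : Algebra S B := (IsLocalization.Away.lift j hunit).toAlgebra
  haveI tow1 : IsScalarTower R₀ S B :=
    IsScalarTower.of_algebraMap_eq (fun r => (IsLocalization.Away.lift_eq j hunit r).symm)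
  haveI tow2 : IsScalarTower A S B := IsScalarTower.of_algebraMap_eq (fun a => by
    rw [IsScalarTower.algebraMap_apply A R₀ B, IsScalarTower.algebraMap_apply A R₀ S,
      ← IsScalarTower.algebraMap_apply R₀ S B])
  haveI hEt : Algebra.Etale R₀ S := Algebra.Etale.of_isLocalizationAway j
  refine ⟨S, inferInstance, inferInstance, algSB, tow2, ?_, hflatS, ?_⟩
  · haveI : Algebra.FinitePresentation R₀ S := hEt.finitePresentation
    exact Algebra.FinitePresentation.trans A R₀ S
  · have hbij : Function.Bijective (Ideal.quotientMap (IR.map (algebraMap R₀ S))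
        (algebraMap R₀ S) Ideal.le_comap_map) := by
      refine ⟨?_, ?_⟩
      · apply Ideal.quotientMap_injective'
        intro x hx
        rw [Ideal.mem_comap,
          IsLocalization.algebraMap_mem_map_algebraMap_iff (Submonoid.powers j)] at hx
        obtain ⟨m, ⟨n, rfl⟩, hm⟩ := hx
        have : x = j ^ n * x + (1 - j ^ n) * x := by ring
        rw [this]
        exact IR.add_mem hm (IR.mul_mem_right _ (hpow n))
      · intro y
        obtain ⟨y, rfl⟩ := Ideal.Quotient.mk_surjective y
        obtain ⟨r, ⟨_, ⟨n, rfl⟩⟩, rfl⟩ := IsLocalization.exists_mk'_eq (Submonoid.powers j) y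
        refine ⟨Ideal.Quotient.mk _ r, ?_⟩
        rw [Ideal.quotientMap_mk, Ideal.Quotient.eq]
        have hspec := IsLocalization.mk'_spec S r (⟨j ^ n, ⟨n, rfl⟩⟩ : Submonoid.powers j)
        simp only at hspec
        set z := IsLocalization.mk' S r (⟨j ^ n, ⟨n, rfl⟩⟩ : Submonoid.powers j) with hz
        have : algebraMap R₀ S r - z = - (z * algebraMap R₀ S (1 - j ^ n)) := by
          rw [← hspec, map_sub, map_one]; ring
        rw [this]
        exact neg_mem (Ideal.mul_mem_left _ _ (Ideal.mem_map_of_mem _ (hpow n)))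
    have h4 := Hfp.isPairHenselization_of_etale_nbhd hB hbij
    have h5 : IR.map (algebraMap R₀ S) = I.map (algebraMap A S) := by
      rw [hIR, Ideal.map_map, ← IsScalarTower.algebraMap_eq]
    rwa [h5] at h4

end Groth.Agent.Lib.lead.HensFlatFP

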