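import Mathlib
import Groth.Agent.Lib.lead.HensSectB

/-!
# Sections of étale separated morphisms and clopen lifting along finite morphisms (EGA IV 18.5.11 a ⇒ b)
Part C: existence, the quasi-compact case.
-/

set_option autoImplicit false
set_option linter.style.haveILetI false
universe u
open CategoryTheory CategoryTheory.Limits AlgebraicGeometry Opposite TopologicalSpace

namespace Groth.Agent.Lib.lead.HensSect

section couple

variable {S S₀ : Scheme.{u}} (i : S₀ ⟶ S)
  (ha : ∀ (S' : Scheme.{u}) (g : S' ⟶ S), IsFinite g →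
    ∀ V : Set ↥(pullback g i), IsClopen V →
      ∃! U : Set ↥S', IsClopen U ∧ (pullback.fst g i).base ⁻¹' U = V)

include ha

/-- a finite étale `S`-scheme whose restriction to `S₀` is a monomorphism admitting a section is
an isomorphism. -/
theorem isIso_of_finite_etale {X : Scheme.{u}} (q : X ⟶ S) [IsFinite q] [Etale q]
    [Mono (pullback.snd q i)] (c : S₀ ⟶ X) (hc : c ≫ q = i) : IsIso q := by
  -- the diagonal is clopen
  haveI : IsOpenImmersion (pullback.diagonal q) := inferInstance
  haveI : IsClosedImmersion (pullback.diagonal q) := inferInstance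
  have hcl : IsClopen (Set.range (pullback.diagonal q)) :=
    ⟨(pullback.diagonal q).isClosedEmbedding.isClosed_range,
      (pullback.diagonal q).isOpenEmbedding.isOpen_range⟩
  haveI : IsFinite (pullback.fst q q ≫ q) := inferInstance
  have hempty := eq_empty_of_isClopen_of_disjoint i ha (pullback.fst q q ≫ q)
    (Set.range (pullback.diagonal q))ᶜ hcl.compl
    (fun z hz hzi => hz (mem_range_diagonal_of_mono q i z hzi))
  haveI : Surjective (pullback.diagonal q) := ⟨by
    intro s
    by_contra hs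
    have : s ∈ (Set.range (pullback.diagonal q))ᶜ := hs
    rw [hempty] at this
    exact this⟩
  haveI : IsIso (pullback.diagonal q) :=
    (isIso_iff_isOpenImmersion_and_surjective _).2 ⟨inferInstance, inferInstance⟩
  haveI : Mono q := (pullback.isIso_diagonal_iff q).1 inferInstance
  haveI : IsOpenImmersion q := IsOpenImmersion.of_flat_of_mono q
  have hcl' : IsClopen (Set.range q) :=
    ⟨q.isClosedMap.isClosed_range, q.isOpenEmbedding.isOpen_range⟩
  have hrange : Set.range i ⊆ Set.range q := by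
    rintro _ ⟨s, rfl⟩
    exact ⟨c s, by rw [← Scheme.Hom.comp_apply, hc]⟩
  haveI : IsFinite (𝟙 S) := inferInstance
  have hempty' := eq_empty_of_isClopen_of_disjoint i ha (𝟙 S) (Set.range q)ᶜ hcl'.compl
    (fun t ht hti => ht (hrange hti))
  haveI : Surjective q := ⟨by
    intro s
    by_contra hs
    have : s ∈ (Set.range q)ᶜ := hs
    rw [hempty'] at this
    exact this⟩
  exact (isIso_iff_isOpenImmersion_and_surjective q).2 ⟨inferInstance, inferInstance⟩

/-- existence of the section in the quasi-compact case -/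
theorem exists_section_of_quasiCompact [IsClosedImmersion i] [CompactSpace S]
    [QuasiSeparatedSpace S] {W : Scheme.{u}} (g : W ⟶ S) [Etale g] [IsSeparated g]
    [QuasiCompact g] (v₀ : S₀ ⟶ W) (hv₀ : v₀ ≫ g = i) :
    ∃ u : S ⟶ W, u ≫ g = 𝟙 S ∧ i ≫ u = v₀ := by
  haveI : LocallyQuasiFinite g := locallyQuasiFinite_of_etale g
  obtain ⟨T, j, π, hj, -, -, hπ, hjπ⟩ :=
    Groth.Agent.Lib.Helper13.ZMTFin.exists_finite_factorization g
  haveI := hj
  haveI := hπ
  -- the section `w₀` of `T₀ → S₀`
  have hw₀c : (v₀ ≫ j) ≫ π = 𝟙 S₀ ≫ i := by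
    rw [Category.assoc, hjπ, hv₀, Category.id_comp]
  let w₀ : S₀ ⟶ pullback π i := pullback.lift (v₀ ≫ j) (𝟙 S₀) hw₀c
  have hw₀1 : w₀ ≫ pullback.fst π i = v₀ ≫ j := pullback.lift_fst _ _ _
  have hw₀2 : w₀ ≫ pullback.snd π i = 𝟙 S₀ := pullback.lift_snd _ _ _
  haveI : IsClosedImmersion w₀ := isClosedImmersion_of_section (pullback.snd π i) w₀ hw₀2
  -- `w₀` is an open immersion
  haveI : IsOpenImmersion w₀ := by
    let P := pullback (pullback.fst π i) j
    have hP : IsPullback (pullback.snd (pullback.fst π i) j)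
        (pullback.fst (pullback.fst π i) j ≫ pullback.snd π i) (j ≫ π) i := by
      have h1 : IsPullback (pullback.snd (pullback.fst π i) j) (pullback.fst (pullback.fst π i) j)
          j (pullback.fst π i) := (IsPullback.of_hasPullback (pullback.fst π i) j).flip
      have h2 : IsPullback (pullback.fst π i) (pullback.snd π i) π i :=
        IsPullback.of_hasPullback π i
      exact h1.paste_vert h2
    haveI : Etale (j ≫ π) := by rw [hjπ]; infer_instance
    haveI : Etale (pullback.fst (pullback.fst π i) j ≫ pullback.snd π i) :=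
      MorphismProperty.of_isPullback hP inferInstance
    let σ : S₀ ⟶ P := pullback.lift w₀ v₀ hw₀1
    have hσ : σ ≫ (pullback.fst (pullback.fst π i) j ≫ pullback.snd π i) = 𝟙 S₀ := by
      rw [← Category.assoc, pullback.lift_fst, hw₀2]
    haveI : IsOpenImmersion σ := isOpenImmersion_of_section _ σ hσ
    have : w₀ = σ ≫ pullback.fst (pullback.fst π i) j := (pullback.lift_fst _ _ _).symm
    rw [this]
    infer_instance
  -- the clopen subset `Γ₀ = range w₀` lifts to `Γ`
  have hΓ₀ : IsClopen (Set.range w₀) :=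
    ⟨w₀.isClosedEmbedding.isClosed_range, w₀.isOpenEmbedding.isOpen_range⟩
  obtain ⟨Γ, ⟨hΓ, hΓeq⟩, -⟩ := ha T π hπ (Set.range w₀) hΓ₀
  have hΓeq' : ∀ z : ↥(pullback π i), pullback.fst π i z ∈ Γ ↔ z ∈ Set.range w₀ := by
    intro z
    rw [← hΓeq]
    rfl
  -- `Γ ⊆ range j`
  have hΓj : Γ ⊆ Set.range j := by
    have hD : IsClosed (Γ \ Set.range j) := hΓ.1.sdiff j.isOpenEmbedding.isOpen_range
    have hempty := eq_empty_of_isClosed_of_disjoint i ha π (Γ \ Set.range j) hD (by
      rintro t ⟨htΓ, htj⟩ hti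
      have : t ∈ Set.range (pullback.fst π i) := by
        rw [Scheme.Pullback.range_fst]
        exact hti
      obtain ⟨z, rfl⟩ := this
      obtain ⟨s, rfl⟩ := (hΓeq' z).1 htΓ
      apply htj
      refine ⟨v₀ s, ?_⟩
      rw [← Scheme.Hom.comp_apply, ← Scheme.Hom.comp_apply, hw₀1])
    intro t ht
    by_contra htj
    have : t ∈ Γ \ Set.range j := ⟨ht, htj⟩
    rw [hempty] at this
    exact this
  -- the open subscheme `Γ`
  let Γo : T.Opens := ⟨Γ, hΓ.2⟩
  have hΓr : Set.range Γo.ι = Γ := by
    rw [Scheme.Opens.range_ι]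
    rfl
  haveI : IsClosedImmersion Γo.ι := IsClosedImmersion.of_isPreimmersion _ (by rw [hΓr]; exact hΓ.1)
  let k : Γo.toScheme ⟶ W := IsOpenImmersion.lift j Γo.ι (by rw [hΓr]; exact hΓj)
  have hk : k ≫ j = Γo.ι := IsOpenImmersion.lift_fac _ _ _
  let q : Γo.toScheme ⟶ S := Γo.ι ≫ π
  have hq : q = k ≫ g := by
    change Γo.ι ≫ π = k ≫ g
    rw [← hk, Category.assoc, hjπ]
  haveI : IsFinite q := inferInstanceAs (IsFinite (Γo.ι ≫ π))
  haveI : IsOpenImmersion k := by
    haveI : IsOpenImmersion (k ≫ j) := by rw [hk]; infer_instance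
    exact IsOpenImmersion.of_comp k j
  haveI : Etale q := by rw [hq]; infer_instance
  -- the lift `c` of `S₀`
  let c : S₀ ⟶ Γo.toScheme := IsOpenImmersion.lift Γo.ι (v₀ ≫ j) (by
    rw [hΓr]
    rintro _ ⟨s, rfl⟩
    have : (v₀ ≫ j) s = pullback.fst π i (w₀ s) := by
      rw [← Scheme.Hom.comp_apply, hw₀1]
    rw [this, hΓeq']
    exact ⟨s, rfl⟩)
  have hc : c ≫ Γo.ι = v₀ ≫ j := IsOpenImmersion.lift_fac _ _ _
  have hcq : c ≫ q = i := by
    change c ≫ Γo.ι ≫ π = i
    rw [← Category.assoc, hc, Category.assoc, hjπ, hv₀]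
  have hck : c ≫ k = v₀ := by
    rw [← cancel_mono j, Category.assoc, hk, hc]
  -- `pullback.snd q i` is a monomorphism
  haveI : Mono (pullback.snd q i) := by
    let m : pullback q i ⟶ pullback π i :=
      pullback.lift (pullback.fst q i ≫ Γo.ι) (pullback.snd q i)
        (by rw [Category.assoc]; exact pullback.condition)
    have hm1 : m ≫ pullback.fst π i = pullback.fst q i ≫ Γo.ι := pullback.lift_fst _ _ _
    have hm2 : m ≫ pullback.snd π i = pullback.snd q i := pullback.lift_snd _ _ _
    haveI : Mono m := ⟨by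
      intro Z a b hab
      apply pullback.hom_ext
      · rw [← cancel_mono Γo.ι, Category.assoc, Category.assoc, ← hm1, ← Category.assoc,
          ← Category.assoc, hab]
      · rw [← hm2, ← Category.assoc, ← Category.assoc, hab]⟩
    let l : pullback q i ⟶ S₀ := IsOpenImmersion.lift w₀ m (by
      rintro _ ⟨y, rfl⟩
      rw [← hΓeq', ← Scheme.Hom.comp_apply, hm1, Scheme.Hom.comp_apply, ← hΓr]
      exact ⟨_, rfl⟩)
    have hl : l ≫ w₀ = m := IsOpenImmersion.lift_fac _ _ _
    have hl' : l = pullback.snd q i := by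
      rw [← hm2, ← hl, Category.assoc, hw₀2, Category.comp_id]
    haveI : Mono (pullback.snd q i ≫ w₀) := by rw [← hl', hl]; infer_instance
    exact mono_of_mono (pullback.snd q i) w₀
  haveI : IsIso q := isIso_of_finite_etale i ha q c hcq
  refine ⟨inv q ≫ k, ?_, ?_⟩
  · rw [Category.assoc, ← hq, IsIso.inv_hom_id]
  · rw [← hcq, Category.assoc, IsIso.hom_inv_id_assoc, hck]

end couple

end Groth.Agent.Lib.lead.HensSect
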