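/-
S1404 (lead), part A: a variant of helper18's `Chev.exists_vec_minimal` with a prescribed first
element `g`, which avoids the minimal primes of the fibre below `P`.
-/
import Mathlib
import Groth.Agent.Lib.Helper18.Chev.AlgCore

set_option autoImplicit false
set_option linter.style.haveILetI false
set_option linter.unusedVariables false

open scoped TensorProduct

namespace Groth.Agent.Lib.lead.HorizA

universe u

/-- Ring-level core: in a ring `F` with Noetherian quotient `F' = F/(gb)`, a prime `Pb` of height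
`r` containing `gb`, where `gb` avoids the minimal primes below `Pb`, is cut out (among the primes
below it containing `gb`) by at most `r - 1` further elements. -/
theorem aux {F F' : Type*} [CommRing F] [CommRing F'] [IsNoetherianRing F'] (mk : F →+* F')
    (hmk : Function.Surjective mk) (gb : F) (hker : RingHom.ker mk = Ideal.span {gb})
    (Pb : PrimeSpectrum F) (hgbP : gb ∈ Pb.asIdeal) (r : ℕ) (hhtF : Order.height Pb = r)
    (hgmin : ∀ Q : PrimeSpectrum F, Q ≤ Pb → Q.asIdeal ∈ minimalPrimes F → gb ∉ Q.asIdeal) :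
    ∃ s : Finset F, s.card + 1 ≤ r ∧ (∀ y ∈ s, y ∈ Pb.asIdeal) ∧ ∀ Qb : PrimeSpectrum F,
      Qb ≤ Pb → gb ∈ Qb.asIdeal → (∀ y ∈ s, y ∈ Qb.asIdeal) → Qb = Pb := by
  classical
  set I : Ideal F := Ideal.span {gb} with hI
  have hIP : I ≤ Pb.asIdeal := by
    rw [Ideal.span_le, Set.singleton_subset_iff]; exact hgbP
  haveI hPb'prime : (Pb.asIdeal.map mk).IsPrime :=
    Ideal.map_isPrime_of_surjective hmk (by rw [hker]; exact hIP)
  let Pb' : PrimeSpectrum F' := ⟨Pb.asIdeal.map mk, hPb'prime⟩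
  have hPb'comap : Pb'.asIdeal.comap mk = Pb.asIdeal :=
    (Ideal.comap_map_of_surjective' mk hmk _).trans (by rw [hker]; exact sup_eq_left.mpr hIP)
  have hchain : ∀ l : LTSeries (PrimeSpectrum F'), l.last = Pb' → l.length + 1 ≤ r := by
    intro l hl
    let cm : PrimeSpectrum F' → PrimeSpectrum F := PrimeSpectrum.comap mk
    have hcm : StrictMono cm := by
      intro a b hab
      refine lt_of_le_of_ne (Ideal.comap_mono hab.le) ?_
      intro h
      exact hab.ne (PrimeSpectrum.comap_injective_of_surjective mk hmk h)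
    let l' : LTSeries (PrimeSpectrum F) := l.map cm hcm
    have hl'last : l'.last = Pb := by
      show cm l.last = Pb
      rw [hl]
      exact PrimeSpectrum.ext hPb'comap
    obtain ⟨Qm, hQm, hQmle⟩ := Ideal.exists_minimalPrimes_le (I := (⊥ : Ideal F))
      (J := l'.head.asIdeal) bot_le
    let Qm' : PrimeSpectrum F := ⟨Qm, hQm.1.1⟩
    have hle1 : l'.head ≤ Pb := by rw [← hl'last]; exact LTSeries.head_le_last l'
    have hgQm : gb ∉ Qm := hgmin Qm' (le_trans hQmle hle1) hQm
    have hghead : gb ∈ l'.head.asIdeal := by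
      show mk gb ∈ (l.head).asIdeal
      have : mk gb = 0 := by
        rw [← RingHom.mem_ker, hker]; exact Ideal.subset_span rfl
      rw [this]; exact Ideal.zero_mem _
    have hlt : Qm' < l'.head := by
      refine lt_of_le_of_ne hQmle ?_
      intro h
      exact hgQm (by
        rw [show Qm = l'.head.asIdeal from congrArg PrimeSpectrum.asIdeal h]; exact hghead)
    have h4 := Order.length_le_height (p := l'.cons Qm' hlt) (x := Pb) (by
      rw [RelSeries.last_cons, hl'last])
    rw [hhtF] at h4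
    have h5 : (l'.cons Qm' hlt).length = l.length + 1 := by
      rw [RelSeries.cons_length]; rfl
    rw [h5] at h4
    exact_mod_cast h4
  obtain ⟨s, hmin, hcard⟩ := Pb'.asIdeal.exists_finset_card_eq_height_of_isNoetherianRing
  have hhtle : Pb'.asIdeal.height ≤ ((r - 1 : ℕ) : ℕ∞) := by
    rw [PrimeSpectrum.height_eq_orderHeight]
    apply Order.height_le
    intro l hl
    have := hchain l hl
    exact_mod_cast (show l.length ≤ r - 1 by omega)
  have hr1 : 1 ≤ r := by
    have := hchain (RelSeries.singleton _ Pb') rfl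
    simpa using this
  have hcard' : s.card + 1 ≤ r := by
    have h1 : (s.card : ℕ∞) ≤ ((r - 1 : ℕ) : ℕ∞) := hcard ▸ hhtle
    have h2 : s.card ≤ r - 1 := by exact_mod_cast h1
    omega
  choose lift hlift using fun y : F' => hmk y
  refine ⟨s.image lift, ?_, ?_, ?_⟩
  · exact le_trans (Nat.add_le_add_right Finset.card_image_le 1) hcard'
  · intro y hy
    obtain ⟨y', hy', rfl⟩ := Finset.mem_image.1 hy
    have h1 : y' ∈ Pb'.asIdeal := hmin.1.2 (Ideal.subset_span hy')
    rw [← hPb'comap, Ideal.mem_comap, hlift]; exact h1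
  · intro Qb hle' hgQ hb
    have hIQ : I ≤ Qb.asIdeal := by
      rw [Ideal.span_le, Set.singleton_subset_iff]; exact hgQ
    haveI hQ'prime : (Qb.asIdeal.map mk).IsPrime :=
      Ideal.map_isPrime_of_surjective hmk (by rw [hker]; exact hIQ)
    have hQ'comap : (Qb.asIdeal.map mk).comap mk = Qb.asIdeal :=
      (Ideal.comap_map_of_surjective' mk hmk _).trans (by rw [hker]; exact sup_eq_left.mpr hIQ)
    have hspan : Ideal.span (s : Set F') ≤ Qb.asIdeal.map mk := by
      rw [Ideal.span_le]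
      intro y hy
      have h1 : lift y ∈ Qb.asIdeal := hb _ (Finset.mem_image_of_mem lift hy)
      have h2 := Ideal.mem_map_of_mem mk h1
      rwa [hlift] at h2
    have hle'' : Qb.asIdeal.map mk ≤ Pb'.asIdeal := Ideal.map_mono hle'
    have hge : Pb'.asIdeal ≤ Qb.asIdeal.map mk := hmin.2 ⟨hQ'prime, hspan⟩ hle''
    have heq : Qb.asIdeal.map mk = Pb'.asIdeal := le_antisymm hle'' hge
    apply PrimeSpectrum.ext
    rw [← hQ'comap, heq, hPb'comap]

/-- `aux` with `F' = F/(gb)`. -/
theorem aux' {F : Type*} [CommRing F] [IsNoetherianRing F] (gb : F)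
    (Pb : PrimeSpectrum F) (hgbP : gb ∈ Pb.asIdeal) (r : ℕ) (hhtF : Order.height Pb = r)
    (hgmin : ∀ Q : PrimeSpectrum F, Q ≤ Pb → Q.asIdeal ∈ minimalPrimes F → gb ∉ Q.asIdeal) :
    ∃ s : Finset F, s.card + 1 ≤ r ∧ (∀ y ∈ s, y ∈ Pb.asIdeal) ∧ ∀ Qb : PrimeSpectrum F,
      Qb ≤ Pb → gb ∈ Qb.asIdeal → (∀ y ∈ s, y ∈ Qb.asIdeal) → Qb = Pb :=
  aux (Ideal.Quotient.mk (Ideal.span {gb})) Ideal.Quotient.mk_surjective gb Ideal.mk_ker Pb hgbP r
    hhtF hgmin

variable {R A : Type u} [CommRing R] [CommRing A] [Algebra R A] [Algebra.FiniteType R A]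

set_option maxHeartbeats 1600000 in
/-- Elements of `P`, together with a prescribed `g ∈ P` avoiding the fibre-minimal primes below
`P`, cutting out `P` as a minimal prime in the fibre; one fewer than the height of `P` in the
fibre are needed besides `g`. -/
theorem exists_vec_minimal_with (P : PrimeSpectrum A) (g : A) (hgP : g ∈ P.asIdeal) (r : ℕ)
    (hr : Order.height (⟨P, rfl⟩ : PrimeSpectrum.comap (algebraMap R A) ⁻¹'
      {PrimeSpectrum.comap (algebraMap R A) P}) = r)
    (hg : ∀ P' : PrimeSpectrum A,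
      PrimeSpectrum.comap (algebraMap R A) P' = PrimeSpectrum.comap (algebraMap R A) P → P' ≤ P →
      (∀ P'' : PrimeSpectrum A, PrimeSpectrum.comap (algebraMap R A) P'' =
        PrimeSpectrum.comap (algebraMap R A) P → P'' ≤ P' → P'' = P') → g ∉ P'.asIdeal) :
    ∃ (r' : ℕ) (b : Fin r' → A), r' + 1 ≤ r ∧ (∀ j, b j ∈ P.asIdeal) ∧ ∀ P' : PrimeSpectrum A,
      PrimeSpectrum.comap (algebraMap R A) P' = PrimeSpectrum.comap (algebraMap R A) P →
        P' ≤ P → g ∈ P'.asIdeal → (∀ j, b j ∈ P'.asIdeal) → P' = P := by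
  classical
  set p := PrimeSpectrum.comap (algebraMap R A) P with hp
  let F := p.asIdeal.Fiber A
  let eo := PrimeSpectrum.preimageOrderIsoFiber R A p
  haveI : IsNoetherianRing F := Algebra.FiniteType.isNoetherianRing p.asIdeal.ResidueField F
  set Pb : PrimeSpectrum F := eo ⟨P, rfl⟩ with hPb
  have hcomap : ∀ (Q : PrimeSpectrum.comap (algebraMap R A) ⁻¹' {p}) (a : A),
      (1 : p.asIdeal.ResidueField) ⊗ₜ[R] a ∈ (eo Q).asIdeal ↔ a ∈ Q.1.asIdeal := by
    intro Q a
    have h1 : Q = eo.symm (eo Q) := (eo.symm_apply_apply Q).symm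
    conv_rhs => rw [h1]
    rfl
  choose ry hry by' hby using fun y : F => Ideal.Fiber.exists_smul_eq_one_tmul p.asIdeal y
  have hunit : ∀ (Q : PrimeSpectrum F) (y : F), ry y • y ∈ Q.asIdeal → y ∈ Q.asIdeal := by
    intro Q y hy
    rw [Algebra.smul_def] at hy
    rcases Q.2.mem_or_mem hy with h | h
    · exfalso
      have : ry y ∈ Q.asIdeal.under R := h
      rw [← Ideal.over_def Q.asIdeal p.asIdeal] at this
      exact hry y this
    · exact h
  -- the element `ḡ`
  set gb : F := (1 : p.asIdeal.ResidueField) ⊗ₜ[R] g with hgb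
  have hgbP : gb ∈ Pb.asIdeal := (hcomap ⟨P, rfl⟩ g).2 hgP
  -- the hypothesis on `g`, in `F`
  have hgmin : ∀ Q : PrimeSpectrum F, Q ≤ Pb → Q.asIdeal ∈ minimalPrimes F → gb ∉ Q.asIdeal := by
    intro Q hQ hQmin hmem
    obtain ⟨P', hP'⟩ : ∃ P', eo P' = Q := ⟨eo.symm Q, eo.apply_symm_apply Q⟩
    have hle : P'.1 ≤ P := by
      have : eo P' ≤ eo ⟨P, rfl⟩ := by rw [hP']; exact hQ
      exact eo.le_iff_le.1 this
    refine hg P'.1 P'.2 hle ?_ ((hcomap P' g).1 (hP' ▸ hmem))
    intro P'' hP'' hle''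
    have h1 : eo ⟨P'', hP''⟩ ≤ eo P' := eo.monotone hle''
    have h2 : (eo P').asIdeal ≤ (eo ⟨P'', hP''⟩).asIdeal := by
      rw [hP']
      exact hQmin.2 ⟨(eo ⟨P'', hP''⟩).2, bot_le⟩ (hP' ▸ h1)
    have h3 : eo ⟨P'', hP''⟩ = eo P' := le_antisymm h1 h2
    exact congrArg Subtype.val (eo.injective h3)
  have hhtF : Order.height Pb = r := by rw [hPb, Order.height_orderIso, hr]
  obtain ⟨s, hcard, hsP, hs⟩ : ∃ s : Finset F, s.card + 1 ≤ r ∧ (∀ y ∈ s, y ∈ Pb.asIdeal) ∧
      ∀ Qb : PrimeSpectrum F, Qb ≤ Pb → gb ∈ Qb.asIdeal → (∀ y ∈ s, y ∈ Qb.asIdeal) → Qb = Pb :=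
    aux' (F := F) gb Pb hgbP r hhtF hgmin
  let es : Fin s.card ≃ s := (Fintype.equivFinOfCardEq (by simp)).symm
  refine ⟨s.card, fun j => by' (es j).1, hcard, fun j => ?_, fun P' hP' hle hgP' hb => ?_⟩
  · have h1' : ((es j).1 : F) ∈ Pb.asIdeal := hsP _ (es j).2
    have h2 : ry (es j).1 • ((es j).1 : F) ∈ Pb.asIdeal :=
      Submodule.smul_of_tower_mem _ _ h1'
    rw [hby, hPb, hcomap] at h2
    exact h2
  · set Qb : PrimeSpectrum F := eo ⟨P', hP'⟩ with hQb
    have hle' : Qb ≤ Pb := eo.monotone hle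
    have heq' : Qb = Pb := by
      apply hs Qb hle' ((hcomap ⟨P', hP'⟩ g).2 hgP')
      intro y hy
      apply hunit
      rw [hby, hQb, hcomap]
      have := hb (es.symm ⟨y, hy⟩)
      simpa using this
    have := eo.injective heq'
    exact congrArg Subtype.val this

end Groth.Agent.Lib.lead.HorizA
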