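/-
S1404 (lead), part B: quasi-finiteness at a prime of `R[T] → A` with one coordinate prescribed
(a variant of helper18's `Chev.exists_vec_quasiFiniteAt`).
-/
import Mathlib
import Groth.Agent.Lib.Helper18.Chev.AlgCore
import Groth.Agent.Lib.lead.HorizA

set_option autoImplicit false
set_option linter.style.haveILetI false
set_option linter.unusedVariables false

open scoped TensorProduct

namespace Groth.Agent.Lib.lead.HorizB

open Groth.Agent.Lib.Helper18.Chev Groth.Agent.Lib.lead.HorizA

universe u

variable {R A : Type u} [CommRing R] [CommRing A] [Algebra R A] [Algebra.FiniteType R A]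

/-- There are `e + (m + 1)` elements of `A`, `m + 1 ≤ r`, the one with index `Fin.natAdd e 0`
being the prescribed `g`, such that `R[T] → A` is quasi-finite at `P`. -/
theorem exists_vec_quasiFiniteAt_with (P : PrimeSpectrum A) (p : Ideal R) [p.IsPrime]
    [P.asIdeal.LiesOver p] (g : A) (hgP : g ∈ P.asIdeal) (e r : ℕ)
    (he : Algebra.trdeg (R ⧸ p) (A ⧸ P.asIdeal) = e)
    (hr : Order.height (⟨P, rfl⟩ : PrimeSpectrum.comap (algebraMap R A) ⁻¹'
      {PrimeSpectrum.comap (algebraMap R A) P}) = r)
    (hg : ∀ P' : PrimeSpectrum A,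
      PrimeSpectrum.comap (algebraMap R A) P' = PrimeSpectrum.comap (algebraMap R A) P → P' ≤ P →
      (∀ P'' : PrimeSpectrum A, PrimeSpectrum.comap (algebraMap R A) P'' =
        PrimeSpectrum.comap (algebraMap R A) P → P'' ≤ P' → P'' = P') → g ∉ P'.asIdeal) :
    ∃ (m : ℕ) (c : Fin (e + (m + 1)) → A), m + 1 ≤ r ∧ c (Fin.natAdd e 0) = g ∧
      (MvPolynomial.aeval c :
        MvPolynomial (Fin (e + (m + 1))) R →ₐ[R] A).toRingHom.QuasiFiniteAt P.asIdeal := by
  obtain ⟨a, halg⟩ := exists_vec_algebraic P.asIdeal p e he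
  obtain ⟨m, b, hm, hbP, hb⟩ := exists_vec_minimal_with (R := R) P g hgP r hr hg
  let b' : Fin (m + 1) → A := Fin.cons g b
  have hb'P : ∀ j, b' j ∈ P.asIdeal := by
    intro j
    refine Fin.cases ?_ (fun i => ?_) j
    · exact hgP
    · have h1 : b' i.succ = b i := Fin.cons_succ (α := fun _ => A) g b i
      rw [h1]; exact hbP i
  refine ⟨m, Fin.append a b', hm, ?_, ?_⟩
  · rw [Fin.append_right]; rfl
  set ψ : MvPolynomial (Fin (e + (m + 1))) R →ₐ[R] A := MvPolynomial.aeval (Fin.append a b') with hψ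
  letI : Algebra (MvPolynomial (Fin (e + (m + 1))) R) A := ψ.toRingHom.toAlgebra
  haveI : IsScalarTower R (MvPolynomial (Fin (e + (m + 1))) R) A :=
    IsScalarTower.of_algebraMap_eq fun x => (ψ.commutes x).symm
  haveI : Algebra.FiniteType (MvPolynomial (Fin (e + (m + 1))) R) A :=
    Algebra.FiniteType.of_restrictScalars_finiteType R _ A
  show Algebra.QuasiFiniteAt (MvPolynomial (Fin (e + (m + 1))) R) P.asIdeal
  apply quasiFiniteAt_of_isolated
  intro P' hP' hcomp
  have hmem : ∀ f : MvPolynomial (Fin (e + (m + 1))) R, ψ f ∈ P'.asIdeal ↔ ψ f ∈ P.asIdeal := by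
    intro f
    have := congrArg PrimeSpectrum.asIdeal hP'
    exact Ideal.ext_iff.1 this f
  have hb'P' : ∀ j, b' j ∈ P'.asIdeal := by
    intro j
    have h1 : ψ (MvPolynomial.X (Fin.natAdd e j)) = b' j := by
      rw [hψ, MvPolynomial.aeval_X, Fin.append_right]
    rw [← h1, hmem, h1]
    exact hb'P j
  have hRfib : PrimeSpectrum.comap (algebraMap R A) P' = PrimeSpectrum.comap (algebraMap R A) P := by
    apply PrimeSpectrum.ext
    ext x
    have h1 : ψ (MvPolynomial.C x) = algebraMap R A x := by
      rw [hψ, MvPolynomial.aeval_C]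
    show algebraMap R A x ∈ P'.asIdeal ↔ algebraMap R A x ∈ P.asIdeal
    rw [← h1]
    exact hmem _
  rcases hcomp with hle | hle
  · apply hb P' hRfib hle
    · have := hb'P' 0
      simpa [b'] using this
    · intro j
      have := hb'P' j.succ
      simpa [b'] using this
  · apply PrimeSpectrum.ext
    apply eq_of_le_of_forall_aeval a P.asIdeal p halg P'.asIdeal hle
    intro f hf
    have h1 : ψ (MvPolynomial.rename (Fin.castAdd (m + 1)) f) = MvPolynomial.aeval a f := by
      rw [hψ, MvPolynomial.aeval_rename]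
      congr 2
      ext i
      simp [Fin.append_left]
    rw [← h1] at hf ⊢
    exact (hmem _).1 hf

end Groth.Agent.Lib.lead.HorizB
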