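/-
S1404 (lead), part C: a going-down statement for an integral domain extension `D` of a polynomial
ring `A[T]` over an arbitrary domain `A`, for the special chain `(T_{i₀}) ⊂ n ∩ A[T]`:
there is a prime `n' ⊂ n` containing `T_{i₀}` with `n' ∩ A = 0`.  Proof: pass to `Ã[T]`, `Ã` the
integral closure of `A` in its fraction field, which is integrally closed.
-/
import Mathlib
import Groth.Agent.Lib.lead.GUPoly

set_option autoImplicit false
set_option linter.style.haveILetI false
set_option linter.unusedVariables false

namespace Groth.Agent.Lib.lead.HorizC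

universe u

attribute [local instance] MvPolynomial.algebraMvPolynomial

theorem goingDown_abstract {Rt Cc : Type*} [CommRing Rt] [IsIntegrallyClosed Rt]
    [CommRing Cc] [IsDomain Cc] [Algebra Rt Cc] [FaithfulSMul Rt Cc] [Algebra.IsIntegral Rt Cc]
    (n'' : Ideal Cc) [n''.IsPrime] (p' : Ideal Rt) [p'.IsPrime] (hle : p' ≤ n''.under Rt) :
    ∃ q' ≤ n'', q'.IsPrime ∧ q'.LiesOver p' := by
  haveI : n''.LiesOver (n''.under Rt) := ⟨rfl⟩
  exact Ideal.exists_ideal_le_liesOver_of_le (p := p') (q := n''.under Rt) n'' hle

set_option maxHeartbeats 1600000 in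
theorem exists_prime_le_of_X_mem {A : Type u} [CommRing A] [IsDomain A] (σ : Type)
    {D : Type u} [CommRing D] [IsDomain D] [Algebra (MvPolynomial σ A) D] [Algebra A D]
    [IsScalarTower A (MvPolynomial σ A) D]
    (hinj : Function.Injective (algebraMap (MvPolynomial σ A) D))
    [Algebra.IsIntegral (MvPolynomial σ A) D]
    (i₀ : σ) (n : Ideal D) [n.IsPrime]
    (hn : algebraMap (MvPolynomial σ A) D (MvPolynomial.X i₀) ∈ n) :
    ∃ n' : Ideal D, n'.IsPrime ∧ n' ≤ n ∧
      algebraMap (MvPolynomial σ A) D (MvPolynomial.X i₀) ∈ n' ∧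
      ∀ a : A, algebraMap A D a ∈ n' → a = 0 := by
  classical
  let R := MvPolynomial σ A
  let K := FractionRing A
  let At : Subalgebra A K := integralClosure A K
  let Rt := MvPolynomial σ At
  let L := FractionRing D
  have hinjRL : Function.Injective (algebraMap R L) := by
    rw [IsScalarTower.algebraMap_eq R D L]
    exact (IsFractionRing.injective D L).comp hinj
  have hinjAR : Function.Injective (algebraMap A R) := MvPolynomial.C_injective σ A
  have hinjAL : Function.Injective (algebraMap A L) := by
    rw [IsScalarTower.algebraMap_eq A R L]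
    exact hinjRL.comp hinjAR
  letI algKL : Algebra K L := (IsFractionRing.lift hinjAL).toAlgebra
  haveI : IsScalarTower A K L :=
    IsScalarTower.of_algebraMap_eq (fun x => (IsFractionRing.lift_algebraMap hinjAL x).symm)
  haveI : IsIntegrallyClosed At :=
    integralClosure.isIntegrallyClosedOfFiniteExtension (R := A) K (L := K)
  haveI : IsIntegrallyClosed Rt := Groth.Agent.Lib.lead.GUPoly.isIntegrallyClosed_mvPolynomial σ At
  -- the variables in `L`
  let x : σ → L := fun i => algebraMap R L (MvPolynomial.X i)
  have haeval : ∀ p : R, MvPolynomial.aeval x p = algebraMap R L p := by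
    intro p
    have : (MvPolynomial.aeval x : R →ₐ[A] L) = IsScalarTower.toAlgHom A R L := by
      apply MvPolynomial.algHom_ext
      intro i
      rw [MvPolynomial.aeval_X]
      rfl
    rw [this]; rfl
  have hxA : AlgebraicIndependent A x := by
    rw [algebraicIndependent_iff_injective_aeval]
    intro p q hpq
    rw [haeval, haeval] at hpq
    exact hinjRL hpq
  have hxAt : AlgebraicIndependent At x := hxA.extendScalars_of_isIntegral At
  let ρ : Rt →ₐ[At] L := MvPolynomial.aeval x
  have hρinj : Function.Injective ρ := algebraicIndependent_iff_injective_aeval.1 hxAt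
  have hρmap : ∀ p : R, ρ (MvPolynomial.map (algebraMap A At) p) = algebraMap R L p := by
    intro p
    rw [← haeval]
    exact MvPolynomial.aeval_map_algebraMap At x p
  let Cc : Subalgebra R L := integralClosure R L
  have hρint : ∀ p : Rt, ρ p ∈ Cc := by
    intro p
    induction p using MvPolynomial.induction_on with
    | C a =>
      have h1 : ρ (MvPolynomial.C a) = algebraMap At L a := MvPolynomial.aeval_C x a
      rw [h1]
      have h2 : IsIntegral A (a : K) := a.2
      have h3 : IsIntegral A (algebraMap K L (a : K)) :=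
        h2.map (IsScalarTower.toAlgHom A K L)
      exact h3.tower_top
    | add p q hp hq => rw [map_add]; exact Cc.add_mem hp hq
    | mul_X p i hp =>
      rw [map_mul]
      refine Cc.mul_mem hp ?_
      have h1 : ρ (MvPolynomial.X i) = algebraMap R L (MvPolynomial.X i) :=
        MvPolynomial.aeval_X x i
      rw [h1]
      exact isIntegral_algebraMap
  let jRt : Rt →+* Cc := ρ.toRingHom.codRestrict Cc hρint
  let jD : D →ₐ[R] Cc :=
    (IsScalarTower.toAlgHom R D L).codRestrict Cc (fun b =>
      (Algebra.IsIntegral.isIntegral (R := R) b).map (IsScalarTower.toAlgHom R D L))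
  letI algDC : Algebra D Cc := jD.toRingHom.toAlgebra
  letI algRtC : Algebra Rt Cc := jRt.toAlgebra
  haveI : IsScalarTower R D Cc :=
    IsScalarTower.of_algebraMap_eq (fun y => (jD.commutes y).symm)
  haveI : IsScalarTower R Rt Cc := by
    refine IsScalarTower.of_algebraMap_eq (fun p => ?_)
    apply Subtype.ext
    show algebraMap R L p = ρ (MvPolynomial.map (algebraMap A At) p)
    rw [hρmap]
  have hDC : Function.Injective (algebraMap D Cc) := by
    intro y z hyz
    apply IsFractionRing.injective D L
    exact congrArg Subtype.val hyz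
  haveI : FaithfulSMul Rt Cc := by
    rw [faithfulSMul_iff_algebraMap_injective]
    intro y z hyz
    exact hρinj (congrArg Subtype.val hyz)
  haveI : Algebra.IsIntegral Rt Cc :=
    ⟨fun y => (Algebra.IsIntegral.isIntegral (R := R) y).tower_top⟩
  haveI : Algebra.IsIntegral D Cc :=
    ⟨fun y => (Algebra.IsIntegral.isIntegral (R := R) y).tower_top⟩
  -- lying over
  obtain ⟨n'', -, hn''prime, hn''⟩ :=
    Ideal.exists_ideal_over_prime_of_isIntegral n (⊥ : Ideal Cc) (by
      rw [← RingHom.ker_eq_comap_bot, (RingHom.injective_iff_ker_eq_bot _).1 hDC]; exact bot_le)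
  -- the prime `(T_{i₀})`
  let p' : Ideal Rt := Ideal.span {MvPolynomial.X i₀}
  haveI hp'prime : p'.IsPrime := by
    rw [Ideal.span_singleton_prime (MvPolynomial.X_ne_zero i₀)]
    exact MvPolynomial.X_prime
  have hXD : algebraMap Rt Cc (MvPolynomial.X i₀) =
      algebraMap D Cc (algebraMap R D (MvPolynomial.X i₀)) := by
    apply Subtype.ext
    show ρ (MvPolynomial.X i₀) = algebraMap D L (algebraMap R D (MvPolynomial.X i₀))
    rw [← IsScalarTower.algebraMap_apply R D L]
    exact MvPolynomial.aeval_X x i₀
  have hle : p' ≤ n''.under Rt := by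
    rw [Ideal.span_le, Set.singleton_subset_iff]
    show algebraMap Rt Cc (MvPolynomial.X i₀) ∈ n''
    rw [hXD, ← Ideal.mem_comap, hn'']
    exact hn
  obtain ⟨q', hq'le, hq'prime, hq'lo⟩ := goingDown_abstract (Rt := Rt) (Cc := Cc) n'' p' hle
  refine ⟨q'.comap (algebraMap D Cc), inferInstance, ?_, ?_, ?_⟩
  · rw [← hn'']; exact Ideal.comap_mono hq'le
  · rw [Ideal.mem_comap, ← hXD]
    have h1 : (MvPolynomial.X i₀ : Rt) ∈ q'.under Rt := by
      rw [← hq'lo.over]; exact Ideal.subset_span rfl
    exact h1
  · intro a ha
    rw [Ideal.mem_comap] at ha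
    have h1 : algebraMap D Cc (algebraMap A D a) =
        algebraMap Rt Cc (MvPolynomial.C (algebraMap A At a)) := by
      apply Subtype.ext
      show algebraMap D L (algebraMap A D a) = ρ (MvPolynomial.C (algebraMap A At a))
      rw [← IsScalarTower.algebraMap_apply A D L]
      have h2 : ρ (MvPolynomial.C (algebraMap A At a)) = algebraMap At L (algebraMap A At a) :=
        MvPolynomial.aeval_C x _
      rw [h2, ← IsScalarTower.algebraMap_apply A At L]
    rw [h1] at ha
    have h3 : (MvPolynomial.C (algebraMap A At a) : Rt) ∈ q'.under Rt := ha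
    rw [← hq'lo.over, Ideal.mem_span_singleton] at h3
    obtain ⟨f, hf⟩ := h3
    have h4 := congrArg MvPolynomial.constantCoeff hf
    rw [MvPolynomial.constantCoeff_C, map_mul, MvPolynomial.constantCoeff_X, zero_mul] at h4
    have h5 : Function.Injective (algebraMap A At) := by
      intro y z hyz
      exact IsFractionRing.injective A K (congrArg Subtype.val hyz)
    exact h5 (by rw [h4, map_zero])

end Groth.Agent.Lib.lead.HorizC
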