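/-
S1404 (lead), part D: the finite type core.  `C` a finite type domain over a domain `A`,
`q` a prime of `C` with `trdeg_A C = ht(q in its fibre) + trdeg κ(q)/κ(p)`, `c ∈ q` an element in no
minimal prime of the fibre through `q`: then there is a prime `Q' ⊂ q` containing `c` with
`Q' ∩ A = 0`.
-/
import Mathlib
import Groth.Agent.Lib.lead.HorizB
import Groth.Agent.Lib.lead.HorizC
import Groth.Agent.Lib.lead.UnibranchGD

set_option autoImplicit false
set_option linter.style.haveILetI false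
set_option linter.unusedVariables false

namespace Groth.Agent.Lib.lead.HorizD

universe u

open Groth.Agent.Lib.lead

set_option maxHeartbeats 1600000 in
theorem core {A C : Type u} [CommRing A] [IsDomain A] [CommRing C] [IsDomain C] [Algebra A C]
    [FaithfulSMul A C] [Algebra.FiniteType A C] (q : Ideal C) [q.IsPrime] (c : C) (hcq : c ∈ q)
    (e r : ℕ)
    (he : Algebra.trdeg (A ⧸ q.under A) (C ⧸ q) = e)
    (hr : Order.height (⟨⟨q, inferInstance⟩, rfl⟩ : PrimeSpectrum.comap (algebraMap A C) ⁻¹'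
        {PrimeSpectrum.comap (algebraMap A C) ⟨q, inferInstance⟩}) = r)
    (hN : Algebra.trdeg A C = (r + e : ℕ))
    (hc : ∀ P' : PrimeSpectrum C,
      PrimeSpectrum.comap (algebraMap A C) P' =
        PrimeSpectrum.comap (algebraMap A C) ⟨q, inferInstance⟩ → P' ≤ ⟨q, inferInstance⟩ →
      (∀ P'' : PrimeSpectrum C, PrimeSpectrum.comap (algebraMap A C) P'' =
        PrimeSpectrum.comap (algebraMap A C) ⟨q, inferInstance⟩ → P'' ≤ P' → P'' = P') →
        c ∉ P'.asIdeal) :
    ∃ Q' : Ideal C, Q'.IsPrime ∧ Q' ≤ q ∧ c ∈ Q' ∧ ∀ a : A, algebraMap A C a ∈ Q' → a = 0 := by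
  classical
  let P : PrimeSpectrum C := ⟨q, inferInstance⟩
  haveI : P.asIdeal.LiesOver (q.under A) := ⟨rfl⟩
  obtain ⟨m, cv, hm, hcv0, hqf⟩ :=
    HorizB.exists_vec_quasiFiniteAt_with (R := A) (A := C) P (q.under A) c hcq e r he hr hc
  -- the `A[T]`-algebra structure on `C`
  let R := MvPolynomial (Fin (e + (m + 1))) A
  let φ : R →ₐ[A] C := MvPolynomial.aeval cv
  letI algRC : Algebra R C := φ.toRingHom.toAlgebra
  haveI : IsScalarTower A R C := IsScalarTower.of_algebraMap_eq (fun a => (φ.commutes a).symm)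
  haveI : Algebra.FiniteType R C := Algebra.FiniteType.of_restrictScalars_finiteType A R C
  haveI : Algebra.QuasiFiniteAt R q := hqf
  have hZ : Algebra.ZariskisMainProperty R q := Algebra.ZariskisMainProperty.of_finiteType q
  have hZ' := hZ
  obtain ⟨r₀, hr₀q, hr₀int, hr₀⟩ := Algebra.zariskisMainProperty_iff.1 hZ'
  obtain ⟨rD, hrDq, hbij⟩ := hZ
  -- `C` is algebraic over `A[cv]`
  let S₀ : Subalgebra A C := Algebra.adjoin A (Set.range cv)
  have hφS₀ : ∀ p : R, φ p ∈ S₀ := by
    intro p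
    show MvPolynomial.aeval cv p ∈ Algebra.adjoin A (Set.range cv)
    rw [Algebra.adjoin_range_eq_range_aeval]
    exact ⟨p, rfl⟩
  let φ₀ : R →ₐ[A] S₀ := φ.codRestrict S₀ hφS₀
  letI algRS₀ : Algebra R S₀ := φ₀.toRingHom.toAlgebra
  haveI : IsScalarTower R S₀ C := IsScalarTower.of_algebraMap_eq (fun p => rfl)
  have hr₀ne : r₀ ≠ 0 := fun h => hr₀q (h ▸ q.zero_mem)
  haveI : Algebra.IsAlgebraic S₀ C := by
    refine ⟨fun x => ?_⟩
    obtain ⟨k, hk⟩ := hr₀ x
    have h1 : IsAlgebraic S₀ (r₀ ^ k) := ((hr₀int.pow k).tower_top (A := S₀)).isAlgebraic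
    have h2 : IsAlgebraic S₀ (r₀ ^ k * x) := (hk.tower_top (A := S₀)).isAlgebraic
    exact IsAlgebraic.of_mul (mem_nonZeroDivisors_of_ne_zero (pow_ne_zero k hr₀ne)) h1 h2
  have htb : IsTranscendenceBasis A cv := by
    refine Algebra.IsAlgebraic.isTranscendenceBasis_of_lift_le_trdeg_of_finite A cv ?_
    rw [hN]
    simp only [Cardinal.mk_fin, Cardinal.lift_natCast, Nat.cast_le]
    omega
  have hinjRC : Function.Injective (algebraMap R C) :=
    algebraicIndependent_iff_injective_aeval.1 htb.1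
  -- the integral closure
  let D : Subalgebra R C := integralClosure R C
  have hinjRD : Function.Injective (algebraMap R D) := by
    intro x y hxy
    exact hinjRC (congrArg Subtype.val hxy)
  let n : Ideal D := q.comap D.val.toRingHom
  haveI : n.IsPrime := Ideal.comap_isPrime _ _
  let i₀ : Fin (e + (m + 1)) := Fin.natAdd e 0
  have hXi₀ : ((algebraMap R D (MvPolynomial.X i₀) : D) : C) = c := by
    show MvPolynomial.aeval cv (MvPolynomial.X i₀) = c
    rw [MvPolynomial.aeval_X]; exact hcv0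
  have hn : algebraMap R D (MvPolynomial.X i₀) ∈ n := by
    show ((algebraMap R D (MvPolynomial.X i₀) : D) : C) ∈ q
    rw [hXi₀]; exact hcq
  obtain ⟨n', hn'prime, hn'le, hn'X, hn'A⟩ :=
    HorizC.exists_prime_le_of_X_mem (A := A) (Fin (e + (m + 1))) (D := D) hinjRD i₀ n hn
  obtain ⟨Q', hQ'prime, hQ'le, hQ'n'⟩ :=
    UnibranchGD.exists_prime_of_awayMap_bijective D rD hbij q hrDq n' hn'le
  refine ⟨Q', hQ'prime, hQ'le, ?_, ?_⟩
  · have : algebraMap R D (MvPolynomial.X i₀) ∈ Q'.comap D.val.toRingHom := by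
      rw [hQ'n']; exact hn'X
    rw [Ideal.mem_comap] at this
    rw [← hXi₀]
    exact this
  · intro a ha
    apply hn'A a
    rw [← hQ'n', Ideal.mem_comap]
    exact ha

end Groth.Agent.Lib.lead.HorizD
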