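/-
S1387 (lead), part E: the finite type core of S1404 for not necessarily reduced rings: `R₀ → B₀` of
finite type, `P₀ ⊂ q` primes of `B₀` (think of `P₀` as the generic point).
-/
import Mathlib
import Groth.Agent.Lib.lead.HorizD
import Groth.Agent.Lib.lead.FlatLocalDimFormula
import Groth.Agent.Lib.lead.ResTrdegBridge

set_option autoImplicit false
set_option linter.style.haveILetI false
set_option linter.unusedVariables false

namespace Groth.Agent.Lib.lead.HorizE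

universe u

open Groth.Agent.Lib.lead

/-- residue transcendence degrees are invariant under compatible surjections -/
theorem trdeg_quot_eq_of_surj {R₁ B₁ R₂ B₂ : Type u} [CommRing R₁] [CommRing B₁] [CommRing R₂]
    [CommRing B₂] [Algebra R₁ B₁] [Algebra R₂ B₂] (φ : R₁ →+* R₂) (ψ : B₁ →+* B₂)
    (hφ : Function.Surjective φ) (hψ : Function.Surjective ψ)
    (hcomm : ψ.comp (algebraMap R₁ B₁) = (algebraMap R₂ B₂).comp φ)
    (p₂ : Ideal R₂) [p₂.IsPrime] (P₂ : Ideal B₂) [P₂.IsPrime] [P₂.LiesOver p₂]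
    (p₁ : Ideal R₁) (P₁ : Ideal B₁) [P₁.LiesOver p₁]
    (hp : p₁ = p₂.comap φ) (hP : P₁ = P₂.comap ψ) :
    Algebra.trdeg (R₁ ⧸ p₁) (B₁ ⧸ P₁) = Algebra.trdeg (R₂ ⧸ p₂) (B₂ ⧸ P₂) := by
  classical
  let K := FractionRing (R₂ ⧸ p₂)
  let L := FractionRing (B₂ ⧸ P₂)
  have hinj : Function.Injective ((algebraMap (B₂ ⧸ P₂) L).comp (algebraMap (R₂ ⧸ p₂) (B₂ ⧸ P₂))) :=
    (IsFractionRing.injective (B₂ ⧸ P₂) L).comp
      (FaithfulSMul.algebraMap_injective (R₂ ⧸ p₂) (B₂ ⧸ P₂))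
  let ι : K →+* L := IsFractionRing.lift hinj
  let a₂ : R₂ →+* K := (algebraMap (R₂ ⧸ p₂) K).comp (Ideal.Quotient.mk p₂)
  let b₂ : B₂ →+* L := (algebraMap (B₂ ⧸ P₂) L).comp (Ideal.Quotient.mk P₂)
  have ha₂ : RingHom.ker a₂ = p₂ := by
    ext x
    rw [RingHom.mem_ker]
    show algebraMap (R₂ ⧸ p₂) K (Ideal.Quotient.mk p₂ x) = 0 ↔ _
    rw [map_eq_zero_iff _ (IsFractionRing.injective (R₂ ⧸ p₂) K), Ideal.Quotient.eq_zero_iff_mem]
  have hb₂ : RingHom.ker b₂ = P₂ := by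
    ext x
    rw [RingHom.mem_ker]
    show algebraMap (B₂ ⧸ P₂) L (Ideal.Quotient.mk P₂ x) = 0 ↔ _
    rw [map_eq_zero_iff _ (IsFractionRing.injective (B₂ ⧸ P₂) L), Ideal.Quotient.eq_zero_iff_mem]
  have hsq₂ : ι.comp a₂ = b₂.comp (algebraMap R₂ B₂) := by
    ext x
    show ι (algebraMap (R₂ ⧸ p₂) K (Ideal.Quotient.mk p₂ x)) = _
    rw [IsFractionRing.lift_algebraMap]
    rfl
  have hK₂ : ∀ k : K, ∃ s t : R₂, a₂ t ≠ 0 ∧ k = a₂ s / a₂ t := by
    intro k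
    obtain ⟨s, t, ht, rfl⟩ := IsFractionRing.div_surjective (A := R₂ ⧸ p₂) k
    obtain ⟨s, rfl⟩ := Ideal.Quotient.mk_surjective s
    obtain ⟨t, rfl⟩ := Ideal.Quotient.mk_surjective t
    refine ⟨s, t, ?_, rfl⟩
    show algebraMap (R₂ ⧸ p₂) K (Ideal.Quotient.mk p₂ t) ≠ 0
    rw [Ne, map_eq_zero_iff _ (IsFractionRing.injective (R₂ ⧸ p₂) K)]
    exact nonZeroDivisors.ne_zero ht
  have hL₂ : ∀ l : L, ∃ s t : B₂, b₂ t ≠ 0 ∧ l = b₂ s / b₂ t := by
    intro k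
    obtain ⟨s, t, ht, rfl⟩ := IsFractionRing.div_surjective (A := B₂ ⧸ P₂) k
    obtain ⟨s, rfl⟩ := Ideal.Quotient.mk_surjective s
    obtain ⟨t, rfl⟩ := Ideal.Quotient.mk_surjective t
    refine ⟨s, t, ?_, rfl⟩
    show algebraMap (B₂ ⧸ P₂) L (Ideal.Quotient.mk P₂ t) ≠ 0
    rw [Ne, map_eq_zero_iff _ (IsFractionRing.injective (B₂ ⧸ P₂) L)]
    exact nonZeroDivisors.ne_zero ht
  have h2 := ResTrdegBridge.trdeg_eq_of_square p₂ P₂ a₂ b₂ ι ha₂ hb₂ hsq₂ hK₂ hL₂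
  have ha₁ : RingHom.ker (a₂.comp φ) = p₁ := by
    rw [← RingHom.comap_ker, ha₂, hp]
  have hb₁ : RingHom.ker (b₂.comp ψ) = P₁ := by
    rw [← RingHom.comap_ker, hb₂, hP]
  have hsq₁ : ι.comp (a₂.comp φ) = (b₂.comp ψ).comp (algebraMap R₁ B₁) := by
    rw [← RingHom.comp_assoc, hsq₂, RingHom.comp_assoc, ← hcomm, ← RingHom.comp_assoc]
  have hK₁ : ∀ k : K, ∃ s t : R₁, (a₂.comp φ) t ≠ 0 ∧ k = (a₂.comp φ) s / (a₂.comp φ) t := by
    intro k
    obtain ⟨s, t, ht, rfl⟩ := hK₂ k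
    obtain ⟨s, rfl⟩ := hφ s
    obtain ⟨t, rfl⟩ := hφ t
    exact ⟨s, t, ht, rfl⟩
  have hL₁ : ∀ l : L, ∃ s t : B₁, (b₂.comp ψ) t ≠ 0 ∧ l = (b₂.comp ψ) s / (b₂.comp ψ) t := by
    intro k
    obtain ⟨s, t, ht, rfl⟩ := hL₂ k
    obtain ⟨s, rfl⟩ := hψ s
    obtain ⟨t, rfl⟩ := hψ t
    exact ⟨s, t, ht, rfl⟩
  have h1 := ResTrdegBridge.trdeg_eq_of_square p₁ P₁ (a₂.comp φ) (b₂.comp ψ) ι ha₁ hb₁ hsq₁ hK₁ hL₁
  rw [← h1, h2]


set_option maxHeartbeats 1600000 in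
theorem core' {R₀ B₀ : Type u} [CommRing R₀] [CommRing B₀] [Algebra R₀ B₀]
    [Algebra.FiniteType R₀ B₀] (P₀ q : Ideal B₀) [P₀.IsPrime] [q.IsPrime] (hPq : P₀ ≤ q) (c : B₀)
    (hcq : c ∈ q) (e N : ℕ)
    (he : Algebra.trdeg (R₀ ⧸ q.under R₀) (B₀ ⧸ q) = e)
    (hN : Algebra.trdeg (R₀ ⧸ P₀.under R₀) (B₀ ⧸ P₀) = N)
    (hh : Order.height (⟨⟨q, inferInstance⟩, rfl⟩ : PrimeSpectrum.comap (algebraMap R₀ B₀) ⁻¹'
        {PrimeSpectrum.comap (algebraMap R₀ B₀) ⟨q, inferInstance⟩}) + e ≤ N)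
    (hno : ∀ Q' : Ideal B₀, Q'.IsPrime → P₀ ≤ Q' → Q' ≤ q → c ∈ Q' →
      Q'.under R₀ ≠ P₀.under R₀) :
    ∃ P' : Ideal B₀, P'.IsPrime ∧ P₀ ≤ P' ∧ P' ≤ q ∧ P'.under R₀ = q.under R₀ ∧ c ∈ P' ∧
      ∀ P'' : Ideal B₀, P''.IsPrime → P₀ ≤ P'' → P'' ≤ P' → P''.under R₀ = q.under R₀ →
        P'' = P' := by
  classical
  by_contra hcon
  push Not at hcon
  let p₀ : Ideal R₀ := P₀.under R₀
  let A := R₀ ⧸ p₀
  let C := B₀ ⧸ P₀
  let π : B₀ →+* C := Ideal.Quotient.mk P₀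
  let ρ : R₀ →+* A := Ideal.Quotient.mk p₀
  have hπ : Function.Surjective π := Ideal.Quotient.mk_surjective
  have hρ : Function.Surjective ρ := Ideal.Quotient.mk_surjective
  have hkerπ : RingHom.ker π = P₀ := Ideal.mk_ker
  have hcomm : π.comp (algebraMap R₀ B₀) = (algebraMap A C).comp ρ := rfl
  haveI : Algebra.FiniteType R₀ C :=
    Algebra.FiniteType.of_surjective (Ideal.Quotient.mkₐ R₀ P₀) (Ideal.Quotient.mkₐ_surjective R₀ P₀)
  haveI : Algebra.FiniteType A C := Algebra.FiniteType.of_restrictScalars_finiteType R₀ A C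
  have hcomap_map : ∀ I : Ideal B₀, P₀ ≤ I → (I.map π).comap π = I := by
    intro I hI
    rw [Ideal.comap_map_of_surjective π hπ, sup_eq_left]
    rw [← RingHom.ker_eq_comap_bot, hkerπ]; exact hI
  have hmap_comap : ∀ J : Ideal C, (J.comap π).map π = J := fun J =>
    Ideal.map_comap_of_surjective π hπ J
  have hP₀le : ∀ J : Ideal C, P₀ ≤ J.comap π := by
    intro J x hx
    have hx' : x ∈ RingHom.ker π := by rw [hkerπ]; exact hx
    rw [Ideal.mem_comap, (RingHom.mem_ker).1 hx']; exact J.zero_mem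
  have hunder : ∀ J : Ideal C, (J.comap π).under R₀ = (J.under A).comap ρ := by
    intro J
    show (J.comap π).comap (algebraMap R₀ B₀) = (J.comap (algebraMap A C)).comap ρ
    rw [Ideal.comap_comap, Ideal.comap_comap, hcomm]
  let qC : Ideal C := q.map π
  have hqC : qC.comap π = q := hcomap_map q hPq
  haveI hqCprime : qC.IsPrime := by
    apply Ideal.map_isPrime_of_surjective hπ
    rw [hkerπ]; exact hPq
  -- residue transcendence degree
  have he' : Algebra.trdeg (A ⧸ qC.under A) (C ⧸ qC) = e := by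
    rw [← he]
    symm
    apply trdeg_quot_eq_of_surj ρ π hρ hπ hcomm (qC.under A) qC (q.under R₀) q
    · rw [← hunder, hqC]
    · exact hqC.symm
  -- comparison of the fibres
  let FC := PrimeSpectrum.comap (algebraMap A C) ⁻¹'
        {PrimeSpectrum.comap (algebraMap A C) ⟨qC, inferInstance⟩}
  let FB := PrimeSpectrum.comap (algebraMap R₀ B₀) ⁻¹'
        {PrimeSpectrum.comap (algebraMap R₀ B₀) ⟨q, inferInstance⟩}
  have hΦwd : ∀ P : FC, PrimeSpectrum.comap π P.1 ∈ FB := by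
    intro P
    have h1 : P.1.asIdeal.under A = qC.under A := congrArg PrimeSpectrum.asIdeal P.2
    apply PrimeSpectrum.ext
    show (P.1.asIdeal.comap π).under R₀ = q.under R₀
    rw [hunder, h1, ← hunder, hqC]
  let Φ : FC → FB := fun P => ⟨PrimeSpectrum.comap π P.1, hΦwd P⟩
  have hΦ : StrictMono Φ := by
    intro P P' hlt
    have hle : P.1.asIdeal ≤ P'.1.asIdeal := hlt.le
    have hne : P ≠ P' := hlt.ne
    refine lt_of_le_of_ne (Ideal.comap_mono hle : (Φ P).1.asIdeal ≤ (Φ P').1.asIdeal) ?_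
    intro heq
    apply hne
    apply Subtype.ext
    apply PrimeSpectrum.ext
    have h2 : P.1.asIdeal.comap π = P'.1.asIdeal.comap π :=
      congrArg (fun z : FB => z.1.asIdeal) heq
    rw [← hmap_comap P.1.asIdeal, h2, hmap_comap]
  have hΦq : Φ ⟨⟨qC, inferInstance⟩, rfl⟩ = ⟨⟨q, inferInstance⟩, rfl⟩ := by
    apply Subtype.ext
    apply PrimeSpectrum.ext
    exact hqC
  have hheight : Order.height (⟨⟨qC, inferInstance⟩, rfl⟩ : FC) + e ≤ N := by
    refine le_trans (add_le_add_left ?_ _) hh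
    rw [← hΦq]
    exact Order.height_le_height_apply_of_strictMono Φ hΦ _
  obtain ⟨r, hr⟩ : ∃ r : ℕ, Order.height (⟨⟨qC, inferInstance⟩, rfl⟩ : FC) = r := by
    have hne : Order.height (⟨⟨qC, inferInstance⟩, rfl⟩ : FC) ≠ ⊤ := by
      intro htop
      rw [htop] at hheight
      simp at hheight
    exact ⟨_, (ENat.natCast_toNat hne).symm⟩
  have hre : r + e ≤ N := by
    rw [hr] at hheight
    exact_mod_cast hheight
  have hchev := FlatLocalDimFormula.trdeg_le_fibre (A := A) (C := C) qC e r N he' hN hr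
  have hNre : Algebra.trdeg A C = (r + e : ℕ) := by
    rw [hN]
    have : N = r + e := by omega
    rw [this]
  have hcC : π c ∈ qC := Ideal.mem_map_of_mem π hcq
  -- the hypothesis on minimal primes of the fibre
  have hc : ∀ P' : PrimeSpectrum C,
      PrimeSpectrum.comap (algebraMap A C) P' =
        PrimeSpectrum.comap (algebraMap A C) ⟨qC, inferInstance⟩ → P' ≤ ⟨qC, inferInstance⟩ →
      (∀ P'' : PrimeSpectrum C, PrimeSpectrum.comap (algebraMap A C) P'' =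
        PrimeSpectrum.comap (algebraMap A C) ⟨qC, inferInstance⟩ → P'' ≤ P' → P'' = P') →
        π c ∉ P'.asIdeal := by
    intro P' hfib hle hmin hcP'
    have h1 : P'.asIdeal.under A = qC.under A := congrArg PrimeSpectrum.asIdeal hfib
    have hP'le : P'.asIdeal ≤ qC := hle
    obtain ⟨P'', hP''prime, hP₀P'', hP''le, hP''under, hP''ne⟩ :=
      hcon (P'.asIdeal.comap π) inferInstance (hP₀le _)
        (by rw [← hqC]; exact Ideal.comap_mono hP'le)
        (by rw [hunder, h1, ← hunder, hqC]) hcP'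
    have hP''C : (P''.map π).IsPrime := by
      apply Ideal.map_isPrime_of_surjective hπ
      rw [hkerπ]; exact hP₀P''
    have h3 := hmin ⟨P''.map π, hP''C⟩ (by
      apply PrimeSpectrum.ext
      show (P''.map π).under A = qC.under A
      apply Ideal.comap_injective_of_surjective ρ hρ
      rw [← hunder, ← hunder, hcomap_map P'' hP₀P'', hqC, hP''under]) (by
      show P''.map π ≤ P'.asIdeal
      rw [← hmap_comap P'.asIdeal]
      exact Ideal.map_mono hP''le)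
    apply hP''ne
    have h4 : P''.map π = P'.asIdeal := congrArg PrimeSpectrum.asIdeal h3
    rw [← hcomap_map P'' hP₀P'', h4]
  obtain ⟨Q', hQ'prime, hQ'le, hcQ', hQ'A⟩ :=
    HorizD.core (A := A) (C := C) qC (π c) hcC e r he' hr hNre hc
  refine hno (Q'.comap π) inferInstance (hP₀le _) (by rw [← hqC]; exact Ideal.comap_mono hQ'le)
    hcQ' ?_
  rw [hunder]
  have h5 : Q'.under A = ⊥ := by
    rw [eq_bot_iff]
    intro a ha
    exact (Ideal.mem_bot).2 (hQ'A a ha)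
  rw [h5, ← RingHom.ker_eq_comap_bot]
  exact Ideal.mk_ker

end Groth.Agent.Lib.lead.HorizE
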