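/-
S1387 (lead), part F: the scheme-theoretic statement.  A locally principal closed subscheme with
empty generic fibre is vertical over points where the fibre dimension does not jump.
-/
import Mathlib
import Groth.Agent.Lib.lead.HorizE
import Groth.Agent.Lib.Helper24.FibreDim.Main3448
import Groth.Agent.Lib.Helper21.TopDim
import Groth.Agent.Lib.Helper18.GenFin
import Groth.Agent.Lib.Helper7.AffinePoints

set_option autoImplicit false
set_option linter.style.haveILetI false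
set_option linter.unusedVariables false

open AlgebraicGeometry CategoryTheory TopologicalSpace

namespace Groth.Agent.Lib.lead.HorizF

universe u

open Groth.Agent.Lib.Helper24.FibreDim Groth.Agent.Lib.Helper7 Groth.Agent.Lib.lead

/-- the closure of a point without proper generizations is an irreducible component -/
theorem closure_mem_irreducibleComponents {T : Type*} [TopologicalSpace T] [QuasiSober T] (t : T)
    (h : ∀ y : T, y ⤳ t → y = t) : closure ({t} : Set T) ∈ irreducibleComponents T := by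
  obtain ⟨Z, hZ, hsub⟩ := exists_mem_irreducibleComponents_subset_of_isIrreducible
    (closure ({t} : Set T)) isIrreducible_singleton.closure
  obtain ⟨ξ, hξ⟩ := QuasiSober.sober hZ.1 (isClosed_of_mem_irreducibleComponents Z hZ)
  have hxZ : t ∈ Z := hsub (subset_closure rfl)
  have hsp : ξ ⤳ t := hξ.specializes hxZ
  have : ξ = t := h ξ hsp
  rw [← this, hξ.def]
  exact hZ

/-- the prime of a point of an affine open -/
noncomputable abbrev pr {X : Scheme.{u}} {U : X.Opens} (hU : IsAffineOpen U) (y : X) (hy : y ∈ U) :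
    Ideal Γ(X, U) := (hU.primeIdealOf ⟨y, hy⟩).asIdeal

set_option maxHeartbeats 1600000 in
theorem main {X S : Scheme.{u}} (f : X ⟶ S) [IrreducibleSpace ↑S] [IrreducibleSpace ↑X]
    [IsDominant f] [LocallyOfFiniteType f] (s : S)
    (hdim : topologicalKrullDim ↑(f.fiber s) ≤ topologicalKrullDim ↑(f.fiber (genericPoint ↑S)))
    (Z : X.IdealSheafData)
    (hZ : ∀ x : X, ∃ (U : X.Opens) (hU : IsAffineOpen U) (g : Γ(X, U)),
      x ∈ U ∧ Z.ideal ⟨U, hU⟩ = Ideal.span {g})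
    (hη : ∀ x ∈ (Z.support : Set ↑X), f x ≠ genericPoint ↑S) :
    ∀ x : ↑(f ⁻¹' {s}), (x : ↑X) ∈ (Z.support : Set ↑X) →
      ∃ C ∈ irreducibleComponents ↑(f ⁻¹' {s}), x ∈ C ∧
        Subtype.val '' C ⊆ (Z.support : Set ↑X) := by
  classical
  rintro ⟨x, hxs⟩ hxZ
  have hfx : f x = s := hxs
  subst hfx
  -- generic points
  have hfξ : f (genericPoint X) = genericPoint S :=
    Groth.Agent.Lib.Helper18.GenFin.map_genericPoint_of_dense f f.denseRange
  have hξx : ∀ y : X, genericPoint X ⤳ y := fun y => _root_.genericPoint_specializes y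
  -- charts
  obtain ⟨U₁, hU₁, g₁, hxU₁, hZU₁⟩ := hZ x
  obtain ⟨_, ⟨V, hV : IsAffineOpen V, rfl⟩, hfxV, -⟩ :=
    (S.isBasis_affineOpens).exists_subset_of_mem_open (Set.mem_univ (f x)) isOpen_univ
  obtain ⟨_, ⟨U, hU : IsAffineOpen U, rfl⟩, hxU, hUsub⟩ :=
    (X.isBasis_affineOpens).exists_subset_of_mem_open
      (show x ∈ ((U₁ ⊓ f ⁻¹ᵁ V : X.Opens) : Set X) from ⟨hxU₁, hfxV⟩) (U₁ ⊓ f ⁻¹ᵁ V).isOpen
  have hUU₁ : U ≤ U₁ := fun y hy => (hUsub hy).1
  have e : U ≤ f ⁻¹ᵁ V := fun y hy => (hUsub hy).2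
  letI : Algebra Γ(S, V) Γ(X, U) := (f.appLE V U e).hom.toAlgebra
  have halg : algebraMap Γ(S, V) Γ(X, U) = (f.appLE V U e).hom := rfl
  haveI : Algebra.FiniteType Γ(S, V) Γ(X, U) := f.finiteType_appLE hV hU e
  let g : Γ(X, U) := (X.presheaf.map (homOfLE hUU₁).op).hom g₁
  have hZU : Z.ideal ⟨U, hU⟩ = Ideal.span {g} := by
    have := Z.map_ideal (U := ⟨U, hU⟩) (V := ⟨U₁, hU₁⟩) hUU₁
    rw [← this, hZU₁, Ideal.map_span, Set.image_singleton]
    rfl
  -- points and primes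
  have F4 : ∀ (y : X) (hy : y ∈ U), y ∈ Z.support ↔ g ∈ pr hU y hy := by
    intro y hy
    rw [Scheme.IdealSheafData.mem_support_iff_of_mem (U := ⟨U, hU⟩) hy, hZU,
      Scheme.zeroLocus_span, Scheme.zeroLocus_singleton, AffPts.mem_primeIdealOf_iff hU ⟨y, hy⟩ g]
    rfl
  have F2 : ∀ (y : X) (hy : y ∈ U),
      (pr hU y hy).under Γ(S, V) = (hV.primeIdealOf ⟨f y, e hy⟩).asIdeal := by
    intro y hy
    exact congrArg PrimeSpectrum.asIdeal (IsAffineOpen.comap_primeIdealOf_appLE V hV U hU e hy)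
  have F3 : ∀ (y y' : X) (hy : y ∈ U) (hy' : y' ∈ U),
      (pr hU y hy).under Γ(S, V) = (pr hU y' hy').under Γ(S, V) → f y = f y' := by
    intro y y' hy hy' h
    rw [F2, F2] at h
    have := AffPts.primeIdealOf_injective hV (PrimeSpectrum.ext h)
    exact congrArg Subtype.val this
  have F3' : ∀ (y y' : X) (hy : y ∈ U) (hy' : y' ∈ U), f y = f y' →
      (pr hU y hy).under Γ(S, V) = (pr hU y' hy').under Γ(S, V) := by
    intro y y' hy hy' h
    rw [F2, F2]
    exact congrArg (fun z => (hV.primeIdealOf z).asIdeal) (Subtype.ext h)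
  have hξU : genericPoint X ∈ U := (hξx x).mem_open U.isOpen hxU
  have hPq : pr hU (genericPoint X) hξU ≤ pr hU x hxU :=
    (AffPts.primeIdealOf_le_iff hU ⟨genericPoint X, hξU⟩ ⟨x, hxU⟩).2 (hξx x)
  have hgq : g ∈ pr hU x hxU := (F4 x hxU).1 hxZ
  -- transcendence degrees
  have he := trdeg_chart f hV hU e x hxU halg ((pr hU x hxU).under Γ(S, V)) (F2 x hxU)
  have hN := trdeg_chart f hV hU e (genericPoint X) hξU halg
    ((pr hU (genericPoint X) hξU).under Γ(S, V)) (F2 _ hξU)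
  -- no horizontal primes
  have hno : ∀ Q' : Ideal Γ(X, U), Q'.IsPrime → pr hU (genericPoint X) hξU ≤ Q' →
      Q' ≤ pr hU x hxU → g ∈ Q' →
      Q'.under Γ(S, V) ≠ (pr hU (genericPoint X) hξU).under Γ(S, V) := by
    intro Q' hQ' _ _ hgQ' hunder
    obtain ⟨⟨y, hy⟩, hyQ⟩ := AffPts.primeIdealOf_surjective hU ⟨Q', hQ'⟩
    have h1 : pr hU y hy = Q' := congrArg PrimeSpectrum.asIdeal hyQ
    have h2 : y ∈ Z.support := (F4 y hy).2 (by rw [h1]; exact hgQ')
    have h3 : f y = f (genericPoint X) := F3 y _ hy hξU (by rw [h1]; exact hunder)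
    exact hη y h2 (h3.trans hfξ)
  -- the height bound
  have hh : Order.height (⟨⟨pr hU x hxU, inferInstance⟩, rfl⟩ :
      PrimeSpectrum.comap (algebraMap Γ(S, V) Γ(X, U)) ⁻¹'
        {PrimeSpectrum.comap (algebraMap Γ(S, V) Γ(X, U)) ⟨pr hU x hxU, inferInstance⟩}) +
        ((tr f x : ℕ) : ℕ∞) ≤ ((tr f (genericPoint X) : ℕ) : ℕ∞) := by
    let FB := PrimeSpectrum.comap (algebraMap Γ(S, V) Γ(X, U)) ⁻¹'
        {PrimeSpectrum.comap (algebraMap Γ(S, V) Γ(X, U)) ⟨pr hU x hxU, inferInstance⟩}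
    have hsurj : ∀ P : FB, ∃ y : X, ∃ hy : y ∈ U, hU.primeIdealOf ⟨y, hy⟩ = P.1 := by
      intro P
      obtain ⟨⟨y, hy⟩, h⟩ := AffPts.primeIdealOf_surjective hU P.1
      exact ⟨y, hy, h⟩
    choose yP hyP hyPeq using hsurj
    have hfy : ∀ P : FB, f (yP P) = f x := by
      intro P
      apply F3 (yP P) x (hyP P) hxU
      have h1 := congrArg PrimeSpectrum.asIdeal P.2
      show (hU.primeIdealOf ⟨yP P, hyP P⟩).asIdeal.under _ = _
      rw [hyPeq P]; exact h1
    let Ψ : FB → (↥(f ⁻¹' {f x}))ᵒᵈ := fun P => OrderDual.toDual ⟨yP P, hfy P⟩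
    have hΨ : StrictMono Ψ := by
      intro P P' hlt
      have hle : P.1 ≤ P'.1 := hlt.le
      have hnle : ¬ P'.1 ≤ P.1 := hlt.not_ge
      rw [← hyPeq P, ← hyPeq P', AffPts.primeIdealOf_le_iff hU] at hle hnle
      show OrderDual.toDual _ < OrderDual.toDual _
      rw [OrderDual.toDual_lt_toDual, lt_iff_le_not_ge]
      exact ⟨hle, hnle⟩
    have hΨq : Ψ ⟨⟨pr hU x hxU, inferInstance⟩, rfl⟩ = OrderDual.toDual ⟨x, rfl⟩ := by
      show OrderDual.toDual _ = OrderDual.toDual _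
      congr 1
      apply Subtype.ext
      have h1 := hyPeq ⟨⟨pr hU x hxU, inferInstance⟩, rfl⟩
      have h2 : hU.primeIdealOf ⟨yP ⟨⟨pr hU x hxU, inferInstance⟩, rfl⟩,
          hyP ⟨⟨pr hU x hxU, inferInstance⟩, rfl⟩⟩ = hU.primeIdealOf ⟨x, hxU⟩ := h1
      have h3 := AffPts.primeIdealOf_injective hU h2
      exact congrArg (fun z : ↥U => (z : X)) h3
    have h1 : Order.height (⟨⟨pr hU x hxU, inferInstance⟩, rfl⟩ : FB) ≤ FibreOrder.G f x := by
      have h0 := Order.height_le_height_apply_of_strictMono Ψ hΨ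
        ⟨⟨pr hU x hxU, inferInstance⟩, rfl⟩
      rw [hΨq, Order.height_toDual] at h0
      exact h0
    obtain ⟨w, hw⟩ := exists_fibre_point f x (f x) rfl
    have h2 := localDim_fibre f (f x) w
    rw [hw] at h2
    have h3 := Groth.Agent.Lib.Helper21.TopDim.localDim_le (X := ↥(f.fiber (f x))) w
    have h4 := dim_fibre_generic f (genericPoint S) hfξ
    have h5 : (((tr f x : ℕ) : ℕ∞) + FibreOrder.G f x : ℕ∞) ≤
        ((tr f (genericPoint X) : ℕ) : ℕ∞) := by
      have h6 : ((((tr f x : ℕ) : ℕ∞) + FibreOrder.G f x : ℕ∞) : WithBot ℕ∞) ≤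
          ((tr f (genericPoint X) : ℕ) : WithBot ℕ∞) := by
        rw [← h2, ← h4]; exact h3.trans hdim
      exact_mod_cast h6
    calc Order.height (⟨⟨pr hU x hxU, inferInstance⟩, rfl⟩ : FB) + ((tr f x : ℕ) : ℕ∞)
        ≤ FibreOrder.G f x + ((tr f x : ℕ) : ℕ∞) := add_le_add_left h1 _
      _ = ((tr f x : ℕ) : ℕ∞) + FibreOrder.G f x := add_comm _ _
      _ ≤ _ := h5
  obtain ⟨P', hP'prime, hP₀P', hP'q, hP'under, hgP', hP'min⟩ :=
    HorizE.core' (pr hU (genericPoint X) hξU) (pr hU x hxU) hPq g hgq (tr f x)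
      (tr f (genericPoint X)) he hN hh hno
  obtain ⟨⟨ξ', hξ'U⟩, hξ'eq⟩ := AffPts.primeIdealOf_surjective hU ⟨P', hP'prime⟩
  have hprξ' : pr hU ξ' hξ'U = P' := congrArg PrimeSpectrum.asIdeal hξ'eq
  have hfξ' : f ξ' = f x := F3 ξ' x hξ'U hxU (by rw [hprξ']; exact hP'under)
  have hξ'x : ξ' ⤳ x := (AffPts.primeIdealOf_le_iff hU ⟨ξ', hξ'U⟩ ⟨x, hxU⟩).1 (by
    show pr hU ξ' hξ'U ≤ pr hU x hxU
    rw [hprξ']; exact hP'q)
  have hξ'Z : ξ' ∈ Z.support := (F4 ξ' hξ'U).2 (by rw [hprξ']; exact hgP')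
  -- the component
  let t : ↥(f ⁻¹' {f x}) := ⟨ξ', hfξ'⟩
  haveI : QuasiSober ↥(f ⁻¹' {f x}) :=
    (f.fiberHomeo (f x)).symm.isClosedEmbedding.quasiSober
  refine ⟨closure {t}, closure_mem_irreducibleComponents t ?_, ?_, ?_⟩
  · intro y hy
    have hy' : (y : X) ⤳ ξ' := (subtype_specializes_iff y t).1 hy
    have hyU : (y : X) ∈ U := hy'.mem_open U.isOpen hξ'U
    have h1 : pr hU y hyU ≤ P' := by
      rw [← hprξ']
      exact (AffPts.primeIdealOf_le_iff hU ⟨y, hyU⟩ ⟨ξ', hξ'U⟩).2 hy'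
    have h2 : pr hU (genericPoint X) hξU ≤ pr hU y hyU :=
      (AffPts.primeIdealOf_le_iff hU ⟨genericPoint X, hξU⟩ ⟨y, hyU⟩).2 (hξx y)
    have h3 : (pr hU y hyU).under Γ(S, V) = (pr hU x hxU).under Γ(S, V) :=
      F3' y x hyU hxU y.2
    have h4 := hP'min (pr hU y hyU) inferInstance h2 h1 h3
    have h5 : hU.primeIdealOf ⟨y, hyU⟩ = hU.primeIdealOf ⟨ξ', hξ'U⟩ :=
      PrimeSpectrum.ext (h4.trans hprξ'.symm)
    apply Subtype.ext
    have h6 := AffPts.primeIdealOf_injective hU h5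
    exact congrArg (fun z : ↥U => (z : X)) h6
  · show (⟨x, hxs⟩ : ↥(f ⁻¹' {f x})) ∈ closure {t}
    rw [← specializes_iff_mem_closure, subtype_specializes_iff]
    exact hξ'x
  · rintro _ ⟨y, hy, rfl⟩
    have h1 : t ⤳ y := specializes_iff_mem_closure.2 hy
    have h2 : ξ' ⤳ (y : X) := (subtype_specializes_iff t y).1 h1
    exact h2.mem_closed Z.support.isClosed hξ'Z

end Groth.Agent.Lib.lead.HorizF
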