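import Mathlib

set_option autoImplicit false
universe u

namespace Groth.Agent.Lib.lead.IntegralExtend

open AlgebraicGeometry CategoryTheory Limits

/-- If `v : V ⟶ U` is integral and `j : U ⟶ S` is a quasi-compact open immersion then
`V ⟶ (v ≫ j).normalization` is an open immersion with range the preimage of `U`. -/
theorem toNormalization_openImmersion {S U V : Scheme.{u}} (j : U ⟶ S) [IsOpenImmersion j]
    [QuasiCompact j] (v : V ⟶ U) [IsIntegralHom v] :
    IsOpenImmersion (v ≫ j).toNormalization ∧
      Set.range (v ≫ j).toNormalization = (v ≫ j).fromNormalization ⁻¹' Set.range j := by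
  set f := v ≫ j with hf
  -- pullback.fst f j is an iso
  have h1 : IsIso (pullback.fst f j) := by
    have : IsPullback (𝟙 V) v f j := by
      refine ⟨⟨by simp [hf]⟩, ⟨PullbackCone.IsLimit.mk _ (fun s => s.fst) (fun s => by simp)
        (fun s => ?_) (fun s m h1 h2 => by simpa using h1)⟩⟩
      rw [← cancel_mono j]
      simpa [hf] using s.condition
    have h : pullback.fst f j = this.isoPullback.inv := by
      rw [← cancel_epi this.isoPullback.hom]; simp
    rw [h]; infer_instance
  have h2 : pullback.snd f j = pullback.fst f j ≫ v := by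
    rw [← cancel_mono j, Category.assoc]; exact pullback.condition.symm
  have : IsIntegralHom (pullback.snd f j) := by rw [h2]; infer_instance
  have key := Scheme.Hom.toNormalization_normalizationPullback_fst f j
  set a := inv (pullback.fst f j) ≫ (pullback.snd f j).toNormalization ≫
      f.normalizationPullback j with ha
  have h3 : f.toNormalization = a ≫ pullback.fst f.fromNormalization j := by
    simp only [ha, Category.assoc]
    rw [key]; simp
  have hai : IsIso a := by rw [ha]; infer_instance
  refine ⟨by rw [h3]; infer_instance, ?_⟩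
  rw [h3, ← Scheme.Pullback.range_fst]
  ext x
  constructor
  · rintro ⟨y, rfl⟩
    exact ⟨a y, rfl⟩
  · rintro ⟨y, rfl⟩
    obtain ⟨z, rfl⟩ := a.surjective y
    exact ⟨z, rfl⟩

theorem S1377 {S V : Scheme.{u}} (U : S.Opens) [QuasiCompact U.ι]
    (v : V ⟶ (U : Scheme.{u})) [IsIntegralHom v] [Surjective v] :
    ∃ (V' : Scheme.{u}) (π : V' ⟶ S) (i : V ⟶ V'), Surjective π ∧ IsIntegralHom π ∧
      IsPullback i v π U.ι := by
  set f := v ≫ U.ι with hf
  obtain ⟨hoi, hrange⟩ := toNormalization_openImmersion U.ι v
  let Zc : TopologicalSpace.Closeds S := ⟨(U : Set S)ᶜ, U.2.isClosed_compl⟩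
  let I := Scheme.IdealSheafData.vanishingIdeal Zc
  have hZ : Set.range I.subschemeι = (U : Set S)ᶜ := by
    rw [Scheme.IdealSheafData.range_subschemeι, Scheme.IdealSheafData.coe_support_vanishingIdeal]
    rfl
  let π : f.normalization ⨿ I.subscheme ⟶ S := coprod.desc f.fromNormalization I.subschemeι
  let i : V ⟶ f.normalization ⨿ I.subscheme := f.toNormalization ≫ coprod.inl
  have hπl : (coprod.inl : f.normalization ⟶ f.normalization ⨿ I.subscheme) ≫ π =
      f.fromNormalization := coprod.inl_desc _ _
  have hπr : (coprod.inr : I.subscheme ⟶ f.normalization ⨿ I.subscheme) ≫ π =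
      I.subschemeι := coprod.inr_desc _ _
  have hcomm : i ≫ π = v ≫ U.ι := by
    change (f.toNormalization ≫ coprod.inl) ≫ π = f
    rw [Category.assoc, hπl]; exact f.toNormalization_fromNormalization
  refine ⟨_, π, i, ⟨fun s => ?_⟩, inferInstance, ?_⟩
  · by_cases hs : s ∈ U
    · obtain ⟨x, hx⟩ := v.surjective ⟨s, hs⟩
      refine ⟨i x, ?_⟩
      rw [← Scheme.Hom.comp_apply, hcomm, Scheme.Hom.comp_apply, hx]
      rfl
    · have : s ∈ Set.range I.subschemeι := by rw [hZ]; exact hs
      obtain ⟨z, rfl⟩ := this
      refine ⟨(coprod.inr : I.subscheme ⟶ f.normalization ⨿ I.subscheme) z, ?_⟩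
      rw [← Scheme.Hom.comp_apply, hπr]
  · haveI : IsOpenImmersion i := by
      haveI := hoi
      infer_instance
    refine (IsOpenImmersion.isPullback v i U.ι π hcomm ?_).flip
    ext x
    change π x ∈ Set.range U.ι ↔ x ∈ Set.range i
    obtain ⟨(n | z), rfl⟩ := (coprodMk _ _).surjective x
    · rw [coprodMk_inl, ← Scheme.Hom.comp_apply]
      rw [hπl]
      constructor
      · intro h
        have : n ∈ Set.range f.toNormalization := by rw [hrange]; exact h
        obtain ⟨y, rfl⟩ := this
        exact ⟨y, rfl⟩
      · rintro ⟨y, hy⟩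
        have hy' : (coprod.inl : f.normalization ⟶ f.normalization ⨿ I.subscheme)
            (f.toNormalization y) = (coprod.inl : f.normalization ⟶ _) n := hy
        have := (coprod.inl : f.normalization ⟶ f.normalization ⨿ I.subscheme).isOpenEmbedding.injective hy'
        have h2 : n ∈ Set.range f.toNormalization := ⟨y, this⟩
        rw [hrange] at h2
        exact h2
    · rw [coprodMk_inr, ← Scheme.Hom.comp_apply]
      rw [hπr]
      constructor
      · intro h
        exfalso
        have h3 : I.subschemeι z ∈ (U : Set S)ᶜ := by rw [← hZ]; exact ⟨z, rfl⟩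
        apply h3
        obtain ⟨u, hu⟩ := h
        rw [← hu]
        exact u.2
      · rintro ⟨y, hy⟩
        exfalso
        have hy' : (coprod.inl : f.normalization ⟶ f.normalization ⨿ I.subscheme)
            (f.toNormalization y) = (coprod.inr : I.subscheme ⟶ _) z := hy
        exact Set.disjoint_iff_forall_ne.mp (isCompl_range_inl_inr _ _).1 ⟨_, rfl⟩ ⟨_, rfl⟩ hy'

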