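import Mathlib
import Groth.Agent.Lib.lead.IrredFibresSub
import Groth.Agent.Lib.helper11.ConstrTop
import Groth.Agent.Lib.Helper7.VarietyDim
import Groth.Agent.Lib.Helper18.GenFinite
import Groth.Agent.S1653
import Groth.Agent.Lib.lead.VarDomComp

set_option autoImplicit false
set_option linter.style.haveILetI false
universe u
open CategoryTheory CategoryTheory.Limits AlgebraicGeometry Topology TopologicalSpace

namespace Groth.Agent.Lib.lead.IrredFibres

open Groth.Agent.Lib.Helper7 Groth.Agent.Lib.Helper18 Groth.Agent.Lib.Helper21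

section

variable (k : Type u) [Field k] {X Y : Scheme.{u}} [X.Over (Spec (CommRingCat.of k))]
  [Y.Over (Spec (CommRingCat.of k))]
  [LocallyOfFiniteType (X ↘ Spec (CommRingCat.of k))]
  [LocallyOfFiniteType (Y ↘ Spec (CommRingCat.of k))]
  (f : X ⟶ Y) (hf : f ≫ (Y ↘ Spec (CommRingCat.of k)) = X ↘ Spec (CommRingCat.of k))

include hf in
/-- Dimensions of an irreducible closed subset and of the closure of its image. -/
theorem exists_dims (Z : Set X) (hZc : IsClosed Z) (hZi : IsIrreducible Z) :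
    ∃ a b : ℕ, topologicalKrullDim ↥Z = a ∧ topologicalKrullDim ↥(closure (f '' Z)) = b ∧
      b ≤ a := by
  obtain ⟨ξ, hξ⟩ := QuasiSober.sober hZi hZc
  obtain ⟨a, ha1, ha2⟩ := VarDim.exists_nat_dim_closure_eq k X ξ
  obtain ⟨b, hb1, hb2⟩ := VarDim.exists_nat_dim_closure_eq k Y (f ξ)
  have hcl : closure (f '' Z) = closure ({f ξ} : Set Y) := by
    apply subset_antisymm
    · rw [← hξ.def]
      refine closure_minimal ?_ isClosed_closure
      refine (image_closure_subset_closure_image f.continuous).trans ?_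
      rw [Set.image_singleton]
    · apply closure_mono
      rw [Set.singleton_subset_iff]
      exact ⟨ξ, hξ.mem, rfl⟩
  refine ⟨a, b, ?_, ?_, ?_⟩
  · rw [← hξ.def]; exact ha2
  · rw [hcl]; exact hb2
  · have := GenFinite.td_le k f hf ξ
    unfold GenFinite.td at this
    rw [ha1, hb1] at this
    exact_mod_cast this

include hf in
/-- The key lemma for one irreducible closed subset `Z` containing a nonempty open subset of `X`. -/
theorem component_lemma (d : ℕ)
    (hirr : ∀ y : Y, IsClosed ({y} : Set Y) → IsIrreducible (f ⁻¹' {y}))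
    (hdim : ∀ y : Y, IsClosed ({y} : Set Y) → topologicalKrullDim ↥(f ⁻¹' {y}) = d)
    (Z : Set X) (hZc : IsClosed Z) (hZi : IsIrreducible Z)
    (U : Set X) (hUo : IsOpen U) (hUne : U.Nonempty) (hUZ : U ⊆ Z) :
    (∀ y : Y, IsClosed ({y} : Set Y) → (f ⁻¹' {y} ∩ Z).Nonempty → f ⁻¹' {y} ⊆ Z) ∧
      topologicalKrullDim ↥Z = d + topologicalKrullDim ↥(closure (f '' Z)) := by
  obtain ⟨a, b, ha, hb, hba⟩ := exists_dims k f hf Z hZc hZi
  -- the closed subscheme
  let I := Scheme.IdealSheafData.vanishingIdeal (X := X) ⟨Z, hZc⟩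
  let Zs : Scheme.{u} := I.subscheme
  let ι : Zs ⟶ X := I.subschemeι
  have hrange : Set.range ι = Z := by
    rw [I.range_subschemeι]
    exact Scheme.IdealSheafData.coe_support_vanishingIdeal _
  letI : Zs.Over (Spec (CommRingCat.of k)) := ⟨ι ≫ (X ↘ Spec (CommRingCat.of k))⟩
  haveI : LocallyOfFiniteType (Zs ↘ Spec (CommRingCat.of k)) :=
    inferInstanceAs (LocallyOfFiniteType (ι ≫ (X ↘ Spec (CommRingCat.of k))))
  let g : Zs ⟶ Y := ι ≫ f
  have hg : g ≫ (Y ↘ Spec (CommRingCat.of k)) = Zs ↘ Spec (CommRingCat.of k) := by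
    show (ι ≫ f) ≫ _ = ι ≫ _
    rw [Category.assoc, hf]
  let e : Zs ≃ₜ ↥Z := IrredFibresTop.homeoOfRangeEq ι ι.isClosedEmbedding.isEmbedding Z hrange
  haveI : IrreducibleSpace ↥Z := Subtype.irreducibleSpace hZi
  haveI : IrreducibleSpace Zs := IrredFibresTop.irreducibleSpace_of_homeomorph e.symm
  have hdimZs : topologicalKrullDim Zs = a := by
    rw [← ha]
    exact IsHomeomorph.topologicalKrullDim_eq _ e.isHomeomorph
  have hrg : closure (Set.range g.base) = closure (f '' Z) := by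
    congr 1
    rw [← hrange]
    show Set.range (ι ≫ f) = _
    rw [Scheme.Hom.comp_base, TopCat.coe_comp, Set.range_comp]
  have hdimW : topologicalKrullDim ↥(closure (Set.range g.base)) = b := by
    rw [hrg]
    exact hb
  haveI : LocallyOfFiniteType (f ≫ (Y ↘ Spec (CommRingCat.of k))) := by rw [hf]; infer_instance
  haveI : LocallyOfFiniteType f := locallyOfFiniteType_of_comp f (Y ↘ Spec (CommRingCat.of k))
  haveI : LocallyOfFiniteType g := inferInstanceAs (LocallyOfFiniteType (ι ≫ f))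
  obtain ⟨hge, hOo, hOd⟩ := Groth.Agent.S1653.result k Zs Y g hg a b hdimZs hdimW
  haveI : JacobsonSpace Zs := LocallyOfFiniteType.jacobsonSpace (Zs ↘ Spec (CommRingCat.of k))
  haveI : JacobsonSpace Y := LocallyOfFiniteType.jacobsonSpace (Y ↘ Spec (CommRingCat.of k))
  -- (α): the generic fibre dimension of `Z → f(Z)` is `d`
  have hd : a - b = d := by
    have hW : (ι ⁻¹' U ∩ {z : Zs | FlatMor.fibreDimAt g z = ((a - b : ℕ) : WithBot ℕ∞)}).Nonempty := by
      obtain ⟨u, hu⟩ := hUne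
      obtain ⟨z0, hz0⟩ : u ∈ Set.range ι := by rw [hrange]; exact hUZ hu
      exact hOd.inter_open_nonempty _ (hUo.preimage ι.continuous)
        ⟨z0, by show ι z0 ∈ U; rw [hz0]; exact hu⟩
    obtain ⟨z, ⟨hzU, hzO⟩, hzcl⟩ := nonempty_inter_closedPoints hW
      ((hUo.preimage ι.continuous).inter hOo).isLocallyClosed
    have hxcl : IsClosed ({ι z} : Set X) := by
      have := ι.isClosedEmbedding.isClosedMap _ (hzcl : IsClosed {z})
      rwa [Set.image_singleton] at this
    have hycl : IsClosed ({f (ι z)} : Set Y) := f.closePoints_subset_preimage_closedPoints hxcl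
    have hFZ : f ⁻¹' {f (ι z)} ⊆ Z := by
      have hFi := hirr _ hycl
      have hne : (U ∩ f ⁻¹' {f (ι z)}).Nonempty := ⟨ι z, hzU, rfl⟩
      have h1 := helper11.ConstrTop.subset_closure_of_open_inter hFi hUo hne
      exact h1.trans (hZc.closure_subset_iff.2 (Set.inter_subset_left.trans hUZ))
    have h1 := IrredFibresSub.fibreDimAt_eq_of_subset f ι z (by rw [hrange]; exact hFZ)
      (hirr _ hycl)
    have hdimy : topologicalKrullDim ↥(f ⁻¹' {(ι ≫ f) z}) = d := hdim _ hycl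
    rw [hdimy] at h1
    have h2 : FlatMor.fibreDimAt g z = ((a - b : ℕ) : WithBot ℕ∞) := hzO
    rw [h1] at h2
    exact_mod_cast h2.symm
  -- (β): `Z` consists of whole fibres
  have hbeta : ∀ z : Zs, IsClosed ({g z} : Set Y) → f ⁻¹' {g z} ⊆ Z := by
    intro z hycl
    by_contra hns
    haveI : IrreducibleSpace ↥(f ⁻¹' {g z}) := Subtype.irreducibleSpace (hirr _ hycl)
    have h1 := IrredFibresSub.dim_fibre_add_one_le f ι (g z) (by rw [hrange]; exact hns)
    rw [hdim _ hycl] at h1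
    have h2 : ((a - b : ℕ) : WithBot ℕ∞) ≤ FlatMor.fibreDimAt g z := hge z
    have h3 := IrredFibresSub.fibreDimAt_le_dim g z
    have h4 : ((d : ℕ) : WithBot ℕ∞) + 1 ≤ d := by
      refine le_trans ?_ h1
      rw [← hd]
      exact add_le_add_left (h2.trans h3) 1
    have : (d + 1 : ℕ) ≤ d := by exact_mod_cast h4
    omega
  refine ⟨?_, ?_⟩
  · rintro y hycl ⟨x, hxF, hxZ⟩
    obtain ⟨z, rfl⟩ : x ∈ Set.range ι := by rw [hrange]; exact hxZ
    have hy : g z = y := hxF
    subst hy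
    exact hbeta z hycl
  · rw [ha, hb]
    have : a = d + b := by omega
    rw [this]
    push_cast
    rfl

end

/-- The complement of the other components is a nonempty open subset of a component. -/
theorem exists_open_in_component {T : Type*} [TopologicalSpace T] [QuasiSober T]
    (hT : (irreducibleComponents T).Finite) (Z : Set T) (hZ : Z ∈ irreducibleComponents T) :
    ∃ U : Set T, IsOpen U ∧ U.Nonempty ∧ U ⊆ Z ∧
      ∀ Z' ∈ irreducibleComponents T, Z' ≠ Z → Disjoint U Z' := by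
  obtain ⟨ξ, hξ⟩ := QuasiSober.sober hZ.1 (isClosed_of_mem_irreducibleComponents Z hZ)
  have hfin : (irreducibleComponents T \ {Z}).Finite := hT.subset Set.diff_subset
  have hcl : IsClosed (⋃₀ (irreducibleComponents T \ {Z})) := by
    rw [Set.sUnion_eq_biUnion]
    exact hfin.isClosed_biUnion (fun Z' hZ' => isClosed_of_mem_irreducibleComponents Z' hZ'.1)
  refine ⟨(⋃₀ (irreducibleComponents T \ {Z}))ᶜ, hcl.isOpen_compl, ⟨ξ, ?_⟩, ?_, ?_⟩
  · rintro ⟨Z', ⟨hZ', hZne⟩, hzZ'⟩
    apply hZne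
    have h1 : Z ⊆ Z' := by
      rw [← hξ.def]
      exact (isClosed_of_mem_irreducibleComponents Z' hZ').closure_subset_iff.2
        (Set.singleton_subset_iff.2 hzZ')
    exact le_antisymm (hZ.2 hZ'.1 h1) h1
  · intro a ha
    by_contra hna
    apply ha
    refine ⟨irreducibleComponent a, ⟨irreducibleComponent_mem_irreducibleComponents a, ?_⟩,
      mem_irreducibleComponent⟩
    intro h
    rw [Set.mem_singleton_iff] at h
    exact hna (h ▸ mem_irreducibleComponent)
  · intro Z' hZ' hZne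
    rw [Set.disjoint_left]
    intro a ha haZ
    exact ha ⟨Z', ⟨hZ', hZne⟩, haZ⟩

section

variable (k : Type u) [Field k] {X Y : Scheme.{u}} [X.Over (Spec (CommRingCat.of k))]
  [Y.Over (Spec (CommRingCat.of k))]
  [LocallyOfFiniteType (X ↘ Spec (CommRingCat.of k))]
  [LocallyOfFiniteType (Y ↘ Spec (CommRingCat.of k))]
  (f : X ⟶ Y) (hf : f ≫ (Y ↘ Spec (CommRingCat.of k)) = X ↘ Spec (CommRingCat.of k))

include hf in
/-- **Irreducible equidimensional fibres**: structure of the irreducible components. -/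
theorem core [CompactSpace X] [CompactSpace Y] [IrreducibleSpace Y] (d : ℕ)
    (hirr : ∀ y : Y, IsClosed ({y} : Set Y) → IsIrreducible (f ⁻¹' {y}))
    (hdim : ∀ y : Y, IsClosed ({y} : Set Y) → topologicalKrullDim ↥(f ⁻¹' {y}) = d) :
    (∃! Z : Set X, Z ∈ irreducibleComponents X ∧ Dense (f '' Z)) ∧
      ∀ Z ∈ irreducibleComponents X,
        (∀ y : Y, IsClosed ({y} : Set Y) → (f ⁻¹' {y} ∩ Z).Nonempty → f ⁻¹' {y} ⊆ Z) ∧
        topologicalKrullDim ↥Z = d + topologicalKrullDim ↥(closure (f '' Z)) := by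
  haveI : IsLocallyNoetherian X :=
    LocallyOfFiniteType.isLocallyNoetherian (X ↘ Spec (CommRingCat.of k))
  haveI : IsNoetherian X := {}
  haveI : IsLocallyNoetherian Y :=
    LocallyOfFiniteType.isLocallyNoetherian (Y ↘ Spec (CommRingCat.of k))
  haveI : IsNoetherian Y := {}
  haveI : JacobsonSpace X := LocallyOfFiniteType.jacobsonSpace (X ↘ Spec (CommRingCat.of k))
  haveI : JacobsonSpace Y := LocallyOfFiniteType.jacobsonSpace (Y ↘ Spec (CommRingCat.of k))
  haveI : LocallyOfFiniteType (f ≫ (Y ↘ Spec (CommRingCat.of k))) := by rw [hf]; infer_instance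
  haveI : LocallyOfFiniteType f := locallyOfFiniteType_of_comp f (Y ↘ Spec (CommRingCat.of k))
  haveI : QuasiCompact f := quasiCompact_of_compactSpace f
  have hfin : (irreducibleComponents X).Finite := NoetherianSpace.finite_irreducibleComponents
  have hcomp : ∀ Z ∈ irreducibleComponents X,
      (∀ y : Y, IsClosed ({y} : Set Y) → (f ⁻¹' {y} ∩ Z).Nonempty → f ⁻¹' {y} ⊆ Z) ∧
      topologicalKrullDim ↥Z = d + topologicalKrullDim ↥(closure (f '' Z)) := by
    intro Z hZ
    obtain ⟨U, hUo, hUne, hUZ, -⟩ := exists_open_in_component hfin Z hZ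
    exact component_lemma k f hf d hirr hdim Z (isClosed_of_mem_irreducibleComponents Z hZ)
      hZ.1 U hUo hUne hUZ
  refine ⟨?_, hcomp⟩
  -- existence
  have hdense : Dense (Set.range f) := by
    rw [dense_iff_closure_eq, ← Set.univ_subset_iff, ← closure_closedPoints (X := Y)]
    apply closure_mono
    intro y hy
    obtain ⟨x, hx⟩ := (hirr y hy).nonempty
    exact ⟨x, hx⟩
  haveI : IsDominant f := ⟨hdense⟩
  obtain ⟨x₀, hx₀⟩ := VarDomComp.exists_map_eq_genericPoint f
  have hdense₀ : Dense (f '' irreducibleComponent x₀) := by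
    rw [dense_iff_closure_eq, ← Set.univ_subset_iff, ← (genericPoint_spec Y).def]
    apply closure_mono
    rw [Set.singleton_subset_iff, ← hx₀]
    exact ⟨x₀, mem_irreducibleComponent, rfl⟩
  refine ⟨irreducibleComponent x₀,
    ⟨irreducibleComponent_mem_irreducibleComponents x₀, hdense₀⟩, ?_⟩
  rintro Z₂ ⟨hZ₂, hd₂⟩
  set Z₁ := irreducibleComponent x₀ with hZ₁def
  have hZ₁ : Z₁ ∈ irreducibleComponents X := irreducibleComponent_mem_irreducibleComponents x₀
  by_contra hne
  have hE : IsConstructible (f '' Z₁) := f.isConstructible_image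
    (helper11.ConstrTop.isConstructible_of_isClosed (isClosed_of_mem_irreducibleComponents Z₁ hZ₁))
  obtain ⟨V, hVo, hVne, hVE⟩ := helper11.ConstrTop.exists_open_of_dense hE
    (IrreducibleSpace.isIrreducible_univ Y) (by rw [Set.inter_univ, hdense₀.closure_eq])
  rw [Set.inter_univ] at hVne hVE
  obtain ⟨U, hUo, hUne, hUZ, hUd⟩ := exists_open_in_component hfin Z₂ hZ₂
  obtain ⟨ξ₂, hξ₂⟩ := QuasiSober.sober hZ₂.1 (isClosed_of_mem_irreducibleComponents Z₂ hZ₂)
  have hξ₂U : ξ₂ ∈ U := by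
    obtain ⟨u, hu⟩ := hUne
    have : ξ₂ ⤳ u := hξ₂.specializes (hUZ hu)
    exact this.mem_open hUo hu
  have hfξ₂ : f ξ₂ ∈ V := by
    obtain ⟨v, hv⟩ := hVne
    have h1 : closure (f '' Z₂) ⊆ closure ({f ξ₂} : Set Y) := by
      rw [← hξ₂.def]
      refine closure_minimal ?_ isClosed_closure
      refine (image_closure_subset_closure_image f.continuous).trans ?_
      rw [Set.image_singleton]
    rw [hd₂.closure_eq] at h1
    have : f ξ₂ ⤳ v := specializes_iff_mem_closure.2 (h1 (Set.mem_univ v))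
    exact this.mem_open hVo hv
  obtain ⟨x, ⟨hxU, hxV⟩, hxcl⟩ := nonempty_inter_closedPoints
    (Z := U ∩ f ⁻¹' V) ⟨ξ₂, hξ₂U, hfξ₂⟩ (hUo.inter (hVo.preimage f.continuous)).isLocallyClosed
  have hycl : IsClosed ({f x} : Set Y) := f.closePoints_subset_preimage_closedPoints hxcl
  obtain ⟨x₁, hx₁Z, hx₁⟩ := hVE hxV
  have hsub := (hcomp Z₁ hZ₁).1 (f x) hycl ⟨x₁, hx₁, hx₁Z⟩
  have hxZ₁ : x ∈ Z₁ := hsub rfl
  exact Set.disjoint_left.1 (hUd Z₁ hZ₁ (fun h => hne h.symm)) hxU hxZ₁

end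

theorem dim_of_eq_univ {T : Type*} [TopologicalSpace T] (A : Set T) (h : A = Set.univ) :
    topologicalKrullDim ↥A = topologicalKrullDim T := by
  subst h
  exact IsHomeomorph.topologicalKrullDim_eq _ (Homeomorph.Set.univ T).isHomeomorph

section

variable (k : Type u) [Field k] {X Y : Scheme.{u}} [X.Over (Spec (CommRingCat.of k))]
  [Y.Over (Spec (CommRingCat.of k))]
  [LocallyOfFiniteType (X ↘ Spec (CommRingCat.of k))]
  [LocallyOfFiniteType (Y ↘ Spec (CommRingCat.of k))]
  (f : X ⟶ Y) (hf : f ≫ (Y ↘ Spec (CommRingCat.of k)) = X ↘ Spec (CommRingCat.of k))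

include hf in
/-- If some component is everything, conclude. -/
theorem conclude_of_eq_univ [CompactSpace X] [CompactSpace Y] [IrreducibleSpace Y] (d : ℕ)
    (Z₀ : Set X) (hZ₀ : Z₀ ∈ irreducibleComponents X) (hd₀ : Dense (f '' Z₀))
    (hdimZ₀ : topologicalKrullDim ↥Z₀ = d + topologicalKrullDim ↥(closure (f '' Z₀)))
    (huniv : Z₀ = Set.univ) :
    IrreducibleSpace ↥X ∧ topologicalKrullDim ↥X = d + topologicalKrullDim ↥Y := by
  refine ⟨?_, ?_⟩
  · rw [irreducibleSpace_def]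
    have := hZ₀.1
    rwa [huniv] at this
  · rw [← dim_of_eq_univ Z₀ huniv, hdimZ₀, dim_of_eq_univ _ hd₀.closure_eq]

include hf in
/-- Closed map version. -/
theorem closedMap_version [CompactSpace X] [CompactSpace Y] [IrreducibleSpace Y]
    (hcl : IsClosedMap f) (d : ℕ)
    (hirr : ∀ y : Y, IsClosed ({y} : Set Y) → IsIrreducible (f ⁻¹' {y}))
    (hdim : ∀ y : Y, IsClosed ({y} : Set Y) → topologicalKrullDim ↥(f ⁻¹' {y}) = d) :
    IrreducibleSpace ↥X ∧ topologicalKrullDim ↥X = d + topologicalKrullDim ↥Y := by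
  obtain ⟨⟨Z₀, ⟨hZ₀, hd₀⟩, -⟩, hcomp⟩ := core k f hf d hirr hdim
  haveI : JacobsonSpace X := LocallyOfFiniteType.jacobsonSpace (X ↘ Spec (CommRingCat.of k))
  haveI : JacobsonSpace Y := LocallyOfFiniteType.jacobsonSpace (Y ↘ Spec (CommRingCat.of k))
  haveI : LocallyOfFiniteType (f ≫ (Y ↘ Spec (CommRingCat.of k))) := by rw [hf]; infer_instance
  haveI : LocallyOfFiniteType f := locallyOfFiniteType_of_comp f (Y ↘ Spec (CommRingCat.of k))
  have hZ₀c : IsClosed Z₀ := isClosed_of_mem_irreducibleComponents Z₀ hZ₀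
  have himg : f '' Z₀ = Set.univ := by
    rw [← hd₀.closure_eq]
    exact (hcl _ hZ₀c).closure_eq.symm
  have huniv : Z₀ = Set.univ := by
    apply Set.eq_univ_of_univ_subset
    rw [← closure_closedPoints (X := X)]
    refine hZ₀c.closure_subset_iff.2 ?_
    intro x hx
    have hycl : IsClosed ({f x} : Set Y) := f.closePoints_subset_preimage_closedPoints hx
    obtain ⟨x₁, hx₁Z, hx₁⟩ : f x ∈ f '' Z₀ := by rw [himg]; trivial
    exact (hcomp Z₀ hZ₀).1 (f x) hycl ⟨x₁, hx₁, hx₁Z⟩ rfl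
  exact conclude_of_eq_univ k f hf d Z₀ hZ₀ hd₀ (hcomp Z₀ hZ₀).2 huniv

include hf in
/-- Pure-dimensional version. -/
theorem pure_version [CompactSpace X] [CompactSpace Y] [IrreducibleSpace Y]
    (hpure : ∀ Z ∈ irreducibleComponents (↥X), topologicalKrullDim ↥Z = topologicalKrullDim ↥X)
    (d : ℕ)
    (hirr : ∀ y : Y, IsClosed ({y} : Set Y) → IsIrreducible (f ⁻¹' {y}))
    (hdim : ∀ y : Y, IsClosed ({y} : Set Y) → topologicalKrullDim ↥(f ⁻¹' {y}) = d) :
    IrreducibleSpace ↥X ∧ topologicalKrullDim ↥X = d + topologicalKrullDim ↥Y := by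
  obtain ⟨⟨Z₀, ⟨hZ₀, hd₀⟩, huniq⟩, hcomp⟩ := core k f hf d hirr hdim
  have hZ₀c : IsClosed Z₀ := isClosed_of_mem_irreducibleComponents Z₀ hZ₀
  obtain ⟨a₀, b₀, ha₀, hb₀, -⟩ := exists_dims k f hf Z₀ hZ₀c hZ₀.1
  have hb₀' : topologicalKrullDim ↥Y = b₀ := by
    rw [← hb₀]
    exact (dim_of_eq_univ _ hd₀.closure_eq).symm
  have hall : ∀ Z ∈ irreducibleComponents X, Z = Z₀ := by
    intro Z hZ
    by_contra hne
    have hZc : IsClosed Z := isClosed_of_mem_irreducibleComponents Z hZ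
    have hnd : ¬ Dense (f '' Z) := fun h => hne (huniq Z ⟨hZ, h⟩)
    obtain ⟨a, b, ha, hb, -⟩ := exists_dims k f hf Z hZc hZ.1
    have h1 : topologicalKrullDim ↥(closure (f '' Z)) + 1 ≤ topologicalKrullDim ↥Y := by
      refine IrredFibresTop.dim_add_one_le_of_isInducing (Subtype.val : ↥(closure (f '' Z)) → Y)
        IsInducing.subtypeVal ?_
      rw [Subtype.range_coe, closure_closure]
      intro h
      exact hnd (dense_iff_closure_eq.2 h)
    have h2 := (hcomp Z hZ).2
    have h3 := (hcomp Z₀ hZ₀).2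
    rw [hpure Z hZ, ← hpure Z₀ hZ₀, h3, hb, hb₀] at h2
    rw [hb, hb₀'] at h1
    have e1 : d + b₀ = d + b := by exact_mod_cast h2
    have e2 : b + 1 ≤ b₀ := by exact_mod_cast h1
    omega
  have huniv : Z₀ = Set.univ := by
    apply Set.eq_univ_of_univ_subset
    intro x _
    rw [← hall _ (irreducibleComponent_mem_irreducibleComponents x)]
    exact mem_irreducibleComponent
  exact conclude_of_eq_univ k f hf d Z₀ hZ₀ hd₀ (hcomp Z₀ hZ₀).2 huniv

end

theorem S14369 (k : Type u) [Field k]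
    {X Y : Scheme.{u}} (qX : X ⟶ Spec (CommRingCat.of k)) (qY : Y ⟶ Spec (CommRingCat.of k))
    [LocallyOfFiniteType qX] [QuasiCompact qX] [LocallyOfFiniteType qY] [QuasiCompact qY]
    (f : X ⟶ Y) (hf : f ≫ qY = qX) [IrreducibleSpace ↥Y] (hcl : IsClosedMap f.base) (d : ℕ)
    (hirr : ∀ y : ↥Y, IsClosed ({y} : Set ↥Y) → IsIrreducible (f.base ⁻¹' {y}))
    (hdim : ∀ y : ↥Y, IsClosed ({y} : Set ↥Y) → topologicalKrullDim ↥(f.base ⁻¹' {y}) = d) :
    IrreducibleSpace ↥X ∧ topologicalKrullDim ↥X = d + topologicalKrullDim ↥Y := by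
  letI : X.Over (Spec (CommRingCat.of k)) := ⟨qX⟩
  letI : Y.Over (Spec (CommRingCat.of k)) := ⟨qY⟩
  haveI : LocallyOfFiniteType (X ↘ Spec (CommRingCat.of k)) := ‹LocallyOfFiniteType qX›
  haveI : LocallyOfFiniteType (Y ↘ Spec (CommRingCat.of k)) := ‹LocallyOfFiniteType qY›
  haveI : CompactSpace X := (quasiCompact_iff_compactSpace qX).1 inferInstance
  haveI : CompactSpace Y := (quasiCompact_iff_compactSpace qY).1 inferInstance
  exact closedMap_version k f hf hcl d hirr hdim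

theorem S14370 (k : Type u) [Field k]
    {X Y : Scheme.{u}} (qX : X ⟶ Spec (CommRingCat.of k)) (qY : Y ⟶ Spec (CommRingCat.of k))
    [LocallyOfFiniteType qX] [QuasiCompact qX] [LocallyOfFiniteType qY] [QuasiCompact qY]
    (f : X ⟶ Y) (hf : f ≫ qY = qX) [IrreducibleSpace ↥Y]
    (hpure : ∀ Z ∈ irreducibleComponents (↥X), topologicalKrullDim ↥Z = topologicalKrullDim ↥X)
    (d : ℕ)
    (hirr : ∀ y : ↥Y, IsClosed ({y} : Set ↥Y) → IsIrreducible (f.base ⁻¹' {y}))
    (hdim : ∀ y : ↥Y, IsClosed ({y} : Set ↥Y) → topologicalKrullDim ↥(f.base ⁻¹' {y}) = d) :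
    IrreducibleSpace ↥X ∧ topologicalKrullDim ↥X = d + topologicalKrullDim ↥Y := by
  letI : X.Over (Spec (CommRingCat.of k)) := ⟨qX⟩
  letI : Y.Over (Spec (CommRingCat.of k)) := ⟨qY⟩
  haveI : LocallyOfFiniteType (X ↘ Spec (CommRingCat.of k)) := ‹LocallyOfFiniteType qX›
  haveI : LocallyOfFiniteType (Y ↘ Spec (CommRingCat.of k)) := ‹LocallyOfFiniteType qY›
  haveI : CompactSpace X := (quasiCompact_iff_compactSpace qX).1 inferInstance
  haveI : CompactSpace Y := (quasiCompact_iff_compactSpace qY).1 inferInstance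
  exact pure_version k f hf hpure d hirr hdim

theorem S10914 (k : Type u) [Field k] {X Y : Scheme.{u}}
    (pX : X ⟶ Spec (CommRingCat.of k)) (pY : Y ⟶ Spec (CommRingCat.of k)) [IsProper pX] [IsProper pY]
    (f : X ⟶ Y) (hf : f ≫ pY = pX)
    [IrreducibleSpace ↥Y] (m : ℕ)
    (hirr : ∀ y : ↥Y, IsClosed ({y} : Set ↥Y) → IrreducibleSpace ↥(f.fiber y))
    (hdim : ∀ y : ↥Y, IsClosed ({y} : Set ↥Y) → topologicalKrullDim ↥(f.fiber y) = m) :
    IrreducibleSpace ↥X ∧ topologicalKrullDim ↥X = topologicalKrullDim ↥Y + m := by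
  letI : X.Over (Spec (CommRingCat.of k)) := ⟨pX⟩
  letI : Y.Over (Spec (CommRingCat.of k)) := ⟨pY⟩
  haveI : LocallyOfFiniteType (X ↘ Spec (CommRingCat.of k)) :=
    inferInstanceAs (LocallyOfFiniteType pX)
  haveI : LocallyOfFiniteType (Y ↘ Spec (CommRingCat.of k)) :=
    inferInstanceAs (LocallyOfFiniteType pY)
  haveI : CompactSpace X := (quasiCompact_iff_compactSpace pX).1 inferInstance
  haveI : CompactSpace Y := (quasiCompact_iff_compactSpace pY).1 inferInstance
  haveI : IsProper (f ≫ pY) := by rw [hf]; infer_instance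
  haveI : IsProper f := IsProper.of_comp f pY
  have hcl : IsClosedMap f := f.isClosedMap
  have hirr' : ∀ y : Y, IsClosed ({y} : Set Y) → IsIrreducible (f ⁻¹' {y}) := by
    intro y hy
    haveI := hirr y hy
    haveI : IrreducibleSpace ↥(f ⁻¹' {y}) :=
      IrredFibresTop.irreducibleSpace_of_homeomorph (f.fiberHomeo y)
    exact isIrreducible_iff_irreducibleSpace.2 inferInstance
  have hdim' : ∀ y : Y, IsClosed ({y} : Set Y) → topologicalKrullDim ↥(f ⁻¹' {y}) = m := by
    intro y hy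
    rw [← hdim y hy]
    exact (IsHomeomorph.topologicalKrullDim_eq _ (f.fiberHomeo y).isHomeomorph).symm
  have := closedMap_version k f hf hcl m hirr' hdim'
  rw [add_comm] at this
  exact this

theorem S14378 (k : Type u) [Field k]
    {X Y : Scheme.{u}} (qX : X ⟶ Spec (CommRingCat.of k)) (qY : Y ⟶ Spec (CommRingCat.of k))
    [LocallyOfFiniteType qX] [QuasiCompact qX] [LocallyOfFiniteType qY] [QuasiCompact qY]
    (f : X ⟶ Y) (hf : f ≫ qY = qX) [IrreducibleSpace ↥Y] (d : ℕ)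
    (hirr : ∀ y : ↥Y, IsClosed ({y} : Set ↥Y) → IsIrreducible (f.base ⁻¹' {y}))
    (hdim : ∀ y : ↥Y, IsClosed ({y} : Set ↥Y) → topologicalKrullDim ↥(f.base ⁻¹' {y}) = d) :
    (∃! Z : Set ↥X, Z ∈ irreducibleComponents ↥X ∧ Dense (f.base '' Z)) ∧
      ∀ Z ∈ irreducibleComponents ↥X,
        (∀ y : ↥Y, IsClosed ({y} : Set ↥Y) → (f.base ⁻¹' {y} ∩ Z).Nonempty → f.base ⁻¹' {y} ⊆ Z) ∧
        topologicalKrullDim ↥Z = d + topologicalKrullDim ↥(closure (f.base '' Z)) := by
  letI : X.Over (Spec (CommRingCat.of k)) := ⟨qX⟩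
  letI : Y.Over (Spec (CommRingCat.of k)) := ⟨qY⟩
  haveI : LocallyOfFiniteType (X ↘ Spec (CommRingCat.of k)) := ‹LocallyOfFiniteType qX›
  haveI : LocallyOfFiniteType (Y ↘ Spec (CommRingCat.of k)) := ‹LocallyOfFiniteType qY›
  haveI : CompactSpace X := (quasiCompact_iff_compactSpace qX).1 inferInstance
  haveI : CompactSpace Y := (quasiCompact_iff_compactSpace qY).1 inferInstance
  exact core k f hf d hirr hdim

end Groth.Agent.Lib.lead.IrredFibres
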