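import Mathlib
import Groth.Agent.Lib.lead.IrredFibres

set_option autoImplicit false
set_option linter.style.haveILetI false
universe u
open CategoryTheory CategoryTheory.Limits AlgebraicGeometry Topology TopologicalSpace

namespace Groth.Agent.Lib.lead.IrredGenFibre

theorem main {k : Type u} [Field k]
    (Y Z : Scheme.{u}) (g : Z ⟶ Spec (CommRingCat.of k)) (f : Y ⟶ Z)
    [LocallyOfFiniteType g] [QuasiCompact g] [LocallyOfFiniteType f] [QuasiCompact f]
    [IrreducibleSpace Z]
    (hgen : ∃ V : Z.Opens, (V : Set Z).Nonempty ∧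
      ∀ z ∈ V, IsClosed ({z} : Set Z) → IsIrreducible (f.base ⁻¹' {z}))
    (hdom : ∀ W ∈ irreducibleComponents Y, Dense (f.base '' W)) :
    IrreducibleSpace Y := by
  obtain ⟨V, hVne, hV⟩ := hgen
  haveI : IsLocallyNoetherian Z := LocallyOfFiniteType.isLocallyNoetherian g
  haveI : CompactSpace Z := (quasiCompact_iff_compactSpace g).1 inferInstance
  haveI : IsNoetherian Z := {}
  haveI : IsLocallyNoetherian Y := LocallyOfFiniteType.isLocallyNoetherian (f ≫ g)
  haveI : CompactSpace Y := (quasiCompact_iff_compactSpace (f ≫ g)).1 inferInstance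
  haveI : IsNoetherian Y := {}
  haveI : JacobsonSpace Z := LocallyOfFiniteType.jacobsonSpace g
  have hfin : (irreducibleComponents Y).Finite := NoetherianSpace.finite_irreducibleComponents
  -- for each component, a nonempty open of `Z` in the image of its open part
  have key : ∀ W ∈ irreducibleComponents Y, ∃ U : Set Y, IsOpen U ∧ U ⊆ W ∧
      (∀ W' ∈ irreducibleComponents Y, W' ≠ W → Disjoint U W') ∧
      ∃ O : Set Z, IsOpen O ∧ O.Nonempty ∧ O ⊆ f '' U := by
    intro W hW
    obtain ⟨U, hUo, hUne, hUW, hUd⟩ := IrredFibres.exists_open_in_component hfin W hW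
    refine ⟨U, hUo, hUW, hUd, ?_⟩
    have hE : IsConstructible (f '' U) := f.isConstructible_image
      (helper11.ConstrTop.isConstructible_of_isOpen hUo)
    have hWU : W ⊆ closure U := by
      have := helper11.ConstrTop.subset_closure_of_open_inter hW.1 hUo
        (by rwa [Set.inter_eq_left.2 hUW])
      rwa [Set.inter_eq_left.2 hUW] at this
    have hdense : Dense (f '' U) := by
      have h1 : f '' W ⊆ closure (f '' U) :=
        (Set.image_mono hWU).trans (image_closure_subset_closure_image f.continuous)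
      have h2 := (hdom W hW).closure_eq
      rw [dense_iff_closure_eq, ← Set.univ_subset_iff, ← h2]
      exact closure_minimal h1 isClosed_closure
    obtain ⟨O, hOo, hOne, hOE⟩ := helper11.ConstrTop.exists_open_of_dense hE
      (IrreducibleSpace.isIrreducible_univ Z) (by rw [Set.inter_univ, hdense.closure_eq])
    rw [Set.inter_univ] at hOne hOE
    exact ⟨O, hOo, hOne, hOE⟩
  -- `Y` is nonempty
  obtain ⟨z₀, hz₀V, hz₀cl⟩ := nonempty_inter_closedPoints hVne V.isOpen.isLocallyClosed
  obtain ⟨y₀, -⟩ := (hV z₀ hz₀V hz₀cl).nonempty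
  -- all components coincide
  have hall : ∀ W ∈ irreducibleComponents Y, W = irreducibleComponent y₀ := by
    intro W₂ hW₂
    set W₁ := irreducibleComponent y₀ with hW₁def
    have hW₁ : W₁ ∈ irreducibleComponents Y := irreducibleComponent_mem_irreducibleComponents y₀
    by_contra hne
    obtain ⟨U₁, hU₁o, hU₁W, hU₁d, O₁, hO₁o, hO₁ne, hO₁⟩ := key W₁ hW₁
    obtain ⟨U₂, hU₂o, hU₂W, hU₂d, O₂, hO₂o, hO₂ne, hO₂⟩ := key W₂ hW₂
    -- a closed point in `V ∩ O₁ ∩ O₂`
    have hne3 : ((V : Set Z) ∩ (O₁ ∩ O₂)).Nonempty := by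
      have h12 : (O₁ ∩ O₂).Nonempty := nonempty_preirreducible_inter hO₁o hO₂o hO₁ne hO₂ne
      exact nonempty_preirreducible_inter V.isOpen (hO₁o.inter hO₂o) hVne h12
    obtain ⟨z, ⟨hzV, hzO₁, hzO₂⟩, hzcl⟩ := nonempty_inter_closedPoints hne3
      (V.isOpen.inter (hO₁o.inter hO₂o)).isLocallyClosed
    have hirr := hV z hzV hzcl
    obtain ⟨y₁, hy₁U, hy₁⟩ := hO₁ hzO₁
    obtain ⟨y₂, hy₂U, hy₂⟩ := hO₂ hzO₂
    -- the fibre lies in a single component
    have hsub : f ⁻¹' {z} ⊆ ⋃₀ (hfin.toFinset : Set (Set Y)) := by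
      intro y _
      exact ⟨irreducibleComponent y, by
        rw [Finset.mem_coe, Set.Finite.mem_toFinset]
        exact irreducibleComponent_mem_irreducibleComponents y, mem_irreducibleComponent⟩
    obtain ⟨W, hW, hFW⟩ := (isIrreducible_iff_sUnion_isClosed.1 hirr) hfin.toFinset
      (fun W hW => isClosed_of_mem_irreducibleComponents W (hfin.mem_toFinset.1 hW)) hsub
    have hW' : W ∈ irreducibleComponents Y := hfin.mem_toFinset.1 hW
    have h1 : W = W₁ := by
      by_contra h
      exact Set.disjoint_left.1 (hU₁d W hW' h) hy₁U (hFW hy₁)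
    have h2 : W = W₂ := by
      by_contra h
      exact Set.disjoint_left.1 (hU₂d W hW' h) hy₂U (hFW hy₂)
    exact hne (h2.symm.trans h1)
  rw [irreducibleSpace_def]
  have huniv : irreducibleComponent y₀ = Set.univ := by
    apply Set.eq_univ_of_univ_subset
    intro y _
    rw [← hall _ (irreducibleComponent_mem_irreducibleComponents y)]
    exact mem_irreducibleComponent
  have := isIrreducible_irreducibleComponent (x := y₀)
  rwa [huniv] at this


end Groth.Agent.Lib.lead.IrredGenFibre
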