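import Groth.Prelude.Def_W4c2quivmodsheafKron
import Mathlib.LinearAlgebra.Dimension.Finrank
import Mathlib.LinearAlgebra.FiniteDimensional.Defs
import Mathlib.LinearAlgebra.FiniteDimensional.Lemmas
import Mathlib.LinearAlgebra.Dimension.Constructions
import Mathlib.LinearAlgebra.Pi

/-! Helper lemmas on Kronecker modules (lead seat). -/

set_option autoImplicit false
universe u v w
set_option linter.unusedSectionVars false

namespace Groth.Agent.KronLib

open KronMod Module

variable {K : Type u} [Field K] {V : Type v} {W : Type w}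
  [AddCommGroup V] [Module K V] [AddCommGroup W] [Module K W] {n : ℕ}

/-- The sum map `Vⁿ → W`, `(v_j) ↦ Σ f_j v_j`. -/
noncomputable def Φ (f : Fin n → (V →ₗ[K] W)) : (Fin n → V) →ₗ[K] W :=
  ∑ j, (f j).comp (LinearMap.proj j)

lemma Φ_apply (f : Fin n → (V →ₗ[K] W)) (v : Fin n → V) : Φ f v = ∑ j, f j (v j) := by
  simp [Φ]

lemma Φ_single (f : Fin n → (V →ₗ[K] W)) (j : Fin n) (v : V) : Φ f (Pi.single j v) = f j v := by
  classical
  rw [Φ_apply, Finset.sum_eq_single j]
  · simp
  · intro b _ hb; simp [Pi.single_eq_of_ne hb]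
  · simp

lemma isSubrep_top_range (f : Fin n → (V →ₗ[K] W)) : IsSubrep f ⊤ (LinearMap.range (Φ f)) := by
  intro j w hw
  obtain ⟨v, -, rfl⟩ := hw
  exact ⟨Pi.single j v, Φ_single f j v⟩

variable [FiniteDimensional K V] [FiniteDimensional K W]

lemma finrank_pi : finrank K (Fin n → V) = n * finrank K V := by
  simp [Module.finrank_pi_fintype]

lemma finrank_range_Φ_le (f : Fin n → (V →ₗ[K] W)) :
    finrank K (LinearMap.range (Φ f)) ≤ n * finrank K V := by
  rw [← finrank_pi (K := K) (V := V) (n := n)]
  exact LinearMap.finrank_range_le _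

/-- the restriction of `Φ f` to `(V')ⁿ` lands in `W'` for a subrepresentation. -/
lemma Φ_mem_of_isSubrep (f : Fin n → (V →ₗ[K] W)) {V' : Submodule K V} {W' : Submodule K W}
    (h : IsSubrep f V' W') (v : Fin n → V) (hv : ∀ j, v j ∈ V') : Φ f v ∈ W' := by
  rw [Φ_apply]
  exact Submodule.sum_mem _ fun j _ => h j ⟨v j, hv j, rfl⟩

end Groth.Agent.KronLib

namespace Groth.Agent.KronLib

open KronMod Module

variable {K : Type u} [Field K] {V : Type v} {W : Type w}
  [AddCommGroup V] [Module K V] [AddCommGroup W] [Module K W] {n : ℕ}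
  [FiniteDimensional K V] [FiniteDimensional K W]

/-- if `Φ f` is injective then `n · dim V' ≤ dim W'` for every subrepresentation. -/
lemma mul_finrank_le_of_injective (f : Fin n → (V →ₗ[K] W)) (hinj : Function.Injective (Φ f))
    {V' : Submodule K V} {W' : Submodule K W} (h : IsSubrep f V' W') :
    n * finrank K V' ≤ finrank K W' := by
  let ι : (Fin n → V') →ₗ[K] (Fin n → V) := LinearMap.pi fun j => V'.subtype.comp (LinearMap.proj j)
  have hι : Function.Injective ι := by
    intro a b hab
    funext j
    have := congr_fun hab j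
    exact Subtype.ext this
  let g : (Fin n → V') →ₗ[K] W' := LinearMap.codRestrict W' ((Φ f).comp ι)
    (fun v => Φ_mem_of_isSubrep f h _ (fun j => (v j).2))
  have hg : Function.Injective g := by
    intro a b hab
    have : (Φ f) (ι a) = (Φ f) (ι b) := congrArg Subtype.val hab
    exact hι (hinj this)
  have := LinearMap.finrank_le_finrank_of_injective hg
  rwa [finrank_pi] at this

/-- semistability forces `Φ f` to be surjective when `dim V > 0` and `dim W ≤ n dim V`... in fact always
when `dim V > 0`. -/
lemma surjective_Φ_of_isSemistable (f : Fin n → (V →ₗ[K] W)) (hV : 0 < finrank K V)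
    (hss : IsSemistable f) : Function.Surjective (Φ f) := by
  rw [← LinearMap.range_eq_top]
  by_contra hne
  have hVtop : (⊤ : Submodule K V) ≠ ⊥ := by
    intro e
    have : finrank K (⊤ : Submodule K V) = 0 := by rw [e]; simp
    rw [finrank_top] at this; omega
  have := hss.2 ⊤ _ (isSubrep_top_range f) (fun e => hVtop e.1) (fun e => hne e.2)
  rw [finrank_top, mul_comm] at this
  have h2 : finrank K W ≤ finrank K (LinearMap.range (Φ f)) := Nat.le_of_mul_le_mul_left this hV
  exact hne (Submodule.eq_top_of_finrank_eq (le_antisymm (Submodule.finrank_le _) h2))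

end Groth.Agent.KronLib

namespace Groth.Agent.KronLib

open KronMod Module

variable {K : Type u} [Field K] {V : Type v} {W : Type w}
  [AddCommGroup V] [Module K V] [AddCommGroup W] [Module K W] {n : ℕ}
  [FiniteDimensional K V] [FiniteDimensional K W]

/-- every subspace `V'` is the source part of a subrepresentation `(V', W')` with
`dim W' ≤ n dim V'`. -/
lemma exists_subrep_finrank_le (f : Fin n → (V →ₗ[K] W)) (V' : Submodule K V) :
    ∃ W' : Submodule K W, IsSubrep f V' W' ∧ finrank K W' ≤ n * finrank K V' := by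
  classical
  let ι : (Fin n → V') →ₗ[K] (Fin n → V) := LinearMap.pi fun j => V'.subtype.comp (LinearMap.proj j)
  refine ⟨LinearMap.range ((Φ f).comp ι), ?_, ?_⟩
  · intro j w hw
    obtain ⟨v, hv, rfl⟩ := hw
    refine ⟨Pi.single j ⟨v, hv⟩, ?_⟩
    have : ι (Pi.single j ⟨v, hv⟩) = Pi.single j v := by
      funext i
      by_cases h : i = j
      · subst h; simp [ι]
      · simp [ι, Pi.single_eq_of_ne h]
    rw [LinearMap.comp_apply, this, Φ_single]
  · have := LinearMap.finrank_range_le ((Φ f).comp ι)
    rwa [finrank_pi] at this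

end Groth.Agent.KronLib
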