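import Mathlib
import Groth.Agent.Lib.lead.LimProper
import Groth.Agent.Lib.Helper13.NaOver
import Groth.Agent.S2076

set_option linter.style.haveILetI false
set_option autoImplicit false
universe u
open CategoryTheory CategoryTheory.Limits AlgebraicGeometry Opposite TopologicalSpace

namespace Groth.Agent.Lib.lead.LimProperB

open Groth.Agent.Lib.Helper13 Groth.Agent.Lib.Helper13.LimDescend Groth.Agent.Lib.Helper22
  Groth.Agent.Lib.lead.ChowR Groth.Agent.Lib.Helper13.NaOver

theorem eventually_isProper {I : Type u} [SmallCategory I] [IsCofiltered I] (S : Scheme.{u})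
    (D : I ⥤ Scheme.{u}) (t : D ⟶ (Functor.const I).obj S) (c : Limits.Cone D)
    (hc : Limits.IsLimit c)
    [∀ (i j : I) (a : i ⟶ j), IsAffineHom (D.map a)]
    [∀ i, CompactSpace (D.obj i)] [∀ i, QuasiSeparatedSpace (D.obj i)] (i₀ : I)
    {Y : Scheme.{u}} (h : Y ⟶ c.pt) [IsProper h]
    [LocallyOfFiniteType (h ≫ c.π.app i₀ ≫ t.app i₀)] :
    ∃ i₁ : I, ∀ (i : I) (_ : i ⟶ i₁), IsProper (h ≫ c.π.app i) := by
  haveI : ∀ i, IsAffineHom (c.π.app i) := fun i => isAffineHom_π_app D c hc i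
  haveI : CompactSpace c.pt := Scheme.compactSpace_of_isLimit D c hc
  haveI : CompactSpace Y := QuasiCompact.compactSpace_of_compactSpace h
  let a : Y ⟶ D.obj i₀ := h ≫ c.π.app i₀
  haveI : IsSeparated a := inferInstanceAs (IsSeparated (h ≫ c.π.app i₀))
  haveI : LocallyOfFiniteType (a ≫ t.app i₀) := by
    change LocallyOfFiniteType ((h ≫ c.π.app i₀) ≫ t.app i₀)
    rw [Category.assoc]; infer_instance
  haveI : LocallyOfFiniteType a := locallyOfFiniteType_of_comp a (t.app i₀)
  haveI : QuasiCompact a := inferInstance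
  obtain ⟨n, Y', π, ι, hι, hcomm, hπ, hsurj⟩ := hasChow_qcqs a
  let P₀ := CohB1.ProjSpaceOver n (D.obj i₀)
  let t₀ : P₀ ⟶ D.obj i₀ := CohB1.ProjSpaceOver.toBase n (D.obj i₀)
  haveI : IsProper t₀ := Groth.Agent.Lib.Helper28.ProjSpaceBasic.isProper_toBase n _
  haveI : CompactSpace P₀ := QuasiCompact.compactSpace_of_compactSpace t₀
  let E' := bcDiag D i₀ t₀
  let e' := bcCone D c i₀ t₀
  have he' : IsLimit e' := bcIsLimit D hc i₀ t₀
  haveI : ∀ (k k' : Over i₀) (φ : k ⟶ k'), IsAffineHom (E'.map φ) := fun _ _ φ => inferInstance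
  haveI : ∀ k : Over i₀, CompactSpace (E'.obj k) := fun k => inferInstance
  -- the map to the limit
  let r : e'.pt ⟶ c.pt := pullback.fst (c.π.app i₀) t₀
  let f : e'.pt ⟶ P₀ := pullback.snd (c.π.app i₀) t₀
  haveI : IsProper r := inferInstanceAs (IsProper (pullback.fst (c.π.app i₀) t₀))
  let ιL : Y' ⟶ e'.pt := pullback.lift (π ≫ h) ι (by rw [Category.assoc]; exact hcomm.symm)
  have h1 : ιL ≫ r = π ≫ h := pullback.lift_fst _ _ _
  have h2 : ιL ≫ f = ι := pullback.lift_snd _ _ _
  haveI : IsImmersion ιL := by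
    haveI : IsImmersion (ιL ≫ f) := by rw [h2]; exact hι
    exact IsImmersion.of_comp ιL f
  haveI : IsProper ιL := by
    haveI : IsProper (ιL ≫ r) := by rw [h1]; infer_instance
    exact IsProper.of_comp ιL r
  haveI : IsClosedImmersion ιL :=
    IsClosedImmersion.of_isPreimmersion _ ιL.isClosedMap.isClosed_range
  -- the system over P₀
  let s : E' ⟶ (Functor.const (Over i₀)).obj P₀ :=
    { app := fun k => pullback.snd (D.map k.hom) t₀
      naturality := fun k k' φ => by
        simp only [Functor.const_obj_obj, Functor.const_obj_map, Category.comp_id]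
        exact bcDiag_map_snd D i₀ t₀ φ }
  have hf : ∀ k, e'.π.app k ≫ s.app k = f := fun k => bcCone_π_snd D c i₀ t₀ k
  haveI : IsConnected (Over i₀) := IsCofiltered.isConnected _
  haveI : ∀ (k k' : Over i₀) (φ : k ⟶ k'), IsAffineHom ((overDiag E' s).map φ).left :=
    fun k k' φ => inferInstanceAs (IsAffineHom (E'.map φ))
  haveI : ∀ k, CompactSpace ((overDiag E' s).obj k).left :=
    fun k => inferInstanceAs (CompactSpace (E'.obj k))
  let ι' : Y' ⟶ (overCone E' s e'.π f hf).pt.left := ιL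
  haveI : IsClosedImmersion ι' := inferInstanceAs (IsClosedImmersion ιL)
  haveI : LocallyOfFiniteType (ι' ≫ (overCone E' s e'.π f hf).pt.hom) := by
    change LocallyOfFiniteType (ιL ≫ f)
    rw [h2]; infer_instance
  obtain ⟨k, hk⟩ := Groth.Agent.S2076.result P₀ (overDiag E' s) (overCone E' s e'.π f hf)
    (overIsLimit E' s e'.π f hf he') (Y := Y') ι'
  have hk' : IsClosedImmersion (ιL ≫ e'.π.app k) := hk
  refine ⟨k.left, fun i φ => ?_⟩
  let k' : Over i₀ := Over.mk (φ ≫ k.hom)
  let ψ : k' ⟶ k := Over.homMk φ rfl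
  haveI : IsClosedImmersion (ιL ≫ e'.π.app k') := by
    haveI : IsClosedImmersion ((ιL ≫ e'.π.app k') ≫ E'.map ψ) := by
      rw [Category.assoc, e'.w ψ]; exact hk'
    exact IsClosedImmersion.of_comp (ιL ≫ e'.π.app k') (E'.map ψ)
  let rk : E'.obj k' ⟶ D.obj i := pullback.fst (D.map k'.hom) t₀
  haveI : IsProper rk := inferInstanceAs (IsProper (pullback.fst (D.map k'.hom) t₀))
  have hrk : e'.π.app k' ≫ rk = r ≫ c.π.app i := bcCone_π_fst D c i₀ t₀ k'
  haveI : IsProper (π ≫ h ≫ c.π.app i) := by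
    have : π ≫ h ≫ c.π.app i = (ιL ≫ e'.π.app k') ≫ rk := by
      rw [Category.assoc, hrk, ← Category.assoc ιL, h1, Category.assoc]
    rw [this]; infer_instance
  haveI : UniversallyClosed (h ≫ c.π.app i) := UniversallyClosed.of_comp_surjective π _
  haveI : LocallyOfFiniteType (h ≫ c.π.app i) := by
    haveI : LocallyOfFiniteType ((h ≫ c.π.app i) ≫ D.map k'.hom) := by
      rw [Category.assoc, c.w]; exact inferInstanceAs (LocallyOfFiniteType a)
    exact locallyOfFiniteType_of_comp (h ≫ c.π.app i) (D.map k'.hom)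
  exact { }

end Groth.Agent.Lib.lead.LimProperB
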