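import Mathlib
import Groth.Agent.Lib.Helper3.AlgSpLocSrc2
import Groth.Agent.Lib.Helper3.AlgSpFpqcChart

set_option autoImplicit false
universe u
open CategoryTheory CategoryTheory.Limits AlgebraicGeometry Opposite MorphismProperty

namespace Groth.Agent.Lib.lead.LocSrcGen

open AlgSp Groth.Agent.Lib.Helper3

variable {S : Scheme.{u}}

/-- Forward direction: precomposition with a `LocP Q` morphism keeps `LocP P`, provided `P` is
stable under precomposition with `Q`-morphisms and can be checked on surjective etale covers of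
the source. -/
theorem locP_comp_of {P Q : MorphismProperty Scheme.{u}}
    (c1 : ∀ {A B C : Scheme.{u}} (p : A ⟶ B) (h : B ⟶ C), Q p → P h → P (p ≫ h))
    (c2 : ∀ {A B C : Scheme.{u}} (π : A ⟶ B) (h : B ⟶ C), Etale π → Surjective π →
      P (π ≫ h) → P h)
    {X' X Y : Sp S} (hX : IsAlgSpace X) (hY : IsAlgSpace Y) (g : X' ⟶ X) (f : X ⟶ Y)
    (hg : LocP Q g) (hf : LocP P f) : LocP P (g ≫ f) := by
  intro U V a b h hae hbe w
  obtain ⟨W', c', r, hce, hcs, hce1, -, hr, hw'⟩ := exists_chart_over hX hY f b hbe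
  have hPr : P r.left := hf _ b r hce1 hbe hw'
  let t : (yon S).obj U ⟶ pullback f b := pullback.lift (a ≫ g) ((yon S).map h)
    (by rw [Category.assoc]; exact w)
  have sq := hce.rep.isPullback t
  obtain ⟨s, hs⟩ := (yon S).map_surjective (hce.rep.fst t)
  rw [← hs] at sq
  have hπe : Etale (hce.rep.snd t).left := hce.property_snd t
  have hπs : Surjective (hce.rep.snd t).left := hcs.property t _ _ sq
  have hQs : Q s.left := by
    refine hg ((yon S).map (hce.rep.snd t) ≫ a) (c' ≫ pullback.fst f b) s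
      (MorphismProperty.comp_mem _ _ _ ((repWith_yon_map_iff _ _).2 hπe) hae) hce1 ?_
    rw [← Category.assoc, sq.w, Category.assoc, Category.assoc, pullback.lift_fst]
  have heq : s ≫ r = hce.rep.snd t ≫ h := by
    apply (yon S).map_injective
    rw [Functor.map_comp, Functor.map_comp, hr, ← Category.assoc, sq.w, Category.assoc,
      pullback.lift_snd]
  have h1 : P (s.left ≫ r.left) := c1 _ _ hQs hPr
  rw [← Over.comp_left, heq, Over.comp_left] at h1
  exact c2 _ _ hπe hπs h1

/-- Backward direction, the family of schemes: for a chart diagram `(a, b, h)` of `f` and a family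
`g i : Xi i ⟶ X` with `LocP Q (g i)` and `LocP P (g i ≫ f)`, pulling back atlases of the `Xi i` to
`U` gives a family `p i : T i ⟶ U` of `Q`-morphisms with `P (p i ≫ h)`. -/
theorem exists_family {P Q : MorphismProperty Scheme.{u}} {ι : Type u} {X Y : Sp S}
    (Xi : ι → Sp S) (g : ∀ i, Xi i ⟶ X) (hXi : ∀ i, IsAlgSpace (Xi i))
    (hgQ : ∀ i, LocP Q (g i)) (f : X ⟶ Y) (hf : ∀ i, LocP P (g i ≫ f))
    {U V : Over S} (a : (yon S).obj U ⟶ X) (b : (yon S).obj V ⟶ Y) (h : U ⟶ V)
    (hae : RepWith @Etale a) (hbe : RepWith @Etale b) (w : a ≫ f = (yon S).map h ≫ b) :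
    ∃ (A : ι → Over S) (c : ∀ i, (yon S).obj (A i) ⟶ Xi i) (T : ι → Over S)
      (p : ∀ i, T i ⟶ U) (s : ∀ i, T i ⟶ A i),
      (∀ i, RepWith @Etale (c i)) ∧ (∀ i, RepWith @Surjective (c i)) ∧
      (∀ i, IsPullback ((yon S).map (p i)) ((yon S).map (s i)) a (c i ≫ g i)) ∧
      (∀ i, Etale (s i).left) ∧
      (∀ i, Q (p i).left) ∧ (∀ i, P ((p i).left ≫ h.left)) := by
  choose A c hce hcs using fun i => (hXi i).atlas
  have sqT := fun i => hae.rep.isPullback (c i ≫ g i)
  have hq : ∀ i, Etale (hae.rep.snd (c i ≫ g i)).left := fun i => hae.property_snd _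
  choose p hp using fun i => (yon S).map_surjective (hae.rep.fst (c i ≫ g i))
  have sqT' : ∀ i, IsPullback ((yon S).map (p i)) ((yon S).map (hae.rep.snd (c i ≫ g i))) a
      (c i ≫ g i) := fun i => by rw [hp i]; exact sqT i
  have hae' : ∀ i, RepWith @Etale ((yon S).map (hae.rep.snd (c i ≫ g i)) ≫ c i) := fun i =>
    MorphismProperty.comp_mem _ _ _ ((repWith_yon_map_iff _ _).2 (hq i)) (hce i)
  refine ⟨A, c, fun i => hae.rep.pullback (c i ≫ g i), p, fun i => hae.rep.snd (c i ≫ g i),
    hce, hcs, sqT', hq, fun i => ?_, fun i => ?_⟩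
  · exact hgQ i ((yon S).map (hae.rep.snd (c i ≫ g i)) ≫ c i) a (p i) (hae' i) hae (by
      rw [Category.assoc]; exact (sqT' i).w.symm)
  · have := hf i ((yon S).map (hae.rep.snd (c i ≫ g i)) ≫ c i) b (p i ≫ h) (hae' i) hbe (by
      rw [Functor.map_comp, Category.assoc ((yon S).map (p i)), ← w,
        ← Category.assoc ((yon S).map (p i)), (sqT' i).w]
      simp only [Category.assoc])
    rwa [Over.comp_left] at this

/-- The family of `exists_family` is jointly surjective if the `g i` are jointly surjective on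
points. -/
theorem jointly_surjective_of_isPullback {ι : Type u} {X : Sp S}
    (Xi : ι → Sp S) (g : ∀ i, Xi i ⟶ X)
    (hgs : ∀ x : Points X, ∃ i, x ∈ Set.range (Points.map (g i)))
    {U : Over S} (a : (yon S).obj U ⟶ X)
    (A : ι → Over S) (c : ∀ i, (yon S).obj (A i) ⟶ Xi i) (T : ι → Over S)
    (p : ∀ i, T i ⟶ U) (s : ∀ i, T i ⟶ A i)
    (hce : ∀ i, RepWith @Etale (c i)) (hcs : ∀ i, RepWith @Surjective (c i))
    (sq : ∀ i, IsPullback ((yon S).map (p i)) ((yon S).map (s i)) a (c i ≫ g i)) (x : ↥U.left) :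
    ∃ i, x ∈ Set.range (p i).left := by
  obtain ⟨i, n, hn⟩ := hgs (Points.map a (Points.schemeHomeo U x))
  obtain ⟨w, rfl⟩ := (S9906.repWith_surjective_iff (c i) (hcs i).rep).1 (hcs i) n
  obtain ⟨z, hz, -⟩ := Points.exists_of_isPullback (sq i) (Points.schemeHomeo U x) w (by
    rw [← hn]; exact (Points.map_comp _ _ w).symm)
  obtain ⟨t, rfl⟩ := (Points.schemeHomeo _).surjective z
  rw [Points.map_yon_map_apply] at hz
  exact ⟨i, t, (Points.schemeHomeo U).injective hz⟩

section SchemeSide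

variable {P : MorphismProperty Scheme.{u}}

/-- (c2) from etale-locality at the source. -/
theorem c2_of_etale [P.IsLocalAtSource Scheme.etalePrecoverage]
    {A B C : Scheme.{u}} (π : A ⟶ B) (h : B ⟶ C) (hπe : Etale π) (hπs : Surjective π)
    (hh : P (π ≫ h)) : P h := by
  refine IsLocalAtSource.of_forall_comp (K := Scheme.etalePrecoverage)
    (R := Presieve.singleton π) ?_ ?_
  · rw [Scheme.etalePrecoverage, Scheme.singleton_mem_precoverage_iff]
    exact ⟨hπs.surj, hπe⟩
  · rintro _ _ ⟨⟩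
    exact hh

/-- (c1) for a precoverage defined by a morphism property. -/
theorem c1_of_precoverage {Q : MorphismProperty Scheme.{u}} [Q.ContainsIdentities] [Q.RespectsIso]
    [P.IsLocalAtSource (Scheme.precoverage Q)]
    {A B C : Scheme.{u}} (p : A ⟶ B) (h : B ⟶ C) (hp : Q p) (hh : P h) : P (p ≫ h) :=
  (IsLocalAtSource.iff_of_zeroHypercover (P := P) (K := Scheme.precoverage Q)
    ((Scheme.coverOfIsIso.{u} (P := Q) (𝟙 B)).add p hp)).mp hh none

/-- (c3) for a precoverage defined by a morphism property. -/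
theorem c3_of_precoverage {Q : MorphismProperty Scheme.{u}}
    [P.IsLocalAtSource (Scheme.precoverage Q)]
    {ι : Type u} {U V : Scheme.{u}} (T : ι → Scheme.{u}) (p : ∀ i, T i ⟶ U) (h : U ⟶ V)
    (hQ : ∀ i, Q (p i)) (hs : ∀ x : U, ∃ i, x ∈ Set.range (p i))
    (hh : ∀ i, P (p i ≫ h)) : P h := by
  refine IsLocalAtSource.of_forall_comp (K := Scheme.precoverage Q)
    (R := Presieve.ofArrows T p) ?_ ?_
  · rw [Scheme.ofArrows_mem_precoverage_iff]
    exact ⟨hs, hQ⟩
  · rintro _ _ ⟨i⟩
    exact hh i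

/-- (c1) for the fpqc precoverage. -/
theorem c1_of_fpqc [P.IsLocalAtSource Scheme.fpqcPrecoverage]
    {A B C : Scheme.{u}} (p : A ⟶ B) (h : B ⟶ C) (hp : Flat p) (hh : P h) : P (p ≫ h) := by
  let 𝒰 := ((Scheme.coverOfIsIso.{u} (P := @Flat) (𝟙 B)).add p hp)
  have hqc : QuasiCompactCover 𝒰.toPreZeroHypercover := by
    refine ⟨fun {O} hO => ?_⟩
    refine IsCompactOpenCovered.of_finite (κ := Unit) (fun _ => some ⟨⟩) (fun _ => O)
      (fun _ => hO.isCompact) ?_
    ext x
    simp only [Set.iUnion_const, Set.mem_image, SetLike.mem_coe]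
    constructor
    · rintro ⟨y, hy, rfl⟩
      exact hy
    · intro hx
      exact ⟨x, hx, rfl⟩
  refine IsLocalAtSource.comp (K := Scheme.fpqcPrecoverage) (R := 𝒰.presieve₀)
    ⟨Scheme.presieve₀_mem_qcPrecoverage_iff.2 hqc, 𝒰.mem₀⟩ p ?_ hh
  exact Presieve.ofArrows.mk (ι := Option PUnit) none

/-- (c3) for the fpqc precoverage. -/
theorem c3_of_fpqc [P.IsLocalAtSource Scheme.fpqcPrecoverage]
    {ι : Type u} {U V : Scheme.{u}} (T : ι → Scheme.{u}) (p : ∀ i, T i ⟶ U) (h : U ⟶ V)
    (hQ : ∀ i, Flat (p i)) (hs : ∀ x : U, ∃ i, x ∈ Set.range (p i))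
    (hqc : QuasiCompactCover (S := U) ⟨ι, T, p⟩)
    (hh : ∀ i, P (p i ≫ h)) : P h := by
  refine IsLocalAtSource.of_forall_comp (K := Scheme.fpqcPrecoverage)
    (R := Presieve.ofArrows T p) ⟨?_, ?_⟩ ?_
  · exact (Scheme.presieve₀_mem_qcPrecoverage_iff (E := ⟨ι, T, p⟩)).2 hqc
  · rw [Scheme.ofArrows_mem_precoverage_iff]
    exact ⟨hs, hQ⟩
  · rintro _ _ ⟨i⟩
    exact hh i

end SchemeSide

/-- The family of `exists_family` is a quasi-compact cover if the `g i` admit standard fpqc
refinements over affines. -/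
theorem quasiCompactCover_of_stdRefinement {ι : Type u} {X : Sp S}
    (Xi : ι → Sp S) (g : ∀ i, Xi i ⟶ X) (hcov : HasStdRefinement Xi g)
    {U : Over S} (a : (yon S).obj U ⟶ X)
    (A : ι → Over S) (c : ∀ i, (yon S).obj (A i) ⟶ Xi i) (T : ι → Over S)
    (p : ∀ i, T i ⟶ U) (s : ∀ i, T i ⟶ A i)
    (hce : ∀ i, RepWith @Etale (c i)) (hcs : ∀ i, RepWith @Surjective (c i))
    (sq : ∀ i, IsPullback ((yon S).map (p i)) ((yon S).map (s i)) a (c i ≫ g i)) :
    QuasiCompactCover (S := U.left) ⟨ι, fun i => (T i).left, fun i => (p i).left⟩ := by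
  refine ⟨fun {O} hO => ?_⟩
  let Z : Over S := Over.mk (O.ι ≫ U.hom)
  let j : Z ⟶ U := Over.homMk O.ι rfl
  have hZ : IsAffine Z.left := hO
  obtain ⟨m, W, cc, hWa, -, hcsurj, hl⟩ := hcov Z hZ ((yon S).map j ≫ a)
  choose ik l hl using hl
  -- `R k = A (ik k) ×_{Xi (ik k)} W k`
  have sqR := fun k => (hce (ik k)).rep.isPullback (l k)
  have hρe : ∀ k, Etale ((hce (ik k)).rep.snd (l k)).left := fun k => (hce (ik k)).property_snd _
  have hρs : ∀ k, Surjective ((hce (ik k)).rep.snd (l k)).left := fun k =>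
    (hcs (ik k)).property (l k) _ _ (sqR k)
  choose σ hσ using fun k => (yon S).map_surjective ((hce (ik k)).rep.fst (l k))
  have hτ : ∀ k, ∃ τ : (hce (ik k)).rep.pullback (l k) ⟶ T (ik k),
      τ ≫ p (ik k) = (hce (ik k)).rep.snd (l k) ≫ cc k ≫ j := by
    intro k
    have hw : (yon S).map ((hce (ik k)).rep.snd (l k) ≫ cc k ≫ j) ≫ a =
        (yon S).map (σ k) ≫ c (ik k) ≫ g (ik k) := by
      rw [hσ k, ← Category.assoc _ (c (ik k)), (sqR k).w, Category.assoc, hl k,
        Functor.map_comp, Functor.map_comp]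
      simp only [Category.assoc]
    obtain ⟨τ, hτ⟩ := (yon S).map_surjective ((sq (ik k)).lift _ _ hw)
    refine ⟨τ, (yon S).map_injective ?_⟩
    rw [Functor.map_comp, hτ, IsPullback.lift_fst]
  choose τ hτ using hτ
  -- compact opens of `R k` surjecting onto `W k`
  have hV : ∀ k, ∃ V : ((hce (ik k)).rep.pullback (l k)).left.Opens, IsCompact V.1 ∧
      ((hce (ik k)).rep.snd (l k)).left '' V = Set.univ := by
    intro k
    have : CompactSpace ↥(W k).left := by
      have := hWa k
      infer_instance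
    exact IsOpenMap.exists_opens_image_eq_of_prespectralSpace
      ((hce (ik k)).rep.snd (l k)).left.continuous ((hce (ik k)).rep.snd (l k)).left.isOpenMap
      (fun x _ => (hρs k).surj x) isOpen_univ isCompact_univ
  choose Vk hVc hVs using hV
  refine IsCompactOpenCovered.of_comp (σ := Fin m)
    (Y := fun k => ↥((hce (ik k)).rep.pullback (l k)).left)
    (fun k => ((hce (ik k)).rep.snd (l k) ≫ cc k ≫ j).left) (a := ik)
    (fun k => (τ k).left) (fun k => (τ k).left.continuous) (fun k => ?_)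
    (fun i => (p i).left.continuous) O.2 ?_
  · rw [← hτ k, Over.comp_left]
    ext x
    simp
  · refine IsCompactOpenCovered.of_finite (κ := Fin m) (fun k => k) Vk hVc ?_
    ext x
    simp only [Set.mem_iUnion, Set.mem_image, SetLike.mem_coe]
    constructor
    · rintro ⟨k, y, -, rfl⟩
      rw [Over.comp_left, Over.comp_left, Scheme.Hom.comp_apply, Scheme.Hom.comp_apply]
      exact ((cc k).left (((hce (ik k)).rep.snd (l k)).left y)).2
    · intro hx
      obtain ⟨k, w, hw⟩ := hcsurj ⟨x, hx⟩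
      have : w ∈ ((hce (ik k)).rep.snd (l k)).left '' (Vk k) := by rw [hVs k]; trivial
      obtain ⟨y, hy, rfl⟩ := this
      refine ⟨k, y, hy, ?_⟩
      rw [Over.comp_left, Over.comp_left, Scheme.Hom.comp_apply, Scheme.Hom.comp_apply, hw]
      rfl

/-- `LocP P` is local on the source for coverings by morphisms with `LocP Q`, as soon as `P` is
local at the source for the precoverage of jointly surjective `Q`-families of schemes. -/
theorem isLocalOnSource_of_precoverage {P Q : MorphismProperty Scheme.{u}}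
    [Q.ContainsIdentities] [Q.RespectsIso] [P.IsLocalAtSource (Scheme.precoverage Q)]
    (hQ : @Etale ≤ Q) (R : MorphismProperty (Sp S))
    (hR : ∀ {X Y : Sp S} (f : X ⟶ Y), R f → LocP Q f) :
    IsLocalOnSource (fun _ _ Y g => IsCover R Y g) (LocP P) := by
  have : P.IsLocalAtSource Scheme.etalePrecoverage :=
    IsLocalAtSource.of_le (L := Scheme.precoverage Q) (Scheme.precoverage_mono hQ)
  intro ι X Xi g hX hXi hcov Y f hY
  constructor
  · intro hf i
    exact locP_comp_of (Q := Q) (fun p h hp hh => c1_of_precoverage p h hp hh)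
      (fun π h hπe hπs hh => c2_of_etale π h hπe hπs hh) hX hY (g i) f (hR _ (hcov.1 i)) hf
  · intro hf U V a b h hae hbe w
    obtain ⟨A, c, T, p, s, hce, hcs, sq, -, hQp, hPp⟩ :=
      exists_family (Q := Q) Xi g hXi (fun i => hR _ (hcov.1 i)) f hf a b h hae hbe w
    exact c3_of_precoverage (Q := Q) (fun i => (T i).left) (fun i => (p i).left) h.left hQp
      (jointly_surjective_of_isPullback Xi g hcov.2 a A c T p s hce hcs sq) hPp

/-- The fpqc case. -/
theorem isLocalOnSource_fpqc {P : MorphismProperty Scheme.{u}}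
    [P.IsLocalAtSource Scheme.fpqcPrecoverage] :
    IsLocalOnSource (IsFpqcCover (S := S)) (LocP P) := by
  have : P.IsLocalAtSource Scheme.etalePrecoverage :=
    IsLocalAtSource.of_le (L := Scheme.fpqcPrecoverage)
      (le_trans Scheme.etalePrecoverage_le_proetalePrecoverage
        Scheme.proetalePrecoverage_le_fpqcPrecoverage)
  intro ι X Xi g hX hXi hcov Y f hY
  constructor
  · intro hf i
    exact locP_comp_of (Q := @Flat) (fun p h hp hh => c1_of_fpqc p h hp hh)
      (fun π h hπe hπs hh => c2_of_etale π h hπe hπs hh) hX hY (g i) f (hcov.1 i) hf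
  · intro hf U V a b h hae hbe w
    obtain ⟨A, c, T, p, s, hce, hcs, sq, -, hQp, hPp⟩ :=
      exists_family (Q := @Flat) Xi g hXi hcov.1 f hf a b h hae hbe w
    exact c3_of_fpqc (fun i => (T i).left) (fun i => (p i).left) h.left hQp
      (jointly_surjective_of_isPullback Xi g (HasStdRefinement.jointly_surjective hcov.2)
        a A c T p s hce hcs sq)
      (quasiCompactCover_of_stdRefinement Xi g hcov.2 a A c T p s hce hcs sq) hPp

theorem main (S : Scheme.{u}) (P : MorphismProperty Scheme.{u}) :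
    (P.IsLocalAtSource Scheme.fpqcPrecoverage →
      AlgSp.IsLocalOnSource (AlgSp.IsFpqcCover (S := S)) (AlgSp.LocP P)) ∧
    (P.IsLocalAtSource Scheme.fppfPrecoverage →
      AlgSp.IsLocalOnSource (AlgSp.IsFppfCover (S := S)) (AlgSp.LocP P)) ∧
    (P.IsLocalAtSource (Scheme.precoverage @Smooth) →
      AlgSp.IsLocalOnSource (AlgSp.IsSmCover (S := S)) (AlgSp.LocP P)) ∧
    (P.IsLocalAtSource Scheme.etalePrecoverage →
      AlgSp.IsLocalOnSource (AlgSp.IsEtCover (S := S)) (AlgSp.LocP P)) := by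
  refine ⟨fun h => isLocalOnSource_fpqc, fun h => ?_, fun h => ?_, fun h => ?_⟩
  · have : P.IsLocalAtSource (Scheme.precoverage (@Flat ⊓ @LocallyOfFinitePresentation)) := h
    have : MorphismProperty.ContainsIdentities
        ((@Flat ⊓ @LocallyOfFinitePresentation : MorphismProperty Scheme.{u})) :=
      ⟨fun X => ⟨inferInstance, inferInstance⟩⟩
    exact isLocalOnSource_of_precoverage (Q := @Flat ⊓ @LocallyOfFinitePresentation)
      (fun _ _ f hf => ⟨inferInstance, inferInstance⟩) _
      (fun f hf => locP_inf hf.1 hf.2)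
  · have : MorphismProperty.ContainsIdentities @Smooth := ⟨fun X => inferInstance⟩
    exact isLocalOnSource_of_precoverage (Q := @Smooth)
      (fun _ _ f hf => inferInstance) _ (fun f hf => hf)
  · have : P.IsLocalAtSource (Scheme.precoverage @Etale) := h
    exact isLocalOnSource_of_precoverage (Q := @Etale) le_rfl _
      (fun f hf => locP_etale_of_isEtaleMor hf)

end Groth.Agent.Lib.lead.LocSrcGen

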