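import Mathlib
import Groth.Prelude.Def_Flat

set_option autoImplicit false
universe u
open AlgebraicGeometry CategoryTheory

namespace Groth.Agent.Lib.lead.LocalDimSpec

/-- local dimension is monotone along specialization -/
theorem localDim_le_of_specializes {T : Type*} [TopologicalSpace T] {x x' : T} (h : x ⤳ x') :
    FlatMor.localDim T x ≤ FlatMor.localDim T x' := by
  unfold FlatMor.localDim
  refine le_iInf fun U => ?_
  exact iInf_le _ (⟨U.1, h.mem_open U.1.isOpen U.2⟩ : {U : TopologicalSpace.Opens T // x ∈ U})

/-- in a locally Noetherian scheme the dimension of the local ring strictly increases under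
nontrivial specialization -/
theorem ringKrullDim_stalk_lt_of_specializes (F : Scheme.{u}) [IsLocallyNoetherian F] {x x' : F}
    (h : x ⤳ x') (hne : x ≠ x') :
    ringKrullDim (F.presheaf.stalk x) < ringKrullDim (F.presheaf.stalk x') := by
  rw [ringKrullDim_stalk_eq_coheight, ringKrullDim_stalk_eq_coheight]
  have hlt : x' < x := by
    rw [lt_iff_le_not_ge]
    refine ⟨h, fun h' => hne ?_⟩
    exact (h.antisymm h').eq
  have h1 := Order.coheight_add_one_le hlt
  have hfin : Order.coheight x ≠ ⊤ := by
    have h2 : ringKrullDim (F.presheaf.stalk x) < ⊤ := ringKrullDim_lt_top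
    rw [ringKrullDim_stalk_eq_coheight] at h2
    intro h3
    rw [h3] at h2
    exact absurd h2 (by simp)
  have : Order.coheight x < Order.coheight x' := by
    refine lt_of_lt_of_le ?_ h1
    exact ENat.lt_add_one_iff hfin |>.2 le_rfl
  exact_mod_cast this

theorem main {X S : Scheme.{u}} (f : X ⟶ S) [LocallyOfFiniteType f] (s : S)
    (x x' : ↑(f.fiber s)) (hsp : x ⤳ x') (hne : x ≠ x') :
    FlatMor.localDim ↑(f.fiber s) x ≤ FlatMor.localDim ↑(f.fiber s) x' ∧
      ringKrullDim ((f.fiber s).presheaf.stalk x) < ringKrullDim ((f.fiber s).presheaf.stalk x') := by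
  have : LocallyOfFiniteType (f.fiberToSpecResidueField s) :=
    inferInstanceAs (LocallyOfFiniteType (Limits.pullback.snd f (S.fromSpecResidueField s)))
  haveI : IsLocallyNoetherian (f.fiber s) :=
    LocallyOfFiniteType.isLocallyNoetherian (f.fiberToSpecResidueField s)
  exact ⟨localDim_le_of_specializes hsp, ringKrullDim_stalk_lt_of_specializes _ hsp hne⟩

end Groth.Agent.Lib.lead.LocalDimSpec

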