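import Mathlib
import Groth.Agent.Lib.Helper7.NoetherNormInt

set_option autoImplicit false
universe u

namespace Groth.Agent.Lib.lead.NNAtPrime

open Groth.Agent.Lib.Helper7

theorem main (k S : Type u) [Field k] [CommRing S] [Algebra k S]
    [Algebra.FiniteType k S] (q : Ideal S) [q.IsPrime] :
    ∃ (g : S) (d : ℕ), g ∉ q ∧ ringKrullDim (Localization.Away g) = d ∧
      (∀ g' : S, g' ∉ q → ringKrullDim (Localization.Away g) ≤ ringKrullDim (Localization.Away g')) ∧
      ∃ φ : MvPolynomial (Fin d) k →ₐ[k] Localization.Away g,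
        Function.Injective φ ∧ φ.toRingHom.Finite := by
  -- choose `g` minimising the dimension
  let T : Set {g : S // g ∉ q} := Set.univ
  have hne : T.Nonempty := ⟨⟨1, fun h => (inferInstance : q.IsPrime).ne_top ((Ideal.eq_top_iff_one q).2 h)⟩, trivial⟩
  obtain ⟨g, -, hmin⟩ := (InvImage.wf (fun g : {g : S // g ∉ q} => ringKrullDim (Localization.Away g.1))
    (wellFounded_lt (α := WithBot ℕ∞))).has_min T hne
  haveI : Algebra.FiniteType k (Localization.Away g.1) :=
    Algebra.FiniteType.trans (inferInstance : Algebra.FiniteType k S)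
      (IsLocalization.finiteType_of_monoid_fg (Submonoid.powers g.1) (Localization.Away g.1))
  haveI : Nontrivial (Localization.Away g.1) := by
    rw [← not_subsingleton_iff_nontrivial,
      IsLocalization.subsingleton_iff (M := Submonoid.powers g.1)]
    rintro ⟨n, hn⟩
    have h0 : g.1 ^ n ∈ q := by
      have : g.1 ^ n = 0 := hn
      rw [this]
      exact q.zero_mem
    exact g.2 (Ideal.IsPrime.mem_of_pow_mem inferInstance n h0)
  obtain ⟨d, φ, hinj, hfin⟩ := exists_finite_inj_algHom_of_fg k (Localization.Away g.1)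
  have hdim : ringKrullDim (Localization.Away g.1) = d := by
    rw [NNInt.ringKrullDim_eq_of_injective_isIntegral φ.toRingHom hinj hfin.to_isIntegral,
      NNInt.ringKrullDim_mvPolynomial_fin]
  refine ⟨g.1, d, g.2, hdim, ?_, φ, hinj, hfin⟩
  intro g' hg'
  have := hmin ⟨g', hg'⟩ trivial
  exact not_lt.1 this

end Groth.Agent.Lib.lead.NNAtPrime

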