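import Mathlib

set_option linter.style.haveILetI false
universe u
open CategoryTheory AlgebraicGeometry Limits Opposite

namespace Groth.Agent.Lib.lead.NaGlue

section
variable {O U V : Scheme.{u}} (a : O ⟶ U) (b : O ⟶ V) [IsOpenImmersion a] [IsOpenImmersion b]

instance span_isOpenImmersion : ∀ {i j : WalkingSpan} (f : i ⟶ j), IsOpenImmersion ((span a b).map f) := by
  intro i j f
  match i, j, f with
  | _, _, WidePushoutShape.Hom.id x =>
    have : (span a b).map (WidePushoutShape.Hom.id x) = 𝟙 _ := (span a b).map_id x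
    rw [this]; infer_instance
  | _, _, WidePushoutShape.Hom.init WalkingPair.left => exact (inferInstance : IsOpenImmersion a)
  | _, _, WidePushoutShape.Hom.init WalkingPair.right => exact (inferInstance : IsOpenImmersion b)

instance hasPushout : HasPushout a b := by
  unfold HasPushout
  infer_instance

instance inl_isOpenImmersion : IsOpenImmersion (pushout.inl a b) := by
  change IsOpenImmersion (colimit.ι (span a b) WalkingSpan.left)
  infer_instance

instance inr_isOpenImmersion : IsOpenImmersion (pushout.inr a b) := by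
  change IsOpenImmersion (colimit.ι (span a b) WalkingSpan.right)
  infer_instance

theorem jointly_surjective (x : ↥(pushout a b)) :
    (∃ u, pushout.inl a b u = x) ∨ (∃ v, pushout.inr a b v = x) := by
  obtain ⟨i, xi, h⟩ := Scheme.IsLocallyDirected.ι_jointly_surjective (span a b) x
  match i, xi, h with
  | WalkingSpan.left, xi, h => exact Or.inl ⟨xi, h⟩
  | WalkingSpan.right, xi, h => exact Or.inr ⟨xi, h⟩
  | WalkingSpan.zero, xi, h =>
    refine Or.inl ⟨a xi, ?_⟩
    rw [← h]
    have := colimit.w (span a b) (WidePushoutShape.Hom.init WalkingPair.left)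
    exact congrArg (fun φ => φ xi) this

theorem inl_eq_inr_iff (u : U) (v : V) :
    pushout.inl a b u = pushout.inr a b v ↔ ∃ o, a o = u ∧ b o = v := by
  constructor
  · intro h
    obtain ⟨k, fi, fj, x, h1, h2⟩ := (Scheme.IsLocallyDirected.ι_eq_ι_iff (F := span a b)
      (i := WalkingSpan.left) (j := WalkingSpan.right) (xi := u) (xj := v)).mp h
    match k, fi, fj, x, h1, h2 with
    | WalkingSpan.zero, WidePushoutShape.Hom.init WalkingPair.left,
        WidePushoutShape.Hom.init WalkingPair.right, x, h1, h2 => exact ⟨x, h1, h2⟩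
  · rintro ⟨o, rfl, rfl⟩
    exact congrArg (fun φ => φ o) (pushout.condition (f := a) (g := b))

theorem inl_preimage_inr_range :
    (pushout.inl a b) ⁻¹ᵁ (pushout.inr a b).opensRange = a.opensRange := by
  ext u
  constructor
  · rintro ⟨v, hv⟩
    obtain ⟨o, ho, _⟩ := (inl_eq_inr_iff a b u v).mp hv.symm
    exact ⟨o, ho⟩
  · rintro ⟨o, rfl⟩
    exact ⟨b o, (congrArg (fun φ => φ o) (pushout.condition (f := a) (g := b))).symm⟩

theorem inr_preimage_inl_range :
    (pushout.inr a b) ⁻¹ᵁ (pushout.inl a b).opensRange = b.opensRange := by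
  ext v
  constructor
  · rintro ⟨u, hu⟩
    obtain ⟨o, _, ho⟩ := (inl_eq_inr_iff a b u v).mp hu
    exact ⟨o, ho⟩
  · rintro ⟨o, rfl⟩
    exact ⟨a o, (congrArg (fun φ => φ o) (pushout.condition (f := a) (g := b)))⟩

theorem range_sup : (pushout.inl a b).opensRange ⊔ (pushout.inr a b).opensRange = ⊤ := by
  rw [eq_top_iff]
  intro x _
  rcases jointly_surjective a b x with ⟨u, rfl⟩ | ⟨v, rfl⟩
  · exact Or.inl ⟨u, rfl⟩
  · exact Or.inr ⟨v, rfl⟩

theorem isPullback : IsPullback a b (pushout.inl a b) (pushout.inr a b) := by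
  have h := IsOpenImmersion.isPullback a b (pushout.inl a b) (pushout.inr a b)
    (pushout.condition (f := a) (g := b)).symm
  have h2 := h (by rw [inr_preimage_inl_range])
  exact h2

end

/-- A scheme is the pushout of two opens covering it along their intersection. -/
theorem isPushout_of_sup_eq_top {S : Scheme.{u}} (U V : S.Opens) (h : U ⊔ V = ⊤) :
    IsPushout (S.homOfLE (inf_le_left : U ⊓ V ≤ U)) (S.homOfLE (inf_le_right : U ⊓ V ≤ V))
      U.ι V.ι := by
  set a := S.homOfLE (inf_le_left : U ⊓ V ≤ U)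
  set b := S.homOfLE (inf_le_right : U ⊓ V ≤ V)
  have hcomm : a ≫ U.ι = b ≫ V.ι := by simp [a, b]
  let d : pushout a b ⟶ S := pushout.desc U.ι V.ι hcomm
  have hdl : pushout.inl a b ≫ d = U.ι := pushout.inl_desc _ _ _
  have hdr : pushout.inr a b ≫ d = V.ι := pushout.inr_desc _ _ _
  have hdl' : ∀ u, d (pushout.inl a b u) = U.ι u := fun u => by
    rw [← Scheme.Hom.comp_apply, hdl]
  have hdr' : ∀ v, d (pushout.inr a b v) = V.ι v := fun v => by
    rw [← Scheme.Hom.comp_apply, hdr]
  have key : ∀ (u : ↥(U : Scheme.{u})) (v : ↥(V : Scheme.{u})), U.ι u = V.ι v →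
      pushout.inl a b u = pushout.inr a b v := by
    intro u v huv
    have hu : U.ι u ∈ U ⊓ V := ⟨u.2, by rw [huv]; exact v.2⟩
    refine (inl_eq_inr_iff a b u v).mpr ⟨⟨U.ι u, hu⟩, ?_, ?_⟩
    · apply U.ι.isOpenEmbedding.injective
      rw [← Scheme.Hom.comp_apply]
      simp [a]
    · apply V.ι.isOpenEmbedding.injective
      rw [← Scheme.Hom.comp_apply, ← huv]
      simp [b]
  have hinj : Function.Injective d := by
    intro x y hxy
    rcases jointly_surjective a b x with ⟨u, rfl⟩ | ⟨v, rfl⟩ <;>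
    rcases jointly_surjective a b y with ⟨u', rfl⟩ | ⟨v', rfl⟩
    · rw [hdl', hdl'] at hxy
      rw [U.ι.isOpenEmbedding.injective hxy]
    · rw [hdl', hdr'] at hxy
      exact key u v' hxy
    · rw [hdr', hdl'] at hxy
      exact (key u' v hxy.symm).symm
    · rw [hdr', hdr'] at hxy
      rw [V.ι.isOpenEmbedding.injective hxy]
  have hoi : IsOpenImmersion d := by
    refine IsOpenImmersion.of_forall_source_exists d hinj ?_
    intro x
    rcases jointly_surjective a b x with ⟨u, rfl⟩ | ⟨v, rfl⟩
    · exact ⟨_, pushout.inl a b, inferInstance, ⟨u, rfl⟩, by rw [hdl]; infer_instance⟩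
    · exact ⟨_, pushout.inr a b, inferInstance, ⟨v, rfl⟩, by rw [hdr]; infer_instance⟩
  have hsurj : d.opensRange = ⊤ := by
    rw [eq_top_iff]
    intro s _
    have hs : s ∈ U ⊔ V := by rw [h]; trivial
    rcases hs with hs | hs
    · exact ⟨pushout.inl a b ⟨s, hs⟩, by rw [hdl']; rfl⟩
    · exact ⟨pushout.inr a b ⟨s, hs⟩, by rw [hdr']; rfl⟩
  have hiso : IsIso d := isIso_of_isOpenImmersion_of_opensRange_eq_top d hsurj
  exact IsPushout.of_iso_pushout ⟨hcomm⟩ (asIso d).symm
    (by rw [Iso.symm_hom, asIso_inv, IsIso.comp_inv_eq]; exact hdl.symm)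
    (by rw [Iso.symm_hom, asIso_inv, IsIso.comp_inv_eq]; exact hdr.symm)

end Groth.Agent.Lib.lead.NaGlue
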