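import Mathlib

set_option linter.style.haveILetI false
universe u
open CategoryTheory AlgebraicGeometry Limits Opposite

namespace Groth.Agent.Lib.lead.NaL2G

/-- Local-to-global criterion for limits of schemes: a cone over a cofiltered diagram is a limit
cone as soon as, for an open cover of one stage, cones landing in a member of the cover factor
uniquely. -/
theorem isLimit_of_local {K : Type u} [Category.{u} K] [IsCofiltered K] (D : K ⥤ Scheme.{u})
    (c : Cone D) (k₀ : K) {ι : Type u} (T : ι → (D.obj k₀).Opens) (hT : ⨆ a, T a = ⊤)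
    (H : ∀ (a : ι) (s : Cone (Over.forget k₀ ⋙ D)),
      Set.range (s.π.app (Over.mk (𝟙 k₀))) ⊆ (T a : Set (D.obj k₀)) →
      ∃! m : s.pt ⟶ c.pt, ∀ j : Over k₀, m ≫ c.π.app j.left = s.π.app j) :
    Nonempty (IsLimit c) := by
  refine ⟨(Functor.Initial.isLimitWhiskerEquiv (Over.forget k₀) c) ?_⟩
  refine IsLimit.ofExistsUnique ?_
  intro s
  let sπ : ∀ j : Over k₀, s.pt ⟶ D.obj j.left := fun j => s.π.app j
  have sw : ∀ {j j' : Over k₀} (f : j ⟶ j'), sπ j ≫ D.map f.left = sπ j' := fun f => s.w f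
  set s₀ : s.pt ⟶ D.obj k₀ := sπ (Over.mk (𝟙 k₀)) with hs₀
  let Z : ι → s.pt.Opens := fun a => s₀ ⁻¹ᵁ T a
  have hZ : TopologicalSpace.IsOpenCover Z := by
    change ⨆ a, Z a = ⊤
    rw [eq_top_iff]
    intro x _
    have hx : s₀ x ∈ ⨆ a, T a := by rw [hT]; trivial
    rw [TopologicalSpace.Opens.mem_iSup] at hx ⊢
    obtain ⟨a, ha⟩ := hx
    exact ⟨a, ha⟩
  -- cones from compatible families
  let mkCone : ∀ (W : Scheme.{u}) (p : ∀ j : Over k₀, W ⟶ D.obj j.left)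
      (_ : ∀ {j j' : Over k₀} (f : j ⟶ j'), p j ≫ D.map f.left = p j'), Cone (Over.forget k₀ ⋙ D) :=
    fun W p hp =>
    { pt := W
      π := { app := fun j => p j
             naturality := by
              intro j j' f
              simp only [Functor.const_obj_obj, Functor.const_obj_map, Category.id_comp]
              exact (hp f).symm } }
  have H' : ∀ (a : ι) (W : Scheme.{u}) (p : ∀ j : Over k₀, W ⟶ D.obj j.left)
      (_ : ∀ {j j' : Over k₀} (f : j ⟶ j'), p j ≫ D.map f.left = p j'),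
      Set.range (p (Over.mk (𝟙 k₀))) ⊆ (T a : Set (D.obj k₀)) →
      ∃! m : W ⟶ c.pt, ∀ j : Over k₀, m ≫ c.π.app j.left = p j :=
    fun a W p hp hr => H a (mkCone W p hp) hr
  have hsa : ∀ a, Set.range ((Z a).ι ≫ sπ (Over.mk (𝟙 k₀))) ⊆ (T a : Set (D.obj k₀)) := by
    rintro a _ ⟨z, rfl⟩
    change ((Z a).ι ≫ s₀) z ∈ T a
    rw [Scheme.Hom.comp_apply]
    exact z.2
  have hsw : ∀ a {j j' : Over k₀} (f : j ⟶ j'),
      ((Z a).ι ≫ sπ j) ≫ D.map f.left = (Z a).ι ≫ sπ j' := by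
    intro a j j' f
    rw [Category.assoc, sw f]
  choose m hm hmu using fun a => H' a (Z a) (fun j => (Z a).ι ≫ sπ j) (hsw a) (hsa a)
  have huniq : ∀ (a : ι) (W : Scheme.{u}) (p q : W ⟶ c.pt),
      (∀ j : Over k₀, p ≫ c.π.app j.left = q ≫ c.π.app j.left) →
      Set.range (p ≫ c.π.app k₀) ⊆ (T a : Set (D.obj k₀)) → p = q := by
    intro a W p q hpq hp
    obtain ⟨m', _, hm'u⟩ := H' a W (fun j => p ≫ c.π.app j.left)
      (fun {j j'} f => by rw [Category.assoc, c.w]) hp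
    rw [hm'u p (fun j => rfl), hm'u q (fun j => (hpq j).symm)]
  let 𝒰 := s.pt.openCoverOfIsOpenCover Z hZ
  let mm : ∀ a : 𝒰.I₀, 𝒰.X a ⟶ c.pt := fun a => m a
  have hmm : ∀ (a : 𝒰.I₀) (j : Over k₀), mm a ≫ c.π.app j.left = 𝒰.f a ≫ sπ j := fun a j => hm a j
  have hcompat : ∀ a b : 𝒰.I₀, pullback.fst (𝒰.f a) (𝒰.f b) ≫ mm a = pullback.snd _ _ ≫ mm b := by
    intro a b
    refine huniq a _ _ _ ?_ ?_
    · intro j
      rw [Category.assoc, Category.assoc, hmm a j, hmm b j, ← Category.assoc, ← Category.assoc]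
      congr 1
      exact pullback.condition
    · rintro _ ⟨w, rfl⟩
      have h1 : mm a ≫ c.π.app k₀ = 𝒰.f a ≫ s₀ := hmm a (Over.mk (𝟙 k₀))
      rw [Category.assoc, h1, Scheme.Hom.comp_apply, Scheme.Hom.comp_apply]
      exact (pullback.fst (𝒰.f a) (𝒰.f b) w).2
  refine ⟨𝒰.glueMorphisms mm hcompat, ?_, ?_⟩
  · intro j
    refine 𝒰.hom_ext _ _ fun a => ?_
    change 𝒰.f a ≫ (𝒰.glueMorphisms mm hcompat ≫ c.π.app j.left) = 𝒰.f a ≫ sπ j
    rw [← Category.assoc, Scheme.Cover.ι_glueMorphisms]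
    exact hmm a j
  · intro m' hm'
    refine 𝒰.hom_ext _ _ fun a => ?_
    rw [Scheme.Cover.ι_glueMorphisms]
    refine hmu a _ ?_
    intro j
    have h2 : m' ≫ c.π.app j.left = sπ j := hm' j
    change ((Z a).ι ≫ m') ≫ c.π.app j.left = (Z a).ι ≫ sπ j
    rw [Category.assoc, h2]

end Groth.Agent.Lib.lead.NaL2G
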