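import Mathlib
import Groth.Agent.Lib.lead.NaL2G
import Groth.Agent.Lib.lead.NaGlue

set_option linter.style.haveILetI false
universe u
open CategoryTheory AlgebraicGeometry Limits Opposite

namespace Groth.Agent.Lib.lead.NaAGL

variable {J : Type u} [Category.{u} J] [IsCofiltered J]

/-- Cones over a diagram `DS` landing in an open sub-diagram `DU` (equifibered) factor uniquely
through the limit of the sub-diagram. -/
theorem part (DS : J ⥤ Scheme.{u}) (cS : Cone DS) (DU : J ⥤ Scheme.{u}) (ιU : DU ⟶ DS)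
    [∀ j, IsOpenImmersion (ιU.app j)] (cU : Cone DU) (hcU : IsLimit cU)
    (iU : cU.pt ⟶ cS.pt) [IsOpenImmersion iU]
    (hi : ∀ j, iU ≫ cS.π.app j = cU.π.app j ≫ ιU.app j)
    (h2 : ∀ {j j' : J} (f : j ⟶ j'), (DS.map f) ⁻¹ᵁ (ιU.app j').opensRange ≤ (ιU.app j).opensRange)
    (h3 : ∀ j, (cS.π.app j) ⁻¹ᵁ (ιU.app j).opensRange ≤ iU.opensRange)
    (k₀ : J) (s : Cone (Over.forget k₀ ⋙ DS))
    (hs : Set.range (s.π.app (Over.mk (𝟙 k₀))) ⊆ ((ιU.app k₀).opensRange : Set (DS.obj k₀))) :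
    ∃! m : s.pt ⟶ cS.pt, ∀ j : Over k₀, m ≫ cS.π.app j.left = s.π.app j := by
  let sπ : ∀ j : Over k₀, s.pt ⟶ DS.obj j.left := fun j => s.π.app j
  have sw : ∀ {j j' : Over k₀} (f : j ⟶ j'), sπ j ≫ DS.map f.left = sπ j' := fun f => s.w f
  have hr : ∀ j : Over k₀, Set.range (sπ j) ⊆ Set.range (ιU.app j.left) := by
    rintro j _ ⟨z, rfl⟩
    have h1 : sπ j ≫ DS.map j.hom = sπ (Over.mk (𝟙 k₀)) := sw (j' := Over.mk (𝟙 k₀)) (Over.homMk j.hom)
    have h4 : (DS.map j.hom) (sπ j z) ∈ (ιU.app k₀).opensRange := by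
      rw [← Scheme.Hom.comp_apply, h1]
      exact hs ⟨z, rfl⟩
    exact h2 j.hom h4
  let p : ∀ j : Over k₀, s.pt ⟶ DU.obj j.left := fun j =>
    IsOpenImmersion.lift (ιU.app j.left) (sπ j) (hr j)
  have hp : ∀ j, p j ≫ ιU.app j.left = sπ j := fun j => IsOpenImmersion.lift_fac _ _ _
  have hpw : ∀ {j j' : Over k₀} (f : j ⟶ j'), p j ≫ DU.map f.left = p j' := by
    intro j j' f
    rw [← cancel_mono (ιU.app j'.left), Category.assoc, ιU.naturality, ← Category.assoc, hp, hp, sw]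
  let sU : Cone (Over.forget k₀ ⋙ DU) :=
    { pt := s.pt
      π := { app := fun j => p j
             naturality := by
              intro j j' f
              simp only [Functor.const_obj_obj, Functor.const_obj_map, Category.id_comp]
              exact (hpw f).symm } }
  have hlim : IsLimit (cU.whisker (Over.forget k₀)) :=
    (Functor.Initial.isLimitWhiskerEquiv (Over.forget k₀) cU).symm hcU
  let ℓ : s.pt ⟶ cU.pt := hlim.lift sU
  have hℓ : ∀ j : Over k₀, ℓ ≫ cU.π.app j.left = p j := fun j => hlim.fac sU j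
  refine ⟨ℓ ≫ iU, ?_, ?_⟩
  · intro j
    rw [Category.assoc, hi, ← Category.assoc, hℓ, hp]
  · intro m' hm'
    have hm'' : ∀ j : Over k₀, m' ≫ cS.π.app j.left = sπ j := hm'
    have hrange : Set.range m' ⊆ Set.range iU := by
      rintro _ ⟨z, rfl⟩
      have : (cS.π.app k₀) (m' z) ∈ (ιU.app k₀).opensRange := by
        rw [← Scheme.Hom.comp_apply]
        have := hm'' (Over.mk (𝟙 k₀))
        change m' ≫ cS.π.app k₀ = _ at this
        rw [this]
        exact hs ⟨z, rfl⟩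
      exact h3 k₀ this
    have hfac : IsOpenImmersion.lift iU m' hrange ≫ iU = m' := IsOpenImmersion.lift_fac _ _ _
    rw [← hfac]
    congr 1
    refine hlim.hom_ext ?_
    intro j
    change _ ≫ cU.π.app j.left = ℓ ≫ cU.π.app j.left
    rw [hℓ, ← cancel_mono (ιU.app j.left), Category.assoc, ← hi, ← Category.assoc, hfac, hp]
    exact hm'' j

/-- A cone over `DS` is a limit cone if two equifibered open sub-diagrams with limit cones cover
a stage. -/
theorem isLimit_of_two (DS : J ⥤ Scheme.{u}) (cS : Cone DS)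
    (DU : J ⥤ Scheme.{u}) (ιU : DU ⟶ DS)
    [∀ j, IsOpenImmersion (ιU.app j)] (cU : Cone DU) (hcU : IsLimit cU)
    (iU : cU.pt ⟶ cS.pt) [IsOpenImmersion iU]
    (hiU : ∀ j, iU ≫ cS.π.app j = cU.π.app j ≫ ιU.app j)
    (h2U : ∀ {j j' : J} (f : j ⟶ j'), (DS.map f) ⁻¹ᵁ (ιU.app j').opensRange ≤ (ιU.app j).opensRange)
    (h3U : ∀ j, (cS.π.app j) ⁻¹ᵁ (ιU.app j).opensRange ≤ iU.opensRange)
    (DV : J ⥤ Scheme.{u}) (ιV : DV ⟶ DS)
    [∀ j, IsOpenImmersion (ιV.app j)] (cV : Cone DV) (hcV : IsLimit cV)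
    (iV : cV.pt ⟶ cS.pt) [IsOpenImmersion iV]
    (hiV : ∀ j, iV ≫ cS.π.app j = cV.π.app j ≫ ιV.app j)
    (h2V : ∀ {j j' : J} (f : j ⟶ j'), (DS.map f) ⁻¹ᵁ (ιV.app j').opensRange ≤ (ιV.app j).opensRange)
    (h3V : ∀ j, (cS.π.app j) ⁻¹ᵁ (ιV.app j).opensRange ≤ iV.opensRange)
    (k₀ : J) (hcov : (ιU.app k₀).opensRange ⊔ (ιV.app k₀).opensRange = ⊤) :
    Nonempty (IsLimit cS) := by
  refine NaL2G.isLimit_of_local DS cS k₀
    (fun t : ULift.{u} Bool => if t.down then (ιU.app k₀).opensRange else (ιV.app k₀).opensRange) ?_ ?_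
  · rw [eq_top_iff, ← hcov]
    refine sup_le ?_ ?_
    · exact le_iSup_of_le ⟨true⟩ (by simp)
    · exact le_iSup_of_le ⟨false⟩ (by simp)
  · rintro ⟨t⟩ s hs
    cases t
    · simp only [Bool.false_eq_true, if_false] at hs
      exact part DS cS DV ιV cV hcV iV hiV h2V h3V k₀ s hs
    · simp only [if_true] at hs
      exact part DS cS DU ιU cU hcU iU hiU h2U h3U k₀ s hs


section Facts

variable {OS US VS S : Scheme.{u}} {aS : OS ⟶ US} {bS : OS ⟶ VS} {iU : US ⟶ S} {iV : VS ⟶ S}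
  [IsOpenImmersion aS] [IsOpenImmersion bS]

theorem isOpenImmersion_inl_of_isPushout (hS : IsPushout aS bS iU iV) : IsOpenImmersion iU := by
  have h : iU = pushout.inl aS bS ≫ hS.isoPushout.inv := by
    rw [Iso.eq_comp_inv]; exact hS.inl_isoPushout_hom
  rw [h]; infer_instance

theorem isOpenImmersion_inr_of_isPushout (hS : IsPushout aS bS iU iV) : IsOpenImmersion iV := by
  have h : iV = pushout.inr aS bS ≫ hS.isoPushout.inv := by
    rw [Iso.eq_comp_inv]; exact hS.inr_isoPushout_hom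
  rw [h]; infer_instance

theorem jointly_surjective_of_isPushout (hS : IsPushout aS bS iU iV) (s : S) :
    (∃ u, iU u = s) ∨ (∃ v, iV v = s) := by
  have hl : iU = pushout.inl aS bS ≫ hS.isoPushout.inv := by
    rw [Iso.eq_comp_inv]; exact hS.inl_isoPushout_hom
  have hr : iV = pushout.inr aS bS ≫ hS.isoPushout.inv := by
    rw [Iso.eq_comp_inv]; exact hS.inr_isoPushout_hom
  have hs : hS.isoPushout.inv (hS.isoPushout.hom s) = s := by
    rw [← Scheme.Hom.comp_apply, Iso.hom_inv_id]; rfl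
  rcases NaGlue.jointly_surjective aS bS (hS.isoPushout.hom s) with ⟨u, hu⟩ | ⟨v, hv⟩
  · exact Or.inl ⟨u, by rw [hl, Scheme.Hom.comp_apply, hu, hs]⟩
  · exact Or.inr ⟨v, by rw [hr, Scheme.Hom.comp_apply, hv, hs]⟩

theorem exists_of_eq_of_isPushout (hS : IsPushout aS bS iU iV) (u : US) (v : VS)
    (h : iU u = iV v) : ∃ o, aS o = u ∧ bS o = v := by
  have hl : iU ≫ hS.isoPushout.hom = pushout.inl aS bS := hS.inl_isoPushout_hom
  have hr : iV ≫ hS.isoPushout.hom = pushout.inr aS bS := hS.inr_isoPushout_hom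
  refine (NaGlue.inl_eq_inr_iff aS bS u v).mp ?_
  rw [← hl, ← hr, Scheme.Hom.comp_apply, Scheme.Hom.comp_apply, h]

end Facts

section Pushout

variable (DU DO DV : J ⥤ Scheme.{u}) (a : DO ⟶ DU) (b : DO ⟶ DV)
  [∀ j, IsOpenImmersion (a.app j)] [∀ j, IsOpenImmersion (b.app j)]

omit [IsCofiltered J] in
theorem inl_map {j j' : J} (f : j ⟶ j') :
    pushout.inl (a.app j) (b.app j) ≫ pushout.map _ _ _ _ (DU.map f) (DV.map f) (DO.map f)
      (a.naturality f).symm (b.naturality f).symm = DU.map f ≫ pushout.inl (a.app j') (b.app j') := by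
  unfold pushout.map
  rw [pushout.inl_desc]

omit [IsCofiltered J] in
theorem inr_map {j j' : J} (f : j ⟶ j') :
    pushout.inr (a.app j) (b.app j) ≫ pushout.map _ _ _ _ (DU.map f) (DV.map f) (DO.map f)
      (a.naturality f).symm (b.naturality f).symm = DV.map f ≫ pushout.inr (a.app j') (b.app j') := by
  unfold pushout.map
  rw [pushout.inr_desc]

/-- The pointwise pushout of a span of diagrams of open immersions. -/
noncomputable def DS : J ⥤ Scheme.{u} where
  obj j := pushout (a.app j) (b.app j)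
  map f := pushout.map _ _ _ _ (DU.map f) (DV.map f) (DO.map f)
    (a.naturality f).symm (b.naturality f).symm
  map_id j := by
    apply pushout.hom_ext
    · rw [inl_map, DU.map_id, Category.id_comp, Category.comp_id]
    · rw [inr_map, DV.map_id, Category.id_comp, Category.comp_id]
  map_comp f g := by
    apply pushout.hom_ext
    · rw [inl_map, ← Category.assoc, inl_map, Category.assoc, inl_map, DU.map_comp, Category.assoc]
    · rw [inr_map, ← Category.assoc, inr_map, Category.assoc, inr_map, DV.map_comp, Category.assoc]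

noncomputable def ιU : DU ⟶ DS DU DO DV a b where
  app j := pushout.inl _ _
  naturality j j' f := (inl_map DU DO DV a b f).symm

noncomputable def ιV : DV ⟶ DS DU DO DV a b where
  app j := pushout.inr _ _
  naturality j j' f := (inr_map DU DO DV a b f).symm

instance (j : J) : IsOpenImmersion ((ιU DU DO DV a b).app j) := by
  change IsOpenImmersion (pushout.inl (a.app j) (b.app j)); infer_instance

instance (j : J) : IsOpenImmersion ((ιV DU DO DV a b).app j) := by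
  change IsOpenImmersion (pushout.inr (a.app j) (b.app j)); infer_instance

theorem DS_map_inl {j j' : J} (f : j ⟶ j') (u : DU.obj j) :
    (DS DU DO DV a b).map f ((ιU DU DO DV a b).app j u) =
      (ιU DU DO DV a b).app j' (DU.map f u) := by
  have := congrArg (fun φ => φ u) ((ιU DU DO DV a b).naturality f)
  simpa only [Scheme.Hom.comp_apply] using this.symm

theorem DS_map_inr {j j' : J} (f : j ⟶ j') (v : DV.obj j) :
    (DS DU DO DV a b).map f ((ιV DU DO DV a b).app j v) =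
      (ιV DU DO DV a b).app j' (DV.map f v) := by
  have := congrArg (fun φ => φ v) ((ιV DU DO DV a b).naturality f)
  simpa only [Scheme.Hom.comp_apply] using this.symm

theorem ι_jointly_surjective (j : J) (w : (DS DU DO DV a b).obj j) :
    (∃ u, (ιU DU DO DV a b).app j u = w) ∨ (∃ v, (ιV DU DO DV a b).app j v = w) :=
  NaGlue.jointly_surjective (a.app j) (b.app j) w

theorem ι_eq_iff (j : J) (u : DU.obj j) (v : DV.obj j) :
    (ιU DU DO DV a b).app j u = (ιV DU DO DV a b).app j v ↔ ∃ o, a.app j o = u ∧ b.app j o = v :=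
  NaGlue.inl_eq_inr_iff (a.app j) (b.app j) u v

variable {DU DO DV a b}

theorem preimage_ιU_le
    (HV : ∀ {j j' : J} (f : j ⟶ j'), (DV.map f) ⁻¹ᵁ (b.app j').opensRange ≤ (b.app j).opensRange)
    {j j' : J} (f : j ⟶ j') :
    ((DS DU DO DV a b).map f) ⁻¹ᵁ ((ιU DU DO DV a b).app j').opensRange ≤
      ((ιU DU DO DV a b).app j).opensRange := by
  intro w hw
  rcases ι_jointly_surjective DU DO DV a b j w with ⟨u, rfl⟩ | ⟨v, rfl⟩
  · exact ⟨u, rfl⟩
  · obtain ⟨u', hu'⟩ := hw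
    rw [DS_map_inr] at hu'
    obtain ⟨o', _, ho'⟩ := (ι_eq_iff DU DO DV a b j' _ _).mp hu'
    obtain ⟨o, ho⟩ := HV f (show DV.map f v ∈ (b.app j').opensRange from ⟨o', ho'⟩)
    refine ⟨a.app j o, ?_⟩
    exact (ι_eq_iff DU DO DV a b j _ _).mpr ⟨o, rfl, ho⟩

theorem preimage_ιV_le
    (HU : ∀ {j j' : J} (f : j ⟶ j'), (DU.map f) ⁻¹ᵁ (a.app j').opensRange ≤ (a.app j).opensRange)
    {j j' : J} (f : j ⟶ j') :
    ((DS DU DO DV a b).map f) ⁻¹ᵁ ((ιV DU DO DV a b).app j').opensRange ≤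
      ((ιV DU DO DV a b).app j).opensRange := by
  intro w hw
  rcases ι_jointly_surjective DU DO DV a b j w with ⟨u, rfl⟩ | ⟨v, rfl⟩
  · obtain ⟨v', hv'⟩ := hw
    rw [DS_map_inl] at hv'
    obtain ⟨o', ho', _⟩ := (ι_eq_iff DU DO DV a b j' _ _).mp hv'.symm
    obtain ⟨o, ho⟩ := HU f (show DU.map f u ∈ (a.app j').opensRange from ⟨o', ho'⟩)
    refine ⟨b.app j o, ?_⟩
    exact ((ι_eq_iff DU DO DV a b j _ _).mpr ⟨o, ho, rfl⟩).symm
  · exact ⟨v, rfl⟩

section ConeS

variable (cU : Cone DU) (cO : Cone DO) (cV : Cone DV) (aS : cO.pt ⟶ cU.pt) (bS : cO.pt ⟶ cV.pt)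
  [IsOpenImmersion aS] [IsOpenImmersion bS]
  (haS : ∀ j, aS ≫ cU.π.app j = cO.π.app j ≫ a.app j)
  (hbS : ∀ j, bS ≫ cV.π.app j = cO.π.app j ≫ b.app j)
  {S : Scheme.{u}} {iU : cU.pt ⟶ S} {iV : cV.pt ⟶ S} (hS : IsPushout aS bS iU iV)
  [IsOpenImmersion iU] [IsOpenImmersion iV]

include haS hbS in
theorem cS_compat (j : J) :
    aS ≫ cU.π.app j ≫ (ιU DU DO DV a b).app j = bS ≫ cV.π.app j ≫ (ιV DU DO DV a b).app j := by
  rw [← Category.assoc, haS, ← Category.assoc, hbS, Category.assoc, Category.assoc]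
  congr 1
  exact pushout.condition

/-- The cone from the glued scheme to the pointwise pushout diagram. -/
noncomputable def cS : Cone (DS DU DO DV a b) where
  pt := S
  π :=
    { app := fun j => hS.desc (cU.π.app j ≫ (ιU DU DO DV a b).app j)
        (cV.π.app j ≫ (ιV DU DO DV a b).app j) (cS_compat cU cO cV aS bS haS hbS j)
      naturality := by
        intro j j' f
        simp only [Functor.const_obj_obj, Functor.const_obj_map, Category.id_comp]
        apply hS.hom_ext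
        · rw [hS.inl_desc, ← Category.assoc, hS.inl_desc, Category.assoc,
            ← (ιU DU DO DV a b).naturality f, ← Category.assoc, cU.w]
        · rw [hS.inr_desc, ← Category.assoc, hS.inr_desc, Category.assoc,
            ← (ιV DU DO DV a b).naturality f, ← Category.assoc, cV.w] }

theorem iU_cS (j : J) :
    iU ≫ (cS cU cO cV aS bS haS hbS hS).π.app j = cU.π.app j ≫ (ιU DU DO DV a b).app j :=
  hS.inl_desc _ _ _

theorem iV_cS (j : J) :
    iV ≫ (cS cU cO cV aS bS haS hbS hS).π.app j = cV.π.app j ≫ (ιV DU DO DV a b).app j :=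
  hS.inr_desc _ _ _

theorem preimage_cS_ιU_le
    (HcV : ∀ j, (cV.π.app j) ⁻¹ᵁ (b.app j).opensRange ≤ bS.opensRange) (j : J) :
    ((cS cU cO cV aS bS haS hbS hS).π.app j) ⁻¹ᵁ ((ιU DU DO DV a b).app j).opensRange ≤
      iU.opensRange := by
  intro s hs
  rcases jointly_surjective_of_isPushout hS s with ⟨u, rfl⟩ | ⟨v, rfl⟩
  · exact ⟨u, rfl⟩
  · obtain ⟨u', hu'⟩ := hs
    have h1 : ((cS cU cO cV aS bS haS hbS hS).π.app j) (iV v) =
        (ιV DU DO DV a b).app j (cV.π.app j v) := by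
      exact congrArg (fun φ => φ v) (iV_cS cU cO cV aS bS haS hbS hS j)
    rw [h1] at hu'
    obtain ⟨o', _, ho'⟩ := (ι_eq_iff DU DO DV a b j _ _).mp hu'
    obtain ⟨o, ho⟩ := HcV j (show cV.π.app j v ∈ (b.app j).opensRange from ⟨o', ho'⟩)
    refine ⟨aS o, ?_⟩
    have h5 : iU (aS o) = iV (bS o) := congrArg (fun φ => φ o) hS.w
    rw [h5, ho]

theorem preimage_cS_ιV_le
    (HcU : ∀ j, (cU.π.app j) ⁻¹ᵁ (a.app j).opensRange ≤ aS.opensRange) (j : J) :
    ((cS cU cO cV aS bS haS hbS hS).π.app j) ⁻¹ᵁ ((ιV DU DO DV a b).app j).opensRange ≤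
      iV.opensRange := by
  intro s hs
  rcases jointly_surjective_of_isPushout hS s with ⟨u, rfl⟩ | ⟨v, rfl⟩
  · obtain ⟨v', hv'⟩ := hs
    have h1 : ((cS cU cO cV aS bS haS hbS hS).π.app j) (iU u) =
        (ιU DU DO DV a b).app j (cU.π.app j u) := by
      exact congrArg (fun φ => φ u) (iU_cS cU cO cV aS bS haS hbS hS j)
    rw [h1] at hv'
    obtain ⟨o', ho', _⟩ := (ι_eq_iff DU DO DV a b j _ _).mp hv'.symm
    obtain ⟨o, ho⟩ := HcU j (show cU.π.app j u ∈ (a.app j).opensRange from ⟨o', ho'⟩)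
    refine ⟨bS o, ?_⟩
    have h5 : iU (aS o) = iV (bS o) := congrArg (fun φ => φ o) hS.w
    rw [← h5, ho]
  · exact ⟨v, rfl⟩

/-- The abstract gluing-limit theorem. -/
theorem isLimit_cS (hcU : IsLimit cU) (hcV : IsLimit cV)
    (HU : ∀ {j j' : J} (f : j ⟶ j'), (DU.map f) ⁻¹ᵁ (a.app j').opensRange ≤ (a.app j).opensRange)
    (HV : ∀ {j j' : J} (f : j ⟶ j'), (DV.map f) ⁻¹ᵁ (b.app j').opensRange ≤ (b.app j).opensRange)
    (HcU : ∀ j, (cU.π.app j) ⁻¹ᵁ (a.app j).opensRange ≤ aS.opensRange)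
    (HcV : ∀ j, (cV.π.app j) ⁻¹ᵁ (b.app j).opensRange ≤ bS.opensRange) :
    Nonempty (IsLimit (cS cU cO cV aS bS haS hbS hS)) := by
  obtain ⟨k₀⟩ := IsCofiltered.nonempty (C := J)
  let iU' : cU.pt ⟶ (cS cU cO cV aS bS haS hbS hS).pt := iU
  let iV' : cV.pt ⟶ (cS cU cO cV aS bS haS hbS hS).pt := iV
  haveI : IsOpenImmersion iU' := ‹IsOpenImmersion iU›
  haveI : IsOpenImmersion iV' := ‹IsOpenImmersion iV›
  exact isLimit_of_two (DS DU DO DV a b) (cS cU cO cV aS bS haS hbS hS)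
    DU (ιU DU DO DV a b) cU hcU iU' (iU_cS cU cO cV aS bS haS hbS hS)
    (fun f => preimage_ιU_le HV f) (preimage_cS_ιU_le cU cO cV aS bS haS hbS hS HcV)
    DV (ιV DU DO DV a b) cV hcV iV' (iV_cS cU cO cV aS bS haS hbS hS)
    (fun f => preimage_ιV_le HU f) (preimage_cS_ιV_le cU cO cV aS bS haS hbS hS HcU)
    k₀ (NaGlue.range_sup (a.app k₀) (b.app k₀))

end ConeS

end Pushout

section Affine

omit [IsCofiltered J] in
theorem exists_affine_nbhd_of_piece {X Y U U' : Scheme.{u}} (f : X ⟶ Y) (iU : U ⟶ X) (iU' : U' ⟶ Y)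
    (gU : U ⟶ U') [IsOpenImmersion iU] [IsOpenImmersion iU'] [IsAffineHom gU]
    (hcomm : iU ≫ f = gU ≫ iU') (hpre : f ⁻¹ᵁ iU'.opensRange ≤ iU.opensRange) (u' : U') :
    ∃ W : Y.Opens, iU' u' ∈ W ∧ IsAffineOpen W ∧ IsAffineOpen (f ⁻¹ᵁ W) := by
  obtain ⟨_, ⟨W₀, hW₀, rfl⟩, hu', -⟩ :=
    U'.isBasis_affineOpens.exists_subset_of_mem_open (Set.mem_univ u') isOpen_univ
  refine ⟨iU' ''ᵁ W₀, ⟨u', hu', rfl⟩, hW₀.image_of_isOpenImmersion iU', ?_⟩
  have heq : f ⁻¹ᵁ (iU' ''ᵁ W₀) = iU ''ᵁ (gU ⁻¹ᵁ W₀) := by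
    ext x
    constructor
    · rintro ⟨w', hw', hx⟩
      have hx' : x ∈ f ⁻¹ᵁ iU'.opensRange := ⟨w', hx⟩
      obtain ⟨u, rfl⟩ := hpre hx'
      refine ⟨u, ?_, rfl⟩
      have h1 : f (iU u) = iU' (gU u) := congrArg (fun φ => φ u) hcomm
      have h2 : iU' w' = iU' (gU u) := hx.trans h1
      have h3 := iU'.isOpenEmbedding.injective h2
      change gU u ∈ W₀
      rw [← h3]
      exact hw'
    · rintro ⟨u, hu, rfl⟩
      have h1 : f (iU u) = iU' (gU u) := congrArg (fun φ => φ u) hcomm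
      exact ⟨gU u, hu, h1.symm⟩
  rw [heq]
  exact (hW₀.preimage gU).image_of_isOpenImmersion iU

omit [IsCofiltered J] in
theorem isAffineHom_of_two {X Y U U' V V' : Scheme.{u}} (f : X ⟶ Y)
    (iU : U ⟶ X) (iU' : U' ⟶ Y) (gU : U ⟶ U') [IsOpenImmersion iU] [IsOpenImmersion iU']
    [IsAffineHom gU] (hcommU : iU ≫ f = gU ≫ iU') (hpreU : f ⁻¹ᵁ iU'.opensRange ≤ iU.opensRange)
    (iV : V ⟶ X) (iV' : V' ⟶ Y) (gV : V ⟶ V') [IsOpenImmersion iV] [IsOpenImmersion iV']
    [IsAffineHom gV] (hcommV : iV ≫ f = gV ≫ iV') (hpreV : f ⁻¹ᵁ iV'.opensRange ≤ iV.opensRange)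
    (hcov : iU'.opensRange ⊔ iV'.opensRange = ⊤) : IsAffineHom f := by
  apply isAffineHom_of_forall_exists_isAffineOpen
  intro y
  have hy : y ∈ iU'.opensRange ⊔ iV'.opensRange := by rw [hcov]; trivial
  rcases hy with ⟨u', rfl⟩ | ⟨v', rfl⟩
  · exact exists_affine_nbhd_of_piece f iU iU' gU hcommU hpreU u'
  · exact exists_affine_nbhd_of_piece f iV iV' gV hcommV hpreV v'

variable {DU DO DV : J ⥤ Scheme.{u}} {a : DO ⟶ DU} {b : DO ⟶ DV}
  [∀ j, IsOpenImmersion (a.app j)] [∀ j, IsOpenImmersion (b.app j)]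

theorem isAffineHom_DS_map
    (HU : ∀ {j j' : J} (f : j ⟶ j'), (DU.map f) ⁻¹ᵁ (a.app j').opensRange ≤ (a.app j).opensRange)
    (HV : ∀ {j j' : J} (f : j ⟶ j'), (DV.map f) ⁻¹ᵁ (b.app j').opensRange ≤ (b.app j).opensRange)
    {j j' : J} (f : j ⟶ j') [IsAffineHom (DU.map f)] [IsAffineHom (DV.map f)] :
    IsAffineHom ((DS DU DO DV a b).map f) :=
  isAffineHom_of_two ((DS DU DO DV a b).map f)
    ((ιU DU DO DV a b).app j) ((ιU DU DO DV a b).app j') (DU.map f)
    ((ιU DU DO DV a b).naturality f).symm (preimage_ιU_le HV f)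
    ((ιV DU DO DV a b).app j) ((ιV DU DO DV a b).app j') (DV.map f)
    ((ιV DU DO DV a b).naturality f).symm (preimage_ιV_le HU f)
    (NaGlue.range_sup (a.app j') (b.app j'))

end Affine

end Groth.Agent.Lib.lead.NaAGL
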