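import Mathlib

set_option linter.style.haveILetI false
universe u
open CategoryTheory AlgebraicGeometry Limits Opposite

namespace Groth.Agent.Lib.lead.NaAlg

/-- Elementary criterion for being a localization away from an element. -/
theorem isLocalizationAway_of {R L : Type*} [CommRing R] [CommRing L] (φ : R →+* L) (r : R)
    (hu : IsUnit (φ r)) (hs : ∀ l : L, ∃ (y : R) (n : ℕ), l * φ r ^ n = φ y)
    (hi : ∀ y : R, φ y = 0 → ∃ n : ℕ, r ^ n * y = 0) :
    @IsLocalization.Away R _ r L _ φ.toAlgebra := by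
  letI := φ.toAlgebra
  have halg : ∀ x : R, algebraMap R L x = φ x := fun _ => rfl
  refine ⟨?_, ?_, ?_⟩
  · rintro ⟨_, ⟨n, rfl⟩⟩
    rw [halg, map_pow]
    exact hu.pow n
  · intro l
    obtain ⟨y, n, hy⟩ := hs l
    exact ⟨⟨y, ⟨r ^ n, ⟨n, rfl⟩⟩⟩, by simpa [halg] using hy⟩
  · intro x y hxy
    rw [halg, halg] at hxy
    obtain ⟨n, hn⟩ := hi (x - y) (by rw [map_sub, hxy, sub_self])
    exact ⟨⟨r ^ n, ⟨n, rfl⟩⟩, by simpa [mul_sub, sub_eq_zero] using hn⟩

section FibreProduct

variable {B A A' : Type u} [CommRing B] [CommRing A] [CommRing A'] (ρ : B →+* A) (q : A' →+* A)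

/-- The fibre product ring `B ×_A A'` as a subring of the product. -/
def P : Subring (B × A') :=
  (ρ.comp (RingHom.fst B A')).eqLocus (q.comp (RingHom.snd B A'))

variable {ρ q}

theorem P.cond (y : P ρ q) : ρ y.1.1 = q y.1.2 := y.2

/-- first projection -/
def P.fst : P ρ q →+* B := (RingHom.fst B A').comp (P ρ q).subtype

/-- second projection -/
def P.snd : P ρ q →+* A' := (RingHom.snd B A').comp (P ρ q).subtype

theorem P.fst_apply (y : P ρ q) : P.fst y = y.1.1 := rfl
theorem P.snd_apply (y : P ρ q) : P.snd y = y.1.2 := rfl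

theorem P.comm : ρ.comp (P.fst (ρ := ρ) (q := q)) = q.comp P.snd := by
  ext y; exact y.2

/-- constructor -/
def P.mk (b : B) (a : A') (h : ρ b = q a) : P ρ q := ⟨(b, a), h⟩

@[simp] theorem P.fst_mk (b : B) (a : A') (h : ρ b = q a) : P.fst (P.mk b a h) = b := rfl
@[simp] theorem P.snd_mk (b : B) (a : A') (h : ρ b = q a) : P.snd (P.mk b a h) = a := rfl

theorem P.ext {y z : P ρ q} (h1 : P.fst y = P.fst z) (h2 : P.snd y = P.snd z) : y = z :=
  Subtype.ext (Prod.ext h1 h2)

/-- The hypotheses expressing that `D(g) ⊆ Spec B` lies in the image of `Spec A`. -/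
structure Good (ρ : B →+* A) (g : B) : Prop where
  surj : ∀ z : A, ∃ (y : B) (n : ℕ), ρ g ^ n * z = ρ y
  inj : ∀ y : B, ρ y = 0 → ∃ n : ℕ, g ^ n * y = 0

variable {g : B} {a : A'} (hga : ρ g = q a) (hG : Good ρ g)
  (L : Type u) [CommRing L] [Algebra A' L] [IsLocalization.Away a L]

include hG hga in
/-- every element of the localization `A'[1/a]` has a numerator in the fibre product -/
theorem exists_num (l : L) :
    ∃ (y : P ρ q) (n : ℕ), l * algebraMap A' L a ^ n = algebraMap A' L (P.snd y) := by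
  obtain ⟨m, x, hx⟩ := IsLocalization.Away.surj a l
  obtain ⟨y₁, k, hy₁⟩ := hG.surj (q x)
  have hmem : ρ y₁ = q (a ^ k * x) := by rw [map_mul, map_pow, ← hga, hy₁]
  refine ⟨P.mk y₁ (a ^ k * x) hmem, m + k, ?_⟩
  rw [P.snd_mk, pow_add, ← mul_assoc, hx, map_mul, map_pow]
  ring

include hG hga in
theorem snd_eq_zero_imp (y : P ρ q) (hy : algebraMap A' L (P.snd y) = 0) :
    ∃ n : ℕ, (P.mk g a hga) ^ n * y = 0 := by
  obtain ⟨⟨_, ⟨k, rfl⟩⟩, hk⟩ := (IsLocalization.map_eq_zero_iff (Submonoid.powers a) L _).mp hy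
  have hk' : a ^ k * P.snd y = 0 := hk
  have h1 : ρ (g ^ k * P.fst y) = 0 := by
    rw [map_mul, map_pow, hga, ← map_pow]
    have := P.cond y
    rw [show ρ (P.fst y) = q (P.snd y) from this, ← map_mul, hk', map_zero]
  obtain ⟨k', hk''⟩ := hG.inj _ h1
  refine ⟨k' + k, ?_⟩
  apply P.ext
  · rw [map_mul, map_pow, P.fst_mk, map_zero, pow_add, mul_assoc, hk'']
  · rw [map_mul, map_pow, P.snd_mk, map_zero, pow_add, mul_assoc, hk', mul_zero]

include hG hga in
/-- A subalgebra of the fibre product containing `g' = (g, a)` and enough numerators localizes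
to `A'[1/a]`. -/
theorem isLocalization_sub (B' : Subalgebra ℤ (P ρ q)) (hg' : P.mk g a hga ∈ B')
    (hgen : ∀ l : L, ∃ y ∈ B', ∃ n : ℕ, l * algebraMap A' L a ^ n = algebraMap A' L (P.snd y)) :
    @IsLocalization.Away B' _ ⟨P.mk g a hga, hg'⟩ L _
      (((algebraMap A' L).comp P.snd).comp B'.val.toRingHom).toAlgebra := by
  apply isLocalizationAway_of
  · change IsUnit (algebraMap A' L a)
    exact IsLocalization.Away.algebraMap_isUnit a
  · intro l
    obtain ⟨y, hy, n, hn⟩ := hgen l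
    exact ⟨⟨y, hy⟩, n, hn⟩
  · rintro ⟨y, hy⟩ h0
    obtain ⟨n, hn⟩ := snd_eq_zero_imp hga hG L y h0
    exact ⟨n, Subtype.ext hn⟩

include hG hga in
/-- finitely many numerators suffice when the localization is a finitely generated ring -/
theorem exists_finset_gen [Algebra.FiniteType ℤ L] :
    ∃ G : Finset (P ρ q), ∀ B' : Subalgebra ℤ (P ρ q), P.mk g a hga ∈ B' → (G : Set (P ρ q)) ⊆ B' →
      ∀ l : L, ∃ y ∈ B', ∃ n : ℕ, l * algebraMap A' L a ^ n = algebraMap A' L (P.snd y) := by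
  classical
  obtain ⟨T, hT⟩ := (Algebra.FiniteType.out : (⊤ : Subalgebra ℤ L).FG)
  choose num e hnum using exists_num hga hG L
  refine ⟨T.image num, ?_⟩
  intro B' hg' hsub
  -- the set of good elements is a subalgebra
  let C : Subalgebra ℤ L :=
    { carrier := {l | ∃ y ∈ B', ∃ n : ℕ, l * algebraMap A' L a ^ n = algebraMap A' L (P.snd y)}
      mul_mem' := by
        rintro l l' ⟨y, hy, n, hn⟩ ⟨y', hy', n', hn'⟩
        refine ⟨y * y', B'.mul_mem hy hy', n + n', ?_⟩
        rw [map_mul, map_mul, ← hn, ← hn', pow_add]; ring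
      add_mem' := by
        rintro l l' ⟨y, hy, n, hn⟩ ⟨y', hy', n', hn'⟩
        refine ⟨y * (P.mk g a hga) ^ n' + y' * (P.mk g a hga) ^ n,
          B'.add_mem (B'.mul_mem hy (B'.pow_mem hg' _)) (B'.mul_mem hy' (B'.pow_mem hg' _)),
          n + n', ?_⟩
        rw [map_add, map_add, map_mul, map_mul, map_mul, map_mul, map_pow, map_pow, map_pow,
          map_pow, P.snd_mk, ← hn, ← hn', pow_add]; ring
      algebraMap_mem' := by
        intro z
        refine ⟨algebraMap ℤ (P ρ q) z, B'.algebraMap_mem z, 0, ?_⟩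
        rw [pow_zero, mul_one, eq_intCast (algebraMap ℤ L), eq_intCast (algebraMap ℤ (P ρ q)),
          map_intCast, map_intCast] }
  have hC : C = ⊤ := by
    rw [eq_top_iff, ← hT]
    refine Algebra.adjoin_le ?_
    intro l hl
    exact ⟨num l, hsub (Finset.mem_coe.mpr (Finset.mem_image_of_mem num hl)), e l, hnum l⟩
  intro l
  have : l ∈ C := by rw [hC]; trivial
  exact this

end FibreProduct

section ToSpec

variable (X : Scheme.{u}) {R : CommRingCat.{u}} (φ : R ⟶ Γ(X, ⊤))

/-- the morphism to an affine scheme attached to a ring map into global sections -/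
noncomputable def toSpecOf : X ⟶ Spec R := X.toSpecΓ ≫ Spec.map φ

theorem toSpecOf_appTop : (Scheme.ΓSpecIso R).inv ≫ (toSpecOf X φ).appTop = φ := by
  unfold toSpecOf
  rw [Scheme.Hom.comp_appTop, Scheme.toSpecΓ_appTop, ← Category.assoc,
    ← Scheme.ΓSpecIso_inv_naturality, Category.assoc, Iso.inv_hom_id, Category.comp_id]

variable {X}

theorem eq_toSpecOf (f : X ⟶ Spec R) : f = toSpecOf X ((Scheme.ΓSpecIso R).inv ≫ f.appTop) := by
  unfold toSpecOf
  rw [Spec.map_comp, ← Scheme.toSpecΓ_naturality_assoc]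
  rw [show (Spec R).toSpecΓ ≫ Spec.map (Scheme.ΓSpecIso R).inv = 𝟙 _ from
    toSpecΓ_SpecMap_ΓSpecIso_inv R, Category.comp_id]

theorem toSpecOf_ext {f g : X ⟶ Spec R}
    (h : (Scheme.ΓSpecIso R).inv ≫ f.appTop = (Scheme.ΓSpecIso R).inv ≫ g.appTop) : f = g := by
  rw [eq_toSpecOf f, eq_toSpecOf g, h]

theorem comp_toSpecOf {Y : Scheme.{u}} (h : Y ⟶ X) :
    h ≫ toSpecOf X φ = toSpecOf Y (φ ≫ h.appTop) := by
  unfold toSpecOf
  rw [Spec.map_comp, ← Scheme.toSpecΓ_naturality_assoc]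

theorem toSpecOf_SpecMap {R' : CommRingCat.{u}} (ψ : R' ⟶ R) :
    toSpecOf X φ ≫ Spec.map ψ = toSpecOf X (ψ ≫ φ) := by
  unfold toSpecOf
  rw [Spec.map_comp, Category.assoc]

theorem toSpecOf_preimage_basicOpen (r : R) :
    (toSpecOf X φ) ⁻¹ᵁ (PrimeSpectrum.basicOpen r) = X.basicOpen (φ r) := by
  have h1 : (Spec R).basicOpen ((Scheme.ΓSpecIso R).inv r) = PrimeSpectrum.basicOpen r :=
    basicOpen_eq_of_affine r
  have h2 : (toSpecOf X φ).appTop ((Scheme.ΓSpecIso R).inv r) = φ r := by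
    have := toSpecOf_appTop X φ
    exact congrArg (fun ψ => ψ.hom r) this
  rw [← h1, Scheme.preimage_basicOpen]
  congr 1

/-- A morphism to an affine scheme which is, over a family of basic opens covering the source,
given by localizations is an open immersion onto the union of these basic opens. -/
theorem isOpenImmersion_toSpecOf {ι : Type*} (r : ι → R)
    (hcov : ⨆ m, X.basicOpen (φ (r m)) = ⊤)
    (haff : ∀ m, IsAffineOpen (X.basicOpen (φ (r m))))
    (hloc : ∀ m, @IsLocalization.Away R _ (r m) Γ(X, X.basicOpen (φ (r m))) _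
      ((φ ≫ X.presheaf.map (homOfLE le_top).op).hom).toAlgebra) :
    IsOpenImmersion (toSpecOf X φ) ∧
      Set.range (toSpecOf X φ) =
        {p : Spec R | ∃ m, p ∈ (PrimeSpectrum.basicOpen (r m) : (Spec R).Opens)} := by
  set f := toSpecOf X φ with hf
  let W : ι → X.Opens := fun m => X.basicOpen (φ (r m))
  let ψ : ∀ m, R ⟶ Γ(X, W m) := fun m => φ ≫ X.presheaf.map (homOfLE le_top).op
  have key : ∀ m, (W m).ι ≫ f = (haff m).isoSpec.hom ≫ Spec.map (ψ m) := by
    intro m
    rw [hf, IsAffineOpen.isoSpec_hom]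
    unfold toSpecOf
    rw [← Scheme.Opens.toSpecΓ_SpecMap_presheaf_map_top_assoc, ← Spec.map_comp]
  have oiψ : ∀ m, IsOpenImmersion (Spec.map (ψ m)) := by
    intro m
    letI := (ψ m).hom.toAlgebra
    haveI : IsLocalization.Away (r m) Γ(X, W m) := hloc m
    exact IsOpenImmersion.of_isLocalization (R := R) (S := Γ(X, W m)) (r m)
  have oi : ∀ m, IsOpenImmersion ((W m).ι ≫ f) := by
    intro m
    rw [key m]
    haveI := oiψ m
    infer_instance
  have hpre : ∀ m, f ⁻¹ᵁ (PrimeSpectrum.basicOpen (r m)) = W m :=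
    fun m => toSpecOf_preimage_basicOpen φ (r m)
  have hmem : ∀ x : X, ∃ m, x ∈ W m := by
    intro x
    have hx : x ∈ ⨆ m, W m := by rw [hcov]; trivial
    exact TopologicalSpace.Opens.mem_iSup.mp hx
  have hinj : Function.Injective f := by
    intro x x' hxx'
    obtain ⟨m, hm⟩ := hmem x
    have h1 : f x ∈ PrimeSpectrum.basicOpen (r m) := by
      have : x ∈ f ⁻¹ᵁ (PrimeSpectrum.basicOpen (r m)) := by rw [hpre m]; exact hm
      exact this
    have h2 : x' ∈ W m := by
      rw [← hpre m]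
      have h5 : f x' ∈ (PrimeSpectrum.basicOpen (r m) : (Spec R).Opens) := by
        rw [← hxx']; exact h1
      exact h5
    haveI := oi m
    have h3 : ((W m).ι ≫ f) ⟨x, hm⟩ = ((W m).ι ≫ f) ⟨x', h2⟩ := by
      rw [Scheme.Hom.comp_apply, Scheme.Hom.comp_apply]
      exact hxx'
    have h4 := ((W m).ι ≫ f).isOpenEmbedding.injective h3
    exact congrArg Subtype.val h4
  have hoi : IsOpenImmersion f := by
    refine IsOpenImmersion.of_forall_source_exists f hinj ?_
    intro x
    obtain ⟨m, hm⟩ := hmem x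
    exact ⟨(W m : Scheme.{u}), (W m).ι, inferInstance, ⟨⟨x, hm⟩, rfl⟩, oi m⟩
  refine ⟨hoi, ?_⟩
  ext p
  simp only [Set.mem_setOf_eq]
  constructor
  · rintro ⟨x, rfl⟩
    obtain ⟨m, hm⟩ := hmem x
    refine ⟨m, ?_⟩
    have : x ∈ f ⁻¹ᵁ (PrimeSpectrum.basicOpen (r m)) := by rw [hpre m]; exact hm
    exact this
  · rintro ⟨m, hm⟩
    letI := (ψ m).hom.toAlgebra
    haveI : IsLocalization.Away (r m) Γ(X, W m) := hloc m
    have hrange := PrimeSpectrum.localization_away_comap_range Γ(X, W m) (r m)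
    have hp : p ∈ Set.range (PrimeSpectrum.comap (algebraMap R Γ(X, W m))) := by
      rw [hrange]; exact hm
    obtain ⟨z, hz⟩ := hp
    let z' : Spec Γ(X, W m) := z
    refine ⟨(W m).ι ((haff m).isoSpec.inv z'), ?_⟩
    rw [← Scheme.Hom.comp_apply, key m, ← Scheme.Hom.comp_apply, Iso.inv_hom_id_assoc]
    exact hz

end ToSpec

section GoodGeom

/-- For an open immersion `f : X ⟶ Y` into an affine scheme with `X` quasi-compact and a basic open
`D(g)` contained in the image, `Γ(Y) → Γ(X)` satisfies the `Good` conditions at `g`. -/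
theorem good_of_isOpenImmersion {X Y : Scheme.{u}} [CompactSpace X] [IsAffine Y] (f : X ⟶ Y)
    [IsOpenImmersion f] (g : Γ(Y, ⊤)) (hg : Y.basicOpen g ≤ f.opensRange) :
    Good f.appTop.hom g := by
  haveI hiso : IsIso (f.app (Y.basicOpen g)) := f.isIso_app _ hg
  have hpre : f ⁻¹ᵁ Y.basicOpen g = X.basicOpen (f.appTop g) := Scheme.preimage_basicOpen f g
  have hle : X.basicOpen (f.appTop g) ≤ f ⁻¹ᵁ Y.basicOpen g := le_of_eq hpre.symm
  -- naturality
  have hnat : ∀ y : Γ(Y, ⊤), f.app (Y.basicOpen g) (Y.presheaf.map (homOfLE le_top).op y) =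
      X.presheaf.map (homOfLE le_top).op (f.appTop y) := by
    intro y
    have h1 : Y.presheaf.map (homOfLE (le_top : Y.basicOpen g ≤ ⊤)).op ≫ f.app (Y.basicOpen g) =
        f.appTop ≫ X.presheaf.map (homOfLE (le_top : f ⁻¹ᵁ Y.basicOpen g ≤ ⊤)).op := by
      rw [Scheme.Hom.appTop]
      exact (f.naturality (homOfLE (le_top : Y.basicOpen g ≤ ⊤)).op)
    exact congrArg (fun ψ => ψ.hom y) h1
  have hinjapp : Function.Injective (f.app (Y.basicOpen g)) :=
    ((ConcreteCategory.isIso_iff_bijective _).mp hiso).1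
  constructor
  · intro z
    obtain ⟨w, hw⟩ := ((ConcreteCategory.isIso_iff_bijective _).mp hiso).2
      (X.presheaf.map (homOfLE (le_top : f ⁻¹ᵁ Y.basicOpen g ≤ ⊤)).op z)
    haveI := (isAffineOpen_top Y).isLocalization_basicOpen g
    obtain ⟨n, y, hy⟩ := IsLocalization.Away.surj g w
    have hy' : w * (Y.presheaf.map (homOfLE le_top).op g) ^ n =
        Y.presheaf.map (homOfLE le_top).op y := hy
    have h2 := congrArg (f.app (Y.basicOpen g)) hy'
    rw [map_mul, map_pow, hw, hnat, hnat, ← map_pow, ← map_mul] at h2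
    -- now a statement in Γ(X, f⁻¹ Y_g)
    have h3 : X.presheaf.map (homOfLE (le_top : f ⁻¹ᵁ Y.basicOpen g ≤ ⊤)).op
        (f.appTop g ^ n * z - f.appTop y) = 0 := by
      rw [map_sub, mul_comm, h2, sub_self]
    have h4 : X.presheaf.map (homOfLE (le_top : X.basicOpen (f.appTop g) ≤ ⊤)).op
        (f.appTop g ^ n * z - f.appTop y) = 0 := by
      have h5 := congrArg (X.presheaf.map (homOfLE hle).op) h3
      rw [map_zero, ← ConcreteCategory.comp_apply, ← Functor.map_comp] at h5
      exact h5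
    obtain ⟨n', hn'⟩ := exists_pow_mul_eq_zero_of_res_basicOpen_eq_zero_of_isCompact X
      (U := ⊤) isCompact_univ (f.appTop g ^ n * z - f.appTop y) (f.appTop g) h4
    refine ⟨g ^ n' * y, n' + n, ?_⟩
    change f.appTop g ^ (n' + n) * z = f.appTop (g ^ n' * y)
    rw [map_mul, map_pow, pow_add, mul_assoc]
    rw [mul_sub, sub_eq_zero] at hn'
    exact hn'
  · intro y hy
    have hy' : f.appTop y = 0 := hy
    have h1 : Y.presheaf.map (homOfLE (le_top : Y.basicOpen g ≤ ⊤)).op y = 0 := by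
      apply hinjapp
      rw [hnat, hy', map_zero, map_zero]
    exact exists_pow_mul_eq_zero_of_res_basicOpen_eq_zero_of_isCompact Y
      (U := ⊤) isCompact_univ y g h1

end GoodGeom

end Groth.Agent.Lib.lead.NaAlg
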