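import Mathlib
import Groth.Agent.Lib.lead.NaAlg

set_option linter.style.haveILetI false
universe u
open CategoryTheory AlgebraicGeometry Limits Opposite

namespace Groth.Agent.Lib.lead.NaStage

open Groth.Agent.Lib.lead.NaAlg

variable {I : Type u} [Category.{u} I] [IsCofiltered I]
  (D : I ⥤ Scheme.{u}) [∀ {i j} (f : i ⟶ j), IsAffineHom (D.map f)]
  [∀ i, IsNoetherian (D.obj i)]
  (c : Cone D) (hc : IsLimit c)
  {S : Scheme.{u}} [QuasiSeparatedSpace S] (jU : c.pt ⟶ S) [IsOpenImmersion jU]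
  (V : S.Opens) (hV : IsAffineOpen V)
  (i₀ : I) (O₀ : (D.obj i₀).Opens) (h1 : c.π.app i₀ ⁻¹ᵁ O₀ = jU ⁻¹ᵁ V)

omit [IsCofiltered I] [∀ {i j} (f : i ⟶ j), IsAffineHom (D.map f)] in
theorem isNoetherian_opens {X : Scheme.{u}} [IsNoetherian X] (U : X.Opens) :
    IsNoetherian (U : Scheme.{u}) :=
  { toIsLocallyNoetherian := inferInstance
    toCompactSpace := isCompact_iff_compactSpace.mp
      (TopologicalSpace.NoetherianSpace.isCompact (U : Set X)) }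

instance opens_noeth (k : Over i₀) : IsNoetherian ((opensDiagram D i₀ O₀).obj k) :=
  isNoetherian_opens (D.map k.hom ⁻¹ᵁ O₀)

include h1 in
theorem range_subset : Set.range ((c.π.app i₀ ⁻¹ᵁ O₀).ι ≫ jU) ⊆ Set.range hV.fromSpec := by
  rintro _ ⟨x, rfl⟩
  rw [IsAffineOpen.range_fromSpec]
  have hx : x.1 ∈ jU ⁻¹ᵁ V := by rw [← h1]; exact x.2
  rw [Scheme.Hom.comp_apply]
  exact hx

/-- the open immersion of the intersection into the affine piece -/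
noncomputable def bS : ((c.π.app i₀ ⁻¹ᵁ O₀ : c.pt.Opens) : Scheme.{u}) ⟶ Spec Γ(S, V) :=
  IsOpenImmersion.lift hV.fromSpec ((c.π.app i₀ ⁻¹ᵁ O₀).ι ≫ jU) (range_subset D c jU V hV i₀ O₀ h1)

theorem bS_fac : bS D c jU V hV i₀ O₀ h1 ≫ hV.fromSpec = (c.π.app i₀ ⁻¹ᵁ O₀).ι ≫ jU :=
  IsOpenImmersion.lift_fac _ _ _

instance : IsOpenImmersion (bS D c jU V hV i₀ O₀ h1) := by
  have : IsOpenImmersion (bS D c jU V hV i₀ O₀ h1 ≫ hV.fromSpec) := by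
    rw [bS_fac]; infer_instance
  exact IsOpenImmersion.of_comp _ hV.fromSpec

/-- the restriction map on functions -/
noncomputable def ρ : Γ(S, V) ⟶ Γ(((c.π.app i₀ ⁻¹ᵁ O₀ : c.pt.Opens) : Scheme.{u}), ⊤) :=
  (Scheme.ΓSpecIso Γ(S, V)).inv ≫ (bS D c jU V hV i₀ O₀ h1).appTop

theorem bS_eq : bS D c jU V hV i₀ O₀ h1 = toSpecOf _ (ρ D c jU V hV i₀ O₀ h1) :=
  eq_toSpecOf _

theorem mem_range_bS_iff (p : Spec Γ(S, V)) :
    p ∈ Set.range (bS D c jU V hV i₀ O₀ h1) ↔ hV.fromSpec p ∈ jU.opensRange := by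
  constructor
  · rintro ⟨x, rfl⟩
    rw [← Scheme.Hom.comp_apply, bS_fac, Scheme.Hom.comp_apply]
    exact ⟨_, rfl⟩
  · rintro ⟨y, hy⟩
    have hyV : y ∈ jU ⁻¹ᵁ V := by
      change jU y ∈ V
      rw [hy]
      have : hV.fromSpec p ∈ hV.fromSpec.opensRange := ⟨p, rfl⟩
      rw [hV.opensRange_fromSpec] at this
      exact this
    rw [← h1] at hyV
    refine ⟨⟨y, hyV⟩, ?_⟩
    apply hV.fromSpec.isOpenEmbedding.injective
    rw [← Scheme.Hom.comp_apply, bS_fac, Scheme.Hom.comp_apply, ← hy]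
    rfl

theorem basicOpen_subset_range_bS (g : Γ(S, V)) (hg : S.basicOpen g ≤ jU.opensRange) :
    ∀ p : Spec Γ(S, V), p ∈ (PrimeSpectrum.basicOpen g : (Spec Γ(S, V)).Opens) →
      p ∈ Set.range (bS D c jU V hV i₀ O₀ h1) := by
  intro p hp
  rw [mem_range_bS_iff]
  apply hg
  have : p ∈ hV.fromSpec ⁻¹ᵁ S.basicOpen g := by
    rw [hV.fromSpec_preimage_basicOpen]; exact hp
  exact this

/-- The data extracted at a finite stage. -/
structure StageData where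
  k : Over i₀
  ι : Type u
  fin : Finite ι
  g : ι → Γ(S, V)
  a : ι → Γ((opensDiagram D i₀ O₀).obj k, ⊤)
  hga : ∀ m, ((opensCone D c i₀ O₀).π.app k).appTop (a m) = ρ D c jU V hV i₀ O₀ h1 (g m)
  hcov : ⨆ m, ((opensDiagram D i₀ O₀).obj k).basicOpen (a m) = ⊤
  haff : ∀ m, IsAffineOpen (((opensDiagram D i₀ O₀).obj k).basicOpen (a m))
  hle : ∀ m, S.basicOpen (g m) ≤ jU.opensRange
  hsup : ∀ s : S, s ∈ jU.opensRange → s ∈ V → ∃ m, s ∈ S.basicOpen (g m)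

include hc hV in
theorem exists_finset_cover :
    ∃ G : Finset Γ(S, V), (∀ g ∈ G, S.basicOpen g ≤ jU.opensRange) ∧
      ∀ s : S, s ∈ jU.opensRange → s ∈ V → ∃ g ∈ G, s ∈ S.basicOpen g := by
  classical
  haveI : CompactSpace c.pt := Scheme.compactSpace_of_isLimit D c hc
  have hK : IsCompact ((jU.opensRange : Set S) ∩ (V : Set S)) :=
    QuasiSeparatedSpace.inter_isCompact _ _ jU.opensRange.isOpen (isCompact_range jU.continuous)
      V.isOpen hV.isCompact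
  let T := {g : Γ(S, V) // S.basicOpen g ≤ jU.opensRange}
  obtain ⟨t, ht⟩ := hK.elim_finite_subcover (fun g : T => (S.basicOpen g.1 : Set S))
    (fun g => (S.basicOpen g.1).isOpen) (by
      rintro s ⟨hs1, hs2⟩
      obtain ⟨f, hf1, hf2⟩ := hV.exists_basicOpen_le (V := jU.opensRange) ⟨s, hs1⟩ hs2
      exact Set.mem_iUnion.mpr ⟨⟨f, hf1⟩, hf2⟩)
  refine ⟨t.image Subtype.val, ?_, ?_⟩
  · intro g hg
    obtain ⟨g', _, rfl⟩ := Finset.mem_image.mp hg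
    exact g'.2
  · intro s hs1 hs2
    have := ht ⟨hs1, hs2⟩
    simp only [Set.mem_iUnion] at this
    obtain ⟨g', hg', hs⟩ := this
    exact ⟨g'.1, Finset.mem_image_of_mem _ hg', hs⟩

include hc in
theorem nonempty_stageData : Nonempty (StageData D c jU V hV i₀ O₀ h1) := by
  classical
  obtain ⟨G, hG1, hG2⟩ := exists_finset_cover D c hc jU V hV
  let 𝒪 := opensDiagram D i₀ O₀
  let cO := opensCone D c i₀ O₀
  have hlimO : IsLimit cO := isLimitOpensCone D c hc i₀ O₀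
  let ι := {g : Γ(S, V) // g ∈ G}
  let ρ' := ρ D c jU V hV i₀ O₀ h1
  -- (ii) sections come from stages
  have hex : ∀ m : ι, ∃ (k : Over i₀) (t : Γ(𝒪.obj k, ⊤)), ρ' m.1 = (cO.π.app k).appTop t :=
    fun m => exists_appTop_π_eq_of_isLimit 𝒪 cO hlimO (ρ' m.1)
  choose kk t ht using hex
  -- (iii) common stage
  obtain ⟨k₁, hk₁⟩ := IsCofiltered.inf_objs_exists (Finset.univ.image kk)
  let f₁ : ∀ m : ι, k₁ ⟶ kk m := fun m =>
    (hk₁ (Finset.mem_image_of_mem kk (Finset.mem_univ m))).some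
  let a₁ : ι → Γ(𝒪.obj k₁, ⊤) := fun m => (𝒪.map (f₁ m)).appTop (t m)
  have ha₁ : ∀ m, (cO.π.app k₁).appTop (a₁ m) = ρ' m.1 := by
    intro m
    rw [ht m, ← cO.w (f₁ m), Scheme.Hom.comp_appTop]
    rfl
  -- the basic opens of the ρ g cover
  have hbasic : ∀ m : ι, (bS D c jU V hV i₀ O₀ h1) ⁻¹ᵁ (PrimeSpectrum.basicOpen m.1) =
      Scheme.basicOpen _ (ρ' m.1) := by
    intro m
    rw [bS_eq]
    exact toSpecOf_preimage_basicOpen _ _
  have hcovc : ∀ x : ((c.π.app i₀ ⁻¹ᵁ O₀ : c.pt.Opens) : Scheme.{u}),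
      ∃ m : ι, x ∈ Scheme.basicOpen _ (ρ' m.1) := by
    intro x
    have hx1 : hV.fromSpec (bS D c jU V hV i₀ O₀ h1 x) = jU x.1 := by
      rw [← Scheme.Hom.comp_apply, bS_fac, Scheme.Hom.comp_apply]; rfl
    have hx2 : jU x.1 ∈ V := by
      have : x.1 ∈ jU ⁻¹ᵁ V := by rw [← h1]; exact x.2
      exact this
    obtain ⟨g, hg, hs⟩ := hG2 (jU x.1) ⟨x.1, rfl⟩ hx2
    refine ⟨⟨g, hg⟩, ?_⟩
    rw [← hbasic]
    change bS D c jU V hV i₀ O₀ h1 x ∈ PrimeSpectrum.basicOpen g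
    rw [← hV.fromSpec_preimage_basicOpen]
    change hV.fromSpec (bS D c jU V hV i₀ O₀ h1 x) ∈ S.basicOpen g
    rw [hx1]
    exact hs
  -- (iv) covering at a later stage
  let T₁ : (𝒪.obj k₁).Opens := ⨆ m, (𝒪.obj k₁).basicOpen (a₁ m)
  have hT₁ : cO.π.app k₁ ⁻¹ᵁ T₁ = ⊤ := by
    rw [eq_top_iff]
    intro x _
    obtain ⟨m, hm⟩ := hcovc x
    rw [Scheme.Hom.preimage_iSup, TopologicalSpace.Opens.mem_iSup]
    refine ⟨m, ?_⟩
    rw [Scheme.preimage_basicOpen]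
    change x ∈ Scheme.basicOpen _ ((cO.π.app k₁).appTop (a₁ m))
    rw [ha₁ m]
    exact hm
  obtain ⟨k₂, f₂, hk₂⟩ := exists_map_eq_top 𝒪 cO hlimO T₁ hT₁
  let a₂ : ι → Γ(𝒪.obj k₂, ⊤) := fun m => (𝒪.map f₂).appTop (a₁ m)
  have ha₂ : ∀ m, (cO.π.app k₂).appTop (a₂ m) = ρ' m.1 := by
    intro m
    rw [← ha₁ m, ← cO.w f₂, Scheme.Hom.comp_appTop]
    rfl
  have hcov₂ : ⨆ m, (𝒪.obj k₂).basicOpen (a₂ m) = ⊤ := by
    have h3 : 𝒪.map f₂ ⁻¹ᵁ T₁ = ⨆ m, (𝒪.obj k₂).basicOpen (a₂ m) := by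
      rw [Scheme.Hom.preimage_iSup]
      congr 1
      funext m
      rw [Scheme.preimage_basicOpen]
      rfl
    rw [← h3]
    exact hk₂
  -- (v) affineness at a later stage
  have haffc : ∀ m : ι, IsAffineOpen (Scheme.basicOpen
      ((c.π.app i₀ ⁻¹ᵁ O₀ : c.pt.Opens) : Scheme.{u}) (ρ' m.1)) := by
    intro m
    rw [← hbasic m]
    have h2 : (bS D c jU V hV i₀ O₀ h1) ''ᵁ ((bS D c jU V hV i₀ O₀ h1) ⁻¹ᵁ
        (PrimeSpectrum.basicOpen m.1)) = PrimeSpectrum.basicOpen m.1 := by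
      rw [Scheme.Hom.image_preimage_eq_opensRange_inf]
      apply inf_eq_right.mpr
      intro p hp
      exact basicOpen_subset_range_bS D c jU V hV i₀ O₀ h1 m.1 (hG1 m.1 m.2) p hp
    rw [← Scheme.Hom.isAffineOpen_iff_of_isOpenImmersion (bS D c jU V hV i₀ O₀ h1), h2]
    have h3 := (isAffineOpen_top (Spec Γ(S, V))).basicOpen ((Scheme.ΓSpecIso Γ(S, V)).inv m.1)
    rw [basicOpen_eq_of_affine] at h3
    exact h3
  have hexaff : ∀ m : ι, ∃ j : Over k₂, IsAffineOpen (𝒪.map j.hom ⁻¹ᵁ (𝒪.obj k₂).basicOpen (a₂ m)) := by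
    intro m
    let T := (𝒪.obj k₂).basicOpen (a₂ m)
    have hpre : cO.π.app k₂ ⁻¹ᵁ T = Scheme.basicOpen _ (ρ' m.1) := by
      rw [Scheme.preimage_basicOpen]
      change Scheme.basicOpen _ ((cO.π.app k₂).appTop (a₂ m)) = _
      rw [ha₂ m]
      rfl
    haveI : IsAffine (opensCone 𝒪 cO k₂ T).pt := by
      change IsAffine ((cO.π.app k₂ ⁻¹ᵁ T : cO.pt.Opens) : Scheme.{u})
      rw [hpre]
      exact haffc m
    haveI : ∀ j : Over k₂, IsNoetherian ((opensDiagram 𝒪 k₂ T).obj j) := fun j =>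
      isNoetherian_opens (𝒪.map j.hom ⁻¹ᵁ T)
    obtain ⟨j, hj⟩ := Scheme.exists_isAffine_of_isLimit (opensDiagram 𝒪 k₂ T) (opensCone 𝒪 cO k₂ T)
      (isLimitOpensCone 𝒪 cO hlimO k₂ T)
    exact ⟨j, hj⟩
  choose jj hjj using hexaff
  obtain ⟨k₃', hk₃'⟩ := IsCofiltered.inf_objs_exists (Finset.univ.image jj)
  let f₃' : ∀ m : ι, k₃' ⟶ jj m := fun m =>
    (hk₃' (Finset.mem_image_of_mem jj (Finset.mem_univ m))).some
  let k₃ : Over i₀ := k₃'.left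
  let f₃ : k₃ ⟶ k₂ := k₃'.hom
  let a₃ : ι → Γ(𝒪.obj k₃, ⊤) := fun m => (𝒪.map f₃).appTop (a₂ m)
  have hbo : ∀ m, (𝒪.obj k₃).basicOpen (a₃ m) = 𝒪.map f₃ ⁻¹ᵁ (𝒪.obj k₂).basicOpen (a₂ m) := by
    intro m
    rw [Scheme.preimage_basicOpen]
    rfl
  refine ⟨⟨k₃, ι, inferInstance, fun m => m.1, a₃, ?_, ?_, ?_, fun m => hG1 m.1 m.2, ?_⟩⟩
  · intro m
    rw [← ha₂ m, ← cO.w f₃, Scheme.Hom.comp_appTop]
    rfl
  · have h3 : ⨆ m, (𝒪.obj k₃).basicOpen (a₃ m) =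
        𝒪.map f₃ ⁻¹ᵁ (⨆ m, (𝒪.obj k₂).basicOpen (a₂ m)) := by
      rw [Scheme.Hom.preimage_iSup]
      congr 1
      funext m
      exact hbo m
    rw [h3, hcov₂]
    rfl
  · intro m
    rw [hbo m]
    have hw : (f₃' m).left ≫ (jj m).hom = f₃ := Over.w (f₃' m)
    rw [← hw, 𝒪.map_comp, Scheme.Hom.comp_preimage]
    exact (hjj m).preimage (𝒪.map (f₃' m).left)
  · intro s hs1 hs2
    obtain ⟨g, hg, hs⟩ := hG2 s hs1 hs2
    exact ⟨⟨g, hg⟩, hs⟩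

end Groth.Agent.Lib.lead.NaStage
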