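import Mathlib
import Groth.Agent.Lib.lead.NaStage
import Groth.Agent.Lib.lead.NaAGL

set_option linter.style.haveILetI false
universe u
open CategoryTheory AlgebraicGeometry Limits Opposite

namespace Groth.Agent.Lib.lead.NaStep

open Groth.Agent.Lib.lead.NaAlg Groth.Agent.Lib.lead.NaStage

variable {I : Type u} [Category.{u} I] [IsCofiltered I]
  (D : I ⥤ Scheme.{u}) [∀ {i j} (f : i ⟶ j), IsAffineHom (D.map f)]
  [∀ i, IsNoetherian (D.obj i)]
  (c : Cone D) (hc : IsLimit c)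
  {S : Scheme.{u}} [QuasiSeparatedSpace S] (jU : c.pt ⟶ S) [IsOpenImmersion jU]
  (V : S.Opens) (hV : IsAffineOpen V)
  (i₀ : I) (O₀ : (D.obj i₀).Opens) (h1 : c.π.app i₀ ⁻¹ᵁ O₀ = jU ⁻¹ᵁ V)

/-- functions on the `k`-th stage of the intersection -/
noncomputable abbrev Ak (k : Over i₀) : CommRingCat.{u} := Γ((opensDiagram D i₀ O₀).obj k, ⊤)

/-- functions on the intersection in the limit -/
noncomputable abbrev Ac : CommRingCat.{u} := Γ(((c.π.app i₀ ⁻¹ᵁ O₀ : c.pt.Opens) : Scheme.{u}), ⊤)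

/-- pull back to the limit -/
noncomputable def qk (k : Over i₀) : Ak D i₀ O₀ k ⟶ Ac D c i₀ O₀ :=
  ((opensCone D c i₀ O₀).π.app k).appTop

/-- transition maps on functions -/
noncomputable def tk {k k' : Over i₀} (f : k ⟶ k') : Ak D i₀ O₀ k' ⟶ Ak D i₀ O₀ k :=
  ((opensDiagram D i₀ O₀).map f).appTop

omit [IsCofiltered I] [∀ {i j} (f : i ⟶ j), IsAffineHom (D.map f)] [∀ i, IsNoetherian (D.obj i)] in
theorem tk_qk {k k' : Over i₀} (f : k ⟶ k') : tk D i₀ O₀ f ≫ qk D c i₀ O₀ k = qk D c i₀ O₀ k' := by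
  have h := (opensCone D c i₀ O₀).w f
  have h2 := congrArg Scheme.Hom.appTop h
  rw [Scheme.Hom.comp_appTop] at h2
  exact h2

omit [IsCofiltered I] [∀ {i j} (f : i ⟶ j), IsAffineHom (D.map f)] [∀ i, IsNoetherian (D.obj i)] in
theorem tk_id (k : Over i₀) : tk D i₀ O₀ (𝟙 k) = 𝟙 _ := by
  unfold tk
  rw [(opensDiagram D i₀ O₀).map_id]
  rfl

omit [IsCofiltered I] [∀ {i j} (f : i ⟶ j), IsAffineHom (D.map f)] [∀ i, IsNoetherian (D.obj i)] in
theorem tk_comp {k k' k'' : Over i₀} (f : k ⟶ k') (f' : k' ⟶ k'') :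
    tk D i₀ O₀ (f ≫ f') = tk D i₀ O₀ f' ≫ tk D i₀ O₀ f := by
  unfold tk
  rw [(opensDiagram D i₀ O₀).map_comp, Scheme.Hom.comp_appTop]

/-- the fibre product ring at stage `k` -/
noncomputable abbrev Pk (k : Over i₀) : Subring (Γ(S, V) × Ak D i₀ O₀ k) :=
  P (ρ D c jU V hV i₀ O₀ h1).hom (qk D c i₀ O₀ k).hom

/-- transition maps on the fibre product rings -/
noncomputable def θ {k k' : Over i₀} (f : k ⟶ k') :
    Pk D c jU V hV i₀ O₀ h1 k' →+* Pk D c jU V hV i₀ O₀ h1 k where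
  toFun y := P.mk (P.fst y) ((tk D i₀ O₀ f).hom (P.snd y)) (by
    exact (P.cond y).trans (congrArg (fun ψ => ψ.hom (P.snd y)) (tk_qk D c i₀ O₀ f)).symm)
  map_one' := by apply P.ext <;> simp [P.fst_apply, P.snd_apply, P.mk]
  map_mul' x y := by apply P.ext <;> simp [P.fst_apply, P.snd_apply, P.mk]
  map_zero' := by apply P.ext <;> simp [P.fst_apply, P.snd_apply, P.mk]
  map_add' x y := by apply P.ext <;> simp [P.fst_apply, P.snd_apply, P.mk]


theorem θ_fst {k k' : Over i₀} (f : k ⟶ k') (y : Pk D c jU V hV i₀ O₀ h1 k') :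
    P.fst (θ D c jU V hV i₀ O₀ h1 f y) = P.fst y := rfl

theorem θ_snd {k k' : Over i₀} (f : k ⟶ k') (y : Pk D c jU V hV i₀ O₀ h1 k') :
    P.snd (θ D c jU V hV i₀ O₀ h1 f y) = (tk D i₀ O₀ f).hom (P.snd y) := rfl

theorem θ_id (k : Over i₀) (y : Pk D c jU V hV i₀ O₀ h1 k) :
    θ D c jU V hV i₀ O₀ h1 (𝟙 k) y = y := by
  apply P.ext
  · rfl
  · rw [θ_snd, tk_id]; rfl

theorem θ_comp {k k' k'' : Over i₀} (f : k ⟶ k') (f' : k' ⟶ k'')
    (y : Pk D c jU V hV i₀ O₀ h1 k'') :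
    θ D c jU V hV i₀ O₀ h1 (f ≫ f') y = θ D c jU V hV i₀ O₀ h1 f (θ D c jU V hV i₀ O₀ h1 f' y) := by
  apply P.ext
  · rfl
  · rw [θ_snd, θ_snd, θ_snd, tk_comp]; rfl

variable (sd : StageData D c jU V hV i₀ O₀ h1)

/-- the sections `a m` transported to a later stage -/
noncomputable def aj (j : Over sd.k) (m : sd.ι) : Ak D i₀ O₀ j.left :=
  (tk D i₀ O₀ j.hom).hom (sd.a m)

theorem qk_aj (j : Over sd.k) (m : sd.ι) :
    (qk D c i₀ O₀ j.left).hom (aj D c jU V hV i₀ O₀ h1 sd j m) =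
      (ρ D c jU V hV i₀ O₀ h1).hom (sd.g m) := by
  unfold aj
  have h := congrArg (fun ψ => ψ.hom (sd.a m)) (tk_qk D c i₀ O₀ j.hom)
  exact h.trans (sd.hga m)

theorem tk_aj {j j' : Over sd.k} (f : j ⟶ j') (m : sd.ι) :
    (tk D i₀ O₀ f.left).hom (aj D c jU V hV i₀ O₀ h1 sd j' m) = aj D c jU V hV i₀ O₀ h1 sd j m := by
  unfold aj
  have h := tk_comp D i₀ O₀ f.left j'.hom
  rw [Over.w f] at h
  exact (congrArg (fun ψ => ψ.hom (sd.a m)) h).symm

/-- the lifted elements `g' = (g, a)` of the fibre product -/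
noncomputable def g' (j : Over sd.k) (m : sd.ι) : Pk D c jU V hV i₀ O₀ h1 j.left :=
  P.mk (sd.g m) (aj D c jU V hV i₀ O₀ h1 sd j m) (qk_aj D c jU V hV i₀ O₀ h1 sd j m).symm

theorem θ_g' {j j' : Over sd.k} (f : j ⟶ j') (m : sd.ι) :
    θ D c jU V hV i₀ O₀ h1 f.left (g' D c jU V hV i₀ O₀ h1 sd j' m) =
      g' D c jU V hV i₀ O₀ h1 sd j m := by
  apply P.ext
  · rfl
  · exact tk_aj D c jU V hV i₀ O₀ h1 sd f m


/-- `Good` is invariant under precomposition with a ring isomorphism. -/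
theorem good_comp_of_bijective {B₀ B A : Type u} [CommRing B₀] [CommRing B] [CommRing A]
    (φ : B →+* A) (e : B₀ →+* B) (he : Function.Bijective e) (g : B₀) (h : Good φ (e g)) :
    Good (φ.comp e) g := by
  constructor
  · intro z
    obtain ⟨y', n, hy'⟩ := h.surj z
    obtain ⟨y, rfl⟩ := he.2 y'
    exact ⟨y, n, hy'⟩
  · intro y hy
    obtain ⟨n, hn⟩ := h.inj (e y) hy
    refine ⟨n, he.1 ?_⟩
    rw [map_mul, map_pow, hn, map_zero]

include hc in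
theorem compactSpace_cO : CompactSpace ((c.π.app i₀ ⁻¹ᵁ O₀ : c.pt.Opens) : Scheme.{u}) :=
  Scheme.compactSpace_of_isLimit (opensDiagram D i₀ O₀) (opensCone D c i₀ O₀)
    (isLimitOpensCone D c hc i₀ O₀)

include hc in
theorem good_g (m : sd.ι) : Good (ρ D c jU V hV i₀ O₀ h1).hom (sd.g m) := by
  haveI := compactSpace_cO D c hc i₀ O₀
  have h := good_of_isOpenImmersion (bS D c jU V hV i₀ O₀ h1)
    ((Scheme.ΓSpecIso Γ(S, V)).inv (sd.g m)) (by
      rw [basicOpen_eq_of_affine]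
      intro p hp
      exact basicOpen_subset_range_bS D c jU V hV i₀ O₀ h1 (sd.g m) (sd.hle m) p hp)
  have hbij : Function.Bijective (Scheme.ΓSpecIso Γ(S, V)).inv.hom :=
    (ConcreteCategory.isIso_iff_bijective _).mp inferInstance
  exact good_comp_of_bijective _ _ hbij (sd.g m) h

/-- the stage schemes -/
noncomputable abbrev Xk (k : Over i₀) : Scheme.{u} := (opensDiagram D i₀ O₀).obj k

theorem basicOpen_aj (j : Over sd.k) (m : sd.ι) :
    (Xk D i₀ O₀ j.left).basicOpen (aj D c jU V hV i₀ O₀ h1 sd j m) =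
      (opensDiagram D i₀ O₀).map j.hom ⁻¹ᵁ ((Xk D i₀ O₀ sd.k).basicOpen (sd.a m)) := by
  rw [Scheme.preimage_basicOpen]
  rfl

theorem isAffineOpen_basicOpen_aj (j : Over sd.k) (m : sd.ι) :
    IsAffineOpen ((Xk D i₀ O₀ j.left).basicOpen (aj D c jU V hV i₀ O₀ h1 sd j m)) := by
  rw [basicOpen_aj]
  exact (sd.haff m).preimage _

theorem iSup_basicOpen_aj (j : Over sd.k) :
    ⨆ m, (Xk D i₀ O₀ j.left).basicOpen (aj D c jU V hV i₀ O₀ h1 sd j m) = ⊤ := by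
  have h3 : ⨆ m, (Xk D i₀ O₀ j.left).basicOpen (aj D c jU V hV i₀ O₀ h1 sd j m) =
      (opensDiagram D i₀ O₀).map j.hom ⁻¹ᵁ (⨆ m, (Xk D i₀ O₀ sd.k).basicOpen (sd.a m)) := by
    rw [Scheme.Hom.preimage_iSup]
    congr 1
    funext m
    exact basicOpen_aj D c jU V hV i₀ O₀ h1 sd j m
  rw [h3, sd.hcov]
  rfl

/-- the localizations -/
noncomputable abbrev Lj (j : Over sd.k) (m : sd.ι) : Type u :=
  Γ(Xk D i₀ O₀ j.left, (Xk D i₀ O₀ j.left).basicOpen (aj D c jU V hV i₀ O₀ h1 sd j m))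

instance isLoc_Lj (j : Over sd.k) (m : sd.ι) :
    IsLocalization.Away (aj D c jU V hV i₀ O₀ h1 sd j m) (Lj D c jU V hV i₀ O₀ h1 sd j m) :=
  isLocalization_basicOpen_of_qcqs (U := ⊤) isCompact_univ isQuasiSeparated_univ _

section FT

variable (hFT : ∀ (i : I) (W : (D.obj i).Opens), IsAffineOpen W → Algebra.FiniteType ℤ Γ(D.obj i, W))

include hFT in
theorem finiteType_Lj (j : Over sd.k) (m : sd.ι) :
    Algebra.FiniteType ℤ (Lj D c jU V hV i₀ O₀ h1 sd j m) := by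
  let W : ((D.map j.left.hom ⁻¹ᵁ O₀ : (D.obj j.left.left).Opens) : Scheme.{u}).Opens :=
    (Xk D i₀ O₀ j.left).basicOpen (aj D c jU V hV i₀ O₀ h1 sd j m)
  have hW : IsAffineOpen W := isAffineOpen_basicOpen_aj D c jU V hV i₀ O₀ h1 sd j m
  exact hFT j.left.left ((D.map j.left.hom ⁻¹ᵁ O₀).ι ''ᵁ W)
    (hW.image_of_isOpenImmersion (D.map j.left.hom ⁻¹ᵁ O₀).ι)

include hc hFT in
theorem exists_base (j : Over sd.k) :
    ∃ G : Finset (Pk D c jU V hV i₀ O₀ h1 j.left),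
      (∀ m, g' D c jU V hV i₀ O₀ h1 sd j m ∈ G) ∧
      ∀ B' : Subalgebra ℤ (Pk D c jU V hV i₀ O₀ h1 j.left),
        (G : Set (Pk D c jU V hV i₀ O₀ h1 j.left)) ⊆ B' →
        ∀ (m : sd.ι) (l : Lj D c jU V hV i₀ O₀ h1 sd j m), ∃ y ∈ B', ∃ n : ℕ,
          l * algebraMap _ _ (aj D c jU V hV i₀ O₀ h1 sd j m) ^ n = algebraMap _ _ (P.snd y) := by
  classical
  haveI := sd.fin
  haveI := Fintype.ofFinite sd.ι
  have hex : ∀ m : sd.ι, ∃ G : Finset (Pk D c jU V hV i₀ O₀ h1 j.left),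
      ∀ B' : Subalgebra ℤ (Pk D c jU V hV i₀ O₀ h1 j.left),
        g' D c jU V hV i₀ O₀ h1 sd j m ∈ B' → (G : Set (Pk D c jU V hV i₀ O₀ h1 j.left)) ⊆ B' →
        ∀ l : Lj D c jU V hV i₀ O₀ h1 sd j m, ∃ y ∈ B', ∃ n : ℕ,
          l * algebraMap _ _ (aj D c jU V hV i₀ O₀ h1 sd j m) ^ n = algebraMap _ _ (P.snd y) := by
    intro m
    haveI := finiteType_Lj D c jU V hV i₀ O₀ h1 sd hFT j m
    exact exists_finset_gen (qk_aj D c jU V hV i₀ O₀ h1 sd j m).symm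
      (good_g D c hc jU V hV i₀ O₀ h1 sd m) (Lj D c jU V hV i₀ O₀ h1 sd j m)
  choose G hG using hex
  refine ⟨Finset.univ.biUnion G ∪ Finset.univ.image (g' D c jU V hV i₀ O₀ h1 sd j), ?_, ?_⟩
  · intro m
    exact Finset.mem_union_right _ (Finset.mem_image_of_mem _ (Finset.mem_univ m))
  · intro B' hB' m l
    refine hG m B' ?_ ?_ l
    · exact hB' (Finset.mem_coe.mpr (Finset.mem_union_right _
        (Finset.mem_image_of_mem _ (Finset.mem_univ m))))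
    · intro y hy
      exact hB' (Finset.mem_coe.mpr (Finset.mem_union_left _
        (Finset.mem_biUnion.mpr ⟨m, Finset.mem_univ m, hy⟩)))

/-- the base finite sets -/
noncomputable def base (j : Over sd.k) : Finset (Pk D c jU V hV i₀ O₀ h1 j.left) :=
  (exists_base D c hc jU V hV i₀ O₀ h1 sd hFT j).choose

theorem g'_mem_base (j : Over sd.k) (m : sd.ι) :
    g' D c jU V hV i₀ O₀ h1 sd j m ∈ base D c hc jU V hV i₀ O₀ h1 sd hFT j :=
  (exists_base D c hc jU V hV i₀ O₀ h1 sd hFT j).choose_spec.1 m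

theorem base_spec (j : Over sd.k) (B' : Subalgebra ℤ (Pk D c jU V hV i₀ O₀ h1 j.left))
    (hB' : (base D c hc jU V hV i₀ O₀ h1 sd hFT j : Set (Pk D c jU V hV i₀ O₀ h1 j.left)) ⊆ B')
    (m : sd.ι) (l : Lj D c jU V hV i₀ O₀ h1 sd j m) : ∃ y ∈ B', ∃ n : ℕ,
      l * algebraMap _ _ (aj D c jU V hV i₀ O₀ h1 sd j m) ^ n = algebraMap _ _ (P.snd y) :=
  (exists_base D c hc jU V hV i₀ O₀ h1 sd hFT j).choose_spec.2 B' hB' m l

/-- The index type of the approximating system. -/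
structure Idx where
  j : Over sd.k
  B' : Subalgebra ℤ (Pk D c jU V hV i₀ O₀ h1 j.left)
  fg : B'.FG
  hb : (base D c hc jU V hV i₀ O₀ h1 sd hFT j : Set (Pk D c jU V hV i₀ O₀ h1 j.left)) ⊆ B'

instance over_thin {C : Type*} [Category C] [Quiver.IsThin C] (X : C) : Quiver.IsThin (Over X) :=
  fun _ _ => ⟨fun _ _ => Over.OverMorphism.ext (Subsingleton.elim _ _)⟩

instance : Preorder (Idx D c hc jU V hV i₀ O₀ h1 sd hFT) where
  le x y := ∃ f : y.j ⟶ x.j, ∀ z ∈ x.B', θ D c jU V hV i₀ O₀ h1 f.left z ∈ y.B'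
  le_refl x := ⟨𝟙 _, fun z hz => by
    rw [show (𝟙 x.j : x.j ⟶ x.j).left = 𝟙 x.j.left from rfl, θ_id]; exact hz⟩
  le_trans x y w := by
    rintro ⟨f, hf⟩ ⟨f', hf'⟩
    refine ⟨f' ≫ f, fun z hz => ?_⟩
    rw [show (f' ≫ f).left = f'.left ≫ f.left from rfl, θ_comp]
    exact hf' _ (hf z hz)

theorem Idx.le_def (x y : Idx D c hc jU V hV i₀ O₀ h1 sd hFT) :
    x ≤ y ↔ ∃ f : y.j ⟶ x.j, ∀ z ∈ x.B', θ D c jU V hV i₀ O₀ h1 f.left z ∈ y.B' := Iff.rfl

/-- the smallest index at a given stage above given subalgebras -/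
noncomputable abbrev Idx.mk' (j : Over sd.k) (B₀ : Subalgebra ℤ (Pk D c jU V hV i₀ O₀ h1 j.left))
    (h₀ : B₀.FG) : Idx D c hc jU V hV i₀ O₀ h1 sd hFT where
  j := j
  B' := B₀ ⊔ Algebra.adjoin ℤ (base D c hc jU V hV i₀ O₀ h1 sd hFT j : Set _)
  fg := h₀.sup (Subalgebra.fg_adjoin_finset _)
  hb := fun _ hy => (le_sup_right : _ ≤ B₀ ⊔ _) (Algebra.subset_adjoin hy)

instance : Nonempty (Idx D c hc jU V hV i₀ O₀ h1 sd hFT) :=
  ⟨Idx.mk' D c hc jU V hV i₀ O₀ h1 sd hFT (Over.mk (𝟙 sd.k)) ⊥ Subalgebra.fg_bot⟩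

instance : IsDirected (Idx D c hc jU V hV i₀ O₀ h1 sd hFT) (fun a b => a ≤ b) where
  directed x y := by
    let j := IsCofiltered.min x.j y.j
    let f : j ⟶ x.j := IsCofiltered.minToLeft x.j y.j
    let f' : j ⟶ y.j := IsCofiltered.minToRight x.j y.j
    refine ⟨Idx.mk' D c hc jU V hV i₀ O₀ h1 sd hFT j
      (x.B'.map (θ D c jU V hV i₀ O₀ h1 f.left).toIntAlgHom ⊔
        y.B'.map (θ D c jU V hV i₀ O₀ h1 f'.left).toIntAlgHom)
      ((x.fg.map _).sup (y.fg.map _)), ⟨f, fun z hz => ?_⟩, ⟨f', fun z hz => ?_⟩⟩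
    · have hz1 : θ D c jU V hV i₀ O₀ h1 f.left z ∈
          x.B'.map (θ D c jU V hV i₀ O₀ h1 f.left).toIntAlgHom := ⟨z, hz, rfl⟩
      exact Algebra.mem_sup_left (Algebra.mem_sup_left hz1)
    · have hz1 : θ D c jU V hV i₀ O₀ h1 f'.left z ∈
          y.B'.map (θ D c jU V hV i₀ O₀ h1 f'.left).toIntAlgHom := ⟨z, hz, rfl⟩
      exact Algebra.mem_sup_left (Algebra.mem_sup_right hz1)

end FT

end Groth.Agent.Lib.lead.NaStep
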