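import Mathlib
import Groth.Agent.Lib.lead.NaStep

set_option linter.style.haveILetI false
universe u
open CategoryTheory AlgebraicGeometry Limits Opposite

namespace Groth.Agent.Lib.lead.NaStep

open Groth.Agent.Lib.lead.NaAlg Groth.Agent.Lib.lead.NaStage

variable {I : Type u} [Category.{u} I] [IsCofiltered I] [Quiver.IsThin I]
  (D : I ⥤ Scheme.{u}) [∀ {i j} (f : i ⟶ j), IsAffineHom (D.map f)]
  [∀ i, IsNoetherian (D.obj i)]
  (c : Cone D) (hc : IsLimit c)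
  {S : Scheme.{u}} [QuasiSeparatedSpace S] (jU : c.pt ⟶ S) [IsOpenImmersion jU]
  (V : S.Opens) (hV : IsAffineOpen V)
  (i₀ : I) (O₀ : (D.obj i₀).Opens) (h1 : c.π.app i₀ ⁻¹ᵁ O₀ = jU ⁻¹ᵁ V)
  (sd : StageData D c jU V hV i₀ O₀ h1)
  (hFT : ∀ (i : I) (W : (D.obj i).Opens), IsAffineOpen W → Algebra.FiniteType ℤ Γ(D.obj i, W))

local notation "𝕁" => Idx D c hc jU V hV i₀ O₀ h1 sd hFT

variable {D c hc jU V hV i₀ O₀ h1 sd hFT}

/-- the chosen morphism of stages underlying an inequality of indices -/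
noncomputable def mor {x y : 𝕁} (h : x ≤ y) : y.j ⟶ x.j := h.choose

theorem mor_spec {x y : 𝕁} (h : x ≤ y) :
    ∀ z ∈ x.B', θ D c jU V hV i₀ O₀ h1 (mor h).left z ∈ y.B' := h.choose_spec

/-- the restriction of the transition maps to the subalgebras -/
noncomputable def res {x y : 𝕁} (h : x ≤ y) : x.B' →+* y.B' :=
  RingHom.codRestrict ((θ D c jU V hV i₀ O₀ h1 (mor h).left).comp x.B'.val.toRingHom) y.B'
    (fun z => mor_spec h z.1 z.2)

theorem res_val {x y : 𝕁} (h : x ≤ y) (z : x.B') :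
    ((res h z : y.B') : Pk D c jU V hV i₀ O₀ h1 y.j.left) =
      θ D c jU V hV i₀ O₀ h1 (mor h).left z.1 := rfl

theorem res_val' {x y : 𝕁} (h : x ≤ y) (f : y.j ⟶ x.j) (z : x.B') :
    ((res h z : y.B') : Pk D c jU V hV i₀ O₀ h1 y.j.left) =
      θ D c jU V hV i₀ O₀ h1 f.left z.1 := by
  rw [res_val, Subsingleton.elim (mor h) f]

theorem res_refl {x : 𝕁} (z : x.B') : res (le_refl x) z = z := by
  apply Subtype.ext
  rw [res_val' (le_refl x) (𝟙 _)]
  exact θ_id D c jU V hV i₀ O₀ h1 _ _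

theorem res_res {x y w : 𝕁} (h : x ≤ y) (h' : y ≤ w) (z : x.B') :
    res h' (res h z) = res (h.trans h') z := by
  apply Subtype.ext
  rw [res_val' (h.trans h') (mor h' ≫ mor h), res_val, res_val]
  exact (θ_comp D c jU V hV i₀ O₀ h1 _ _ _).symm

variable (D c hc jU V hV i₀ O₀ h1 sd hFT)

/-- the diagram of rings `B'` -/
noncomputable def DVr : 𝕁 ⥤ CommRingCat.{u} where
  obj x := CommRingCat.of x.B'
  map φ := CommRingCat.ofHom (res (leOfHom φ))
  map_id x := CommRingCat.hom_ext (RingHom.ext fun z => res_refl z)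
  map_comp φ ψ := by
    apply CommRingCat.hom_ext
    apply RingHom.ext
    intro z
    change res (leOfHom (φ ≫ ψ)) z = res (leOfHom ψ) (res (leOfHom φ) z)
    exact (res_res (leOfHom φ) (leOfHom ψ) z).symm

/-- the cocone over the diagram of rings `B'` with vertex `Γ(S, V)` -/
noncomputable def cVr : Cocone (DVr D c hc jU V hV i₀ O₀ h1 sd hFT) where
  pt := Γ(S, V)
  ι :=
    { app := fun x => CommRingCat.ofHom (P.fst.comp x.B'.val.toRingHom)
      naturality := fun x y φ => CommRingCat.hom_ext (RingHom.ext fun z => rfl) }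


theorem P_cond' {B A A' : Type u} [CommRing B] [CommRing A] [CommRing A'] {ρ : B →+* A}
    {q : A' →+* A} (y : P ρ q) : ρ (P.fst y) = q (P.snd y) := y.2

/-- `Γ(S, V)` is the filtered colimit of the rings `B'`. -/
noncomputable def isColimit_cVr : IsColimit (cVr D c hc jU V hV i₀ O₀ h1 sd hFT) := by
  haveI : ReflectsColimit (DVr D c hc jU V hV i₀ O₀ h1 sd hFT) (forget CommRingCat.{u}) :=
    reflectsColimit_of_reflectsIsomorphisms _ _
  apply isColimitOfReflects (forget CommRingCat.{u})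
  apply Types.FilteredColimit.isColimitOf'
  · intro b
    change Γ(S, V) at b
    obtain ⟨k, t, ht⟩ := exists_appTop_π_eq_of_isLimit (opensDiagram D i₀ O₀)
      (opensCone D c i₀ O₀) (isLimitOpensCone D c hc i₀ O₀) ((ρ D c jU V hV i₀ O₀ h1).hom b)
    let j : Over sd.k := Over.mk (IsCofiltered.minToRight k sd.k)
    let a : Ak D i₀ O₀ j.left := (tk D i₀ O₀ (IsCofiltered.minToLeft k sd.k)).hom t
    have ha : (ρ D c jU V hV i₀ O₀ h1).hom b = (qk D c i₀ O₀ j.left).hom a := by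
      rw [ht]
      exact (congrArg (fun ψ => ψ.hom t) (tk_qk D c i₀ O₀ (IsCofiltered.minToLeft k sd.k))).symm
    let y : Pk D c jU V hV i₀ O₀ h1 j.left := P.mk b a ha
    refine ⟨Idx.mk' D c hc jU V hV i₀ O₀ h1 sd hFT j
      (Algebra.adjoin ℤ ((({y} : Finset (Pk D c jU V hV i₀ O₀ h1 j.left)) :
        Set (Pk D c jU V hV i₀ O₀ h1 j.left)))) (Subalgebra.fg_adjoin_finset _),
      ⟨y, Algebra.mem_sup_left (Algebra.subset_adjoin
        (Finset.mem_coe.mpr (Finset.mem_singleton_self y)))⟩, rfl⟩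
  · intro x y y' hyy'
    change x.B' at y y'
    have hyy'' : P.fst y.1 = P.fst y'.1 := hyy'
    have h0 : ((opensCone D c i₀ O₀).π.app x.j.left).appTop (P.snd y.1 - P.snd y'.1) = 0 := by
      change (qk D c i₀ O₀ x.j.left).hom (P.snd y.1 - P.snd y'.1) = 0
      rw [map_sub, ← P_cond' y.1, ← P_cond' y'.1, hyy'', sub_self]
    obtain ⟨k', f, hf⟩ := exists_appTop_map_eq_zero_of_isLimit (opensDiagram D i₀ O₀)
      (opensCone D c i₀ O₀) (isLimitOpensCone D c hc i₀ O₀) (P.snd y.1 - P.snd y'.1) h0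
    let j' : Over sd.k := Over.mk (f ≫ x.j.hom)
    let φ : j' ⟶ x.j := Over.homMk f rfl
    let w : 𝕁 := Idx.mk' D c hc jU V hV i₀ O₀ h1 sd hFT j'
      (x.B'.map (θ D c jU V hV i₀ O₀ h1 φ.left).toIntAlgHom) (x.fg.map _)
    have hle : x ≤ w := ⟨φ, fun z hz => Algebra.mem_sup_left ⟨z, hz, rfl⟩⟩
    refine ⟨w, homOfLE hle, ?_⟩
    change res (leOfHom (homOfLE hle)) y = res (leOfHom (homOfLE hle)) y'
    apply Subtype.ext
    rw [res_val' _ φ, res_val' _ φ]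
    apply P.ext
    · exact hyy''
    · rw [θ_snd, θ_snd]
      have hf' : (tk D i₀ O₀ f).hom (P.snd y.1 - P.snd y'.1) = 0 := hf
      rw [map_sub, sub_eq_zero] at hf'
      exact hf'


/-- the diagram of affine schemes `Spec B'` -/
noncomputable def DV : 𝕁ᵒᵖ ⥤ Scheme.{u} := (DVr D c hc jU V hV i₀ O₀ h1 sd hFT).op ⋙ Scheme.Spec

/-- the cone over `DV` with vertex `Spec Γ(S, V)` -/
noncomputable def cV : Cone (DV D c hc jU V hV i₀ O₀ h1 sd hFT) :=
  Scheme.Spec.mapCone (cVr D c hc jU V hV i₀ O₀ h1 sd hFT).op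

/-- `Spec Γ(S, V)` is the limit of the `Spec B'` -/
noncomputable def isLimit_cV : IsLimit (cV D c hc jU V hV i₀ O₀ h1 sd hFT) :=
  isLimitOfPreserves Scheme.Spec (isColimit_cVr D c hc jU V hV i₀ O₀ h1 sd hFT).op

theorem DV_obj (x : 𝕁ᵒᵖ) :
    (DV D c hc jU V hV i₀ O₀ h1 sd hFT).obj x = Spec (CommRingCat.of x.unop.B') := rfl

theorem DV_map {x y : 𝕁ᵒᵖ} (φ : x ⟶ y) :
    (DV D c hc jU V hV i₀ O₀ h1 sd hFT).map φ =
      Spec.map (CommRingCat.ofHom (res (leOfHom φ.unop))) := rfl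

theorem cV_pt : (cV D c hc jU V hV i₀ O₀ h1 sd hFT).pt = Spec Γ(S, V) := rfl

theorem cV_π (x : 𝕁ᵒᵖ) : (cV D c hc jU V hV i₀ O₀ h1 sd hFT).π.app x =
    Spec.map (CommRingCat.ofHom (P.fst.comp x.unop.B'.val.toRingHom)) := rfl

/-- the stage functor -/
noncomputable def FJ : 𝕁ᵒᵖ ⥤ Over sd.k where
  obj x := x.unop.j
  map φ := mor (leOfHom φ.unop)
  map_id _ := Subsingleton.elim _ _
  map_comp _ _ := Subsingleton.elim _ _

/-- the stage functor to `Over i₀` -/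
noncomputable def FJ₀ : 𝕁ᵒᵖ ⥤ Over i₀ := FJ D c hc jU V hV i₀ O₀ h1 sd hFT ⋙ Over.forget sd.k

/-- the diagram `U_j` reindexed -/
noncomputable def DU : 𝕁ᵒᵖ ⥤ Scheme.{u} :=
  FJ₀ D c hc jU V hV i₀ O₀ h1 sd hFT ⋙ (Over.forget i₀ ⋙ D)

/-- the diagram of intersections reindexed -/
noncomputable def DO : 𝕁ᵒᵖ ⥤ Scheme.{u} :=
  FJ₀ D c hc jU V hV i₀ O₀ h1 sd hFT ⋙ opensDiagram D i₀ O₀

/-- the inclusion of the intersections into the `U_j` -/
noncomputable def aT : DO D c hc jU V hV i₀ O₀ h1 sd hFT ⟶ DU D c hc jU V hV i₀ O₀ h1 sd hFT :=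
  Functor.whiskerLeft (FJ₀ D c hc jU V hV i₀ O₀ h1 sd hFT) (opensDiagramι D i₀ O₀)

instance (x : 𝕁ᵒᵖ) : IsOpenImmersion ((aT D c hc jU V hV i₀ O₀ h1 sd hFT).app x) := by
  change IsOpenImmersion ((opensDiagramι D i₀ O₀).app _)
  infer_instance

/-- the ring map defining the map of the intersection to `Spec B'` -/
noncomputable def φB (x : 𝕁) : CommRingCat.of x.B' ⟶ Γ(Xk D i₀ O₀ x.j.left, ⊤) :=
  CommRingCat.ofHom (P.snd.comp x.B'.val.toRingHom)

/-- the map of the intersection to `Spec B'` -/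
noncomputable def bApp (x : 𝕁) : Xk D i₀ O₀ x.j.left ⟶ Spec (CommRingCat.of x.B') :=
  toSpecOf _ (φB D c hc jU V hV i₀ O₀ h1 sd hFT x)

/-- the elements `g'` as elements of `B'` -/
noncomputable def gB (x : 𝕁) (m : sd.ι) : x.B' :=
  ⟨g' D c jU V hV i₀ O₀ h1 sd x.j m,
    x.hb (Finset.mem_coe.mpr (g'_mem_base D c hc jU V hV i₀ O₀ h1 sd hFT x.j m))⟩

theorem bApp_spec (x : 𝕁) :
    IsOpenImmersion (bApp D c hc jU V hV i₀ O₀ h1 sd hFT x) ∧
      Set.range (bApp D c hc jU V hV i₀ O₀ h1 sd hFT x) =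
        {p | ∃ m, p ∈ (PrimeSpectrum.basicOpen (gB D c hc jU V hV i₀ O₀ h1 sd hFT x m) :
          (Spec (CommRingCat.of x.B')).Opens)} := by
  refine isOpenImmersion_toSpecOf (X := Xk D i₀ O₀ x.j.left)
    (φ := φB D c hc jU V hV i₀ O₀ h1 sd hFT x) (gB D c hc jU V hV i₀ O₀ h1 sd hFT x) ?_ ?_ ?_
  · exact iSup_basicOpen_aj D c jU V hV i₀ O₀ h1 sd x.j
  · exact fun m => isAffineOpen_basicOpen_aj D c jU V hV i₀ O₀ h1 sd x.j m
  · intro m
    exact isLocalization_sub (qk_aj D c jU V hV i₀ O₀ h1 sd x.j m).symm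
      (good_g D c hc jU V hV i₀ O₀ h1 sd m) (Lj D c jU V hV i₀ O₀ h1 sd x.j m) x.B'
      (x.hb (Finset.mem_coe.mpr (g'_mem_base D c hc jU V hV i₀ O₀ h1 sd hFT x.j m)))
      (base_spec D c hc jU V hV i₀ O₀ h1 sd hFT x.j x.B' x.hb m)


instance (x : 𝕁) : IsOpenImmersion (bApp D c hc jU V hV i₀ O₀ h1 sd hFT x) :=
  (bApp_spec D c hc jU V hV i₀ O₀ h1 sd hFT x).1

theorem mem_range_bApp_iff (x : 𝕁) (p : Spec (CommRingCat.of x.B')) :
    p ∈ (bApp D c hc jU V hV i₀ O₀ h1 sd hFT x).opensRange ↔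
      ∃ m, p ∈ (PrimeSpectrum.basicOpen (gB D c hc jU V hV i₀ O₀ h1 sd hFT x m) :
          (Spec (CommRingCat.of x.B')).Opens) := by
  change p ∈ Set.range (bApp D c hc jU V hV i₀ O₀ h1 sd hFT x) ↔ _
  rw [(bApp_spec D c hc jU V hV i₀ O₀ h1 sd hFT x).2]
  rfl

theorem res_gB {x y : 𝕁} (h : x ≤ y) (m : sd.ι) :
    res h (gB D c hc jU V hV i₀ O₀ h1 sd hFT x m) = gB D c hc jU V hV i₀ O₀ h1 sd hFT y m := by
  apply Subtype.ext
  rw [res_val]
  exact θ_g' D c jU V hV i₀ O₀ h1 sd (mor h) m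





variable {D c hc jU V hV i₀ O₀ h1 sd hFT} in
/-- the restriction maps as morphisms of `CommRingCat` -/
noncomputable abbrev resC {x y : 𝕁} (h : x ≤ y) : CommRingCat.of x.B' ⟶ CommRingCat.of y.B' :=
  CommRingCat.ofHom (res h)

theorem bApp_natural {x y : 𝕁} (h : x ≤ y) :
    (opensDiagram D i₀ O₀).map (Over.Hom.left (mor h)) ≫ bApp D c hc jU V hV i₀ O₀ h1 sd hFT x =
      bApp D c hc jU V hV i₀ O₀ h1 sd hFT y ≫ Spec.map (resC h) := by
  unfold bApp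
  rw [comp_toSpecOf, toSpecOf_SpecMap]
  congr 1

/-- the maps of the intersections to the `Spec B'` -/
noncomputable def bT : DO D c hc jU V hV i₀ O₀ h1 sd hFT ⟶ DV D c hc jU V hV i₀ O₀ h1 sd hFT where
  app x := bApp D c hc jU V hV i₀ O₀ h1 sd hFT x.unop
  naturality x y φ := bApp_natural D c hc jU V hV i₀ O₀ h1 sd hFT (leOfHom φ.unop)

instance (x : 𝕁ᵒᵖ) : IsOpenImmersion ((bT D c hc jU V hV i₀ O₀ h1 sd hFT).app x) := by
  change IsOpenImmersion (bApp D c hc jU V hV i₀ O₀ h1 sd hFT x.unop)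
  infer_instance

/-- the reindexing functor to `I` -/
noncomputable def FI : 𝕁ᵒᵖ ⥤ I := FJ₀ D c hc jU V hV i₀ O₀ h1 sd hFT ⋙ Over.forget i₀

instance : (FI D c hc jU V hV i₀ O₀ h1 sd hFT).Initial := by
  apply Functor.initial_of_exists_of_isCofiltered
  · intro d
    let i' := IsCofiltered.min d sd.k.left
    let k' : Over i₀ := Over.mk (IsCofiltered.minToRight d sd.k.left ≫ sd.k.hom)
    let j : Over sd.k := Over.mk (Over.homMk (IsCofiltered.minToRight d sd.k.left) rfl : k' ⟶ sd.k)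
    exact ⟨op (Idx.mk' D c hc jU V hV i₀ O₀ h1 sd hFT j ⊥ Subalgebra.fg_bot),
      ⟨IsCofiltered.minToLeft d sd.k.left⟩⟩
  · intro d x s s'
    exact ⟨x, 𝟙 _, by rw [Subsingleton.elim s s']⟩

/-- the cone over `DU` -/
noncomputable def cU : Cone (DU D c hc jU V hV i₀ O₀ h1 sd hFT) :=
  c.whisker (FI D c hc jU V hV i₀ O₀ h1 sd hFT)

/-- `cU` is a limit cone -/
noncomputable def isLimit_cU : IsLimit (cU D c hc jU V hV i₀ O₀ h1 sd hFT) :=
  (Functor.Initial.isLimitWhiskerEquiv (FI D c hc jU V hV i₀ O₀ h1 sd hFT) c).symm hc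

/-- the cone over `DO` -/
noncomputable def cO : Cone (DO D c hc jU V hV i₀ O₀ h1 sd hFT) :=
  (opensCone D c i₀ O₀).whisker (FJ₀ D c hc jU V hV i₀ O₀ h1 sd hFT)

end Groth.Agent.Lib.lead.NaStep
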