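import Mathlib
import Groth.Agent.Lib.lead.NaStep2

set_option linter.style.haveILetI false
universe u
open CategoryTheory AlgebraicGeometry Limits Opposite

namespace Groth.Agent.Lib.lead.NaStep

open Groth.Agent.Lib.lead.NaAlg Groth.Agent.Lib.lead.NaStage

/-- A scheme covered by two open immersions is the pushout along their intersection. -/
theorem isPushout_of_openImmersions {O U W S : Scheme.{u}} (a : O ⟶ U) (b : O ⟶ W)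
    (iU : U ⟶ S) (iW : W ⟶ S)
    [IsOpenImmersion a] [IsOpenImmersion b] [IsOpenImmersion iU] [IsOpenImmersion iW]
    (w : a ≫ iU = b ≫ iW) (hcov : iU.opensRange ⊔ iW.opensRange = ⊤)
    (hO : Set.range (a ≫ iU) = (iU.opensRange : Set S) ∩ (iW.opensRange : Set S)) :
    IsPushout a b iU iW := by
  have hrange : Set.range (a ≫ iU) = Set.range (iU.opensRange ⊓ iW.opensRange).ι := by
    rw [hO, Scheme.Opens.range_ι]
    rfl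
  let e₁ : ((iU.opensRange ⊓ iW.opensRange : S.Opens) : Scheme.{u}) ≅ O :=
    (IsOpenImmersion.isoOfRangeEq (a ≫ iU) (iU.opensRange ⊓ iW.opensRange).ι hrange).symm
  have he₁ : e₁.hom ≫ a ≫ iU = (iU.opensRange ⊓ iW.opensRange).ι :=
    IsOpenImmersion.isoOfRangeEq_inv_fac _ _ hrange
  refine (NaGlue.isPushout_of_sup_eq_top iU.opensRange iW.opensRange hcov).of_iso e₁
    iU.isoOpensRange.symm iW.isoOpensRange.symm (Iso.refl S) ?_ ?_ ?_ ?_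
  · rw [← cancel_mono iU, Category.assoc, Category.assoc, he₁, Iso.symm_hom,
      Scheme.Hom.isoOpensRange_inv_comp, Scheme.homOfLE_ι]
  · rw [← cancel_mono iW, Category.assoc, Category.assoc, ← w, he₁, Iso.symm_hom,
      Scheme.Hom.isoOpensRange_inv_comp, Scheme.homOfLE_ι]
  · rw [Iso.refl_hom, Category.comp_id, Iso.symm_hom, Scheme.Hom.isoOpensRange_inv_comp]
  · rw [Iso.refl_hom, Category.comp_id, Iso.symm_hom, Scheme.Hom.isoOpensRange_inv_comp]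

variable {I : Type u} [Category.{u} I] [IsCofiltered I] [Quiver.IsThin I]
  (D : I ⥤ Scheme.{u}) [∀ {i j} (f : i ⟶ j), IsAffineHom (D.map f)]
  [∀ i, IsNoetherian (D.obj i)]
  (c : Cone D) (hc : IsLimit c)
  {S : Scheme.{u}} [QuasiSeparatedSpace S] (jU : c.pt ⟶ S) [IsOpenImmersion jU]
  (V : S.Opens) (hV : IsAffineOpen V)
  (i₀ : I) (O₀ : (D.obj i₀).Opens) (h1 : c.π.app i₀ ⁻¹ᵁ O₀ = jU ⁻¹ᵁ V)
  (sd : StageData D c jU V hV i₀ O₀ h1)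
  (hFT : ∀ (i : I) (W : (D.obj i).Opens), IsAffineOpen W → Algebra.FiniteType ℤ Γ(D.obj i, W))

local notation "𝕁" => Idx D c hc jU V hV i₀ O₀ h1 sd hFT

/-- the inclusion of the intersection in the limit -/
noncomputable def aS : (cO D c hc jU V hV i₀ O₀ h1 sd hFT).pt ⟶ (cU D c hc jU V hV i₀ O₀ h1 sd hFT).pt :=
  (c.π.app i₀ ⁻¹ᵁ O₀).ι

instance : IsOpenImmersion (aS D c hc jU V hV i₀ O₀ h1 sd hFT) :=
  (inferInstance : IsOpenImmersion (c.π.app i₀ ⁻¹ᵁ O₀).ι)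

/-- the map of the intersection in the limit to `Spec Γ(S, V)` -/
noncomputable def bS' : (cO D c hc jU V hV i₀ O₀ h1 sd hFT).pt ⟶ (cV D c hc jU V hV i₀ O₀ h1 sd hFT).pt :=
  bS D c jU V hV i₀ O₀ h1

instance : IsOpenImmersion (bS' D c hc jU V hV i₀ O₀ h1 sd hFT) :=
  (inferInstance : IsOpenImmersion (bS D c jU V hV i₀ O₀ h1))

theorem haS (x : 𝕁ᵒᵖ) : aS D c hc jU V hV i₀ O₀ h1 sd hFT ≫ (cU D c hc jU V hV i₀ O₀ h1 sd hFT).π.app x =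
    (cO D c hc jU V hV i₀ O₀ h1 sd hFT).π.app x ≫ (aT D c hc jU V hV i₀ O₀ h1 sd hFT).app x := by
  change (c.π.app i₀ ⁻¹ᵁ O₀).ι ≫ c.π.app x.unop.j.left.left =
    (c.π.app x.unop.j.left.left).resLE _ _ _ ≫ (D.map x.unop.j.left.hom ⁻¹ᵁ O₀).ι
  rw [Scheme.Hom.resLE_comp_ι]

theorem hbS (x : 𝕁ᵒᵖ) : bS' D c hc jU V hV i₀ O₀ h1 sd hFT ≫ (cV D c hc jU V hV i₀ O₀ h1 sd hFT).π.app x =
    (cO D c hc jU V hV i₀ O₀ h1 sd hFT).π.app x ≫ (bT D c hc jU V hV i₀ O₀ h1 sd hFT).app x := by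
  change bS D c jU V hV i₀ O₀ h1 ≫ Spec.map (CommRingCat.ofHom (P.fst.comp x.unop.B'.val.toRingHom)) =
    (opensCone D c i₀ O₀).π.app x.unop.j.left ≫ toSpecOf _ (φB D c hc jU V hV i₀ O₀ h1 sd hFT x.unop)
  rw [bS_eq, toSpecOf_SpecMap, comp_toSpecOf]
  congr 1
  apply CommRingCat.hom_ext
  apply RingHom.ext
  intro z
  exact P_cond' z.1


theorem HU {x y : 𝕁ᵒᵖ} (φ : x ⟶ y) :
    ((DU D c hc jU V hV i₀ O₀ h1 sd hFT).map φ) ⁻¹ᵁ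
      ((aT D c hc jU V hV i₀ O₀ h1 sd hFT).app y).opensRange ≤
      ((aT D c hc jU V hV i₀ O₀ h1 sd hFT).app x).opensRange := by
  let f := mor (leOfHom φ.unop)
  change D.map (Over.Hom.left f).left ⁻¹ᵁ (D.map y.unop.j.left.hom ⁻¹ᵁ O₀).ι.opensRange ≤
    (D.map x.unop.j.left.hom ⁻¹ᵁ O₀).ι.opensRange
  rw [Scheme.Opens.opensRange_ι, Scheme.Opens.opensRange_ι, ← Scheme.Hom.comp_preimage,
    ← D.map_comp, Over.w (Over.Hom.left f)]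

theorem HcU (x : 𝕁ᵒᵖ) :
    ((cU D c hc jU V hV i₀ O₀ h1 sd hFT).π.app x) ⁻¹ᵁ
      ((aT D c hc jU V hV i₀ O₀ h1 sd hFT).app x).opensRange ≤
      (aS D c hc jU V hV i₀ O₀ h1 sd hFT).opensRange := by
  change c.π.app x.unop.j.left.left ⁻¹ᵁ (D.map x.unop.j.left.hom ⁻¹ᵁ O₀).ι.opensRange ≤
    (c.π.app i₀ ⁻¹ᵁ O₀).ι.opensRange
  rw [Scheme.Opens.opensRange_ι, Scheme.Opens.opensRange_ι, ← Scheme.Hom.comp_preimage, c.w]

theorem HV {x y : 𝕁ᵒᵖ} (φ : x ⟶ y) :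
    ((DV D c hc jU V hV i₀ O₀ h1 sd hFT).map φ) ⁻¹ᵁ
      ((bT D c hc jU V hV i₀ O₀ h1 sd hFT).app y).opensRange ≤
      ((bT D c hc jU V hV i₀ O₀ h1 sd hFT).app x).opensRange := by
  intro p hp
  obtain ⟨m, hm⟩ := (mem_range_bApp_iff D c hc jU V hV i₀ O₀ h1 sd hFT y.unop _).mp hp
  refine (mem_range_bApp_iff D c hc jU V hV i₀ O₀ h1 sd hFT x.unop p).mpr ⟨m, ?_⟩
  rw [← res_gB D c hc jU V hV i₀ O₀ h1 sd hFT (leOfHom φ.unop) m]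
  exact hm

theorem HcV (x : 𝕁ᵒᵖ) :
    ((cV D c hc jU V hV i₀ O₀ h1 sd hFT).π.app x) ⁻¹ᵁ
      ((bT D c hc jU V hV i₀ O₀ h1 sd hFT).app x).opensRange ≤
      (bS' D c hc jU V hV i₀ O₀ h1 sd hFT).opensRange := by
  intro p hp
  obtain ⟨m, hm⟩ := (mem_range_bApp_iff D c hc jU V hV i₀ O₀ h1 sd hFT x.unop _).mp hp
  exact basicOpen_subset_range_bS D c jU V hV i₀ O₀ h1 (sd.g m) (sd.hle m) p hm

/-- `jU` with retyped source -/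
noncomputable def iU' : (cU D c hc jU V hV i₀ O₀ h1 sd hFT).pt ⟶ S := jU

instance : IsOpenImmersion (iU' D c hc jU V hV i₀ O₀ h1 sd hFT) :=
  (inferInstance : IsOpenImmersion jU)

/-- `hV.fromSpec` with retyped source -/
noncomputable def iV' : (cV D c hc jU V hV i₀ O₀ h1 sd hFT).pt ⟶ S := hV.fromSpec

instance : IsOpenImmersion (iV' D c hc jU V hV i₀ O₀ h1 sd hFT) :=
  (inferInstance : IsOpenImmersion hV.fromSpec)

theorem hS (hcov : jU.opensRange ⊔ V = ⊤) :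
    IsPushout (aS D c hc jU V hV i₀ O₀ h1 sd hFT) (bS' D c hc jU V hV i₀ O₀ h1 sd hFT)
      (iU' D c hc jU V hV i₀ O₀ h1 sd hFT) (iV' D c hc jU V hV i₀ O₀ h1 sd hFT) := by
  have h := isPushout_of_openImmersions (c.π.app i₀ ⁻¹ᵁ O₀).ι (bS D c jU V hV i₀ O₀ h1) jU
    hV.fromSpec (bS_fac D c jU V hV i₀ O₀ h1).symm (by rw [hV.opensRange_fromSpec]; exact hcov) (by
      rw [hV.opensRange_fromSpec]
      ext s
      constructor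
      · rintro ⟨z, rfl⟩
        refine ⟨⟨z.1, rfl⟩, ?_⟩
        have hz : z.1 ∈ jU ⁻¹ᵁ V := by rw [← h1]; exact z.2
        exact hz
      · rintro ⟨⟨z, rfl⟩, hz2⟩
        have hz : z ∈ c.π.app i₀ ⁻¹ᵁ O₀ := by rw [h1]; exact hz2
        exact ⟨⟨z, hz⟩, rfl⟩)
  exact h

/-- the glued diagram -/
noncomputable def DSx : 𝕁ᵒᵖ ⥤ Scheme.{u} :=
  NaAGL.DS (DU D c hc jU V hV i₀ O₀ h1 sd hFT) (DO D c hc jU V hV i₀ O₀ h1 sd hFT)
    (DV D c hc jU V hV i₀ O₀ h1 sd hFT) (aT D c hc jU V hV i₀ O₀ h1 sd hFT)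
    (bT D c hc jU V hV i₀ O₀ h1 sd hFT)

/-- the cone over the glued diagram with vertex `S` -/
noncomputable def cSx (hcov : jU.opensRange ⊔ V = ⊤) : Cone (DSx D c hc jU V hV i₀ O₀ h1 sd hFT) :=
  NaAGL.cS (cU D c hc jU V hV i₀ O₀ h1 sd hFT) (cO D c hc jU V hV i₀ O₀ h1 sd hFT)
    (cV D c hc jU V hV i₀ O₀ h1 sd hFT) (aS D c hc jU V hV i₀ O₀ h1 sd hFT)
    (bS' D c hc jU V hV i₀ O₀ h1 sd hFT) (haS D c hc jU V hV i₀ O₀ h1 sd hFT)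
    (hbS D c hc jU V hV i₀ O₀ h1 sd hFT) (hS D c hc jU V hV i₀ O₀ h1 sd hFT hcov)

theorem isLimit_cSx (hcov : jU.opensRange ⊔ V = ⊤) :
    Nonempty (IsLimit (cSx D c hc jU V hV i₀ O₀ h1 sd hFT hcov)) :=
  NaAGL.isLimit_cS (cU D c hc jU V hV i₀ O₀ h1 sd hFT) (cO D c hc jU V hV i₀ O₀ h1 sd hFT)
    (cV D c hc jU V hV i₀ O₀ h1 sd hFT) (aS D c hc jU V hV i₀ O₀ h1 sd hFT)
    (bS' D c hc jU V hV i₀ O₀ h1 sd hFT) (haS D c hc jU V hV i₀ O₀ h1 sd hFT)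
    (hbS D c hc jU V hV i₀ O₀ h1 sd hFT) (hS D c hc jU V hV i₀ O₀ h1 sd hFT hcov)
    (isLimit_cU D c hc jU V hV i₀ O₀ h1 sd hFT) (isLimit_cV D c hc jU V hV i₀ O₀ h1 sd hFT)
    (fun φ => HU D c hc jU V hV i₀ O₀ h1 sd hFT φ) (fun φ => HV D c hc jU V hV i₀ O₀ h1 sd hFT φ)
    (HcU D c hc jU V hV i₀ O₀ h1 sd hFT) (HcV D c hc jU V hV i₀ O₀ h1 sd hFT)


instance (x y : 𝕁ᵒᵖ) (φ : x ⟶ y) : IsAffineHom ((DU D c hc jU V hV i₀ O₀ h1 sd hFT).map φ) := by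
  change IsAffineHom (D.map _)
  infer_instance

instance (x y : 𝕁ᵒᵖ) (φ : x ⟶ y) : IsAffineHom ((DV D c hc jU V hV i₀ O₀ h1 sd hFT).map φ) := by
  change IsAffineHom (Spec.map (resC (leOfHom φ.unop)))
  infer_instance

include hc sd hFT in
/-- The gluing step, in raw form. -/
theorem gluing_step_aux (hcov : jU.opensRange ⊔ V = ⊤) :
    ∃ (J : Type u) (_ : Preorder J) (_ : IsDirected J (fun a b => a ≤ b)) (_ : Nonempty J)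
      (DS : Jᵒᵖ ⥤ Scheme.{u}) (cS : Cone DS) (_ : IsLimit cS) (eS : cS.pt ≅ S)
      (α : Jᵒᵖ ⥤ I) (ψ : α ⋙ D ⟶ DS),
      (∀ j, IsOpenImmersion (ψ.app j)) ∧
      (∀ {j j' : Jᵒᵖ} (f : j ⟶ j'), IsAffineHom (DS.map f)) ∧
      (∀ j, ∃ (B : CommRingCat.{u}) (_ : Algebra.FiniteType ℤ B) (iB : Spec B ⟶ DS.obj j),
        IsOpenImmersion iB ∧ ∀ s : DS.obj j, s ∈ Set.range (ψ.app j) ∨ s ∈ Set.range iB) ∧
      (∀ {j j' : Jᵒᵖ} (f : j ⟶ j') (s : DS.obj j),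
        DS.map f s ∈ Set.range (ψ.app j') ↔ s ∈ Set.range (ψ.app j)) ∧
      (∀ j (s : S), (eS.inv ≫ cS.π.app j) s ∈ Set.range (ψ.app j) ↔ s ∈ Set.range jU) ∧
      (∀ j, c.π.app (α.obj j) ≫ ψ.app j = jU ≫ eS.inv ≫ cS.π.app j) := by
  obtain ⟨hlim⟩ := isLimit_cSx D c hc jU V hV i₀ O₀ h1 sd hFT hcov
  let ψ : FI D c hc jU V hV i₀ O₀ h1 sd hFT ⋙ D ⟶ DSx D c hc jU V hV i₀ O₀ h1 sd hFT :=
    NaAGL.ιU (DU D c hc jU V hV i₀ O₀ h1 sd hFT) (DO D c hc jU V hV i₀ O₀ h1 sd hFT)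
      (DV D c hc jU V hV i₀ O₀ h1 sd hFT) (aT D c hc jU V hV i₀ O₀ h1 sd hFT)
      (bT D c hc jU V hV i₀ O₀ h1 sd hFT)
  have hψoi : ∀ j, IsOpenImmersion (ψ.app j) := fun j =>
    inferInstanceAs (IsOpenImmersion ((NaAGL.ιU (DU D c hc jU V hV i₀ O₀ h1 sd hFT)
      (DO D c hc jU V hV i₀ O₀ h1 sd hFT)
      (DV D c hc jU V hV i₀ O₀ h1 sd hFT) (aT D c hc jU V hV i₀ O₀ h1 sd hFT)
      (bT D c hc jU V hV i₀ O₀ h1 sd hFT)).app j))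
  have p2 : ∀ {j j' : 𝕁ᵒᵖ} (f : j ⟶ j'),
      IsAffineHom ((DSx D c hc jU V hV i₀ O₀ h1 sd hFT).map f) := by
    intro j j' f
    exact NaAGL.isAffineHom_DS_map (fun φ => HU D c hc jU V hV i₀ O₀ h1 sd hFT φ)
      (fun φ => HV D c hc jU V hV i₀ O₀ h1 sd hFT φ) f
  have p3 : ∀ j : 𝕁ᵒᵖ, ∃ (B : CommRingCat.{u}) (_ : Algebra.FiniteType ℤ B)
      (iB : Spec B ⟶ (DSx D c hc jU V hV i₀ O₀ h1 sd hFT).obj j),
      IsOpenImmersion iB ∧ ∀ s : (DSx D c hc jU V hV i₀ O₀ h1 sd hFT).obj j,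
        s ∈ Set.range (ψ.app j) ∨ s ∈ Set.range iB := by
    intro j
    refine ⟨CommRingCat.of j.unop.B', (Subalgebra.fg_iff_finiteType _).mp j.unop.fg,
      (NaAGL.ιV (DU D c hc jU V hV i₀ O₀ h1 sd hFT) (DO D c hc jU V hV i₀ O₀ h1 sd hFT)
      (DV D c hc jU V hV i₀ O₀ h1 sd hFT) (aT D c hc jU V hV i₀ O₀ h1 sd hFT)
      (bT D c hc jU V hV i₀ O₀ h1 sd hFT)).app j, ?_, ?_⟩
    · exact inferInstanceAs (IsOpenImmersion ((NaAGL.ιV (DU D c hc jU V hV i₀ O₀ h1 sd hFT)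
        (DO D c hc jU V hV i₀ O₀ h1 sd hFT)
        (DV D c hc jU V hV i₀ O₀ h1 sd hFT) (aT D c hc jU V hV i₀ O₀ h1 sd hFT)
        (bT D c hc jU V hV i₀ O₀ h1 sd hFT)).app j))
    · intro s
      rcases NaAGL.ι_jointly_surjective (DU D c hc jU V hV i₀ O₀ h1 sd hFT) (DO D c hc jU V hV i₀ O₀ h1 sd hFT) (DV D c hc jU V hV i₀ O₀ h1 sd hFT) (aT D c hc jU V hV i₀ O₀ h1 sd hFT) (bT D c hc jU V hV i₀ O₀ h1 sd hFT) j s with ⟨u, hu⟩ | ⟨v, hv⟩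
      · exact Or.inl ⟨u, hu⟩
      · exact Or.inr ⟨v, hv⟩
  have p4 : ∀ {j j' : 𝕁ᵒᵖ} (f : j ⟶ j') (s : (DSx D c hc jU V hV i₀ O₀ h1 sd hFT).obj j),
      (DSx D c hc jU V hV i₀ O₀ h1 sd hFT).map f s ∈ Set.range (ψ.app j') ↔
        s ∈ Set.range (ψ.app j) := by
    intro j j' f s
    constructor
    · intro hs
      exact NaAGL.preimage_ιU_le (fun φ => HV D c hc jU V hV i₀ O₀ h1 sd hFT φ) f hs
    · rintro ⟨u, rfl⟩
      exact ⟨_, (NaAGL.DS_map_inl (DU D c hc jU V hV i₀ O₀ h1 sd hFT) (DO D c hc jU V hV i₀ O₀ h1 sd hFT) (DV D c hc jU V hV i₀ O₀ h1 sd hFT) (aT D c hc jU V hV i₀ O₀ h1 sd hFT) (bT D c hc jU V hV i₀ O₀ h1 sd hFT) f u).symm⟩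
  have p5 : ∀ (j : 𝕁ᵒᵖ) (s : S), ((cSx D c hc jU V hV i₀ O₀ h1 sd hFT hcov).π.app j) s ∈
      Set.range (ψ.app j) ↔ s ∈ Set.range jU := by
    intro j s
    constructor
    · intro hs
      exact NaAGL.preimage_cS_ιU_le _ _ _ _ _ (haS D c hc jU V hV i₀ O₀ h1 sd hFT)
        (hbS D c hc jU V hV i₀ O₀ h1 sd hFT) (hS D c hc jU V hV i₀ O₀ h1 sd hFT hcov)
        (HcV D c hc jU V hV i₀ O₀ h1 sd hFT) j hs
    · rintro ⟨u, rfl⟩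
      have h5 := NaAGL.iU_cS _ _ _ _ _ (haS D c hc jU V hV i₀ O₀ h1 sd hFT)
        (hbS D c hc jU V hV i₀ O₀ h1 sd hFT) (hS D c hc jU V hV i₀ O₀ h1 sd hFT hcov) j
      exact ⟨_, (congrArg (fun φ => φ u) h5).symm⟩
  have p6 : ∀ j : 𝕁ᵒᵖ, c.π.app ((FI D c hc jU V hV i₀ O₀ h1 sd hFT).obj j) ≫ ψ.app j =
      jU ≫ (cSx D c hc jU V hV i₀ O₀ h1 sd hFT hcov).π.app j := by
    intro j
    exact (NaAGL.iU_cS _ _ _ _ _ (haS D c hc jU V hV i₀ O₀ h1 sd hFT)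
        (hbS D c hc jU V hV i₀ O₀ h1 sd hFT) (hS D c hc jU V hV i₀ O₀ h1 sd hFT hcov) j).symm
  refine ⟨𝕁, _, inferInstance, inferInstance, DSx D c hc jU V hV i₀ O₀ h1 sd hFT,
    cSx D c hc jU V hV i₀ O₀ h1 sd hFT hcov, hlim, Iso.refl _,
    FI D c hc jU V hV i₀ O₀ h1 sd hFT, ψ, hψoi, p2, p3, p4, ?_, ?_⟩
  · intro j s
    have h6 : (𝟙 S : S ⟶ S) ≫
        ((cSx D c hc jU V hV i₀ O₀ h1 sd hFT hcov).π.app j : S ⟶ _) =
        (cSx D c hc jU V hV i₀ O₀ h1 sd hFT hcov).π.app j := Category.id_comp _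
    have h7 := p5 j s
    rw [← h6] at h7
    exact h7
  · intro j
    have h6 : (𝟙 S : S ⟶ S) ≫
        ((cSx D c hc jU V hV i₀ O₀ h1 sd hFT hcov).π.app j : S ⟶ _) =
        (cSx D c hc jU V hV i₀ O₀ h1 sd hFT hcov).π.app j := Category.id_comp _
    exact (p6 j).trans (congrArg (fun t => jU ≫ t) h6.symm)

end Groth.Agent.Lib.lead.NaStep
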