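import Mathlib
import Groth.Agent.Lib.lead.NaStep3
import Groth.Agent.Lib.Helper24.FTZ.Main

set_option linter.style.haveILetI false
universe u
open CategoryTheory AlgebraicGeometry Limits Opposite

namespace Groth.Agent.Lib.lead.NaMain

open Groth.Agent.Lib.lead.NaAlg Groth.Agent.Lib.lead.NaStage Groth.Agent.Lib.lead.NaStep

/-- abbreviation: compact and locally of finite type over the integers -/
def FTZ (X : Scheme.{u}) : Prop :=
  CompactSpace X ∧ LocallyOfFiniteType (Limits.IsTerminal.from specULiftZIsTerminal X)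

theorem lft_Spec (B : CommRingCat.{u}) [Algebra.FiniteType ℤ B] :
    LocallyOfFiniteType (Limits.IsTerminal.from specULiftZIsTerminal (Spec B)) := by
  let φ : CommRingCat.of (ULift.{u} ℤ) ⟶ B :=
    CommRingCat.ofHom ((algebraMap ℤ B).comp (ULift.ringEquiv : ULift.{u} ℤ ≃+* ℤ).toRingHom)
  have hφ : φ.hom.FiniteType := by
    refine RingHom.FiniteType.comp ?_
      (RingHom.FiniteType.of_surjective _ (ULift.ringEquiv : ULift.{u} ℤ ≃+* ℤ).surjective)
    exact RingHom.finiteType_algebraMap.mpr inferInstance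
  have h2 : LocallyOfFiniteType (Spec.map φ) :=
    (HasRingHomProperty.Spec_iff (P := @LocallyOfFiniteType)).mpr hφ
  have : Limits.IsTerminal.from specULiftZIsTerminal (Spec B) = Spec.map φ :=
    specULiftZIsTerminal.hom_ext _ _
  rw [this]
  exact h2

theorem ftz_Spec (B : CommRingCat.{u}) [Algebra.FiniteType ℤ B] : FTZ (Spec B) :=
  ⟨inferInstance, lft_Spec B⟩

theorem ftz_of_cover {X U W : Scheme.{u}} (iU : U ⟶ X) (iW : W ⟶ X)
    [IsOpenImmersion iU] [IsOpenImmersion iW]
    (hcov : ∀ s : X, s ∈ Set.range iU ∨ s ∈ Set.range iW) (hU : FTZ U) (hW : FTZ W) : FTZ X := by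
  constructor
  · haveI := hU.1
    haveI := hW.1
    have h1 : (Set.univ : Set X) = Set.range iU ∪ Set.range iW := by
      ext s
      simp only [Set.mem_univ, Set.mem_union, true_iff]
      exact hcov s
    constructor
    rw [h1]
    exact (isCompact_range iU.continuous).union (isCompact_range iW.continuous)
  · have hsup : ⨆ t : Bool, (if t then iU.opensRange else iW.opensRange) = ⊤ := by
      rw [eq_top_iff]
      intro s _
      rw [TopologicalSpace.Opens.mem_iSup]
      rcases hcov s with h | h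
      · exact ⟨true, h⟩
      · exact ⟨false, h⟩
    refine IsZariskiLocalAtSource.of_iSup_eq_top (P := @LocallyOfFiniteType)
      (fun t : Bool => if t then iU.opensRange else iW.opensRange) hsup ?_
    intro t
    cases t
    · change LocallyOfFiniteType (iW.opensRange.ι ≫ _)
      have h3 : iW.isoOpensRange.hom ≫ (iW.opensRange.ι ≫
          Limits.IsTerminal.from specULiftZIsTerminal X) =
          Limits.IsTerminal.from specULiftZIsTerminal W := specULiftZIsTerminal.hom_ext _ _
      have h4 := hW.2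
      rw [← h3] at h4
      exact (MorphismProperty.cancel_left_of_respectsIso @LocallyOfFiniteType _ _).mp h4
    · change LocallyOfFiniteType (iU.opensRange.ι ≫ _)
      have h3 : iU.isoOpensRange.hom ≫ (iU.opensRange.ι ≫
          Limits.IsTerminal.from specULiftZIsTerminal X) =
          Limits.IsTerminal.from specULiftZIsTerminal U := specULiftZIsTerminal.hom_ext _ _
      have h4 := hU.2
      rw [← h3] at h4
      exact (MorphismProperty.cancel_left_of_respectsIso @LocallyOfFiniteType _ _).mp h4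

instance : IsNoetherianRing (ULift.{u} ℤ) :=
  isNoetherianRing_of_ringEquiv ℤ (ULift.ringEquiv : ULift.{u} ℤ ≃+* ℤ).symm

theorem isNoetherian_of_ftz {X : Scheme.{u}} (h : FTZ X) : IsNoetherian X := by
  haveI := h.2
  haveI := h.1
  haveI : IsLocallyNoetherian X :=
    LocallyOfFiniteType.isLocallyNoetherian (Limits.IsTerminal.from specULiftZIsTerminal X)
  exact { }

theorem finiteType_of_ftz {X : Scheme.{u}} (h : FTZ X) (W : X.Opens) (hW : IsAffineOpen W) :
    Algebra.FiniteType ℤ Γ(X, W) := by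
  haveI := h.2
  exact Groth.Agent.Lib.Helper24.FTZ.finiteType_int_of_isAffineOpen X hW


/-- Relative approximation data: an approximation of `S` extending a given approximation of an open
subscheme. -/
structure RelApprox {Ip : Type u} [Preorder Ip] (D : Ipᵒᵖ ⥤ Scheme.{u}) (c : Cone D)
    {S : Scheme.{u}} (jU : c.pt ⟶ S) where
  J : Type u
  [pre : Preorder J]
  dir : IsDirected J (fun a b => a ≤ b)
  ne : Nonempty J
  DS : Jᵒᵖ ⥤ Scheme.{u}
  cS : Cone DS
  hcS : IsLimit cS
  eS : cS.pt ≅ S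
  α : Jᵒᵖ ⥤ Ipᵒᵖ
  ψ : α ⋙ D ⟶ DS
  oi : ∀ j, IsOpenImmersion (ψ.app j)
  aff : ∀ {j j' : Jᵒᵖ} (f : j ⟶ j'), IsAffineHom (DS.map f)
  ft : ∀ j, FTZ (DS.obj j)
  pre_iff : ∀ {j j' : Jᵒᵖ} (f : j ⟶ j') (s : DS.obj j),
    DS.map f s ∈ Set.range (ψ.app j') ↔ s ∈ Set.range (ψ.app j)
  cpre_iff : ∀ j (s : S), (eS.inv ≫ cS.π.app j) s ∈ Set.range (ψ.app j) ↔ s ∈ Set.range jU
  comm : ∀ j, c.π.app (α.obj j) ≫ ψ.app j = jU ≫ eS.inv ≫ cS.π.app j

section GS

variable {Ip : Type u} [Preorder Ip] [IsDirected Ip (fun a b => a ≤ b)] [Nonempty Ip]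
  (D : Ipᵒᵖ ⥤ Scheme.{u}) (haff : ∀ {i j : Ipᵒᵖ} (f : i ⟶ j), IsAffineHom (D.map f))
  (hft : ∀ i, FTZ (D.obj i)) (c : Cone D) (hc : IsLimit c)
  {S : Scheme.{u}} [QuasiSeparatedSpace S] (jU : c.pt ⟶ S) [IsOpenImmersion jU]

include haff hft hc in
/-- The gluing step: extend an approximation over one more affine open. -/
theorem gluing_step (V : S.Opens) (hV : IsAffineOpen V) (hcov : jU.opensRange ⊔ V = ⊤) :
    Nonempty (RelApprox D c jU) := by
  haveI : ∀ {i j : Ipᵒᵖ} (f : i ⟶ j), IsAffineHom (D.map f) := haff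
  haveI : ∀ i, IsNoetherian (D.obj i) := fun i => isNoetherian_of_ftz (hft i)
  have hFT : ∀ (i : Ipᵒᵖ) (W : (D.obj i).Opens), IsAffineOpen W →
      Algebra.FiniteType ℤ Γ(D.obj i, W) := fun i W hW => finiteType_of_ftz (hft i) W hW
  haveI : CompactSpace c.pt := Scheme.compactSpace_of_isLimit D c hc
  have hK : IsCompact ((jU ⁻¹ᵁ V : c.pt.Opens) : Set c.pt) := by
    have h1 : IsCompact ((jU.opensRange : Set S) ∩ (V : Set S)) :=
      QuasiSeparatedSpace.inter_isCompact _ _ jU.opensRange.isOpen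
        (isCompact_range jU.continuous) V.isOpen hV.isCompact
    have h2 : ((jU ⁻¹ᵁ V : c.pt.Opens) : Set c.pt) =
        jU ⁻¹' ((jU.opensRange : Set S) ∩ (V : Set S)) := by
      ext z
      constructor
      · intro hz
        exact ⟨⟨z, rfl⟩, hz⟩
      · intro hz
        exact hz.2
    rw [h2]
    exact jU.isOpenEmbedding.isInducing.isCompact_preimage' h1 Set.inter_subset_left
  obtain ⟨i₀, O₀, -, h1⟩ := exists_preimage_eq D c hc (jU ⁻¹ᵁ V) hK
  obtain ⟨sd⟩ := nonempty_stageData D c hc jU V hV i₀ O₀ h1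
  obtain ⟨J, instJ, hdir, hne, DS, cS, hcS, eS, α, ψ, p1, p2, p3, p4, p5, p6⟩ :=
    gluing_step_aux D c hc jU V hV i₀ O₀ h1 sd hFT hcov
  refine ⟨{ J := J, dir := hdir, ne := hne, DS := DS, cS := cS, hcS := hcS, eS := eS, α := α, ψ := ψ,
            oi := p1, aff := p2, ft := ?_, pre_iff := p4, cpre_iff := p5, comm := p6 }⟩
  intro j
  obtain ⟨B, hB, iB, hiB, hcovj⟩ := p3 j
  haveI := p1 j
  exact ftz_of_cover (ψ.app j) iB hcovj (hft _) (ftz_Spec B)

end GS

end Groth.Agent.Lib.lead.NaMain
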