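import Mathlib
import Groth.Agent.Lib.lead.NaMain

set_option linter.style.haveILetI false
universe u
open CategoryTheory AlgebraicGeometry Limits Opposite

namespace Groth.Agent.Lib.lead.NaMain

attribute [instance] RelApprox.pre

section Base

variable {Ip : Type u} [Preorder Ip] [IsDirected Ip (fun a b => a ≤ b)] [Nonempty Ip]
  (D : Ipᵒᵖ ⥤ Scheme.{u}) (haff : ∀ {i j : Ipᵒᵖ} (f : i ⟶ j), IsAffineHom (D.map f))
  (hft : ∀ i, FTZ (D.obj i)) (c : Cone D) (hc : IsLimit c)
  {S : Scheme.{u}} (jU : c.pt ⟶ S) [IsIso jU]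

/-- the trivial relative approximation when `jU` is an isomorphism -/
noncomputable def RelApprox.ofIso : RelApprox D c jU where
  J := Ip
  dir := inferInstance
  ne := inferInstance
  DS := D
  cS := c
  hcS := hc
  eS := asIso jU
  α := 𝟭 _
  ψ := (Functor.leftUnitor D).hom
  oi := fun j => by
    rw [Functor.leftUnitor_hom_app]
    exact inferInstanceAs (IsOpenImmersion (𝟙 (D.obj j)))
  aff := haff
  ft := hft
  pre_iff := fun f s => by
    simp only [Functor.leftUnitor_hom_app]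
    constructor
    · intro _; exact ⟨s, rfl⟩
    · intro _; exact ⟨_, rfl⟩
  cpre_iff := fun j s => by
    simp only [Functor.leftUnitor_hom_app]
    constructor
    · intro _
      refine ⟨(inv jU) s, ?_⟩
      rw [← Scheme.Hom.comp_apply, IsIso.inv_hom_id]
      rfl
    · intro _; exact ⟨_, rfl⟩
  comm := fun j => by
    rw [Functor.leftUnitor_hom_app, asIso_inv, IsIso.hom_inv_id_assoc]
    exact Category.comp_id _

end Base


section General

variable {Ip : Type u} [Preorder Ip] {D : Ipᵒᵖ ⥤ Scheme.{u}} {c : Cone D} {S : Scheme.{u}}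
  {jU : c.pt ⟶ S} (R : RelApprox D c jU)

theorem RelApprox.map_ψ {j j' : R.Jᵒᵖ} (f : j ⟶ j') (v : D.obj (R.α.obj j)) :
    R.DS.map f (R.ψ.app j v) = R.ψ.app j' (D.map (R.α.map f) v) := by
  have h := R.ψ.naturality f
  have h2 := congrArg (fun φ => φ v) h
  simp only [Scheme.Hom.comp_apply] at h2
  exact h2.symm

theorem RelApprox.proj_jU (j : R.Jᵒᵖ) (x : c.pt) :
    (R.eS.inv ≫ R.cS.π.app j) (jU x) = R.ψ.app j (c.π.app (R.α.obj j) x) := by
  have h2 := congrArg (fun φ => φ x) (R.comm j)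
  simp only [Scheme.Hom.comp_apply] at h2 ⊢
  exact h2.symm

end General

section Comp

variable {Ip : Type u} [Preorder Ip] {D : Ipᵒᵖ ⥤ Scheme.{u}} {c : Cone D} {S' S : Scheme.{u}}
  {jU' : c.pt ⟶ S'} (R' : RelApprox D c jU') (ι : S' ⟶ S) [IsOpenImmersion ι]
  (R'' : RelApprox R'.DS R'.cS (R'.eS.hom ≫ ι))

/-- the composite natural transformation -/
noncomputable def compψ : (R''.α ⋙ R'.α) ⋙ D ⟶ R''.DS :=
  (Functor.associator R''.α R'.α D).hom ≫ Functor.whiskerLeft R''.α R'.ψ ≫ R''.ψ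

theorem compψ_app (j : R''.Jᵒᵖ) :
    (compψ R' ι R'').app j = R'.ψ.app (R''.α.obj j) ≫ R''.ψ.app j := by
  unfold compψ
  rw [NatTrans.comp_app, NatTrans.comp_app, Functor.associator_hom_app, Functor.whiskerLeft_app]
  exact Category.id_comp _

/-- composition of relative approximations -/
noncomputable def RelApprox.comp : RelApprox D c (jU' ≫ ι) where
  J := R''.J
  dir := R''.dir
  ne := R''.ne
  DS := R''.DS
  cS := R''.cS
  hcS := R''.hcS
  eS := R''.eS
  α := R''.α ⋙ R'.α
  ψ := compψ R' ι R''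
  oi := fun j => by
    rw [compψ_app]
    haveI := R'.oi (R''.α.obj j)
    haveI := R''.oi j
    infer_instance
  aff := R''.aff
  ft := R''.ft
  pre_iff := fun {j j'} f s => by
    haveI := R''.oi j'
    constructor
    · rintro ⟨u, hu⟩
      rw [compψ_app, Scheme.Hom.comp_apply] at hu
      obtain ⟨t, rfl⟩ := (R''.pre_iff f s).mp ⟨_, hu⟩
      rw [R''.map_ψ f t] at hu
      have h3 := (R''.ψ.app j').isOpenEmbedding.injective hu
      obtain ⟨v, rfl⟩ := (R'.pre_iff (R''.α.map f) t).mp ⟨u, h3⟩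
      refine ⟨v, ?_⟩
      rw [compψ_app, Scheme.Hom.comp_apply]
    · rintro ⟨v, rfl⟩
      refine ⟨D.map (R'.α.map (R''.α.map f)) v, ?_⟩
      rw [compψ_app, compψ_app, Scheme.Hom.comp_apply, Scheme.Hom.comp_apply, R''.map_ψ, R'.map_ψ]
  comm := fun j => by
    rw [compψ_app]
    have h1 := R'.comm (R''.α.obj j)
    have h2 := R''.comm j
    change c.π.app (R'.α.obj (R''.α.obj j)) ≫ _ = _
    rw [← Category.assoc, h1, Category.assoc, Category.assoc, h2, Category.assoc, Category.assoc,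
      Iso.inv_hom_id_assoc]
  cpre_iff := fun j s => by
    haveI := R''.oi j
    have hcomm : c.π.app (R'.α.obj (R''.α.obj j)) ≫ (compψ R' ι R'').app j =
        (jU' ≫ ι) ≫ R''.eS.inv ≫ R''.cS.π.app j := by
      rw [compψ_app]
      have h1 := R'.comm (R''.α.obj j)
      have h2 := R''.comm j
      rw [← Category.assoc, h1, Category.assoc, Category.assoc, h2, Category.assoc, Category.assoc,
        Iso.inv_hom_id_assoc]
    constructor
    · rintro ⟨u, hu⟩
      rw [compψ_app, Scheme.Hom.comp_apply] at hu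
      obtain ⟨t, rfl⟩ := (R''.cpre_iff j s).mp ⟨_, hu⟩
      rw [R''.proj_jU j t] at hu
      have h3 := (R''.ψ.app j).isOpenEmbedding.injective hu
      have h4 : (R'.eS.inv ≫ R'.cS.π.app (R''.α.obj j)) (R'.eS.hom t) =
          R'.cS.π.app (R''.α.obj j) t := by
        rw [← Scheme.Hom.comp_apply, Iso.hom_inv_id_assoc]
      obtain ⟨x, hx⟩ := (R'.cpre_iff (R''.α.obj j) (R'.eS.hom t)).mp ⟨u, h3.trans h4.symm⟩
      refine ⟨x, ?_⟩
      rw [Scheme.Hom.comp_apply, hx, Scheme.Hom.comp_apply]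
    · rintro ⟨x, rfl⟩
      refine ⟨c.π.app (R'.α.obj (R''.α.obj j)) x, ?_⟩
      have h5 := congrArg (fun φ => φ x) hcomm
      simp only [Scheme.Hom.comp_apply] at h5 ⊢
      exact h5

end Comp


section Induction

/-- Relative approximation exists when `S` is covered by the given open and `n` affine opens. -/
theorem exists_relApprox_aux (n : ℕ) : ∀ {S : Scheme.{u}} [QuasiSeparatedSpace S]
    {Ip : Type u} [Preorder Ip] [IsDirected Ip (fun a b => a ≤ b)] [Nonempty Ip]
    (D : Ipᵒᵖ ⥤ Scheme.{u}) (_ : ∀ {i j : Ipᵒᵖ} (f : i ⟶ j), IsAffineHom (D.map f))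
    (_ : ∀ i, FTZ (D.obj i)) (c : Cone D) (_ : IsLimit c)
    (jU : c.pt ⟶ S) [IsOpenImmersion jU] (W : Fin n → S.Opens) (_ : ∀ i, IsAffineOpen (W i))
    (_ : ∀ s : S, s ∈ jU.opensRange ∨ ∃ i, s ∈ W i), Nonempty (RelApprox D c jU) := by
  induction n with
  | zero =>
    intro S _ Ip _ _ _ D haff hft c hc jU _ W hW hcov
    have htop : jU.opensRange = ⊤ := by
      rw [eq_top_iff]
      intro s _
      rcases hcov s with h | ⟨i, _⟩
      · exact h
      · exact i.elim0
    haveI : IsIso jU := isIso_of_isOpenImmersion_of_opensRange_eq_top jU htop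
    exact ⟨RelApprox.ofIso D haff hft c hc jU⟩
  | succ n ih =>
    intro S _ Ip _ _ _ D haff hft c hc jU _ W hW hcov
    let S' : S.Opens := jU.opensRange ⊔ ⨆ i : Fin n, W i.castSucc
    have hrange : Set.range jU ⊆ Set.range S'.ι := by
      rw [Scheme.Opens.range_ι]
      rintro _ ⟨x, rfl⟩
      exact (le_sup_left : jU.opensRange ≤ S') ⟨x, rfl⟩
    let jU' : c.pt ⟶ (S' : Scheme.{u}) := IsOpenImmersion.lift S'.ι jU hrange
    have hfac : jU' ≫ S'.ι = jU := IsOpenImmersion.lift_fac _ _ _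
    haveI : IsOpenImmersion jU' := by
      have : IsOpenImmersion (jU' ≫ S'.ι) := by rw [hfac]; infer_instance
      exact IsOpenImmersion.of_comp _ S'.ι
    let W' : Fin n → (S' : Scheme.{u}).Opens := fun i => S'.ι ⁻¹ᵁ W i.castSucc
    have hW' : ∀ i, IsAffineOpen (W' i) := fun i =>
      (hW i.castSucc).preimage_of_isOpenImmersion S'.ι (by
        rw [Scheme.Opens.opensRange_ι]
        exact le_trans (le_iSup (fun i : Fin n => W i.castSucc) i) le_sup_right)
    have hcov' : ∀ s : (S' : Scheme.{u}), s ∈ jU'.opensRange ∨ ∃ i, s ∈ W' i := by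
      intro s
      have hs : s.1 ∈ S' := s.2
      rcases hs with h | h
      · left
        obtain ⟨x, hx⟩ := h
        refine ⟨x, ?_⟩
        apply S'.ι.isOpenEmbedding.injective
        rw [← Scheme.Hom.comp_apply, hfac, hx]
        rfl
      · right
        have h' : s.1 ∈ ⨆ i : Fin n, W i.castSucc := h
        rw [TopologicalSpace.Opens.mem_iSup] at h'
        obtain ⟨i, hi⟩ := h'
        exact ⟨i, hi⟩
    haveI : QuasiSeparatedSpace (S' : Scheme.{u}) := S'.ι.isOpenEmbedding.quasiSeparatedSpace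
    obtain ⟨R'⟩ := ih D haff hft c hc jU' W' hW' hcov'
    haveI := R'.dir
    haveI := R'.ne
    have hcov₂ : (R'.eS.hom ≫ S'.ι).opensRange ⊔ W (Fin.last n) = ⊤ := by
      rw [Scheme.Hom.opensRange_comp_of_isIso, Scheme.Opens.opensRange_ι, eq_top_iff]
      intro s _
      rcases hcov s with h | ⟨i, hi⟩
      · exact Or.inl ((le_sup_left : jU.opensRange ≤ S') h)
      · induction i using Fin.lastCases with
        | last => exact Or.inr hi
        | cast i =>
          exact Or.inl ((le_sup_right : _ ≤ S')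
            (TopologicalSpace.Opens.mem_iSup.mpr ⟨i, hi⟩))
    obtain ⟨R''⟩ := gluing_step R'.DS R'.aff R'.ft R'.cS R'.hcS (R'.eS.hom ≫ S'.ι)
      (W (Fin.last n)) (hW _) hcov₂
    exact ⟨hfac ▸ (R'.comp S'.ι R'')⟩

/-- **Relative absolute Noetherian approximation.** -/
theorem exists_relApprox {S : Scheme.{u}} [CompactSpace S] [QuasiSeparatedSpace S]
    {Ip : Type u} [Preorder Ip] [IsDirected Ip (fun a b => a ≤ b)] [Nonempty Ip]
    (D : Ipᵒᵖ ⥤ Scheme.{u}) (haff : ∀ {i j : Ipᵒᵖ} (f : i ⟶ j), IsAffineHom (D.map f))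
    (hft : ∀ i, FTZ (D.obj i)) (c : Cone D) (hc : IsLimit c)
    (jU : c.pt ⟶ S) [IsOpenImmersion jU] : Nonempty (RelApprox D c jU) := by
  classical
  obtain ⟨t, ht⟩ := isCompact_univ.elim_finite_subcover
    (fun U : S.affineOpens => (U.1 : Set S)) (fun U => U.1.isOpen) (by
      intro s _
      obtain ⟨_, ⟨U, hU, rfl⟩, hs, -⟩ :=
        S.isBasis_affineOpens.exists_subset_of_mem_open (Set.mem_univ s) isOpen_univ
      exact Set.mem_iUnion.mpr ⟨⟨U, hU⟩, hs⟩)
  let e := t.equivFin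
  refine exists_relApprox_aux t.card D haff hft c hc jU (fun i => (e.symm i).1.1)
    (fun i => (e.symm i).1.2) ?_
  intro s
  right
  have h := ht (Set.mem_univ s)
  simp only [Set.mem_iUnion] at h
  obtain ⟨U, hU, hs⟩ := h
  refine ⟨e ⟨U, hU⟩, ?_⟩
  change s ∈ ((e.symm (e ⟨U, hU⟩)).1.1 : S.Opens)
  rw [Equiv.symm_apply_apply]
  exact hs

end Induction

end Groth.Agent.Lib.lead.NaMain
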