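import Mathlib
import Groth.Agent.S10837
import Groth.Agent.Lib.Helper4.DimSurj

set_option autoImplicit false
universe u
open CategoryTheory CategoryTheory.Limits AlgebraicGeometry

namespace Groth.Agent.Lib.lead.OpenMapDim

theorem main {X Y : Scheme.{u}} (f : X ⟶ Y) (hf : IsOpenMap f.base) :
    topologicalKrullDim ↥(Set.range f.base) ≤ topologicalKrullDim ↥X := by
  have hopen : IsOpen (Set.range f.base) := hf.isOpen_range
  haveI : QuasiSober ↥(Set.range f.base) := hopen.isOpenEmbedding_subtypeVal.quasiSober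
  let g : X → ↥(Set.range f.base) := fun x => ⟨f.base x, x, rfl⟩
  have hgc : Continuous g := f.continuous.subtype_mk _
  refine Groth.Agent.Lib.Helper4.DimSurj.main g hgc ?_ (Or.inr ?_)
  · rintro ⟨_, x, rfl⟩
    exact ⟨x, rfl⟩
  · intro x y' hy'
    have h1 : y'.1 ⤳ f.base x := Topology.IsInducing.subtypeVal.specializes_iff.mpr hy'
    obtain ⟨x', hx', hfx'⟩ := Groth.Agent.S10837.result f hf h1
    exact ⟨x', hx', Subtype.ext hfx'⟩

end Groth.Agent.Lib.lead.OpenMapDim

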