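import Mathlib

/-! Localizations of products of domains at primes. -/

namespace Groth.Agent.PiLoc

open Classical in
/-- indicator idempotent of a subset of the index set -/
noncomputable def ind {ι : Type*} (R : ι → Type*) [∀ i, CommRing (R i)] (s : Set ι) :
    (∀ i, R i) := fun i => if i ∈ s then 1 else 0

variable {ι : Type*} {R : ι → Type*} [∀ i, CommRing (R i)]

lemma ind_apply_mem {s : Set ι} {i : ι} (h : i ∈ s) : ind R s i = 1 := by
  simp [ind, h]

lemma ind_apply_not_mem {s : Set ι} {i : ι} (h : i ∉ s) : ind R s i = 0 := by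
  simp [ind, h]

lemma ind_add_ind_compl (s : Set ι) : ind R s + ind R sᶜ = 1 := by
  funext i
  by_cases h : i ∈ s
  · simp [ind, h]
  · simp [ind, h]

lemma ind_not_mem_or (P : Ideal (∀ i, R i)) [P.IsPrime] (s : Set ι) :
    ind R s ∉ P ∨ ind R sᶜ ∉ P := by
  by_contra h
  push Not at h
  have : (1 : ∀ i, R i) ∈ P := by
    rw [← ind_add_ind_compl s]; exact P.add_mem h.1 h.2
  exact (Ideal.IsPrime.ne_top ‹_›) ((Ideal.eq_top_iff_one _).mpr this)

variable [∀ i, IsDomain (R i)]

theorem isDomain_localization (P : Ideal (∀ i, R i)) [P.IsPrime] :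
    IsDomain (Localization.AtPrime P) := by
  classical
  haveI : NoZeroDivisors (Localization.AtPrime P) := by
    constructor
    intro α β hαβ
    obtain ⟨⟨a, s⟩, rfl⟩ := IsLocalization.mk'_surjective P.primeCompl α
    obtain ⟨⟨b, t⟩, rfl⟩ := IsLocalization.mk'_surjective P.primeCompl β
    rw [← IsLocalization.mk'_mul, IsLocalization.mk'_eq_zero_iff] at hαβ
    obtain ⟨u, hu⟩ := hαβ
    by_cases ha : ind R {i | a i ≠ 0}ᶜ ∉ P
    · left
      rw [IsLocalization.mk'_eq_zero_iff]
      refine ⟨⟨_, ha⟩, ?_⟩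
      funext i
      by_cases hi : a i ≠ 0
      · simp [ind, hi]
      · simp only [ne_eq, not_not] at hi
        simp [hi]
    by_cases hb : ind R {i | b i ≠ 0}ᶜ ∉ P
    · right
      rw [IsLocalization.mk'_eq_zero_iff]
      refine ⟨⟨_, hb⟩, ?_⟩
      funext i
      by_cases hi : b i ≠ 0
      · simp [ind, hi]
      · simp only [ne_eq, not_not] at hi
        simp [hi]
    exfalso
    have ha' : ind R {i | a i ≠ 0} ∉ P := (ind_not_mem_or P _).resolve_right ha
    have hb' : ind R {i | b i ≠ 0} ∉ P := (ind_not_mem_or P _).resolve_right hb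
    have hprod : (u : ∀ i, R i) * ind R {i | a i ≠ 0} * ind R {i | b i ≠ 0} ∉ P := by
      intro h
      rcases (Ideal.IsPrime.mem_or_mem ‹_› h) with h | h
      · rcases (Ideal.IsPrime.mem_or_mem ‹_› h) with h | h
        · exact u.2 h
        · exact ha' h
      · exact hb' h
    apply hprod
    have : (u : ∀ i, R i) * ind R {i | a i ≠ 0} * ind R {i | b i ≠ 0} = 0 := by
      funext i
      by_cases hai : a i ≠ 0
      · by_cases hbi : b i ≠ 0
        · have h0 := congrFun hu i
          simp only [Pi.mul_apply, Pi.zero_apply] at h0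
          have hui : (u : ∀ i, R i) i = 0 := by
            rcases mul_eq_zero.mp h0 with h | h
            · exact h
            · exact absurd h (mul_ne_zero hai hbi)
          simp [hui]
        · simp [ind, hbi]
      · simp [ind, hai]
    rw [this]
    exact zero_mem _
  exact NoZeroDivisors.to_isDomain _

theorem preValuationRing_localization [∀ i, ValuationRing (R i)] (P : Ideal (∀ i, R i))
    [P.IsPrime] : PreValuationRing (Localization.AtPrime P) := by
  classical
  constructor
  intro α β
  obtain ⟨⟨a, s⟩, rfl⟩ := IsLocalization.mk'_surjective P.primeCompl α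
  obtain ⟨⟨b, t⟩, rfl⟩ := IsLocalization.mk'_surjective P.primeCompl β
  have hc : ∀ i, ∃ c : R i, a i ∣ b i → b i = a i * c := by
    intro i
    by_cases h : a i ∣ b i
    · obtain ⟨c, hc⟩ := h
      exact ⟨c, fun _ => hc⟩
    · exact ⟨0, fun h' => absurd h' h⟩
  have hd : ∀ i, ∃ d : R i, ¬ a i ∣ b i → a i = b i * d := by
    intro i
    by_cases h : a i ∣ b i
    · exact ⟨0, fun h' => absurd h h'⟩
    · have := (ValuationRing.dvd_total (a i) (b i)).resolve_left h
      obtain ⟨d, hd⟩ := this
      exact ⟨d, fun _ => hd⟩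
  choose c hc using hc
  choose d hd using hd
  rcases ind_not_mem_or P {i | a i ∣ b i} with h | h
  · refine ⟨IsLocalization.mk' _ (c * s) t, Or.inl ?_⟩
    rw [← IsLocalization.mk'_mul, IsLocalization.eq]
    refine ⟨⟨_, h⟩, ?_⟩
    funext i
    by_cases hi : a i ∣ b i
    · simp only [Pi.mul_apply, Submonoid.coe_mul]
      rw [hc i hi]
      ring
    · simp [ind, hi]
  · refine ⟨IsLocalization.mk' _ (d * t) s, Or.inr ?_⟩
    rw [← IsLocalization.mk'_mul, IsLocalization.eq]
    refine ⟨⟨_, h⟩, ?_⟩
    funext i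
    by_cases hi : a i ∣ b i
    · simp [ind, hi]
    · simp only [Pi.mul_apply, Submonoid.coe_mul]
      rw [hd i hi]
      ring

end Groth.Agent.PiLoc
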