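import Mathlib
import Groth.Prelude.Def_PolLaw
import Groth.Agent.Lib.lead.PolLawUniv

namespace Groth.Agent.Lib.lead.PolLawLim
open Groth.Agent.Lib.lead.PolLawBC Groth.Agent.Lib.lead.PolLawKerBC Groth.Agent.Lib.lead.PolLawUniv

universe u
open scoped TensorProduct Polynomial

section defect
variable {A : Type u} [CommRing A] {B : Type u} [CommRing B] [Algebra A B]
    {C : Type u} [CommRing C] [Algebra A C]

/-- the universal defect of `b1` -/
noncomputable def Δu (F : B →ₚₗ[A] C) (A1 : Type u) [CommRing A1] [Algebra A A1] {n : ℕ} (e : Fin n → B)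
    (b1 : A1 ⊗[A] B) : U A1 n ⊗[A] C :=
  F.toFun' (U A1 n) (xu A1 e + wu A1 e * Algebra.TensorProduct.map (ρu (A := A) A1 n) (AlgHom.id A B) b1)
    - F.toFun' (U A1 n) (xu A1 e)

theorem mem_kerBC_iff_Δ (F : B →ₚₗ[A] C) (A1 : Type u) [CommRing A1] [Algebra A A1] {n : ℕ} (e : Fin n → B)
    (he : Submodule.span A (Set.range e) = ⊤) (b1 : A1 ⊗[A] B) :
    b1 ∈ PolLaw.kerBC F A1 ↔ Δu F A1 e b1 = 0 := by
  rw [mem_kerBC_iff_univ A1 F e he, Δu, sub_eq_zero]

noncomputable def θu {A1 A2 : Type u} [CommRing A1] [Algebra A A1] [CommRing A2] [Algebra A A2]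
    (θ : A1 →ₐ[A] A2) (n : ℕ) : U A1 n →ₐ[A] U A2 n := MvPolynomial.mapAlgHom θ

theorem θu_apply {A1 A2 : Type u} [CommRing A1] [Algebra A A1] [CommRing A2] [Algebra A A2]
    (θ : A1 →ₐ[A] A2) (n : ℕ) (P : U A1 n) : θu θ n P = MvPolynomial.map (θ : A1 →+* A2) P := rfl

theorem bc_xu {A1 A2 : Type u} [CommRing A1] [Algebra A A1] [CommRing A2] [Algebra A A2]
    (θ : A1 →ₐ[A] A2) {n : ℕ} (e : Fin n → B) :
    bc B (θu θ n) (xu A1 e) = xu A2 e := by
  unfold xu
  rw [map_sum]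
  refine Finset.sum_congr rfl (fun i _ => ?_)
  show (θu θ n (MvPolynomial.X (Sum.inl i))) ⊗ₜ[A] e i = _
  rw [θu_apply, MvPolynomial.map_X]

theorem bc_wu {A1 A2 : Type u} [CommRing A1] [Algebra A A1] [CommRing A2] [Algebra A A2]
    (θ : A1 →ₐ[A] A2) {n : ℕ} (e : Fin n → B) :
    bc B (θu θ n) (wu A1 e) = wu A2 e := by
  unfold wu
  rw [map_sum]
  refine Finset.sum_congr rfl (fun i _ => ?_)
  show (θu θ n (MvPolynomial.X (Sum.inr i))) ⊗ₜ[A] e i = _
  rw [θu_apply, MvPolynomial.map_X]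

theorem θu_comp_ρu {A1 A2 : Type u} [CommRing A1] [Algebra A A1] [CommRing A2] [Algebra A A2]
    (θ : A1 →ₐ[A] A2) (n : ℕ) : (θu θ n).comp (ρu (A := A) A1 n) = (ρu (A := A) A2 n).comp θ := by
  apply AlgHom.ext
  intro a
  show θu θ n (MvPolynomial.C a) = MvPolynomial.C (θ a)
  rw [θu_apply, MvPolynomial.map_C]
  rfl

theorem Δu_map (F : B →ₚₗ[A] C) {A1 A2 : Type u} [CommRing A1] [Algebra A A1] [CommRing A2] [Algebra A A2]
    (θ : A1 →ₐ[A] A2) {n : ℕ} (e : Fin n → B) (b1 : A1 ⊗[A] B) :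
    bc C (θu θ n) (Δu F A1 e b1)
      = Δu F A2 e (Algebra.TensorProduct.map θ (AlgHom.id A B) b1) := by
  unfold Δu
  rw [map_sub, ← compat, ← compat, map_add, map_mul, bc_xu, bc_wu]
  congr 4
  show ((Algebra.TensorProduct.map (θu θ n) (AlgHom.id A B)).comp
    (Algebra.TensorProduct.map (ρu (A := A) A1 n) (AlgHom.id A B))) b1
    = ((Algebra.TensorProduct.map (ρu (A := A) A2 n) (AlgHom.id A B)).comp
    (Algebra.TensorProduct.map θ (AlgHom.id A B))) b1
  rw [← Algebra.TensorProduct.map_comp, ← Algebra.TensorProduct.map_comp, θu_comp_ρu]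

end defect

section lim
variable {A : Type u} [CommRing A] {B : Type u} [CommRing B] [Algebra A B]
    {A' : Type u} [CommRing A'] [Algebra A A'] {ι : Type u} [Preorder ι] [IsDirected ι (fun i j => i ≤ j)] [Nonempty ι]
    (Ai : ι → Type u) [∀ i, CommRing (Ai i)] [∀ i, Algebra A (Ai i)]
    (t : ∀ i j : ι, i ≤ j → (Ai i →ₐ[A] Ai j)) (φ : ∀ i : ι, Ai i →ₐ[A] A')

include t in
theorem lift1' (hcomp : ∀ (i j : ι) (h : i ≤ j), (φ j).comp (t i j h) = φ i)
    (hsurj : ∀ a : A', ∃ (i : ι) (x : Ai i), φ i x = a) (z : A' ⊗[A] B) :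
    ∀ i0 : ι, ∃ (j : ι) (_ : i0 ≤ j) (z' : Ai j ⊗[A] B),
      Algebra.TensorProduct.map (φ j) (AlgHom.id A B) z' = z := by
  have htr : ∀ (i j : ι) (h : i ≤ j) (y : Ai i ⊗[A] B),
      Algebra.TensorProduct.map (φ j) (AlgHom.id A B) (Algebra.TensorProduct.map (t i j h) (AlgHom.id A B) y)
        = Algebra.TensorProduct.map (φ i) (AlgHom.id A B) y := by
    intro i j h y
    show ((Algebra.TensorProduct.map (φ j) (AlgHom.id A B)).comp
      (Algebra.TensorProduct.map (t i j h) (AlgHom.id A B))) y = _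
    rw [← Algebra.TensorProduct.map_comp, hcomp]
    rfl
  induction z using TensorProduct.induction_on with
  | zero => intro i0; exact ⟨i0, le_rfl, 0, map_zero _⟩
  | tmul a b =>
    intro i0
    obtain ⟨i1, y, rfl⟩ := hsurj a
    obtain ⟨j, h0, h1⟩ := exists_ge_ge i0 i1
    refine ⟨j, h0, (t i1 j h1 y) ⊗ₜ[A] b, ?_⟩
    show (φ j (t i1 j h1 y)) ⊗ₜ[A] b = _
    congr 1
    exact congrArg (fun f => f y) (hcomp i1 j h1)
  | add z1 z2 h1 h2 =>
    intro i0
    obtain ⟨j1, hj1, z1', rfl⟩ := h1 i0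
    obtain ⟨j2, hj2, z2', rfl⟩ := h2 j1
    refine ⟨j2, hj1.trans hj2, Algebra.TensorProduct.map (t j1 j2 hj2) (AlgHom.id A B) z1' + z2', ?_⟩
    rw [map_add, htr]

theorem main_lim [Module.Finite A B]
    (hcomp : ∀ (i j : ι) (h : i ≤ j), (φ j).comp (t i j h) = φ i)
    (hsurj : ∀ a : A', ∃ (i : ι) (x : Ai i), φ i x = a)
    (hzero : ∀ (i : ι) (x : Ai i), φ i x = 0 → ∃ (j : ι) (h : i ≤ j), t i j h x = 0)
    (htrans : ∀ (i j k : ι) (hij : i ≤ j) (hjk : j ≤ k), (t j k hjk).comp (t i j hij) = t i k (hij.trans hjk))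
    (F : B →ₚₗ[A] A) :
    PolLaw.kerBC F A' =
      ⨆ i : ι, (PolLaw.kerBC F (Ai i)).map (Algebra.TensorProduct.map (φ i) (AlgHom.id A B)) := by
  classical
  apply le_antisymm
  · intro b' hb'
    obtain ⟨n, e, he⟩ := Module.Finite.exists_fin (R := A) (M := B)
    obtain ⟨i, -, bi, rfl⟩ := lift1' Ai t φ hcomp hsurj b' (Classical.arbitrary ι)
    have hΔ' := (mem_kerBC_iff_Δ F A' e he _).mp hb'
    rw [← Δu_map] at hΔ'
    set P : U (Ai i) n := Algebra.TensorProduct.rid A A (U (Ai i) n) (Δu F (Ai i) e bi) with hP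
    have hPmap : MvPolynomial.map (φ i : Ai i →+* A') P = 0 := by
      have := rid_bc (θu (φ i) n) (Δu F (Ai i) e bi)
      rw [hΔ', map_zero] at this
      rw [hP, ← θu_apply]
      exact this.symm
    have hc : ∀ d, ∃ (j : ι) (h : i ≤ j), t i j h (P.coeff d) = 0 := by
      intro d
      apply hzero
      have := congrArg (MvPolynomial.coeff d) hPmap
      rw [MvPolynomial.coeff_map, MvPolynomial.coeff_zero] at this
      exact this
    choose jd hjd hjd0 using hc
    obtain ⟨j, hj⟩ := Finset.exists_le (insert i (P.support.image jd))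
    have hij : i ≤ j := hj i (Finset.mem_insert_self _ _)
    have hPj : MvPolynomial.map (t i j hij : Ai i →+* Ai j) P = 0 := by
      ext d
      rw [MvPolynomial.coeff_map, MvPolynomial.coeff_zero]
      by_cases hd : d ∈ P.support
      · have hdj : jd d ≤ j := hj _ (Finset.mem_insert_of_mem (Finset.mem_image_of_mem _ hd))
        have := congrArg (fun f => f (P.coeff d)) (htrans i (jd d) j (hjd d) hdj)
        simp only [AlgHom.comp_apply] at this
        show t i j hij (P.coeff d) = 0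
        rw [← this, hjd0, map_zero]
      · rw [MvPolynomial.notMem_support_iff.mp hd]
        exact map_zero _
    have hbj : Algebra.TensorProduct.map (t i j hij) (AlgHom.id A B) bi ∈ PolLaw.kerBC F (Ai j) := by
      rw [mem_kerBC_iff_Δ F (Ai j) e he, ← Δu_map]
      apply (Algebra.TensorProduct.rid A A (U (Ai j) n)).injective
      rw [rid_bc, map_zero, ← hP, θu_apply]
      exact hPj
    have hb' : Algebra.TensorProduct.map (φ i) (AlgHom.id A B) bi
        = Algebra.TensorProduct.map (φ j) (AlgHom.id A B)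
          (Algebra.TensorProduct.map (t i j hij) (AlgHom.id A B) bi) := by
      show _ = ((Algebra.TensorProduct.map (φ j) (AlgHom.id A B)).comp
        (Algebra.TensorProduct.map (t i j hij) (AlgHom.id A B))) bi
      rw [← Algebra.TensorProduct.map_comp, hcomp]
      rfl
    rw [hb']
    exact (le_iSup (fun i => (PolLaw.kerBC F (Ai i)).map
      (Algebra.TensorProduct.map (φ i) (AlgHom.id A B))) j) (Ideal.mem_map_of_mem _ hbj)
  · apply iSup_le
    intro i
    rw [Ideal.map_le_iff_le_comap]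
    intro b hb
    rw [Ideal.mem_comap, mem_kerBC_iff]
    intro R _ _ ρ x w
    have := (mem_kerBC_iff F (Ai i) b).mp hb R (ρ.comp (φ i)) x w
    have e1 : Algebra.TensorProduct.map ρ (AlgHom.id A B) (Algebra.TensorProduct.map (φ i) (AlgHom.id A B) b)
        = Algebra.TensorProduct.map (ρ.comp (φ i)) (AlgHom.id A B) b := by
      show ((Algebra.TensorProduct.map ρ (AlgHom.id A B)).comp
        (Algebra.TensorProduct.map (φ i) (AlgHom.id A B))) b = _
      rw [← Algebra.TensorProduct.map_comp]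
      rfl
    rw [e1]
    exact this
end lim
end Groth.Agent.Lib.lead.PolLawLim
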