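import Mathlib
import Groth.Agent.Lib.Helper13.StalkSpecLoc
import Groth.Agent.Lib.Helper21.CatKit2
import Groth.Agent.Lib.Helper7.AffinePoints
import Groth.Prelude.Def_BlowUp2
import Groth.Prelude.Def_Found

set_option autoImplicit false
set_option linter.style.haveILetI false
set_option linter.deprecated false
universe u
open AlgebraicGeometry CategoryTheory IsLocalRing
open Groth.Agent.Lib.Helper7 Groth.Agent.Lib.Helper13.StalkSpecLoc

namespace Groth.Agent.Lib.lead.ProperInt

variable {X : Scheme.{u}}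

theorem stalk_dim_eq_height {U : X.Opens} (hU : IsAffineOpen U) (x : X) (hx : x ∈ U) :
    ringKrullDim (X.presheaf.stalk x) = (hU.primeIdealOf ⟨x, hx⟩).asIdeal.height := by
  letI := TopCat.Presheaf.algebra_section_stalk X.presheaf (⟨x, hx⟩ : U)
  have := hU.isLocalization_stalk ⟨x, hx⟩
  exact IsLocalization.AtPrime.ringKrullDim_eq_height _ (X.presheaf.stalk x)

theorem mem_support_iff (𝓘 : X.IdealSheafData) (U : X.affineOpens) (x : X) (hx : x ∈ U.1) :
    x ∈ 𝓘.support ↔ 𝓘.ideal U ≤ (U.2.primeIdealOf ⟨x, hx⟩).asIdeal := by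
  rw [Scheme.IdealSheafData.mem_support_iff_of_mem hx, Scheme.mem_zeroLocus_iff]
  constructor
  · intro h f hf
    exact (AffPts.mem_primeIdealOf_iff U.2 ⟨x, hx⟩ f).mpr (h f hf)
  · intro h f hf
    exact (AffPts.mem_primeIdealOf_iff U.2 ⟨x, hx⟩ f).mp (h hf)

theorem one_le_height {R : Type u} [CommRing R] (f : R) (hf : f ∈ nonZeroDivisors R)
    (p : Ideal R) [p.IsPrime] (hfp : f ∈ p) : 1 ≤ p.height := by
  rw [ENat.one_le_iff_ne_zero]
  intro h0
  rw [Ideal.height_eq_zero_iff] at h0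
  exact Set.disjoint_left.mp (Ideal.disjoint_nonZeroDivisors_of_mem_minimalPrimes h0) hfp hf

theorem height_eq_one {R : Type u} [CommRing R] [IsNoetherianRing R] (f : R)
    (hf : f ∈ nonZeroDivisors R) (p : Ideal R) (hp : p ∈ (Ideal.span {f}).minimalPrimes) :
    p.height = 1 := by
  haveI : p.IsPrime := hp.1.1
  apply le_antisymm
  · exact Ideal.height_le_one_of_isPrincipal_of_mem_minimalPrimes (Ideal.span {f}) p hp
  · exact one_le_height f hf p (hp.1.2 (Ideal.subset_span rfl))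


/-- every point of the support of an effective Cartier ideal has local dimension ≥ 1 -/
theorem one_le_dim_of_mem_support [IsLocallyNoetherian X] (𝓘 : X.IdealSheafData)
    (hY : BlowUp.IsEffCartierIdeal 𝓘) (y : X) (hy : y ∈ 𝓘.support) :
    (1 : WithBot ℕ∞) ≤ ringKrullDim (X.presheaf.stalk y) := by
  obtain ⟨U, hyU, f, hf, hI⟩ := hY y
  rw [stalk_dim_eq_height U.2 y hyU]
  have hle := (mem_support_iff 𝓘 U y hyU).mp hy
  have hfp : f ∈ (U.2.primeIdealOf ⟨y, hyU⟩).asIdeal := hle (hI ▸ Ideal.subset_span rfl)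
  exact_mod_cast one_le_height f hf _ hfp

/-- a generization-maximal point of the support of an effective Cartier ideal has local
dimension 1 -/
theorem dim_eq_one_of_maximal [IsLocallyNoetherian X] (𝓘 : X.IdealSheafData)
    (hY : BlowUp.IsEffCartierIdeal 𝓘) (y : X) (hy : y ∈ 𝓘.support)
    (hmax : ∀ z : X, z ∈ 𝓘.support → z ⤳ y → z = y) :
    ringKrullDim (X.presheaf.stalk y) = 1 := by
  obtain ⟨U, hyU, f, hf, hI⟩ := hY y
  haveI : IsNoetherianRing Γ(X, U.1) := IsLocallyNoetherian.component_noetherian U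
  rw [stalk_dim_eq_height U.2 y hyU]
  have hle := (mem_support_iff 𝓘 U y hyU).mp hy
  have hmin : (U.2.primeIdealOf ⟨y, hyU⟩).asIdeal ∈ (Ideal.span {f}).minimalPrimes := by
    refine ⟨⟨(U.2.primeIdealOf ⟨y, hyU⟩).isPrime, hI ▸ hle⟩, ?_⟩
    rintro p ⟨hp, hfp⟩ hpq
    obtain ⟨z, hz⟩ := AffPts.primeIdealOf_surjective U.2 ⟨p, hp⟩
    have hzs : z.1 ∈ 𝓘.support := by
      rw [mem_support_iff 𝓘 U z.1 z.2, hI]
      have : U.2.primeIdealOf ⟨z.1, z.2⟩ = ⟨p, hp⟩ := hz
      rw [this]; exact hfp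
    have hzy : z.1 ⤳ y := by
      have := (AffPts.primeIdealOf_le_iff U.2 z ⟨y, hyU⟩).mp (by rw [hz]; exact hpq)
      exact this
    have hzy' := hmax z.1 hzs hzy
    have : z = ⟨y, hyU⟩ := Subtype.ext hzy'
    rw [this] at hz
    rw [hz]
  exact_mod_cast height_eq_one f hf _ hmin

/-- below every point of the support there is a point of the support of local dimension 1 -/
theorem exists_dim_eq_one [IsLocallyNoetherian X] (𝓘 : X.IdealSheafData)
    (hY : BlowUp.IsEffCartierIdeal 𝓘) (ζ : X) (hζ : ζ ∈ 𝓘.support) :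
    ∃ y : X, y ∈ 𝓘.support ∧ ringKrullDim (X.presheaf.stalk y) = 1 := by
  obtain ⟨U, hζU, f, hf, hI⟩ := hY ζ
  haveI : IsNoetherianRing Γ(X, U.1) := IsLocallyNoetherian.component_noetherian U
  have hle := (mem_support_iff 𝓘 U ζ hζU).mp hζ
  rw [hI] at hle
  obtain ⟨p, hpmin, hpq⟩ := Ideal.exists_minimalPrimes_le hle
  haveI : p.IsPrime := hpmin.1.1
  obtain ⟨z, hz⟩ := AffPts.primeIdealOf_surjective U.2 ⟨p, inferInstance⟩
  have hz' : U.2.primeIdealOf ⟨z.1, z.2⟩ = ⟨p, inferInstance⟩ := hz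
  refine ⟨z.1, ?_, ?_⟩
  · rw [mem_support_iff 𝓘 U z.1 z.2, hI, hz']
    exact hpmin.1.2
  · rw [stalk_dim_eq_height U.2 z.1 z.2, hz']
    exact_mod_cast height_eq_one f hf p hpmin

theorem iInf_dim_eq_one [IsLocallyNoetherian X] (𝓘 : X.IdealSheafData)
    (hY : BlowUp.IsEffCartierIdeal 𝓘) (ζ : X) (hζ : ζ ∈ 𝓘.support) :
    (⨅ y : (𝓘.support : Set X), ringKrullDim (X.presheaf.stalk y.1)) = 1 := by
  obtain ⟨y, hy, hy1⟩ := exists_dim_eq_one 𝓘 hY ζ hζ
  apply le_antisymm
  · exact (iInf_le _ (⟨y, hy⟩ : (𝓘.support : Set X))).trans_eq hy1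
  · exact le_iInf fun y => one_le_dim_of_mem_support 𝓘 hY y.1 y.2


/-- monotonicity of `primeOf` -/
theorem primeOf_trans_le {η η₁ ζ : X} (h₁ : η ⤳ η₁) (h₂ : η₁ ⤳ ζ) :
    primeOf (h₁.trans h₂) ≤ primeOf h₂ := by
  intro a ha
  by_contra hna
  have hu : IsUnit ((X.presheaf.stalkSpecializes h₂).hom a) := by
    by_contra hnu
    exact hna ((mem_maximalIdeal _).mpr hnu)
  have hcomp : (X.presheaf.stalkSpecializes (h₁.trans h₂)).hom a =
      (X.presheaf.stalkSpecializes h₁).hom ((X.presheaf.stalkSpecializes h₂).hom a) := by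
    rw [← TopCat.Presheaf.stalkSpecializes_comp]
    rfl
  have hu2 : IsUnit ((X.presheaf.stalkSpecializes (h₁.trans h₂)).hom a) := by
    rw [hcomp]; exact hu.map _
  exact (mem_maximalIdeal _).mp ha hu2

/-- in an irreducible scheme, local rings have a unique minimal prime, so quotienting by a
minimal prime does not change the dimension. -/
theorem dim_quotient_minimalPrime [IrreducibleSpace X] (ζ : X)
    (p₀ : Ideal (X.presheaf.stalk ζ)) (hp₀ : p₀ ∈ minimalPrimes (X.presheaf.stalk ζ)) :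
    ringKrullDim (X.presheaf.stalk ζ ⧸ p₀) = ringKrullDim (X.presheaf.stalk ζ) := by
  haveI : p₀.IsPrime := hp₀.1.1
  have huniq : ∀ p₁ : Ideal (X.presheaf.stalk ζ), p₁ ∈ minimalPrimes (X.presheaf.stalk ζ) →
      p₁ = primeOf (genericPoint_specializes ζ) := by
    intro p₁ hp₁
    haveI : p₁.IsPrime := hp₁.1.1
    obtain ⟨η₁, h₁, rfl⟩ := exists_primeOf_eq ζ p₁
    have hle := primeOf_trans_le (genericPoint_specializes η₁) h₁
    exact le_antisymm (hp₁.2 ⟨inferInstance, bot_le⟩ hle) hle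
  have hbot : ∀ q : PrimeSpectrum (X.presheaf.stalk ζ), (⟨p₀, inferInstance⟩ : PrimeSpectrum _) ≤ q := by
    intro q
    obtain ⟨p₁, hp₁, hle⟩ := Ideal.exists_minimalPrimes_le (bot_le : (⊥ : Ideal _) ≤ q.asIdeal)
    have : p₁ = p₀ := (huniq p₁ hp₁).trans (huniq p₀ hp₀).symm
    rw [this] at hle
    exact hle
  apply le_antisymm
  · exact ringKrullDim_quotient_le p₀
  · rw [Groth.Agent.Lib.Helper21.CatKit.ringKrullDim_quotient_eq_coheight ⟨p₀, inferInstance⟩]
    rw [ringKrullDim, Order.krullDim_eq_iSup_coheight]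
    refine iSup_le fun q => ?_
    exact_mod_cast Order.coheight_anti (hbot q)


/-- kernel of the stalk map of a closed immersion from an integral scheme is the prime of the
image of the generic point -/
theorem ker_stalkMap_eq_primeOf {Z : Scheme.{u}} (i : Z ⟶ X) [IsIntegral Z] (ζ' : Z) :
    RingHom.ker (i.stalkMap ζ').hom =
      primeOf ((genericPoint_specializes ζ').map i.continuous : i (genericPoint Z) ⤳ i ζ') := by
  set hξ := genericPoint_specializes ζ'
  have hsq := fun a => Scheme.Hom.stalkSpecializes_stalkMap_apply i (genericPoint Z) ζ' hξ a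
  have hinj : Function.Injective (Z.presheaf.stalkSpecializes hξ).hom := by
    letI := (Z.presheaf.stalkSpecializes hξ).hom.toAlgebra
    haveI := isLocalization_stalkSpecializes hξ
    exact IsLocalization.injective (M := (primeOf hξ).primeCompl) _
      (Ideal.primeCompl_le_nonZeroDivisors _)
  have hfield : maximalIdeal (Z.presheaf.stalk (genericPoint Z)) = ⊥ := by
    have : IsField (Z.presheaf.stalk (genericPoint Z)) :=
      Field.toIsField (Z.functionField)
    exact IsLocalRing.isField_iff_maximalIdeal_eq.mp this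
  ext a
  rw [RingHom.mem_ker]
  change _ ↔ (X.presheaf.stalkSpecializes _).hom a ∈ maximalIdeal _
  constructor
  · intro ha
    by_contra hna
    have hu : IsUnit ((X.presheaf.stalkSpecializes
        ((genericPoint_specializes ζ').map i.continuous)).hom a) := by
      by_contra hnu; exact hna ((mem_maximalIdeal _).mpr hnu)
    have hu2 := hu.map (i.stalkMap (genericPoint Z)).hom
    have h3 := hsq a
    rw [ha, map_zero] at h3
    change IsUnit ((i.stalkMap (genericPoint Z)).hom _) at hu2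
    erw [h3] at hu2
    exact not_isUnit_zero hu2
  · intro ha
    have h3 := hsq a
    have h4 : (i.stalkMap (genericPoint Z)).hom ((X.presheaf.stalkSpecializes
        ((genericPoint_specializes ζ').map i.continuous)).hom a) ∈
        maximalIdeal (Z.presheaf.stalk (genericPoint Z)) := by
      rw [mem_maximalIdeal]
      exact fun hu => (mem_maximalIdeal _).mp ha ((isUnit_map_iff _ _).mp hu)
    rw [hfield, Ideal.mem_bot] at h4
    apply hinj
    rw [map_zero]
    erw [← h3]
    exact h4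


theorem S14119 {X Z : Scheme.{u}}
    [IsLocallyNoetherian X] [IrreducibleSpace ↥X] (hcat : ∀ x : ↥X, CAlg.IsCatenary ↑(X.presheaf.stalk x))
    (𝓘 : X.IdealSheafData) (hY : BlowUp.IsEffCartierIdeal 𝓘)
    (i : Z ⟶ X) [IsClosedImmersion i] [IsIntegral Z] (hc : BlowUp.IsEffCartierIdeal (𝓘.comap i)) :
    (∀ ζ : ↥X, ζ ∈ (𝓘.support : Set ↥X) ∩ Set.range i.base →
        (∀ ζ' : ↥X, ζ' ∈ (𝓘.support : Set ↥X) ∩ Set.range i.base → ζ' ⤳ ζ → ζ' = ζ) →
        ringKrullDim ↑(X.presheaf.stalk ζ) =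
          (⨅ y : (𝓘.support : Set ↥X), ringKrullDim ↑(X.presheaf.stalk y.1)) +
            ringKrullDim ↑(X.presheaf.stalk (i (genericPoint ↥Z)))) := by
  rintro ζ ⟨hζY, ζ', rfl⟩ hmax
  haveI : IsLocallyNoetherian Z := LocallyOfFiniteType.isLocallyNoetherian i
  rw [iInf_dim_eq_one 𝓘 hY _ hζY]
  -- dimension of Z at ζ'
  have hsupp : ∀ z : Z, z ∈ (𝓘.comap i).support ↔ i z ∈ 𝓘.support := by
    intro z
    rw [Scheme.IdealSheafData.support_comap]
    rfl
  have hdimZ : ringKrullDim (Z.presheaf.stalk ζ') = 1 := by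
    apply dim_eq_one_of_maximal (𝓘.comap i) hc ζ' ((hsupp ζ').mpr hζY)
    intro z hz hzζ
    have := hmax (i z) ⟨(hsupp z).mp hz, z, rfl⟩ (hzζ.map i.continuous)
    exact i.isClosedEmbedding.injective this
  -- the ring-theoretic formula
  set h : i (genericPoint Z) ⤳ i ζ' := (genericPoint_specializes ζ').map i.continuous with hh
  have hker := ker_stalkMap_eq_primeOf i ζ'
  have hsurj : Function.Surjective (i.stalkMap ζ').hom := i.stalkMap_surjective ζ'
  have hquot : ringKrullDim (X.presheaf.stalk (i ζ') ⧸ primeOf h) = 1 := by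
    rw [← hdimZ, ← hker]
    exact ringKrullDim_eq_of_ringEquiv (RingHom.quotientKerEquivOfSurjective hsurj)
  obtain ⟨p₀, hp₀min, -, hform⟩ :=
    Groth.Agent.Lib.Helper21.CatKit.exists_minimalPrimes_height_add_dim (hcat (i ζ'))
      ⟨primeOf h, inferInstance⟩
  rw [dim_quotient_minimalPrime (i ζ') p₀.asIdeal hp₀min] at hform
  rw [← hform, ringKrullDim_stalk_eq_height_primeOf h]
  change _ + ringKrullDim (X.presheaf.stalk (i ζ') ⧸ primeOf h) = _
  rw [hquot, add_comm]

end Groth.Agent.Lib.lead.ProperInt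

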