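import Mathlib
import Groth.Agent.Lib.lead.SchemeDimIneqGlobal
import Groth.Agent.Lib.lead.QFCodimOne
import Groth.Agent.Lib.Helper7.TopDimComponents
import Groth.Agent.Lib.Helper7.AffinePoints

set_option autoImplicit false
universe u
open CategoryTheory CategoryTheory.Limits AlgebraicGeometry

namespace Groth.Agent.Lib.lead.ProperIsolatedDim

open Groth.Agent.Lib.Helper7

theorem dim_range_eq {X Y : Scheme.{u}} (j : X ⟶ Y) [IsClosedImmersion j] :
    topologicalKrullDim ↥X = topologicalKrullDim ↥(Set.range j) :=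
  IsHomeomorph.topologicalKrullDim_eq _ j.isEmbedding.toHomeomorph.isHomeomorph

theorem dim_mono {T : Type*} [TopologicalSpace T] {A B : Set T} (h : A ⊆ B) :
    topologicalKrullDim ↥A ≤ topologicalKrullDim ↥B :=
  (Topology.IsEmbedding.inclusion h).isInducing.topologicalKrullDim_le

theorem main
    (X Y : Scheme.{u}) [IsLocallyNoetherian X] [IsLocallyNoetherian Y] (π : X ⟶ Y) [IsProper π]
    (d : WithBot ℕ∞) (hX : ∀ Z ∈ irreducibleComponents ↥X, topologicalKrullDim ↥Z = d)
    (hY : ∀ Z ∈ irreducibleComponents ↥Y, topologicalKrullDim ↥Z = d)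
    (x : ↥X) (hx : ∃ U : X.Opens, x ∈ U ∧ ∀ x' ∈ U, π x' = π x → x' = x) :
    topologicalKrullDim ↥(Set.range (fun z : ↥X => π z)) = topologicalKrullDim ↥Y := by
  -- `π` is quasi-finite at `x`
  have hqx : π.QuasiFiniteAt x := by
    rw [Scheme.Hom.quasiFiniteAt_iff_isOpen_singleton_asFiber]
    obtain ⟨U, hxU, hU⟩ := hx
    have : ({π.asFiber x} : Set ↥(π.fiber (π x))) = (π.fiberι (π x)) ⁻¹' (U : Set X) := by
      ext z
      simp only [Set.mem_singleton_iff, Set.mem_preimage, SetLike.mem_coe]
      constructor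
      · rintro rfl
        rw [Scheme.Hom.fiberι_asFiber]
        exact hxU
      · intro hz
        apply (π.fiberι (π x)).isEmbedding.injective
        rw [Scheme.Hom.fiberι_asFiber]
        apply hU _ hz
        have := π.range_fiberι (π x)
        have hmem : (π.fiberι (π x)) z ∈ Set.range (π.fiberι (π x)) := ⟨z, rfl⟩
        rw [this] at hmem
        exact hmem
    rw [this]
    exact (U.isOpen).preimage (π.fiberι (π x)).continuous
  -- an irreducible component through `x` and its generic point
  obtain ⟨X', hX', hxX'⟩ := exists_mem_irreducibleComponents_subset_of_isIrreducible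
    ({x} : Set X) isIrreducible_singleton
  have hX'cl : IsClosed X' := isClosed_of_mem_irreducibleComponents X' hX'
  obtain ⟨ξ, hξ⟩ := QuasiSober.sober hX'.1 hX'cl
  have hξx : ξ ⤳ x := hξ.specializes (hxX' rfl)
  have hqξ : π.QuasiFiniteAt ξ := hξx.mem_open π.isOpen_quasiFiniteAt hqx
  -- closed subscheme structure on `X'`
  let I := Scheme.IdealSheafData.vanishingIdeal (X := X) ⟨X', hX'cl⟩
  let T := I.subscheme
  let ι : T ⟶ X := I.subschemeι
  have hrange : Set.range ι = X' := by
    rw [I.range_subschemeι]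
    exact Scheme.IdealSheafData.coe_support_vanishingIdeal _
  have hdimT : topologicalKrullDim ↥T = d := by
    rw [dim_range_eq ι, hrange]
    exact hX X' hX'
  -- the scheme-theoretic image
  let h : T ⟶ Y := ι ≫ π
  let h' := h.toImage
  let jj := h.imageι
  have hfac : h' ≫ jj = h := h.toImage_imageι
  haveI : LocallyOfFiniteType (h' ≫ jj) := by rw [hfac]; infer_instance
  haveI : LocallyOfFiniteType h' := locallyOfFiniteType_of_comp h' jj
  haveI : IsLocallyNoetherian h.image := LocallyOfFiniteType.isLocallyNoetherian jj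
  have hgen : ∀ η : T, closure {η} ∈ irreducibleComponents ↥T →
      letI := (h'.residueFieldMap η).hom.toAlgebra
      Algebra.trdeg (h.image.residueField (h' η)) (T.residueField η) ≤ (0 : ℕ) := by
    intro η hη
    have hηmax : ∀ y : T, y ⤳ η → y = η :=
      (AffPts.closure_mem_irreducibleComponents_iff η).1 hη
    have hιη : ι η = ξ := by
      have hξr : ξ ∈ Set.range ι := by rw [hrange]; exact hξ.mem
      obtain ⟨η₀, hη₀⟩ := hξr
      have hmem : ι η ∈ X' := by rw [← hrange]; exact ⟨η, rfl⟩
      have hsp : ι η₀ ⤳ ι η := by rw [hη₀]; exact hξ.specializes hmem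
      have := hηmax η₀ (ι.isEmbedding.isInducing.specializes_iff.1 hsp)
      rw [← this, hη₀]
    have hq1 : h.QuasiFiniteAt η := by
      have hπ : π.QuasiFiniteAt (ι η) := by rw [hιη]; exact hqξ
      have hι : ι.QuasiFiniteAt η := ι.quasiFiniteAt η
      simp only [Scheme.Hom.QuasiFiniteAt, h, Scheme.Hom.stalkMap_comp] at hπ hι ⊢
      exact RingHom.QuasiFinite.comp hι hπ
    have hq2 : h'.QuasiFiniteAt η := by
      have : (h' ≫ jj).QuasiFiniteAt η := by rw [hfac]; exact hq1
      exact Scheme.Hom.quasiFiniteAt_comp_iff.1 this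
    have := QFCodimOne.trdeg_eq_zero_of_quasiFiniteAt h' η hq2
    rw [this]
    simp
  have h1 := SchemeDimIneqGlobal.main h' 0 hgen
  have h2 : topologicalKrullDim ↥h.image = topologicalKrullDim ↥(Set.range jj) := dim_range_eq jj
  have h3 : Set.range jj ⊆ Set.range (fun z : ↥X => π z) := by
    have hr : Set.range jj = closure (Set.range h) := by
      rw [h.ker.range_subschemeι, h.support_ker]
    rw [hr]
    have hcl : IsClosed (Set.range (fun z : ↥X => π z)) := π.isClosedMap.isClosed_range
    apply hcl.closure_subset_iff.2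
    rintro _ ⟨t, rfl⟩
    exact ⟨ι t, rfl⟩
  have h4 : topologicalKrullDim ↥(Set.range (fun z : ↥X => π z)) ≤ topologicalKrullDim ↥Y :=
    topologicalKrullDim_subspace_le _ _
  have h5 : topologicalKrullDim ↥Y ≤ d :=
    TopDimComp.topologicalKrullDim_le_of_forall_component d (fun Z hZ => (hY Z hZ).le)
  apply le_antisymm h4
  calc topologicalKrullDim ↥Y ≤ d := h5
    _ = topologicalKrullDim ↥T := hdimT.symm
    _ ≤ topologicalKrullDim ↥h.image + (0 : ℕ) := h1
    _ = topologicalKrullDim ↥h.image := by simp
    _ = topologicalKrullDim ↥(Set.range jj) := h2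
    _ ≤ _ := dim_mono h3

end Groth.Agent.Lib.lead.ProperIsolatedDim

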