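import Mathlib
import Groth.Agent.Lib.lead.QFCodimOne

open CategoryTheory CategoryTheory.Limits AlgebraicGeometry
open Groth.Agent.Lib.lead

universe u

namespace Groth.Agent.Lib.lead.QFCodimOneLoc

theorem mem_irreducibleComponents_of_forall_specializes {T : Type*} [TopologicalSpace T]
    [QuasiSober T] {x : T} (h : ∀ y : T, y ⤳ x → y = x) :
    closure {x} ∈ irreducibleComponents T := by
  obtain ⟨z, hz, hzx⟩ := QFGeneric.exists_generic_specializes x
  rw [← h z hzx]; exact hz

theorem main {X Y : Scheme.{u}} (f : X ⟶ Y) [LocallyOfFiniteType f]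
    (y : Y) [IsNoetherianRing (Y.presheaf.stalk y)] (hy : ringKrullDim (Y.presheaf.stalk y) ≤ 1)
    (hgen : ∀ Z ∈ irreducibleComponents (X : Type u), ∀ η : X, IsGenericPoint η Z → f.QuasiFiniteAt η)
    (x : X) (hx : f.base x = y) : f.QuasiFiniteAt x := by
  let R : CommRingCat := Y.presheaf.stalk y
  let j : Spec R ⟶ Y := Y.fromSpecStalk y
  let y₀ : Spec R := IsLocalRing.closedPoint R
  have hj0 : j y₀ = y := Scheme.fromSpecStalk_closedPoint
  let g : pullback f j ⟶ X := pullback.fst f j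
  let f' : pullback f j ⟶ Spec R := pullback.snd f j
  have hcomm : ∀ z : ↥(pullback f j), f (g z) = j (f' z) := by
    intro z
    have := congrArg (fun k => k.base z) (pullback.condition (f := f) (g := j))
    simpa using this
  haveI : IsLocallyNoetherian (Spec R) := isLocallyNoetherian_Spec.mpr ‹_›
  have hgemb : Topology.IsEmbedding g := g.isEmbedding
  have hjinj : Function.Injective j := j.isEmbedding.injective
  have hrange : ∀ z : X, f z ⤳ y → ∃ z' : ↥(pullback f j), g z' = z := by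
    intro z hz
    have : f z ∈ Set.range j := by rw [Scheme.range_fromSpecStalk]; exact hz
    obtain ⟨w, hw⟩ := this
    obtain ⟨z', hz', -⟩ := Scheme.Pullback.exists_preimage_pullback z w hw.symm
    exact ⟨z', hz'⟩
  have hjy : ∀ w : Spec R, j w ⤳ y := by
    intro w
    have : j w ∈ Set.range j := ⟨w, rfl⟩
    rwa [Scheme.range_fromSpecStalk] at this
  -- dimension of the stalk of Spec R at the closed point
  have hdim : ringKrullDim ((Spec R).presheaf.stalk y₀) ≤ 1 := by
    rw [ringKrullDim_eq_of_ringEquiv (stalkClosedPointIso R).commRingCatIsoToRingEquiv]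
    exact hy
  -- the hypothesis transfers
  have hgen' : ∀ ξ' : ↥(pullback f j), closure {ξ'} ∈ irreducibleComponents ↥(pullback f j) →
      f' ξ' ⤳ y₀ → f'.QuasiFiniteAt ξ' := by
    intro ξ' hξ' _
    have hmax : ∀ η : X, η ⤳ g ξ' → η = g ξ' := by
      intro η hη
      have h1 : f η ⤳ y := (hη.map f.continuous).trans (by rw [hcomm]; exact hjy _)
      obtain ⟨η', rfl⟩ := hrange η h1
      have h2 : η' ⤳ ξ' := hgemb.isInducing.specializes_iff.mp hη
      rw [QFGeneric.eq_of_specializes_of_mem_irreducibleComponents hξ' h2]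
    have hq : f.QuasiFiniteAt (g ξ') :=
      hgen _ (mem_irreducibleComponents_of_forall_specializes hmax) (g ξ') rfl
    rw [QFCodim.quasiFiniteAt_iff_exists_open] at hq ⊢
    obtain ⟨O, hO, hOe⟩ := hq
    refine ⟨g ⁻¹' O, hO.preimage g.continuous, ?_⟩
    ext z
    simp only [Set.mem_inter_iff, Set.mem_preimage, Set.mem_singleton_iff]
    constructor
    · rintro ⟨h1, h2⟩
      have h3 : g z ∈ O ∩ f ⁻¹' {f (g ξ')} := ⟨h1, by
        simp only [Set.mem_preimage, Set.mem_singleton_iff]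
        rw [hcomm, hcomm, h2]⟩
      rw [hOe] at h3
      exact hgemb.injective h3
    · rintro rfl
      have h3 : g z ∈ O ∩ f ⁻¹' {f (g z)} := by rw [hOe]; rfl
      exact ⟨h3.1, rfl⟩
  obtain ⟨x', hx'1, hx'2⟩ := Scheme.Pullback.exists_preimage_pullback x y₀ (hx.trans hj0.symm)
  have hq' : f'.QuasiFiniteAt x' := QFCodimOne.main_noeth f' y₀ hdim hgen' x' hx'2
  rw [QFCodim.quasiFiniteAt_iff_exists_open] at hq' ⊢
  obtain ⟨O', hO', hO'e⟩ := hq'
  obtain ⟨O, hO, rfl⟩ := hgemb.isInducing.isOpen_iff.mp hO'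
  refine ⟨O, hO, ?_⟩
  ext z
  simp only [Set.mem_inter_iff, Set.mem_preimage, Set.mem_singleton_iff]
  constructor
  · rintro ⟨h1, h2⟩
    have hz : f z ⤳ y := by rw [h2, hx]
    obtain ⟨z', rfl⟩ := hrange z hz
    have h3 : z' ∈ g ⁻¹' O ∩ f' ⁻¹' {f' x'} := ⟨h1, by
      simp only [Set.mem_preimage, Set.mem_singleton_iff]
      apply hjinj
      rw [← hcomm, ← hcomm, h2, hx'1]⟩
    rw [hO'e] at h3
    rw [Set.mem_singleton_iff.mp h3, hx'1]
  · rintro rfl
    have h3 : x' ∈ g ⁻¹' O ∩ f' ⁻¹' {f' x'} := by rw [hO'e]; rfl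
    refine ⟨?_, rfl⟩
    rw [← hx'1]; exact h3.1

end Groth.Agent.Lib.lead.QFCodimOneLoc

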