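import Mathlib
import Groth.Agent.Lib.lead.QFCodimSp
import Groth.Agent.Lib.lead.QFCodimOne
import Groth.Agent.Lib.Helper3.AlgSpNoethChart

set_option autoImplicit false
universe u
open CategoryTheory CategoryTheory.Limits AlgebraicGeometry

namespace Groth.Agent.Lib.lead.QFCodimOneSp

open AlgSp Groth.Agent.Lib.Helper3 Groth.Agent.Lib.lead.QFCodim Groth.Agent.Lib.lead.QFCodimSp

variable {S : Scheme.{u}}

abbrev D1 : ∀ U : Scheme.{u}, ↥U → Prop := fun U u => ringKrullDim ↥(U.presheaf.stalk u) ≤ 1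

/-- a generic point of an irreducible component has a zero-dimensional local ring -/
theorem dim_zero_of_mem_irreducibleComponents (U : Scheme.{u}) (ξ : U)
    (hξ : closure {ξ} ∈ irreducibleComponents U) : ringKrullDim (U.presheaf.stalk ξ) = 0 := by
  obtain ⟨u', hs, hd⟩ := exists_specializes_dim_zero U ξ
  rw [QFGeneric.eq_of_specializes_of_mem_irreducibleComponents hξ hs] at hd
  exact hd

/-- Chart-level core: with a chart diagram, quasi-finiteness at the codimension-zero points of the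
chart over generizations of `v` implies quasi-finiteness over `v`. -/
theorem main {X Y : AlgSp.Space S} (f : X ⟶ Y)
    (hf : AlgSp.LocP @LocallyOfFiniteType f.hom) (hY : AlgSp.IsLocNoethSp Y.obj) (y : AlgSp.Points Y.obj)
    (hy : AlgSp.HasAt D1 Y.obj y)
    (h : ∀ x : AlgSp.Points X.obj, AlgSp.HasAt D0 X.obj x → AlgSp.HasAtMor QFQ f.hom x)
    (x : AlgSp.Points X.obj) (hx : AlgSp.Points.map f.hom x = y) :
    AlgSp.HasAtMor QFQ f.hom x := by
  obtain ⟨V, b, hbe, hbs⟩ := Y.property.atlas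
  obtain ⟨U, c, k, -, -, hae, has, -, hk⟩ := exists_chart_over X.property Y.property f.hom b hbe
  have has' := has hbs
  generalize c ≫ pullback.fst f.hom b = a at hae has' hk
  haveI hlft : LocallyOfFiniteType k.left := hf a b k hae hbe hk
  haveI : IsLocallyNoetherian V.left := isLocallyNoetherian_of_isLocNoethSp hY b hbe
  have K0 : ∀ u : U.left, Points.map f.hom (Points.ofPt a u) = Points.ofPt b (k.left u) := by
    intro u
    rw [Points.map_ofPt, hk, Points.ofPt_yon_map_comp]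
  have K1 : ∀ v : V.left, Points.ofPt b v = y → ringKrullDim (V.left.presheaf.stalk v) ≤ 1 := by
    intro v hv
    obtain ⟨V', b', v', hb'e, hv', hd⟩ := hy
    rw [ringKrullDim_stalk_eq_of_ofPt_eq b b' hbe hb'e v v' (hv.trans hv'.symm)]
    exact hd
  have K2 : ∀ u : U.left, ringKrullDim (U.left.presheaf.stalk u) = 0 →
      HasAt D0 X.obj (Points.ofPt a u) := fun u hd => ⟨U, a, u, hae, rfl, hd⟩
  have K3 : ∀ u : U.left, HasAtMor QFQ f.hom (Points.ofPt a u) ↔ k.left.QuasiFiniteAt u := by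
    intro u
    constructor
    · rintro ⟨U₁, V₁, a₁, b₁, h₁, u₁, ha₁, hb₁, e₁, hu₁, hQ⟩
      exact quasiFiniteAt_of_charts f.hom a b k a₁ b₁ h₁ hae hbe ha₁ hb₁ hk e₁ u u₁ hu₁.symm
        (quasiFiniteAt_of_QFQ _ _ hQ)
    · intro hq
      exact ⟨U, V, a, b, k, u, hae, hbe, hk, rfl, QFQ_of_quasiFiniteAt k.left u hq⟩
  obtain ⟨u, rfl⟩ := exists_ofPt_eq a has' x
  rw [K3]
  refine QFCodimOne.main_noeth k.left (k.left u) (K1 _ (by rw [← K0, hx])) ?_ u rfl
  intro ξ hξ _
  rw [← K3]
  exact h _ (K2 ξ (dim_zero_of_mem_irreducibleComponents U.left ξ hξ))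

end Groth.Agent.Lib.lead.QFCodimOneSp

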