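import Mathlib
import Groth.Agent.Lib.lead.QFCodimOneSp
import Groth.Agent.Lib.lead.QFCodimOneLoc

set_option autoImplicit false
universe u
open CategoryTheory CategoryTheory.Limits AlgebraicGeometry

namespace Groth.Agent.Lib.lead.QFCodimOneDense

open AlgSp Groth.Agent.Lib.Helper3 Groth.Agent.Lib.lead.QFCodim Groth.Agent.Lib.lead.QFCodimSp
open Groth.Agent.Lib.lead.QFCodimOneSp

variable {S : Scheme.{u}}

/-- In a locally Noetherian scheme a dense open subset contains the generic points of all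
irreducible components. -/
theorem mem_of_dense_of_mem_irreducibleComponents (U : Scheme.{u}) [IsLocallyNoetherian U]
    (W : Set U) (hW : IsOpen W) (hWd : Dense W) (ξ : U)
    (hξ : closure {ξ} ∈ irreducibleComponents U) : ξ ∈ W := by
  obtain ⟨_, ⟨N, hN : IsAffineOpen N, rfl⟩, hξN, -⟩ :=
    (U.isBasis_affineOpens).exists_subset_of_mem_open (Set.mem_univ ξ) isOpen_univ
  haveI : IsNoetherianRing Γ(U, N) := IsLocallyNoetherian.component_noetherian ⟨N, hN⟩
  haveI : TopologicalSpace.NoetherianSpace ↥N := noetherianSpace_of_isAffineOpen N hN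
  haveI : QuasiSober ↥N := N.isOpenEmbedding'.quasiSober
  have hcomp : closure {(⟨ξ, hξN⟩ : ↥N)} ∈ irreducibleComponents ↥N := by
    refine Groth.Agent.Lib.lead.QFCodimOneLoc.mem_irreducibleComponents_of_forall_specializes ?_
    intro η hη
    have h1 : (η : U) ⤳ ξ := (subtype_specializes_iff _ _).mp hη
    exact Subtype.ext (QFGeneric.eq_of_specializes_of_mem_irreducibleComponents hξ h1)
  obtain ⟨o, ho, hone, hosub⟩ :=
    TopologicalSpace.NoetherianSpace.exists_isOpen_nonempty_subset_irreducibleComponent _ hcomp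
  have ho' : IsOpen (Subtype.val '' o : Set U) := N.isOpen.isOpenMap_subtype_val _ ho
  obtain ⟨w, hwo, hwW⟩ := hWd.inter_open_nonempty _ ho' (hone.image _)
  obtain ⟨w', hw'o, rfl⟩ := hwo
  have h2 : (⟨ξ, hξN⟩ : ↥N) ⤳ w' := by
    rw [specializes_iff_mem_closure]; exact hosub hw'o
  have h3 : ξ ⤳ (w' : U) := (subtype_specializes_iff _ _).mp h2
  exact h3.mem_open hW hwW

theorem main {X Y : AlgSp.Space S} (f : X ⟶ Y)
    (hf : AlgSp.LocP @LocallyOfFiniteType f.hom) (hY : AlgSp.IsLocNoethSp Y.obj) (y : AlgSp.Points Y.obj)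
    (hy : AlgSp.HasAt D1 Y.obj y)
    (h : Dense {x : AlgSp.Points X.obj | AlgSp.HasAtMor QFQ f.hom x})
    (x : AlgSp.Points X.obj) (hx : AlgSp.Points.map f.hom x = y) :
    AlgSp.HasAtMor QFQ f.hom x := by
  obtain ⟨V, b, hbe, hbs⟩ := Y.property.atlas
  obtain ⟨U, c, k, -, -, hae, has, -, hk⟩ := exists_chart_over X.property Y.property f.hom b hbe
  have has' := has hbs
  generalize c ≫ pullback.fst f.hom b = a at hae has' hk
  haveI hlft : LocallyOfFiniteType k.left := hf a b k hae hbe hk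
  haveI : IsLocallyNoetherian V.left := isLocallyNoetherian_of_isLocNoethSp hY b hbe
  haveI : IsLocallyNoetherian U.left := LocallyOfFiniteType.isLocallyNoetherian k.left
  have K0 : ∀ u : U.left, Points.map f.hom (Points.ofPt a u) = Points.ofPt b (k.left u) := by
    intro u
    rw [Points.map_ofPt, hk, Points.ofPt_yon_map_comp]
  have K1 : ∀ v : V.left, Points.ofPt b v = y → ringKrullDim (V.left.presheaf.stalk v) ≤ 1 := by
    intro v hv
    obtain ⟨V', b', v', hb'e, hv', hd⟩ := hy
    rw [ringKrullDim_stalk_eq_of_ofPt_eq b b' hbe hb'e v v' (hv.trans hv'.symm)]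
    exact hd
  have K3 : ∀ u : U.left, HasAtMor QFQ f.hom (Points.ofPt a u) ↔ k.left.QuasiFiniteAt u := by
    intro u
    constructor
    · rintro ⟨U₁, V₁, a₁, b₁, h₁, u₁, ha₁, hb₁, e₁, hu₁, hQ⟩
      exact quasiFiniteAt_of_charts f.hom a b k a₁ b₁ h₁ hae hbe ha₁ hb₁ hk e₁ u u₁ hu₁.symm
        (quasiFiniteAt_of_QFQ _ _ hQ)
    · intro hq
      exact ⟨U, V, a, b, k, u, hae, hbe, hk, rfl, QFQ_of_quasiFiniteAt k.left u hq⟩
  have hWd : Dense {u : U.left | k.left.QuasiFiniteAt u} := by
    have := h.preimage (isOpenMap_ofPt a hae)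
    convert this using 1
    ext u
    simp only [Set.mem_setOf_eq, Set.mem_preimage]
    exact (K3 u).symm
  have hWo : IsOpen {u : U.left | k.left.QuasiFiniteAt u} := k.left.isOpen_quasiFiniteAt
  obtain ⟨u, rfl⟩ := exists_ofPt_eq a has' x
  rw [K3]
  refine QFCodimOne.main_noeth k.left (k.left u) (K1 _ (by rw [← K0, hx])) ?_ u rfl
  intro ξ hξ _
  exact mem_of_dense_of_mem_irreducibleComponents U.left _ hWo hWd ξ hξ

end Groth.Agent.Lib.lead.QFCodimOneDense

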