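import Mathlib
import Groth.Agent.Lib.lead.QFCodimOneDense
import Groth.Agent.Lib.Helper3.AlgSpResTrdeg

set_option autoImplicit false
universe u
open CategoryTheory CategoryTheory.Limits AlgebraicGeometry
open Groth.Agent.Lib.lead

namespace Groth.Agent.Lib.lead.QFCodimOneTr

open AlgSp Groth.Agent.Lib.Helper3 Groth.Agent.Lib.lead.QFCodim Groth.Agent.Lib.lead.QFCodimSp
open Groth.Agent.Lib.lead.QFCodimOneSp Groth.Agent.Lib.lead.QFCodimOne

variable {S : Scheme.{u}}

/-- Locally Noetherian base: quasi-finite at generic points implies quasi-finite over points of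
codimension at most one. -/
theorem main_noeth_trdeg {X Y : Scheme.{u}} [IsLocallyNoetherian Y] (f : X ⟶ Y) [LocallyOfFiniteType f]
    (y : Y) (hy : ringKrullDim (Y.presheaf.stalk y) ≤ 1)
    (hgen : ∀ ξ : X, closure {ξ} ∈ irreducibleComponents X → f ξ ⤳ y →
      @Algebra.trdeg (Y.residueField (f ξ)) (X.residueField ξ) _ _
        (f.residueFieldMap ξ).hom.toAlgebra = 0)
    (x : X) (hx : f x = y) : f.QuasiFiniteAt x := by
  have key : ∀ z : X, f z = y →
      @Algebra.trdeg (Y.residueField (f z)) (X.residueField z) _ _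
        (f.residueFieldMap z).hom.toAlgebra = 0 := by
    intro z hz
    obtain ⟨n, hn⟩ := SchemeDimIneqGlobal.exists_nat_trdeg f z
    have h := SchemeDimIneq.main f z n 0 hn (fun ξ hξ hsp => by
      rw [hgen ξ hξ (hz ▸ hsp.map f.continuous)]
      simp)
    rw [hn]
    by_contra hne
    have hn1 : 1 ≤ n := by
      rcases Nat.eq_zero_or_pos n with h0 | h0
      · exact absurd (by rw [h0]; simp) hne
      · exact h0
    have hd0 : ringKrullDim (X.presheaf.stalk z) = 0 := by
      have hnn : 0 ≤ ringKrullDim (X.presheaf.stalk z) := ringKrullDim_nonneg_of_nontrivial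
      have hle : ringKrullDim (X.presheaf.stalk z) + (n : WithBot ℕ∞) ≤ 1 := by
        refine le_trans h ?_
        rw [hz]
        simpa using hy
      refine le_antisymm ?_ hnn
      obtain ⟨d', hd'⟩ := WithBot.ne_bot_iff_exists.mp (ne_of_gt (lt_of_lt_of_le (WithBot.bot_lt_coe (0 : ℕ∞)) hnn))
      rw [← hd'] at hle ⊢
      have hle' : d' + (n : ℕ∞) ≤ 1 := by exact_mod_cast hle
      have : d' ≤ 0 := by
        cases d' with
        | top => simp at hle'
        | coe m =>
          have : m + n ≤ 1 := by exact_mod_cast hle'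
          have : m = 0 := by omega
          simp [this]
      exact_mod_cast this
    obtain ⟨ξ, hξ, hξz⟩ := QFGeneric.exists_generic_specializes z
    have hξz' : ξ = z := QFCodim.eq_of_specializes_of_dim_zero X hd0 hξz
    subst hξz'
    have h0 := hgen ξ hξ (by rw [hz])
    rw [hn] at h0
    exact hne h0
  rw [Scheme.Hom.quasiFiniteAt_iff_isOpen_singleton_asFiber]
  haveI : IsLocallyNoetherian (f.fiber (f x)) := by
    unfold Scheme.Hom.fiber
    infer_instance
  haveI := QFCodim.discreteTopology_of_forall_specializes_eq (f.fiber (f x)) (by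
    intro z z' hz
    have h1 : f.fiberι (f x) z' ⤳ f.fiberι (f x) z := hz.map (f.fiberι (f x)).continuous
    have h2 : ∀ w : f.fiber (f x), f (f.fiberι (f x) w) = f x := by
      intro w
      have : f.fiberι (f x) w ∈ Set.range (f.fiberι (f x)) := ⟨w, rfl⟩
      rw [f.range_fiberι] at this; exact this
    by_contra hne
    have hne' : f.fiberι (f x) z' ≠ f.fiberι (f x) z :=
      fun h => hne ((f.fiberι (f x)).isEmbedding.injective h)
    have h3 := S9381Aux.main f _ _ h1 hne' ((h2 z').trans (h2 z).symm)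
    rw [key _ ((h2 z').trans hx)] at h3
    exact not_lt_bot h3)
  exact isOpen_discrete _


theorem main {X Y : AlgSp.Space S} (f : X ⟶ Y)
    (hf : AlgSp.LocP @LocallyOfFiniteType f.hom) (hY : AlgSp.IsLocNoethSp Y.obj) (y : AlgSp.Points Y.obj)
    (hy : AlgSp.HasAt D1 Y.obj y)
    (h : ∀ x : AlgSp.Points X.obj, AlgSp.HasAt D0 X.obj x → AlgSp.Points.map f.hom x ⤳ y →
      AlgSp.HasAtMor (fun _ _ h u => Dual3.resTrdeg h u = 0) f.hom x)
    (x : AlgSp.Points X.obj) (hx : AlgSp.Points.map f.hom x = y) :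
    AlgSp.HasAtMor QFQ f.hom x := by
  obtain ⟨V, b, hbe, hbs⟩ := Y.property.atlas
  obtain ⟨U, c, k, -, -, hae, has, -, hk⟩ := exists_chart_over X.property Y.property f.hom b hbe
  have has' := has hbs
  generalize c ≫ pullback.fst f.hom b = a at hae has' hk
  haveI hlft : LocallyOfFiniteType k.left := hf a b k hae hbe hk
  haveI : IsLocallyNoetherian V.left := isLocallyNoetherian_of_isLocNoethSp hY b hbe
  have K0 : ∀ u : U.left, Points.map f.hom (Points.ofPt a u) = Points.ofPt b (k.left u) := by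
    intro u
    rw [Points.map_ofPt, hk, Points.ofPt_yon_map_comp]
  have K1 : ∀ v : V.left, Points.ofPt b v = y → ringKrullDim (V.left.presheaf.stalk v) ≤ 1 := by
    intro v hv
    obtain ⟨V', b', v', hb'e, hv', hd⟩ := hy
    rw [ringKrullDim_stalk_eq_of_ofPt_eq b b' hbe hb'e v v' (hv.trans hv'.symm)]
    exact hd
  obtain ⟨u, rfl⟩ := exists_ofPt_eq a has' x
  have hy' : Points.ofPt b (k.left u) = y := by rw [← K0, hx]
  refine ⟨U, V, a, b, k, u, hae, hbe, hk, rfl, QFQ_of_quasiFiniteAt k.left u ?_⟩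
  refine main_noeth_trdeg k.left (k.left u) (K1 _ hy') ?_ u rfl
  intro ξ hξ hsp
  have hd0 : HasAt D0 X.obj (Points.ofPt a ξ) :=
    ⟨U, a, ξ, hae, rfl, dim_zero_of_mem_irreducibleComponents U.left ξ hξ⟩
  have hsp' : Points.map f.hom (Points.ofPt a ξ) ⤳ y := by
    rw [K0, ← hy']
    exact hsp.map (Points.continuous_ofPt b)
  obtain ⟨U₁, V₁, a₁, b₁, h₁, u₁, ha₁, hb₁, e₁, hu₁, hQ⟩ := h _ hd0 hsp'
  have := resTrdeg_eq_of_charts f.hom a₁ b₁ h₁ a b k ha₁ hb₁ hae hbe e₁ hk u₁ ξ hu₁
  rw [hQ] at this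
  exact this.symm

end Groth.Agent.Lib.lead.QFCodimOneTr

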