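import Mathlib
import Groth.Agent.Lib.lead.ValFlatI
import Groth.Agent.Lib.lead.UnibranchUnivOpenAt
import Groth.Agent.Lib.lead.EquidimBC
import Groth.Agent.Lib.lead.HTopBlowUp
import Groth.Agent.Lib.helper19.SmQF
import Groth.Agent.Lib.Helper21.FlatDescK
import Groth.Agent.Lib.Helper25.FibCritPt
import Groth.Agent.S1628
import Groth.Agent.S9347

set_option autoImplicit false
set_option linter.style.haveILetI false
set_option linter.unusedSectionVars false
universe u
open CategoryTheory CategoryTheory.Limits AlgebraicGeometry TensorProduct Topology IsLocalRing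

namespace Groth.Agent.Lib.lead.QfUnibranchEtale

variable {X S : Scheme.{u}}

open Groth.Agent.Lib.Helper21.FibreBC in
attribute [local instance] fibOver

/-- a smooth fibre is geometrically reduced at every point. -/
theorem isGeomReducedAt_of_smooth_fibre (f : X ⟶ S) (x : X)
    (h : Smooth (f.fiberToSpecResidueField (f x))) :
    FBase.IsGeomReducedAt (f.fiberToSpecResidueField (f.base x)) (f.asFiber x) := by
  haveI : Smooth (f.fiber (f x) ↘ Spec (CommRingCat.of ↑(S.residueField (f x)))) := h
  have h1 := (Groth.Agent.S1628.result (S.residueField (f x)) (f.fiber (f x))).1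
  intro K _ _ x' _
  haveI : IsReduced (FBase.bc (f.fiberToSpecResidueField (f.base x)) K) :=
    h1.geometrically_isReduced _ _ _ (IsPullback.of_hasPullback _ _)
  infer_instance

/-- the stalk map at a point over a maximal point of a reduced scheme is flat. -/
theorem flat_stalkMap_of_maximal [IsReduced S] (f : X ⟶ S) (x : X)
    (hmax : ∀ η : S, η ⤳ f x → η = f x) : (f.stalkMap x).hom.Flat := by
  have hcomp : closure {f x} ∈ irreducibleComponents ↥S :=
    (Groth.Agent.Lib.Helper7.AffPts.closure_mem_irreducibleComponents_iff (f x)).mpr hmax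
  have hfield : IsField (S.presheaf.stalk (f x)) :=
    isField_stalk_of_closure_mem_irreducibleComponents S (f x) hcomp
  apply Groth.Agent.Lib.lead.ValFlatH.ringHom_flat_of_maximalIdeal_eq_bot
  exact IsLocalRing.isField_iff_maximalIdeal_eq.mp hfield

open Groth.Agent.Lib.lead.UnibranchUnivOpenAt in
theorem main {k : Type u} [Field k] [CharZero k] {S : Scheme.{u}}
    (σ : S ⟶ Spec (CommRingCat.of k)) [IsLocallyNoetherian S] [IsReduced S]
    (hS : ∀ s : S, CAlg2.IsGeomUnibranch (S.presheaf.stalk s))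
    {X : Scheme.{u}} (f : X ⟶ S) [LocallyOfFiniteType f] [QuasiCompact f] [LocallyQuasiFinite f]
    [IsSeparated f] [IsDominant f] [ConnectedSpace X]
    (hfib : ∀ s : S, Smooth (Limits.pullback.snd f (S.fromSpecResidueField s))) :
    Etale f := by
  haveI : IsLocallyNoetherian X := LocallyOfFiniteType.isLocallyNoetherian f
  have hfib' : ∀ s, Smooth (f.fiberToSpecResidueField s) := hfib
  let G : Set X := {x | ∃ ξ : X, ξ ⤳ x ∧ (∀ ξ', ξ' ⤳ ξ → ξ' = ξ) ∧ (∀ η', η' ⤳ f ξ → η' = f ξ)}
  let F : Set X := {x | (f.stalkMap x).hom.Flat}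
  have hFopen : IsOpen F := Groth.Agent.Lib.Helper21.FlatDesc.isOpen_flat_locus f
  have hGF : G ⊆ F := by
    intro x hx
    have h1 := isUnivOpenAt_of_lqf_of_gu f x (hS _) hx
    refine Groth.Agent.Lib.lead.ValFlatI.main f x ?_
      (isGeomReducedAt_of_smooth_fibre f x (hfib' _)) inferInstance
    intro z hz _
    haveI : DiscreteTopology ↥(f.fiber (f.base x)) := IsLocallyArtinian.discreteTopology
    have hzx : f.asFiber x = z := by
      rw [closure_discrete] at hz
      exact hz
    rw [← hzx, Scheme.Hom.fiberι_asFiber]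
    exact h1
  have hFG : F ⊆ G := by
    intro x hx
    obtain ⟨ξ, hξx, hξmax⟩ := Groth.Agent.Lib.lead.HTopBlowUp.exists_maximal_generization x
    refine ⟨ξ, hξx, hξmax, ?_⟩
    have hξF : ξ ∈ F := hξx.mem_open hFopen hx
    let FO : X.Opens := ⟨F, hFopen⟩
    haveI : Flat (FO.ι ≫ f) := by
      rw [Flat.iff_flat_stalkMap]
      intro u
      rw [Groth.Agent.Lib.Helper25.FibCritPt.flat_stalkMap_ι_comp_iff]
      exact u.2
    have hgen := Flat.generalizingMap (FO.ι ≫ f)
    intro η' hη'
    obtain ⟨ξ', hξ', hfξ'⟩ := hgen (a := (⟨ξ, hξF⟩ : FO.toScheme)) (b := η') hη'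
    have h2 : FO.ι ξ' = ξ := hξmax _ (hξ'.map FO.ι.continuous)
    rw [← hfξ', Scheme.Hom.comp_apply, h2]
  have hFclosed : IsClosed F := by
    rw [← isOpen_compl_iff, isOpen_iff_forall_mem_open]
    intro x hx
    obtain ⟨U'', -, hxU'', hspec⟩ :=
      Groth.Agent.Lib.lead.EquidimBC.exists_open_maximal_specializes X ⊤ x trivial
    refine ⟨U'', ?_, U''.2, hxU''⟩
    intro x' hx' hx'F
    apply hx
    obtain ⟨ξ, hξx', hξmax, hfξ⟩ := hFG hx'F
    have hξU : ξ ∈ U'' := hξx'.mem_open U''.2 hx'
    exact hGF ⟨ξ, hspec ξ hξU hξmax, hξmax, hfξ⟩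
  have hFne : F.Nonempty := by
    obtain ⟨x₀⟩ := (inferInstance : Nonempty X)
    obtain ⟨η, -, hηmax⟩ := Groth.Agent.Lib.lead.HTopBlowUp.exists_maximal_generization (f x₀)
    obtain ⟨x, hx⟩ := Groth.Agent.S9347.exists_specializes_of_mem_closure_range f η
      (by rw [f.denseRange.closure_range]; trivial)
    have hfx : f x = η := hηmax _ hx
    exact ⟨x, flat_stalkMap_of_maximal f x (by rw [hfx]; exact hηmax)⟩
  have hFuniv : F = Set.univ := IsClopen.eq_univ ⟨hFclosed, hFopen⟩ hFne
  haveI : Flat f := by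
    rw [Flat.iff_flat_stalkMap]
    intro x
    have : x ∈ F := by rw [hFuniv]; trivial
    exact this
  haveI : Smooth f := Smooth.of_smooth_fiberToSpecResidueField f hfib'
  exact (Groth.Agent.Lib.Helper19.SmQF.scheme_etale_iff f).mpr ⟨inferInstance, inferInstance⟩

end Groth.Agent.Lib.lead.QfUnibranchEtale

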