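import Mathlib
import Groth.Prelude.Def_EGA43
import Groth.Agent.Lib.lead.UnivOpenGUFibre

set_option autoImplicit false
set_option linter.style.haveILetI false
open CategoryTheory CategoryTheory.Limits AlgebraicGeometry TopologicalSpace Topology

universe u

namespace Groth.Agent.Lib.lead.UnivOpenGUGlobal

open EGA43 Groth.Agent.Lib.Helper9.UnivOpen

variable {X Y : Scheme.{u}}

theorem isOpenMap_of_forall_isOpenAt {α β : Type*} [TopologicalSpace α] [TopologicalSpace β]
    (g : α → β) (h : ∀ a, IsOpenAt g a) : IsOpenMap g := by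
  apply IsOpenMap.of_nhds_le
  intro a S hS
  rw [Filter.mem_map] at hS
  exact Filter.mem_of_superset (h a _ hS) (Set.image_preimage_subset g S)

theorem universallyOpen_of_forall_isUnivOpenAt (f : X ⟶ Y) (h : ∀ x, IsUnivOpenAt f x) :
    UniversallyOpen f := by
  refine ⟨fun X' Y' i₁ i₂ f' sq => ?_⟩
  apply isOpenMap_of_forall_isOpenAt
  intro x'
  exact isOpenAt_of_isPullback (h (i₁ x')) sq.flip x' rfl

theorem main {X Y : Scheme.{u}} [IsLocallyNoetherian Y]
    (hY : ∀ y : Y, CAlg2.IsGeomUnibranch (Y.presheaf.stalk y)) (f : X ⟶ Y) [LocallyOfFiniteType f] :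
    UniversallyOpen f ↔ IsOpenMap f.base := by
  constructor
  · intro h
    exact f.isOpenMap
  · intro h
    apply universallyOpen_of_forall_isUnivOpenAt
    intro x
    have h1 := (Groth.Agent.Lib.lead.UnivOpenGUFibre.main f (f x) (hY _)).out 3 0
    exact h1.mp (fun z _ => isOpenAt_of_isOpenMap h z) x rfl

end Groth.Agent.Lib.lead.UnivOpenGUGlobal

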