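import Mathlib
import Groth.Agent.Lib.lead.UnivOpenGUGlobal
import Groth.Agent.Lib.lead.HTopGen
import Groth.Agent.Lib.lead.QFRelDim

set_option autoImplicit false
set_option linter.style.haveILetI false
set_option linter.unusedSectionVars false
universe u
open CategoryTheory CategoryTheory.Limits AlgebraicGeometry TensorProduct Topology

namespace Groth.Agent.Lib.lead.QfhUnibranch

open Groth.Agent.Lib.lead.UnivOpenGUGlobal Groth.Agent.Lib.lead.QFRelDim

variable {X Y : Scheme.{u}}

/-- a dominant quasi-finite morphism from an irreducible scheme to an irreducible, geometrically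
unibranch, locally Noetherian scheme is universally open (EGA IV 14.4.4 in the quasi-finite case). -/
theorem universallyOpen_of_dominant [IsLocallyNoetherian Y] [IrreducibleSpace ↥Y]
    [IrreducibleSpace ↥X]
    (hY : ∀ y : Y, CAlg2.IsGeomUnibranch (Y.presheaf.stalk y)) (p : X ⟶ Y)
    [LocallyOfFiniteType p] [LocallyQuasiFinite p] [IsDominant p] : UniversallyOpen p := by
  apply universallyOpen_of_forall_isUnivOpenAt
  intro x
  have h1 := (Groth.Agent.Lib.lead.UnivOpenGUFibre.main p (p x) (hY _)).out 2 0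
  refine h1.mp ?_ x rfl
  intro W Y₀ hY₀ _ η hη
  by_cases hW : (W : Set X) = ∅
  · have : IsEmpty ↥((W : Set X) ∩ p.base ⁻¹' {p x}) := by
      rw [hW, Set.empty_inter]; infer_instance
    have hbot : topologicalKrullDim ↥((W : Set X) ∩ p.base ⁻¹' {p x}) = ⊥ := by
      haveI : IsEmpty (TopologicalSpace.IrreducibleCloseds ↥((W : Set X) ∩ p.base ⁻¹' {p x})) :=
        ⟨fun Z => by
          obtain ⟨z, _⟩ := Z.isIrreducible.nonempty
          exact this.false z⟩
      exact Order.krullDim_eq_bot
    rw [hbot]; exact bot_le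
  · have hWne : (W : Set X).Nonempty := Set.nonempty_iff_ne_empty.mpr hW
    -- the generic point of X lies in W and maps to η
    have hξ := genericPoint_spec X
    have hξW : genericPoint X ∈ W := by
      obtain ⟨w, hw⟩ := hWne
      exact hξ.mem_open_set_iff W.2 |>.mpr ⟨w, Set.mem_univ _, hw⟩
    have hY₀' : Y₀ = Set.univ := by
      have := irreducibleComponents_eq_singleton (X := Y)
      rw [this] at hY₀
      exact hY₀
    have himg : IsGenericPoint (p (genericPoint X)) (Set.univ : Set Y) := by
      have := hξ.image p.continuous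
      rwa [Set.image_univ, (IsDominant.denseRange (f := p)).closure_range] at this
    have hη' : IsGenericPoint η (Set.univ : Set Y) := by
      rw [← hY₀', ← hη]; exact isGenericPoint_closure
    have heq : p (genericPoint X) = η := himg.eq hη'
    have hne : Nonempty ↥((W : Set X) ∩ p.base ⁻¹' {η}) := ⟨⟨genericPoint X, hξW, heq⟩⟩
    have h0 : (0 : WithBot ℕ∞) ≤ topologicalKrullDim ↥((W : Set X) ∩ p.base ⁻¹' {η}) :=
      topologicalKrullDim_nonneg_of_nonempty _
    refine le_trans ?_ h0
    have hdisc : _root_.IsDiscrete (p ⁻¹' {p x}) := p.isDiscrete_preimage_singleton (p x)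
    have hdisc' : _root_.IsDiscrete ((W : Set X) ∩ p.base ⁻¹' {p x}) := hdisc.mono Set.inter_subset_right
    haveI : DiscreteTopology ↥((W : Set X) ∩ p.base ⁻¹' {p x}) := hdisc'.to_subtype
    exact topologicalKrullDim_zero_of_discreteTopology _

/-- a coproduct of universally open morphisms is universally open. -/
theorem universallyOpen_sigmaDesc {ι : Type u} (g : ι → Scheme.{u}) (q : ∀ i, g i ⟶ Y)
    (h : ∀ i, UniversallyOpen (q i)) : UniversallyOpen (Sigma.desc q) := by
  rw [IsZariskiLocalAtSource.iff_of_openCover (P := @UniversallyOpen) (sigmaOpenCover g)]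
  intro i
  show UniversallyOpen (Sigma.ι g i ≫ Sigma.desc q)
  rw [Sigma.ι_desc]
  exact h i

/-- universally open and surjective implies universally submersive. -/
theorem univSubmersive_of_universallyOpen (f : X ⟶ Y) [UniversallyOpen f] [Surjective f] :
    SGA1.UnivSubmersive f := by
  intro X' Y' i₁ i₂ f' sq
  haveI : UniversallyOpen f' := MorphismProperty.of_isPullback sq.flip ‹UniversallyOpen f›
  haveI : Surjective f' := MorphismProperty.of_isPullback sq.flip ‹Surjective f›
  exact f'.isOpenMap.isQuotientMap f'.continuous f'.surjective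

/-- cancellation: if `a ≫ b` is universally submersive then so is `b`. -/
theorem univSubmersive_of_comp {W' W : Scheme.{u}} (a : W' ⟶ W) (b : W ⟶ Y)
    (h : SGA1.UnivSubmersive (a ≫ b)) : SGA1.UnivSubmersive b := by
  intro X' Y' i₁ i₂ b' sq
  -- sq : IsPullback b' i₁ i₂ b
  have sq2 : IsPullback (pullback.fst a i₁) (pullback.snd a i₁) a i₁ :=
    IsPullback.of_hasPullback a i₁
  have hpaste : IsPullback (pullback.snd a i₁ ≫ b') (pullback.fst a i₁) i₂ (a ≫ b) :=
    (sq2.paste_vert sq.flip).flip
  have hq := h _ _ _ hpaste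
  have : Topology.IsQuotientMap ((pullback.snd a i₁ ≫ b' : _ ⟶ Y') : _ → _) := hq
  have hcomp : ((pullback.snd a i₁ ≫ b' : _ ⟶ Y') : _ → _) = b' ∘ (pullback.snd a i₁) := by
    ext z; simp
  rw [hcomp] at this
  exact Topology.IsQuotientMap.of_comp (pullback.snd a i₁).continuous b'.continuous this

theorem dominant_part {X : Scheme.{u}} [IsNoetherian X] [IrreducibleSpace ↥X]
    (hX : ∀ x : X, CAlg2.IsGeomUnibranch (X.presheaf.stalk x)) (E : PreZeroHypercover.{u} X)
    [∀ i, LocallyOfFiniteType (E.f i)] [∀ i, LocallyQuasiFinite (E.f i)]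
    [∀ i, IrreducibleSpace ↥(E.X i)]
    (h : ∀ x : X, ∃ (i : E.I₀) (u : E.X i), IsDominant (E.f i) ∧ E.f i u = x) :
    SGA1.UnivSubmersive (Sigma.desc fun j : {i : E.I₀ // IsDominant (E.f i)} => E.f j.1) := by
  haveI : UniversallyOpen (Sigma.desc fun j : {i : E.I₀ // IsDominant (E.f i)} => E.f j.1) := by
    apply universallyOpen_sigmaDesc
    intro j
    haveI := j.2
    exact universallyOpen_of_dominant hX (E.f j.1)
  haveI : Surjective (Sigma.desc fun j : {i : E.I₀ // IsDominant (E.f i)} => E.f j.1) := by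
    constructor
    intro x
    obtain ⟨i, u, hi, hu⟩ := h x
    refine ⟨Sigma.ι (fun j : {i : E.I₀ // IsDominant (E.f i)} => E.X j.1) ⟨i, hi⟩ u, ?_⟩
    rw [← Scheme.Hom.comp_apply, Sigma.ι_desc]
    exact hu
  exact univSubmersive_of_universallyOpen _

theorem main {X : Scheme.{u}} [IsNoetherian X] [X.IsSeparated] [IrreducibleSpace ↥X]
    (hX : ∀ x : X, CAlg2.IsGeomUnibranch (X.presheaf.stalk x)) (E : PreZeroHypercover.{u} X)
    [Finite E.I₀] [∀ i, LocallyOfFiniteType (E.f i)] [∀ i, QuasiCompact (E.f i)]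
    [∀ i, LocallyQuasiFinite (E.f i)] [∀ i, IsSeparated (E.f i)]
    [∀ i, IrreducibleSpace ↥(E.X i)] :
    (SGA1.UnivSubmersive (Sigma.desc E.f) ↔
        ∀ x : X, ∃ (i : E.I₀) (u : E.X i), IsDominant (E.f i) ∧ E.f i u = x) ∧
      ((∀ x : X, ∃ (i : E.I₀) (u : E.X i), IsDominant (E.f i) ∧ E.f i u = x) →
        SGA1.UnivSubmersive
          (Sigma.desc fun j : {i : E.I₀ // IsDominant (E.f i)} => E.f j.1)) := by
  refine ⟨⟨fun hE x => ?_, fun h => ?_⟩, fun h => dominant_part hX E h⟩
  · obtain ⟨i, ξ, u, hξu, hu, hcl⟩ := Groth.Agent.Lib.lead.HTopGen.S13731 E hE x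
    refine ⟨i, u, ?_, hu⟩
    have : closure {E.f i ξ} = Set.univ := by
      have h1 := irreducibleComponents_eq_singleton (X := ↥X)
      rw [h1] at hcl
      exact hcl
    constructor
    rw [DenseRange, dense_iff_closure_eq]
    apply Set.eq_univ_of_univ_subset
    rw [← this]
    apply closure_mono
    rintro _ rfl
    exact ⟨ξ, rfl⟩
  · have hdom := dominant_part hX E h
    let a : (∐ fun j : {i : E.I₀ // IsDominant (E.f i)} => E.X j.1) ⟶ ∐ E.X :=
      Sigma.desc fun j => Sigma.ι E.X j.1
    have hfac : a ≫ Sigma.desc E.f =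
        Sigma.desc fun j : {i : E.I₀ // IsDominant (E.f i)} => E.f j.1 := by
      apply Sigma.hom_ext
      intro j
      simp [a]
    rw [← hfac] at hdom
    exact univSubmersive_of_comp a _ hdom

end Groth.Agent.Lib.lead.QfhUnibranch

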