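import Mathlib

/-! Reflection-invariant quadratic forms on the coweight module of a root pairing. -/

namespace Groth.Agent.QuadInv

variable {ι R M N : Type*} [CommRing R] [AddCommGroup M] [Module R M] [AddCommGroup N] [Module R N]
  (P : RootPairing ι R M N) (Q : QuadraticMap R N R)

lemma map_sub_smul (d a : N) (c : R) :
    Q (d - c • a) = Q d + c * c * Q a - c * QuadraticMap.polar Q d a := by
  rw [sub_eq_add_neg, ← neg_smul, QuadraticMap.map_add Q, QuadraticMap.map_smul,
    QuadraticMap.polar_smul_right]
  simp only [smul_eq_mul]; ring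

lemma key (j : ι) (y : N) : Q (P.coreflection j y) =
    Q y + P.root' j y * (P.root' j y * Q (P.coroot j) - QuadraticMap.polar Q y (P.coroot j)) := by
  rw [P.coreflection_apply, map_sub_smul]; ring

variable [IsDomain R] [CharZero R]

/-- invariance under one coreflection on a submodule containing the coroot gives the polar identity
there. -/
lemma polar_eq_of_inv_on (D : Submodule R N) (j : ι) (hD : P.coroot j ∈ D)
    (hinv : ∀ y ∈ D, Q (P.coreflection j y) = Q y) (y : N) (hy : y ∈ D) :
    QuadraticMap.polar Q y (P.coroot j) = P.root' j y * Q (P.coroot j) := by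
  have h1 : P.root' j y *
      (P.root' j y * Q (P.coroot j) - QuadraticMap.polar Q y (P.coroot j)) = 0 := by
    have := hinv y hy
    rw [key] at this
    simpa using this
  have h2 : (P.root' j y + 2) *
      (P.root' j y * Q (P.coroot j) - QuadraticMap.polar Q y (P.coroot j)) = 0 := by
    have := hinv (y + P.coroot j) (add_mem hy hD)
    rw [key] at this
    have h3 : P.root' j (y + P.coroot j) = P.root' j y + 2 := by simp
    rw [h3, QuadraticMap.polar_add_left, QuadraticMap.polar_self] at this
    have h4 : (P.root' j y + 2) * ((P.root' j y + 2) * Q (P.coroot j) -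
        (QuadraticMap.polar Q y (P.coroot j) + 2 * Q (P.coroot j))) = 0 := by
      simpa using this
    rw [← h4]; ring
  rw [add_mul, h1, zero_add] at h2
  have := (mul_eq_zero.mp h2).resolve_left two_ne_zero
  exact (sub_eq_zero.mp this).symm

/-- two quadratic forms invariant under all coreflections and agreeing on the "saturation" `D` of the
coroot span have equal polar forms against `D`. -/
lemma polar_eq_of_agree (D : Submodule R N) (hD : ∀ i : ι, P.coroot i ∈ D)
    (hDsat : ∀ y ∈ D, ∃ n : ℕ, 0 < n ∧ n • y ∈ Submodule.span R (Set.range P.coroot))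
    (Q₁ Q₂ : QuadraticMap R N R)
    (h₁ : ∀ (i : ι) (y : N), QuadraticMap.polar Q₁ y (P.coroot i) = P.root' i y * Q₁ (P.coroot i))
    (h₂ : ∀ (i : ι) (y : N), QuadraticMap.polar Q₂ y (P.coroot i) = P.root' i y * Q₂ (P.coroot i))
    (hag : ∀ i, Q₁ (P.coroot i) = Q₂ (P.coroot i)) (y d : N) (hd : d ∈ D) :
    QuadraticMap.polar Q₁ y d = QuadraticMap.polar Q₂ y d := by
  have hspan : ∀ x ∈ Submodule.span R (Set.range P.coroot),
      QuadraticMap.polar Q₁ y x = QuadraticMap.polar Q₂ y x := by
    intro x hx
    induction hx using Submodule.span_induction with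
    | mem x hx =>
      obtain ⟨i, rfl⟩ := hx
      rw [h₁, h₂, hag]
    | zero => simp
    | add a b _ _ ha hb => rw [QuadraticMap.polar_add_right, QuadraticMap.polar_add_right, ha, hb]
    | smul c a _ ha => rw [QuadraticMap.polar_smul_right, QuadraticMap.polar_smul_right, ha]
  obtain ⟨n, hn, hnd⟩ := hDsat d hd
  have := hspan _ hnd
  rw [← Nat.cast_smul_eq_nsmul R n d, QuadraticMap.polar_smul_right,
    QuadraticMap.polar_smul_right, smul_eq_mul, smul_eq_mul] at this
  have hn0 : (n : R) ≠ 0 := Nat.cast_ne_zero.mpr hn.ne'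
  exact mul_left_cancel₀ hn0 this

end Groth.Agent.QuadInv
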