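import Mathlib
import Groth.Prelude.Def_EGA43
import Groth.Agent.Lib.lead.CompleteQF
import Groth.Agent.Lib.Helper24.FibreDim.Main4944
import Groth.Agent.Lib.Helper18.GenFin

set_option autoImplicit false
set_option linter.style.haveILetI false
universe u
open CategoryTheory CategoryTheory.Limits AlgebraicGeometry EGA43

namespace Groth.Agent.Lib.lead.QuasiSecComplete

theorem main {A : Type u} [CommRing A] [IsDomain A]
    [IsNoetherianRing A] [IsLocalRing A] [IsAdicComplete (IsLocalRing.maximalIdeal A) A] {X : Scheme.{u}}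
    (f : X ⟶ Spec (CommRingCat.of A)) [LocallyOfFiniteType f] (x : X) (hx : f.base x = IsLocalRing.closedPoint A)
    (hf : EGA43.IsEquidimAt f x) (hcl : ∀ x' : X, f.base x' = f.base x → x ⤳ x' → x' = x) :
    ∃ (A' : Type u) (_ : CommRing A') (_ : IsDomain A') (_ : IsLocalRing A') (_ : Algebra A A') (_ : Module.Finite A A'),
      Function.Injective (algebraMap A A') ∧
      ∃ h : Spec (CommRingCat.of A') ⟶ X, h ≫ f = Spec.map (CommRingCat.ofHom (algebraMap A A')) ∧
        IsImmersion h ∧ x ∈ Set.range h.base := by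
  haveI : IrreducibleSpace ↥(Spec (CommRingCat.of A)) :=
    inferInstanceAs (IrreducibleSpace (PrimeSpectrum A))
  obtain ⟨T₀, i₀, himm₀, hirr₀, hred₀, ⟨t₀, ht₀⟩, hlft₀, hlqf₀, hqc₀, hdom₀⟩ :=
    Groth.Agent.Lib.Helper24.FibreDim.main4944 f x hf hcl
  -- shrink to an affine open neighbourhood of t₀
  obtain ⟨U, hU, ht₀U, -⟩ := exists_isAffineOpen_mem_and_subset (U := ⊤) (x := t₀) (by simp)
  haveI : IsIntegral T₀ := isIntegral_of_irreducibleSpace_of_isReduced T₀
  haveI : Nonempty ↥U := ⟨⟨t₀, ht₀U⟩⟩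
  haveI : Nonempty ↥(U : Scheme.{u}) := ⟨⟨t₀, ht₀U⟩⟩
  haveI : IsAffine (U : Scheme.{u}) := hU
  haveI : IsIntegral (U : Scheme.{u}) := isIntegral_of_isOpenImmersion U.ι
  let g : (U : Scheme.{u}) ⟶ Spec (CommRingCat.of A) := U.ι ≫ i₀ ≫ f
  let t : (U : Scheme.{u}) := ⟨t₀, ht₀U⟩
  haveI : LocallyOfFiniteType g := inferInstanceAs (LocallyOfFiniteType (U.ι ≫ i₀ ≫ f))
  haveI : LocallyQuasiFinite g := inferInstanceAs (LocallyQuasiFinite (U.ι ≫ i₀ ≫ f))
  have hgt : g.base t = IsLocalRing.closedPoint A := by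
    change (U.ι ≫ i₀ ≫ f).base t = _
    rw [Scheme.Hom.comp_base, Scheme.Hom.comp_base]
    change f.base (i₀.base (U.ι.base t)) = _
    have : U.ι.base t = t₀ := rfl
    rw [this, ht₀, hx]
  have hfin : IsFinite ((U : Scheme.{u}).fromSpecStalk t ≫ g) :=
    Groth.Agent.Lib.lead.CompleteQF.isFinite_fromSpecStalk_comp A g t hgt (g.quasiFiniteAt t)
  haveI : IsSeparated g := inferInstance
  haveI : IsFinite ((U : Scheme.{u}).fromSpecStalk t) := IsFinite.of_comp _ g
  haveI : IsClosedImmersion ((U : Scheme.{u}).fromSpecStalk t) :=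
    (IsClosedImmersion.iff_isFinite_and_mono _).mpr ⟨inferInstance, inferInstance⟩
  let A' := ((U : Scheme.{u}).presheaf.stalk t)
  let φ : CommRingCat.of A ⟶ A' := Spec.preimage ((U : Scheme.{u}).fromSpecStalk t ≫ g)
  have hφ : Spec.map φ = (U : Scheme.{u}).fromSpecStalk t ≫ g := Spec.map_preimage _
  letI : Algebra A A' := φ.hom.toAlgebra
  have hfinA : Module.Finite A A' := by
    have : IsFinite (Spec.map φ) := hφ ▸ hfin
    exact RingHom.finite_algebraMap.mp ((IsFinite.SpecMap_iff φ).mp this)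
  refine ⟨A', inferInstance, inferInstance, inferInstance, inferInstance, hfinA, ?_, ?_⟩
  · -- injectivity: the generic point of `T₀` lies in `U` and maps to the generic point `⊥` of `Spec A`
    have hξU : genericPoint ↥T₀ ∈ U := by
      have hd : Dense (U : Set ↥T₀) := U.isOpen.dense ⟨t₀, ht₀U⟩
      have := (genericPoint_spec ↥T₀).mem_open_set_iff U.isOpen |>.mpr ⟨t₀, Set.mem_univ _, ht₀U⟩
      exact this
    let ξ : (U : Scheme.{u}) := ⟨genericPoint ↥T₀, hξU⟩
    have hξ : ξ ⤳ t := by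
      have h0 : Topology.IsInducing (U.ι.base : ↥(U : Scheme.{u}) → ↥T₀) :=
        U.ι.isOpenEmbedding.isInducing
      rw [← h0.specializes_iff]
      exact genericPoint_specializes t₀
    have hmem : ξ ∈ Set.range ((U : Scheme.{u}).fromSpecStalk t) := by
      rw [Scheme.range_fromSpecStalk]; exact hξ
    obtain ⟨p', hp'⟩ := hmem
    have hgen : g.base ξ = (⊥ : PrimeSpectrum A) := by
      change (U.ι ≫ i₀ ≫ f).base ξ = _
      rw [Scheme.Hom.comp_base]
      change (i₀ ≫ f).base (genericPoint ↥T₀) = _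
      rw [Groth.Agent.Lib.Helper18.GenFin.map_genericPoint_of_dense (i₀ ≫ f) hdom₀.1]
      exact genericPoint_eq_bot_of_affine (CommRingCat.of A)
    have hp'' : (Spec.map φ).base p' = (⊥ : PrimeSpectrum A) := by
      rw [hφ, Scheme.Hom.comp_base]
      change g.base (((U : Scheme.{u}).fromSpecStalk t).base p') = _
      rw [hp', hgen]
    rw [injective_iff_map_eq_zero]
    intro a ha
    have h1 : a ∈ ((Spec.map φ).base p').asIdeal := by
      change a ∈ (p'.asIdeal.comap φ.hom)
      rw [Ideal.mem_comap]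
      have : φ.hom a = 0 := ha
      rw [this]; exact Ideal.zero_mem _
    rw [hp''] at h1
    exact h1
  · refine ⟨(U : Scheme.{u}).fromSpecStalk t ≫ U.ι ≫ i₀, ?_, ?_, ?_⟩
    · rw [Category.assoc, Category.assoc]
      change (U : Scheme.{u}).fromSpecStalk t ≫ g = _
      rw [← hφ]
      rfl
    · infer_instance
    · refine ⟨IsLocalRing.closedPoint _, ?_⟩
      rw [Scheme.Hom.comp_base, Scheme.Hom.comp_base]
      change i₀.base (U.ι.base (((U : Scheme.{u}).fromSpecStalk t).base (IsLocalRing.closedPoint _))) = x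
      rw [Scheme.fromSpecStalk_closedPoint]
      exact ht₀

end Groth.Agent.Lib.lead.QuasiSecComplete

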