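import Mathlib
import Groth.Agent.Lib.lead.FibreDimComp
import Groth.Agent.Lib.lead.FlatRelDimSp
import Groth.Prelude.Def_AlgSp4
import Groth.Prelude.Def_AlgSpDec
import Groth.Prelude.Def_AlgSpMor5

set_option autoImplicit false
set_option linter.style.haveILetI false
universe u
open CategoryTheory CategoryTheory.Limits AlgebraicGeometry Topology TopologicalSpace Order

namespace Groth.Agent.Lib.lead.RelDimCompSp

open Groth.Agent.Lib.lead Groth.Agent.Lib.Helper3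
open AlgSp

variable {S : Scheme.{u}}

theorem S10328 {X Y Z : AlgSp.Space S} (f : X ⟶ Y) (g : Y ⟶ Z)
    (hf : AlgSp.LocP @LocallyOfFiniteType f.hom) (hg : AlgSp.LocP @LocallyOfFiniteType g.hom)
    (x : AlgSp.Points X.obj) (a b : WithBot ℕ∞)
    (ha : AlgSp.HasAtMor (fun _ _ h u => FlatMor.fibreDimAt h u = a) f.hom x)
    (hb : AlgSp.HasAtMor (fun _ _ h u => FlatMor.fibreDimAt h u = b) g.hom
      (AlgSp.Points.map f.hom x)) :
    AlgSp.HasAtMor (fun _ _ h u => FlatMor.fibreDimAt h u ≤ a + b) (f ≫ g).hom x ∧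
    (AlgSp.IsFlatAtMor f.hom x →
      AlgSp.HasAtMor (fun _ _ h u => FlatMor.fibreDimAt h u = a + b) (f ≫ g).hom x) := by
  obtain ⟨U, V, W, α, β, γ, h, k, u, hα, hβ, hγ, w₁, w₂, hu⟩ :=
    exists_chart_triple X.property Y.property Z.property f.hom g.hom x
  obtain ⟨U₁, V₁, a₁, b₁, h₁, u₁, ha₁, hb₁, w₁', hu₁, hd₁⟩ := ha
  obtain ⟨U₂, V₂, a₂, b₂, h₂, u₂, ha₂, hb₂, w₂', hu₂, hd₂⟩ := hb
  haveI : LocallyOfFiniteType h.left := hf α β h hα hβ w₁
  haveI : LocallyOfFiniteType k.left := hg β γ k hβ hγ w₂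
  haveI : LocallyOfFiniteType h₁.left := hf a₁ b₁ h₁ ha₁ hb₁ w₁'
  haveI : LocallyOfFiniteType h₂.left := hg a₂ b₂ h₂ ha₂ hb₂ w₂'
  have e1 : FlatMor.fibreDimAt h.left u = a := by
    rw [← hd₁]
    exact FlatRelDimSp.fibreDimAt_eq_of_charts f.hom α β h a₁ b₁ h₁ hα hβ ha₁ hb₁ w₁ w₁' u u₁
      (hu.trans hu₁.symm)
  have e2 : FlatMor.fibreDimAt k.left (h.left u) = b := by
    rw [← hd₂]
    apply FlatRelDimSp.fibreDimAt_eq_of_charts g.hom β γ k a₂ b₂ h₂ hβ hγ ha₂ hb₂ w₂ w₂'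
    rw [ofPt_map_of_comm f.hom α β h w₁ u, hu, hu₂]
  have wc : α ≫ (f ≫ g).hom = (yon S).map (h ≫ k) ≫ γ := by
    show α ≫ f.hom ≫ g.hom = _
    rw [← Category.assoc, w₁, Category.assoc, w₂, Functor.map_comp, Category.assoc]
  have hS := FibreDimComp.S9354 h.left k.left u
  rw [e1, e2] at hS
  refine ⟨⟨U, W, α, γ, h ≫ k, u, hα, hγ, wc, hu, ?_⟩, fun hflat =>
    ⟨U, W, α, γ, h ≫ k, u, hα, hγ, wc, hu, ?_⟩⟩
  · show FlatMor.fibreDimAt (h ≫ k).left u ≤ a + b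
    rw [Over.comp_left]
    exact hS.1
  · show FlatMor.fibreDimAt (h ≫ k).left u = a + b
    rw [Over.comp_left]
    exact hS.2 (hflat α β h u hα hβ w₁ hu)

end Groth.Agent.Lib.lead.RelDimCompSp
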