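import Mathlib
import Groth.Agent.Lib.lead.FibreDimBCLocal

set_option autoImplicit false
set_option linter.style.haveILetI false
universe u
open CategoryTheory CategoryTheory.Limits AlgebraicGeometry Topology TopologicalSpace

namespace Groth.Agent.Lib.lead.RelDimDescent

open Groth.Agent.Lib.lead

theorem S9857 {X Y X' Y' : Scheme.{u}} (f : X ⟶ Y) [LocallyOfFiniteType f] (g : Y' ⟶ Y)
    [Surjective g] (g' : X' ⟶ X) (f' : X' ⟶ Y') (hsq : IsPullback g' f' f g)
    (d : ℕ) (h : Cyc.HasRelDim f' d) : Cyc.HasRelDim f d := by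
  haveI : LocallyOfFiniteType f' := MorphismProperty.of_isPullback hsq inferInstance
  intro y T hT
  obtain ⟨ζ, hζ⟩ := QuasiSober.sober hT.1 (isClosed_of_mem_irreducibleComponents T hT)
  set w := f.fiberι y ζ with hw
  have hy : f w = y := by
    have : w ∈ Set.range (f.fiberι y) := ⟨ζ, rfl⟩
    rw [f.range_fiberι] at this
    exact this
  obtain ⟨y', hy'⟩ := g.surjective y
  obtain ⟨w', hw'1, hw'2⟩ := Scheme.exists_preimage_of_isPullback hsq w y' (by rw [hy, hy'])
  rw [FibreCompDimOne.dim_component_aux f w y hy T hT ζ hζ rfl, ← hw'1,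
    ← FibreDimBCLocal.fibreDimAt_baseChange f g g' f' hsq w',
    FibreDimBCLocal.fibreDimAt_eq_of_hasRelDim f' d h]

end Groth.Agent.Lib.lead.RelDimDescent
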