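import Mathlib
import Groth.Agent.Lib.Helper18.Chev.Main
import Groth.Agent.Lib.Helper3.AlgSpChartPts
import Groth.Prelude.Def_AlgSp4
import Groth.Prelude.Def_AlgSpDec

set_option autoImplicit false
set_option linter.style.haveILetI false
universe u
open CategoryTheory CategoryTheory.Limits AlgebraicGeometry Topology TopologicalSpace

namespace Groth.Agent.Lib.lead.RelDimOpenSp

open Groth.Agent.Lib.Helper18 Groth.Agent.Lib.Helper3
open AlgSp

variable {S : Scheme.{u}}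

theorem S10308 {X Y : AlgSp.Space S} (f : X ⟶ Y)
    (hf : AlgSp.LocP @LocallyOfFiniteType f.hom) (n : ℕ) :
    IsOpen {x : AlgSp.Points X.obj |
      AlgSp.HasAtMor (fun _ _ h u => FlatMor.fibreDimAt h u ≤ (n : WithBot ℕ∞)) f.hom x} := by
  rw [isOpen_iff_forall_mem_open]
  rintro x ⟨U, V, a, b, h, u, ha, hb, w, hu, hq⟩
  haveI : LocallyOfFiniteType h.left := hf a b h ha hb w
  refine ⟨Points.ofPt a '' {u' | FlatMor.fibreDimAt h.left u' ≤ (n : WithBot ℕ∞)}, ?_, ?_, ?_⟩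
  · rintro _ ⟨u', hu', rfl⟩
    exact ⟨U, V, a, b, h, u', ha, hb, w, rfl, hu'⟩
  · exact isOpenMap_ofPt a ha _ (Chev.isOpen_fibreDimAt_le h.left n)
  · exact ⟨u, hq, hu⟩

end Groth.Agent.Lib.lead.RelDimOpenSp
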