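import Mathlib
import Groth.Agent.Lib.lead.FibreDimRetro
import Groth.Agent.Lib.lead.FlatRelDimSp
import Groth.Agent.Lib.Helper3.AlgSpChartPts
import Groth.Agent.Lib.Helper3.AlgSpLocP3
import Groth.Agent.Lib.Helper3.AlgSpHasAtMor
import Groth.Prelude.Def_AlgSp4
import Groth.Prelude.Def_AlgSpDec
import Groth.Prelude.Def_Flat

set_option autoImplicit false
set_option linter.style.haveILetI false
universe u
open CategoryTheory CategoryTheory.Limits AlgebraicGeometry Topology TopologicalSpace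

namespace Groth.Agent.Lib.lead.RelDimRetroSp

open Groth.Agent.Lib.lead Groth.Agent.Lib.Helper18 Groth.Agent.Lib.Helper3
open AlgSp

variable {S : Scheme.{u}}

theorem S10309 {X Y : AlgSp.Space S} (f : X ⟶ Y)
    (hf : AlgSp.LocP @LocallyOfFinitePresentation f.hom) (n : ℕ) (V : Set (AlgSp.Points X.obj))
    (hV : IsOpen V) (hVc : IsCompact V) :
    IsCompact (V ∩ {x : AlgSp.Points X.obj |
      AlgSp.HasAtMor (fun _ _ h u => FlatMor.fibreDimAt h u ≤ (n : WithBot ℕ∞)) f.hom x}) := by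
  obtain ⟨V₀, b, hbe, hbs⟩ := Y.property.atlas
  obtain ⟨U, u, h, -, -, hae, has, -, w⟩ := exists_chart_over X.property Y.property f.hom b hbe
  have has := has hbs
  set a := u ≫ pullback.fst f.hom b with ha
  haveI : LocallyOfFinitePresentation h.left := hf a b h hae hbe w
  have hmem : ∀ u' : ↥U.left, AlgSp.HasAtMor (fun _ _ h u => FlatMor.fibreDimAt h u ≤ (n : WithBot ℕ∞))
      f.hom (Points.ofPt a u') ↔ FlatMor.fibreDimAt h.left u' ≤ (n : WithBot ℕ∞) := by
    intro u'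
    constructor
    · rintro ⟨U', V', a', b', h', u'', ha', hb', w', hu'', hq⟩
      haveI : LocallyOfFinitePresentation h'.left := hf a' b' h' ha' hb' w'
      rw [FlatRelDimSp.fibreDimAt_eq_of_charts f.hom a b h a' b' h' hae hbe ha' hb' w w' u' u''
        hu''.symm]
      exact hq
    · intro hq
      exact ⟨U, V₀, a, b, h, u', hae, hbe, w, rfl, hq⟩
  have hloc : ∀ x ∈ V, ∃ W : U.left.Opens, IsAffineOpen W ∧ x ∈ Points.ofPt a '' (W : Set U.left) ∧
      Points.ofPt a '' (W : Set U.left) ⊆ V := by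
    intro x hx
    obtain ⟨u', rfl⟩ := exists_ofPt_eq a has x
    let O : U.left.Opens := ⟨Points.ofPt a ⁻¹' V, (Points.continuous_ofPt a).isOpen_preimage V hV⟩
    have hu' : u' ∈ O := hx
    obtain ⟨W, hW, hxW, hWs⟩ := exists_isAffineOpen_mem_and_subset hu'
    refine ⟨W, hW, ⟨u', hxW, rfl⟩, ?_⟩
    rintro _ ⟨z, hz, rfl⟩
    exact hWs hz
  choose! W hW hxW hWV using hloc
  obtain ⟨t, htV, ht⟩ := hVc.elim_nhds_subcover (fun x => Points.ofPt a '' (W x : Set U.left))
    (fun x hx => (isOpenMap_ofPt a hae _ (W x).isOpen).mem_nhds (hxW x hx))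
  have : V ∩ {x : AlgSp.Points X.obj |
      AlgSp.HasAtMor (fun _ _ h u => FlatMor.fibreDimAt h u ≤ (n : WithBot ℕ∞)) f.hom x} =
      ⋃ x ∈ t, Points.ofPt a '' ({u' : ↥U.left | FlatMor.fibreDimAt h.left u' ≤ n} ∩
        (W x : Set U.left)) := by
    ext y
    simp only [Set.mem_inter_iff, Set.mem_iUnion, exists_prop, Set.mem_image]
    constructor
    · rintro ⟨hyV, hy⟩
      obtain ⟨x, hxt, u', hu'W, rfl⟩ := Set.mem_iUnion₂.1 (ht hyV)
      exact ⟨x, hxt, u', ⟨(hmem u').1 hy, hu'W⟩, rfl⟩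
    · rintro ⟨x, hxt, u', ⟨hq, hu'W⟩, rfl⟩
      exact ⟨hWV x (htV x hxt) ⟨u', hu'W, rfl⟩, (hmem u').2 hq⟩
  rw [this]
  refine t.isCompact_biUnion (fun x hx => ?_)
  exact (FibreDimRetro.S9355 h.left n (hW x (htV x hx)).isCompact (W x).isOpen).image
    (Points.continuous_ofPt a)

end Groth.Agent.Lib.lead.RelDimRetroSp
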