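import Mathlib
import Groth.Agent.Lib.lead.RootDA

/-!
Faithfulness of the Weyl group on roots.
-/

namespace Groth.Agent.RootDL

open RootD

variable {ι M N : Type*} [AddCommGroup M] [AddCommGroup N] {P : RootPairing ι ℤ M N}

lemma aut_smul_mem_rootSpan (g : P.Aut) {x : M} (hx : x ∈ P.rootSpan ℤ) : g • x ∈ P.rootSpan ℤ := by
  induction hx using Submodule.span_induction with
  | mem x hx =>
    obtain ⟨i, rfl⟩ := hx
    rw [← RootPairing.Equiv.root_indexEquiv_eq_smul]
    exact Submodule.subset_span ⟨_, rfl⟩
  | zero => rw [smul_zero]; exact zero_mem _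
  | add x y _ _ hx hy => rw [smul_add]; exact add_mem hx hy
  | smul a x _ hx => rw [smul_comm]; exact Submodule.smul_mem _ _ hx

lemma weyl_smul_sub_mem_rootSpan {g : P.Aut} (hg : g ∈ P.weylGroup) (x : M) :
    g • x - x ∈ P.rootSpan ℤ := by
  induction hg using RootPairing.weylGroup.induction generalizing x with
  | mem i =>
    rw [RootPairing.Equiv.reflection_smul, P.reflection_apply]
    have : x - (P.coroot' i x) • P.root i - x = -((P.coroot' i x) • P.root i) := by abel
    rw [this]
    exact neg_mem (Submodule.smul_mem _ _ (Submodule.subset_span ⟨i, rfl⟩))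
  | one => simp
  | mul g h _ _ ihg ihh =>
    have : (g * h) • x - x = g • (h • x - x) + (g • x - x) := by
      rw [mul_smul, smul_sub]; abel
    rw [this]
    exact add_mem (aut_smul_mem_rootSpan g (ihh x)) (ihg x)

lemma weyl_eq_one_of_fix_roots [Finite ι] {g : P.Aut} (hg : g ∈ P.weylGroup)
    (hfix : ∀ i : ι, g • i = i) : g = 1 := by
  classical
  have := Fintype.ofFinite ι
  have hroot : ∀ i, g • P.root i = P.root i := fun i => by
    rw [← RootPairing.Equiv.root_indexEquiv_eq_smul]
    exact congrArg P.root (hfix i)
  have hinv : ∀ x y : M, P.RootForm (g • x) (g • y) = P.RootForm x y := fun x y =>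
    RootPairing.InvariantForm.apply_weylGroup_smul P (B := P.toInvariantForm)
      (⟨g, hg⟩ : P.weylGroup) x y
  have key : ∀ x : M, g • x = x := by
    intro x
    have hy := weyl_smul_sub_mem_rootSpan hg x
    have h0 : ∀ z ∈ P.rootSpan ℤ, P.RootForm (g • x - x) z = 0 := by
      intro z hz
      induction hz using Submodule.span_induction with
      | mem z hz =>
        obtain ⟨i, rfl⟩ := hz
        rw [map_sub, LinearMap.sub_apply]
        nth_rw 1 [← hroot i]
        rw [hinv, sub_self]
      | zero => simp
      | add a b _ _ ha hb => rw [map_add, ha, hb, add_zero]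
      | smul a b _ hb => rw [map_smul, hb, smul_zero]
    have := P.eq_zero_of_mem_rootSpan_of_rootForm_self_eq_zero hy (h0 _ hy)
    exact sub_eq_zero.mp this
  apply RootPairing.Equiv.weightHom_injective P
  ext x
  exact key x

theorem weylGroupToPerm_injective [Finite ι] : Function.Injective P.weylGroupToPerm := by
  rw [injective_iff_map_eq_one]
  rintro ⟨g, hg⟩ h
  have : g = 1 := by
    apply weyl_eq_one_of_fix_roots hg
    intro i
    exact DFunLike.congr_fun h i
  subst this
  rfl

end Groth.Agent.RootDL
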