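import Mathlib
import Groth.Agent.Lib.lead.RootDH

/-!
Parabolic sets of roots (S5458, S5459).
-/

namespace Groth.Agent.RootDL

open RootD

variable {ι M N : Type*} [AddCommGroup M] [AddCommGroup N] {P : RootPairing ι ℤ M N}

lemma neg_mem_natSpan_of_neg_idx {T P' : Set ι} (hT : ∀ i ∈ T, P.reflectionPerm i i ∈ P') {x : M}
    (hx : x ∈ natSpan P T) : -x ∈ natSpan P P' := by
  induction hx using AddSubmonoid.closure_induction with
  | mem x hx =>
    obtain ⟨i, hi, rfl⟩ := hx
    rw [← root_neg]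
    exact root_mem_natSpan P (hT i hi)
  | zero => rw [neg_zero]; exact zero_mem _
  | add x y _ _ hx hy => rw [neg_add]; exact add_mem hx hy

/-- S5458 -/
theorem parabolic_eq [Finite ι] {S : Set ι} (hS : IsPosSys P S) {Δ : Set ι}
    (hΔ : IsSimpleSys P Δ) (hΔS : Δ ⊆ S) {P' : Set ι} (hcl : IsClosedSub P P') (hSP : S ⊆ P') :
    P' = S ∪ {k : ι | -P.root k ∈ natSpan P {i : ι | i ∈ Δ ∧ P.reflectionPerm i i ∈ P'}} := by
  have hΔeq : Δ = simpleOf P S := simpleSys_eq_simpleOf hΔ hS hΔS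
  have key : ∀ m ∈ S, P.reflectionPerm m m ∈ P' →
      P.root m ∈ natSpan P {i : ι | i ∈ Δ ∧ P.reflectionPerm i i ∈ P'} := by
    refine pointed_induction (posSys_pointed hS) _ fun k hk ih hkP' => ?_
    by_cases hks : k ∈ simpleOf P S
    · exact root_mem_natSpan P ⟨hΔeq ▸ hks, hkP'⟩
    · simp only [simpleOf, Set.mem_ofPred_eq, not_and, not_not] at hks
      obtain ⟨a, ha, b, hb, hab⟩ := hks hk
      obtain ⟨iha, ihb⟩ := ih a ha b hb hab
      have ha' : P.reflectionPerm a a ∈ P' := by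
        refine hcl hkP' (hSP hb) ?_
        rw [root_neg, root_neg, hab]; abel
      have hb' : P.reflectionPerm b b ∈ P' := by
        refine hcl hkP' (hSP ha) ?_
        rw [root_neg, root_neg, hab]; abel
      rw [hab]
      exact add_mem (iha ha') (ihb hb')
  ext k
  constructor
  · intro hk
    by_cases hkS : k ∈ S
    · exact Or.inl hkS
    · right
      have hnk : P.reflectionPerm k k ∈ S := (hS.cover k).resolve_left hkS
      have := key _ hnk (by rw [neg_neg_idx]; exact hk)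
      rw [root_neg] at this
      exact this
  · rintro (hk | hk)
    · exact hSP hk
    · have := neg_mem_natSpan_of_neg_idx (P' := P') (fun i hi => hi.2) hk
      rw [neg_neg] at this
      exact closed_mem hcl this

/-- S5459 -/
theorem exists_simpleSys_parabolic [Finite ι] {P' : Set ι}
    (hP2 : ∀ i : ι, i ∈ P' ∨ P.reflectionPerm i i ∈ P') (hcl : IsClosedSub P P') :
    ∃ Δ Δ' : Set ι, IsSimpleSys P Δ ∧ Δ' ⊆ Δ ∧
      P' = posOf P Δ ∪ {k : ι | -P.root k ∈ natSpan P Δ'} := by
  obtain ⟨S₀, hS₀⟩ := exists_posSys P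
  obtain ⟨g, -, hg⟩ := exists_weyl_image_subset hS₀ hP2 hcl
  have hS := isPosSys_image g hS₀
  have hΔ := isSimpleSys_simpleOf hS
  have hSeq := eq_posOf_of_subset hΔ hS (simpleOf_subset _)
  refine ⟨_, {i | i ∈ simpleOf P ((fun i : ι => g • i) '' S₀) ∧ P.reflectionPerm i i ∈ P'}, hΔ,
    fun i hi => hi.1, ?_⟩
  have := parabolic_eq hS hΔ (simpleOf_subset _) hcl hg
  rw [← hSeq]
  exact this

end Groth.Agent.RootDL
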