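import Mathlib
import Groth.Agent.Lib.lead.RootDK

/-!
Extension of odd additive functions on roots to the root lattice (S5465).
-/

namespace Groth.Agent.RootDL

open RootD RootPairing
open Groth.Agent.Lib.Helper4.RD

variable {ι M N : Type*} [AddCommGroup M] [AddCommGroup N] {P : RootPairing ι ℤ M N}

/-- the roots as elements of the root lattice -/
def rootL (P : RootPairing ι ℤ M N) (i : ι) : Submodule.span ℤ (Set.range P.root) :=
  ⟨P.root i, Submodule.subset_span (Set.mem_range_self i)⟩

lemma span_range_rootL : Submodule.span ℤ (Set.range (rootL P)) = ⊤ := by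
  have h := Submodule.span_span_coe_preimage (R := ℤ) (s := Set.range P.root)
  have : Set.range (rootL P) = Subtype.val ⁻¹' Set.range P.root := by
    ext ⟨x, hx⟩
    simp [rootL, Subtype.ext_iff]
  rw [this]
  exact h

lemma addHom_ext {G : Type*} [AddCommGroup G]
    {φ₁ φ₂ : Submodule.span ℤ (Set.range P.root) →+ G}
    (h : ∀ i, φ₁ (rootL P i) = φ₂ (rootL P i)) : φ₁ = φ₂ := by
  apply AddMonoidHom.toIntLinearMap_injective
  apply LinearMap.ext_on span_range_rootL
  rintro _ ⟨i, rfl⟩
  exact h i

/-- the root lattice has the simple roots as basis -/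
noncomputable def simpleBasis {Δ : Set ι} (hΔ : IsSimpleSys P Δ) :
    Module.Basis Δ ℤ (Submodule.span ℤ (Set.range P.root)) :=
  Module.Basis.mk (v := fun l : Δ => rootL P l)
    (LinearIndependent.of_comp (Submodule.span ℤ (Set.range P.root)).subtype hΔ.linInd)
    (by
      rintro ⟨x, hx⟩ -
      have hx' : x ∈ Submodule.span ℤ (P.root '' Δ) := by rw [span_simpleSys_eq hΔ]; exact hx
      obtain ⟨c, rfl⟩ := (mem_span_iff_exists_lc Δ x).mp hx'
      have : (⟨lc P Δ c, hx⟩ : Submodule.span ℤ (Set.range P.root)) =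
          c.sum fun l a => a • rootL P l := by
        apply Subtype.ext
        simp [lc, Finsupp.linearCombination_apply, Finsupp.sum, rootL]
      rw [this]
      exact Submodule.sum_mem _ fun l _ =>
        Submodule.smul_mem _ _ (Submodule.subset_span ⟨l, rfl⟩))

lemma simpleBasis_apply {Δ : Set ι} (hΔ : IsSimpleSys P Δ) (l : Δ) :
    simpleBasis hΔ l = rootL P l := by
  simp [simpleBasis]

/-- S5465 -/
theorem existsUnique_addHom_extending [Finite ι] {G : Type*} [AddCommGroup G] (f : ι → G)
    (hneg : ∀ i : ι, f (P.reflectionPerm i i) = -f i)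
    (hadd : ∀ i j k : ι, P.root k = P.root i + P.root j → f k = f i + f j) :
    ∃! φ : Submodule.span ℤ (Set.range P.root) →+ G,
      ∀ i : ι, φ ⟨P.root i, Submodule.subset_span (Set.mem_range_self i)⟩ = f i := by
  classical
  obtain ⟨Δ, hΔ⟩ := exists_simpleSys P
  let φ : Submodule.span ℤ (Set.range P.root) →ₗ[ℤ] G :=
    (simpleBasis hΔ).constr ℤ (fun l => f l)
  have hφΔ : ∀ l : Δ, φ (rootL P l) = f l := fun l => by
    rw [← simpleBasis_apply hΔ l, Module.Basis.constr_basis]
  have hadd' : ∀ a b k : ι, P.root k = P.root a + P.root b →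
      rootL P k = rootL P a + rootL P b := fun a b k h => Subtype.ext h
  have hpos : ∀ k ∈ posOf P Δ, φ (rootL P k) = f k := by
    refine pointed_induction (posSys_pointed (posOf_isPosSys hΔ)) _ fun k hk ih => ?_
    by_cases hkΔ : k ∈ Δ
    · exact hφΔ ⟨k, hkΔ⟩
    · rw [← simpleOf_posOf hΔ] at hkΔ
      simp only [simpleOf, Set.mem_ofPred_eq, not_and, not_not] at hkΔ
      obtain ⟨a, ha, b, hb, hab⟩ := hkΔ hk
      obtain ⟨iha, ihb⟩ := ih a ha b hb hab
      rw [hadd' a b k hab, map_add, iha, ihb, hadd a b k hab]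
  have hall : ∀ k, φ (rootL P k) = f k := by
    intro k
    rcases (posOf_isPosSys hΔ).cover k with hk | hk
    · exact hpos k hk
    · have h1 := hpos _ hk
      have h2 : rootL P (P.reflectionPerm k k) = - rootL P k := Subtype.ext (root_neg P k)
      rw [h2, map_neg, hneg] at h1
      exact neg_injective h1
  refine ⟨φ.toAddMonoidHom, hall, fun ψ hψ => addHom_ext fun i => ?_⟩
  exact (hψ i).trans (hall i).symm

end Groth.Agent.RootDL
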