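import Mathlib
import Groth.Agent.Lib.lead.RootDK
import Groth.Agent.S2953

/-!
The Weyl group acts freely on simple systems (deletion argument, adapted from helper4's S2953).
-/

namespace Groth.Agent.RootDL

open RootD RootPairing
open Groth.Agent.Lib.Helper4.RD
open Groth.Agent.S2953 (pr pr_nil pr_cons pr_append refl_mul_self pr_inv conj_pr)

variable {ι M N : Type*} [AddCommGroup M] [AddCommGroup N] {P : RootPairing ι ℤ M N}

/-- a simple reflection maps a positive indivisible root other than the simple root to a positive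
root -/
lemma refl_mem_posOf_of_indiv [Finite ι] {Δ : Set ι} (hΔ : IsSimpleSys P Δ) {i : ι} (hi : i ∈ Δ)
    {k : ι} (hk : k ∈ posOf P Δ) (hind : IsIndiv P k) (hne : k ≠ i) :
    P.reflectionPerm i k ∈ posOf P Δ :=
  refl_mem_posOf hΔ hi hk (fun h => hne (P.root.injective h)) (fun h => hind i h.symm)

theorem exists_split [Finite ι] {Δ : Set ι} (hΔ : IsSimpleSys P Δ) (L : List ι)
    (hL : ∀ i ∈ L, i ∈ Δ) (β : ι) (hβ : β ∈ posOf P Δ) (hind : IsIndiv P β)
    (hneg : pr P L • β ∉ posOf P Δ) :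
    ∃ L1 i L2, L = L1 ++ i :: L2 ∧ pr P L2 • β = i := by
  induction L with
  | nil => exact (hneg (by simpa [pr] using hβ)).elim
  | cons j L ih =>
    have hL' : ∀ i ∈ L, i ∈ Δ := fun i hi => hL i (List.mem_cons_of_mem _ hi)
    have hj : j ∈ Δ := hL j List.mem_cons_self
    by_cases h : pr P L • β ∈ posOf P Δ
    · by_cases hij : pr P L • β = j
      · exact ⟨[], j, L, rfl, hij⟩
      · exfalso
        apply hneg
        rw [pr_cons, mul_smul, refl_smul]
        exact refl_mem_posOf_of_indiv hΔ hj h (isIndiv_smul _ hind) hij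
    · obtain ⟨L1, i, L2, h1, h2⟩ := ih hL' h
      exact ⟨j :: L1, i, L2, by rw [h1]; rfl, h2⟩

/-- deletion: if `pr L' • r` is negative for a simple root `r`, then `pr (L' ++ [r])` is a product of
a shorter word -/
theorem exists_shorter [Finite ι] {Δ : Set ι} (hΔ : IsSimpleSys P Δ) (L' : List ι)
    (hL' : ∀ i ∈ L', i ∈ Δ) {r : ι} (hr : r ∈ Δ) (hneg : pr P L' • r ∉ posOf P Δ) :
    ∃ L'' : List ι, (∀ i ∈ L'', i ∈ Δ) ∧ L''.length + 2 = (L' ++ [r]).length ∧
      pr P (L' ++ [r]) = pr P L'' := by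
  obtain ⟨L1, i, L2, hsplit, hi⟩ := exists_split hΔ L' hL' r (subset_posOf Δ hr)
    (Groth.Agent.S5448.result P Δ hΔ r hr) hneg
  have hw : pr P (L' ++ [r]) = pr P L' * Equiv.reflection P r := by
    rw [pr_append, pr_cons, pr_nil, mul_one]
  have hconj : Equiv.reflection P i = pr P L2 * Equiv.reflection P r * (pr P L2)⁻¹ := by
    rw [← hi, conj_pr]
  refine ⟨L1 ++ L2, ?_, ?_, ?_⟩
  · intro k hk
    apply hL'
    rw [hsplit]
    rcases List.mem_append.mp hk with hk | hk
    · exact List.mem_append_left _ hk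
    · exact List.mem_append_right _ (List.mem_cons_of_mem _ hk)
  · rw [hsplit]
    simp only [List.length_append, List.length_cons, List.length_nil]
    omega
  · rw [hw, hsplit, pr_append, pr_cons, pr_append, hconj]
    have := refl_mul_self P r
    calc pr P L1 * (pr P L2 * Equiv.reflection P r * (pr P L2)⁻¹ * pr P L2) *
          Equiv.reflection P r
        = pr P L1 * (pr P L2 * (Equiv.reflection P r * Equiv.reflection P r)) := by
          simp only [mul_assoc, inv_mul_cancel_left]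
      _ = pr P L1 * pr P L2 := by rw [this, mul_one]

/-- image of the last simple root under a word -/
lemma pr_concat_smul_last (L' : List ι) (r : ι) :
    pr P (L' ++ [r]) • r = P.reflectionPerm (pr P L' • r) (pr P L' • r) := by
  rw [pr_append, pr_cons, pr_nil, mul_one, mul_smul, refl_smul, smul_neg_idx]

theorem main_aux [Finite ι] {Δ : Set ι} (hΔ : IsSimpleSys P Δ) (n : ℕ) :
    ∀ (L : List ι), L.length = n → (∀ i ∈ L, i ∈ Δ) →
    (∀ i ∈ Δ, pr P L • i ∈ posOf P Δ) → pr P L = 1 := by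
  induction n using Nat.strong_induction_on with
  | _ n IH =>
    intro L hlen hL hpos
    rcases List.eq_nil_or_concat L with rfl | ⟨L', r, rfl⟩
    · rfl
    · simp only [List.concat_eq_append] at hlen hL hpos ⊢
      have hr : r ∈ Δ := hL r (by simp)
      have hL' : ∀ i ∈ L', i ∈ Δ := fun i hi => hL i (by simp [hi])
      have h2 : pr P L' • r ∉ posOf P Δ := by
        have h3 := hpos r hr
        rw [pr_concat_smul_last] at h3
        exact fun h => (posOf_isPosSys hΔ).disjoint h h3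
      obtain ⟨L'', hL'', hlen'', hw2⟩ := exists_shorter hΔ L' hL' hr h2
      rw [hw2]
      refine IH _ (by omega) L'' rfl hL'' ?_
      rw [← hw2]
      exact hpos

theorem exists_list [Finite ι] {Δ : Set ι} (hΔ : IsSimpleSys P Δ) {g : P.Aut}
    (hg : g ∈ P.weylGroup) : ∃ L : List ι, (∀ i ∈ L, i ∈ Δ) ∧ pr P L = g := by
  rw [← simpleRefl_eq_weylGroup hΔ, simpleRefl] at hg
  induction hg using Subgroup.closure_induction with
  | mem x hx =>
    obtain ⟨i, hi, rfl⟩ := hx
    exact ⟨[i], by simpa using hi, by simp [pr]⟩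
  | one => exact ⟨[], by simp, rfl⟩
  | mul x y _ _ hx hy =>
    obtain ⟨L1, h1, rfl⟩ := hx
    obtain ⟨L2, h2, rfl⟩ := hy
    refine ⟨L1 ++ L2, ?_, pr_append P L1 L2⟩
    intro i hi
    rcases List.mem_append.mp hi with hi | hi
    · exact h1 i hi
    · exact h2 i hi
  | inv x _ hx =>
    obtain ⟨L, h, rfl⟩ := hx
    exact ⟨L.reverse, fun i hi => h i (List.mem_reverse.mp hi), (pr_inv P L).symm⟩

/-- an element of the Weyl group mapping the simple roots to positive roots is trivial -/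
theorem weyl_eq_one_of_simple_pos [Finite ι] {Δ : Set ι} (hΔ : IsSimpleSys P Δ) {g : P.Aut}
    (hg : g ∈ P.weylGroup) (hpos : ∀ i ∈ Δ, g • i ∈ posOf P Δ) : g = 1 := by
  obtain ⟨L, hL, rfl⟩ := exists_list hΔ hg
  exact main_aux hΔ L.length L rfl hL hpos

theorem weyl_eq_one_of_image_eq [Finite ι] {Δ : Set ι} (hΔ : IsSimpleSys P Δ) {g : P.Aut}
    (hg : g ∈ P.weylGroup) (h : (fun i : ι => g • i) '' Δ = Δ) : g = 1 :=
  weyl_eq_one_of_simple_pos hΔ hg fun i hi => subset_posOf Δ (h ▸ ⟨i, hi, rfl⟩)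

/-- S5479 -/
theorem aut_existsUnique_weyl_mul_stabilizer [Finite ι] {Δ : Set ι} (hΔ : IsSimpleSys P Δ)
    (u : P.Aut) :
    ∃! w : P.weylGroup, (fun i : ι => ((w : P.Aut)⁻¹ * u) • i) '' Δ = Δ := by
  obtain ⟨g, hg, hgΔ⟩ := weyl_transitive_simpleSys hΔ (isSimpleSys_image u hΔ)
  refine ⟨⟨g, hg⟩, ?_, ?_⟩
  · change (fun i : ι => (g⁻¹ * u) • i) '' Δ = Δ
    rw [image_mul, ← hgΔ, image_inv_image]
  · rintro ⟨w, hw⟩ hwΔ
    change (fun i : ι => (w⁻¹ * u) • i) '' Δ = Δ at hwΔ
    rw [image_mul, ← hgΔ, ← image_mul] at hwΔ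
    have := weyl_eq_one_of_image_eq hΔ (mul_mem (inv_mem hw) hg) hwΔ
    apply Subtype.ext
    change w = g
    exact (inv_mul_eq_one.mp this)

/-- S5504 -/
theorem neg_root_last_of_minimal_word [Finite ι] {Δ : Set ι} (hΔ : IsSimpleSys P Δ)
    (l : List ι) (hl : ∀ a ∈ l, a ∈ Δ) (hne : l ≠ [])
    (hmin : ∀ l' : List ι, (∀ a ∈ l', a ∈ Δ) → pr P l' = pr P l → l.length ≤ l'.length) :
    -P.root (pr P l • l.getLast hne) ∈ natSpan P Δ := by
  rcases List.eq_nil_or_concat l with rfl | ⟨L', r, hl'⟩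
  · exact absurd rfl hne
  · rw [List.concat_eq_append] at hl'
    subst hl'
    have hr : r ∈ Δ := hl r (by simp)
    have hL' : ∀ i ∈ L', i ∈ Δ := fun i hi => hl i (by simp [hi])
    have hlast : (L' ++ [r]).getLast hne = r := by simp
    rw [hlast, pr_concat_smul_last, root_neg, neg_neg]
    by_contra hneg
    obtain ⟨L'', hL'', hlen'', hw2⟩ := exists_shorter hΔ L' hL' hr hneg
    have := hmin L'' hL'' hw2.symm
    omega

end Groth.Agent.RootDL
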