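import Mathlib
import Groth.Agent.Lib.lead.RootDO
import Groth.Agent.S5492

/-!
Duality: positive systems of the dual datum, the simple system `ind(Δ^v)` (S5485).
-/

namespace Groth.Agent.RootDL

open RootD RootPairing
open Groth.Agent.Lib.Helper4.RD

variable {ι M N : Type*} [AddCommGroup M] [AddCommGroup N] {P : RootPairing ι ℤ M N}

lemma polarization_eq_zero [Fintype ι] {x : M} (hx : x ∈ P.rootSpan ℤ)
    (h : P.Polarization x = 0) : x = 0 := by
  have h1 : P.RootForm x = 0 := (P.polarization_apply_eq_zero_iff x).mp h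
  apply P.eq_zero_of_mem_rootSpan_of_rootForm_self_eq_zero hx
  rw [h1]; rfl

lemma toNat_smul_coroot [Fintype ι] (k : ι) :
    (P.RootForm (P.root k) (P.root k)).toNat • P.coroot k = P.Polarization ((2 : ℕ) • P.root k) := by
  have hpos := rootForm_root_self_pos (P := P) k
  rw [← natCast_zsmul, Int.toNat_of_nonneg hpos.le, P.rootForm_self_smul_coroot, map_nsmul]

/-- every element of `natSpan P.flip S` has a positive multiple of the form `ψ z`, `z ∈ natSpan P S` -/
lemma exists_nsmul_eq_polarization [Fintype ι] {S : Set ι} {y : N} (hy : y ∈ natSpan P.flip S) :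
    ∃ n : ℕ, 0 < n ∧ ∃ z ∈ natSpan P S, n • y = P.Polarization z := by
  induction hy using AddSubmonoid.closure_induction with
  | mem y hy =>
    obtain ⟨k, hk, rfl⟩ := hy
    have hpos := rootForm_root_self_pos (P := P) k
    refine ⟨(P.RootForm (P.root k) (P.root k)).toNat, by omega, (2 : ℕ) • P.root k,
      AddSubmonoid.nsmul_mem _ (root_mem_natSpan P hk) 2, ?_⟩
    exact toNat_smul_coroot k
  | zero => exact ⟨1, one_pos, 0, zero_mem _, by simp⟩
  | add x y _ _ hx hy =>
    obtain ⟨n, hn, z, hz, hnx⟩ := hx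
    obtain ⟨m, hm, z', hz', hmy⟩ := hy
    refine ⟨n * m, Nat.mul_pos hn hm, m • z + n • z',
      add_mem (AddSubmonoid.nsmul_mem _ hz m) (AddSubmonoid.nsmul_mem _ hz' n), ?_⟩
    rw [smul_add, map_add, map_nsmul, map_nsmul, ← hnx, ← hmy, smul_smul, smul_smul, mul_comm m n]

lemma pointed_flip [Finite ι] {S : Set ι} (hS : Pointed P S) : Pointed P.flip S := by
  have := Fintype.ofFinite ι
  intro x y hx hy hxy
  obtain ⟨n, hn, z, hz, hnx⟩ := exists_nsmul_eq_polarization hx
  obtain ⟨m, hm, z', hz', hmy⟩ := exists_nsmul_eq_polarization hy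
  have h1 : P.Polarization (m • z + n • z') = 0 := by
    rw [map_add, map_nsmul, map_nsmul, ← hnx, ← hmy, smul_smul, smul_smul, mul_comm m n,
      ← smul_add, hxy, smul_zero]
  have h2 : m • z + n • z' = 0 :=
    polarization_eq_zero (natSpan_le_rootSpan P S (add_mem (AddSubmonoid.nsmul_mem _ hz m)
      (AddSubmonoid.nsmul_mem _ hz' n))) h1
  have h3 : m • z = 0 := hS (AddSubmonoid.nsmul_mem _ hz m) (AddSubmonoid.nsmul_mem _ hz' n) h2
  have := torsionFree (P := P)
  have hz0 : z = 0 := (nsmul_eq_zero_iff_right hm.ne').mp h3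
  rw [hz0, map_zero] at hnx
  have : IsAddTorsionFree N := torsionFree (P := P.flip)
  exact (nsmul_eq_zero_iff_right hn.ne').mp hnx

/-- a positive system is also a positive system of the dual datum -/
theorem isPosSys_flip [Finite ι] {S : Set ι} (hS : IsPosSys P S) : IsPosSys P.flip S :=
  isPosSys_of_pointed (P := P.flip) (fun _ hi => hS.disjoint hi) hS.cover
    (pointed_flip (posSys_pointed hS))

/-- no root is four times a root -/
lemma root_ne_four_smul (k j : ι) : P.root k ≠ (4 : ℤ) • P.root j := by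
  intro h4
  have h1 : P.pairing k j = 8 := by
    have := congrArg (P.coroot' j) h4
    simpa using this
  have h2 : 4 * P.pairing j k = 2 := by
    have := congrArg (P.coroot' k) h4
    simp only [map_smul, RootPairing.root_coroot'_eq_pairing, RootPairing.pairing_same,
      smul_eq_mul] at this
    linarith
  omega

/-- the set `ind(Δ^v)` -/
def indCoroots (P : RootPairing ι ℤ M N) (Δ : Set ι) : Set ι :=
  {j : ι | ∃ i ∈ Δ, (j = i ∧ IsIndiv P.flip i) ∨ (2 : ℤ) • P.coroot j = P.coroot i}

/-- structure of the elements of `ind(Δ^v)` -/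
lemma indCoroots_spec [Finite ι] {Δ : Set ι} {j : ι} (hj : j ∈ indCoroots P Δ) :
    ∃ i ∈ Δ, ∃ ε : ℤ, (ε = 1 ∨ ε = 2) ∧ P.root j = ε • P.root i ∧ ε • P.coroot j = P.coroot i ∧
      (ε = 1 → IsIndiv P.flip i) := by
  have := torsionFree (P := P)
  have : IsAddTorsionFree N := torsionFree (P := P.flip)
  obtain ⟨i, hi, (⟨rfl, hind⟩ | h2)⟩ := hj
  · exact ⟨j, hi, 1, Or.inl rfl, by simp, by simp, fun _ => hind⟩
  · refine ⟨i, hi, 2, Or.inr rfl, ?_, h2, fun h => by norm_num at h⟩
    exact (coroot_eq_smul_coroot_iff (P := P) (i := i) (j := j) (t := 2)).mp h2.symm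

lemma indCoroots_eq_of_same {j j' i : ι} {ε ε' : ℤ}
    (hε : ε = 1 ∨ ε = 2) (hε' : ε' = 1 ∨ ε' = 2)
    (h1 : P.root j = ε • P.root i) (h1' : P.root j' = ε' • P.root i)
    (h2 : ε • P.coroot j = P.coroot i) (h2' : ε' • P.coroot j' = P.coroot i)
    (h3 : ε = 1 → IsIndiv P.flip i) (h3' : ε' = 1 → IsIndiv P.flip i) : j = j' := by
  apply P.root.injective
  rcases hε with rfl | rfl <;> rcases hε' with rfl | rfl
  · rw [h1, h1']
  · exact absurd h2' (h3 rfl j')
  · exact absurd h2 (h3' rfl j)
  · rw [h1, h1']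

/-- S5485 -/
theorem isSimpleSys_flip_indCoroots [Finite ι] {Δ : Set ι} (hΔ : IsSimpleSys P Δ) :
    IsSimpleSys P.flip (indCoroots P Δ) := by
  classical
  have := Fintype.ofFinite ι
  have htf := torsionFree (P := P)
  have htfN : IsAddTorsionFree N := torsionFree (P := P.flip)
  apply isSimpleSys_of_indiv_linIndep_cone (P := P.flip)
  · -- indivisibility
    intro j hj
    obtain ⟨i, hi, ε, hε, h1, h2, h3⟩ := indCoroots_spec hj
    rcases hε with rfl | rfl
    · have : j = i := P.root.injective (by rw [h1, one_smul])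
      exact this ▸ h3 rfl
    · intro j'' hj''
      change (2 : ℤ) • P.coroot j'' = P.coroot j at hj''
      apply root_ne_four_smul (P := P.flip) i j''
      change P.coroot i = (4 : ℤ) • P.coroot j''
      rw [← h2, ← hj'', smul_smul]
      norm_num
  · -- linear independence
    apply linIndep_of_obtuse_pointed (P := P.flip)
    · intro j hj j' hj' hjj'
      change P.pairing j' j ≤ 0
      obtain ⟨i, hi, ε, hε, h1, h2, h3⟩ := indCoroots_spec hj
      obtain ⟨i', hi', ε', hε', h1', h2', h3'⟩ := indCoroots_spec hj'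
      have hii' : i ≠ i' := by
        rintro rfl
        exact hjj' (indCoroots_eq_of_same hε hε' h1 h1' h2 h2' h3 h3')
      have hle := Groth.Agent.S5492.result P Δ hΔ i i' hi hi' hii'
      -- ε * pairing j' j = ε' * pairing i' i
      have hrel : ε * P.pairing j' j = ε' * P.pairing i' i := by
        have e1 : P.toLinearMap (P.root j') (ε • P.coroot j) = ε * P.pairing j' j := by
          rw [map_smul, smul_eq_mul]; rfl
        have e2 : P.toLinearMap (P.root j') (P.coroot i) = ε' * P.pairing i' i := by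
          rw [h1', map_smul, LinearMap.smul_apply, smul_eq_mul]; rfl
        rw [← e1, h2, e2]
      have hεpos : 0 < ε := by rcases hε with rfl | rfl <;> norm_num
      have hε'pos : 0 < ε' := by rcases hε' with rfl | rfl <;> norm_num
      by_contra hcon
      push Not at hcon
      have : 0 < ε * P.pairing j' j := mul_pos hεpos hcon
      have : ε' * P.pairing i' i ≤ 0 := mul_nonpos_of_nonneg_of_nonpos hε'pos.le hle
      omega
    · -- pointedness
      refine (pointed_flip (posSys_pointed (posOf_isPosSys hΔ))).mono ?_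
      intro j hj
      obtain ⟨i, hi, ε, hε, h1, -, -⟩ := indCoroots_spec hj
      change P.root j ∈ natSpan P Δ
      rw [h1]
      exact zsmul_root_mem_natSpan hi (by rcases hε with rfl | rfl <;> norm_num)
  · -- cone condition
    have hsimple : ∀ i ∈ Δ, P.coroot i ∈ natSpan P.flip (indCoroots P Δ) := by
      intro i hi
      by_cases hind : IsIndiv P.flip i
      · exact root_mem_natSpan P.flip (S := indCoroots P Δ) ⟨i, hi, Or.inl ⟨rfl, hind⟩⟩
      · simp only [IsIndiv, not_forall, not_not] at hind
        obtain ⟨j, hj⟩ := hind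
        change (2 : ℤ) • P.coroot j = P.coroot i at hj
        rw [← hj]
        exact zsmul_root_mem_natSpan (P := P.flip) (S := indCoroots P Δ)
          (i := j) ⟨i, hi, Or.inr hj⟩ (by norm_num)
    have hcone : ∀ z ∈ natSpan P Δ, ∃ n : ℕ, 0 < n ∧
        n • P.Polarization z ∈ natSpan P.flip (indCoroots P Δ) := by
      intro z hz
      induction hz using AddSubmonoid.closure_induction with
      | mem z hz =>
        obtain ⟨i, hi, rfl⟩ := hz
        refine ⟨2, by norm_num, ?_⟩
        have h := toNat_smul_coroot (P := P) i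
        rw [map_nsmul] at h
        rw [← h]
        exact AddSubmonoid.nsmul_mem _ (hsimple i hi) _
      | zero => exact ⟨1, one_pos, by simp⟩
      | add x y _ _ hx hy =>
        obtain ⟨n, hn, hnx⟩ := hx
        obtain ⟨m, hm, hmy⟩ := hy
        refine ⟨n * m, Nat.mul_pos hn hm, ?_⟩
        rw [map_add, smul_add]
        refine add_mem ?_ ?_
        · rw [mul_comm, mul_smul]; exact AddSubmonoid.nsmul_mem _ hnx m
        · rw [mul_smul]; exact AddSubmonoid.nsmul_mem _ hmy n
    have hposk : ∀ k ∈ posOf P Δ, ∃ n : ℕ, 0 < n ∧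
        n • P.coroot k ∈ natSpan P.flip (indCoroots P Δ) := by
      intro k hk
      obtain ⟨n, hn, hmem⟩ := hcone _ (AddSubmonoid.nsmul_mem _ hk 2)
      have hpos := rootForm_root_self_pos (P := P) k
      refine ⟨n * (P.RootForm (P.root k) (P.root k)).toNat, Nat.mul_pos hn (by omega), ?_⟩
      rw [mul_smul, toNat_smul_coroot]
      exact hmem
    intro k
    rcases (posOf_isPosSys hΔ).cover k with hk | hk
    · obtain ⟨n, hn, h⟩ := hposk k hk
      exact ⟨n, hn, Or.inl h⟩
    · obtain ⟨n, hn, h⟩ := hposk _ hk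
      refine ⟨n, hn, Or.inr ?_⟩
      have e : P.coroot (P.reflectionPerm k k) = - P.coroot k := root_neg P.flip k
      rw [e] at h
      exact h

end Groth.Agent.RootDL
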