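import Mathlib
import Groth.Agent.Lib.lead.RootDO

/-!
Morphisms of root data given by two bijections (S5473).
-/

namespace Groth.Agent.RootDL

open RootD RootPairing

variable {ι M N : Type*} [AddCommGroup M] [AddCommGroup N] {P : RootPairing ι ℤ M N}

/-- if `⟨α, β^v⟩ = 2` then `ℓ(β) ≤ ℓ(α)`, with equality only if `α = β` -/
lemma rootForm_le_of_pairing_eq_two [Fintype ι] {i j : ι} (h : P.pairing i j = 2) :
    P.RootForm (P.root j) (P.root j) ≤ P.RootForm (P.root i) (P.root i) ∧
      (P.RootForm (P.root j) (P.root j) = P.RootForm (P.root i) (P.root i) → i = j) := by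
  have h1 := pairing_mul_rootForm (P := P) i j
  rw [h] at h1
  have h2 : P.RootForm (P.root i) (P.root j) = P.RootForm (P.root j) (P.root j) := by linarith
  have h3 : P.RootForm (P.root j) (P.root i) = P.RootForm (P.root j) (P.root j) := by
    rw [← h2]
    exact (P.rootForm_symmetric.eq (P.root j) (P.root i))
  have hexp : P.RootForm (P.root i - P.root j) (P.root i - P.root j) =
      P.RootForm (P.root i) (P.root i) - P.RootForm (P.root j) (P.root j) := by
    simp only [map_sub, LinearMap.sub_apply, h2, h3]
    ring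
  have hnn := P.zero_le_rootForm (P.root i - P.root j)
  refine ⟨by linarith, fun heq => ?_⟩
  have h0 : P.RootForm (P.root i - P.root j) (P.root i - P.root j) = 0 := by
    rw [hexp, heq, sub_self]
  have hmem : P.root i - P.root j ∈ P.rootSpan ℤ :=
    sub_mem (Submodule.subset_span ⟨i, rfl⟩) (Submodule.subset_span ⟨j, rfl⟩)
  have := P.eq_zero_of_mem_rootSpan_of_rootForm_self_eq_zero hmem h0
  exact P.root.injective (sub_eq_zero.mp this)

/-- a permutation `σ` of the roots with `⟨α, (σ α)^v⟩ = 2` for all `α` is the identity -/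
lemma perm_eq_refl_of_pairing_eq_two [Finite ι] (σ : ι ≃ ι) (h : ∀ i, P.pairing i (σ i) = 2) :
    ∀ i, σ i = i := by
  classical
  have := Fintype.ofFinite ι
  have hle : ∀ i, P.RootForm (P.root (σ i)) (P.root (σ i)) ≤ P.RootForm (P.root i) (P.root i) :=
    fun i => (rootForm_le_of_pairing_eq_two (h i)).1
  have hsum : ∑ i, P.RootForm (P.root (σ i)) (P.root (σ i)) =
      ∑ i, P.RootForm (P.root i) (P.root i) :=
    Equiv.sum_comp σ fun i => P.RootForm (P.root i) (P.root i)
  have heq := (Finset.sum_eq_sum_iff_of_le fun i _ => hle i).mp hsum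
  intro i
  exact ((rootForm_le_of_pairing_eq_two (h i)).2 (heq i (Finset.mem_univ i))).symm

end Groth.Agent.RootDL
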