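import Mathlib
import Groth.Agent.Lib.lead.RootDQ

/-!
Irreducible root data: the Weyl group is transitive on roots of a given length (S5470), length
ratios (S5471).
-/

namespace Groth.Agent.RootDL

open RootD RootPairing

variable {ι M N : Type*} [AddCommGroup M] [AddCommGroup N] {P : RootPairing ι ℤ M N}

/-- irreducibility in the sense of the statements -/
def Irred (P : RootPairing ι ℤ M N) : Prop :=
  ∀ R' : Set ι, IsClosedSub P R' → IsSymmSub P R' → IsClosedSub P R'ᶜ → IsSymmSub P R'ᶜ →
    R' = ∅ ∨ R' = Set.univ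

lemma irred_chain [Finite ι] (hirr : Irred P) (i j : ι) :
    Relation.ReflTransGen (fun a b : ι => ¬ P.IsOrthogonal a b) i j := by
  obtain ⟨h1, h2, h3, h4⟩ := Groth.Agent.S5506.result P i
  rcases hirr _ h1 h2 h3 h4 with h | h
  · have hi : i ∈ {j : ι | Relation.ReflTransGen (fun a b : ι => ¬ P.IsOrthogonal a b) i j} :=
      Relation.ReflTransGen.refl
    rw [h] at hi
    exact absurd hi (Set.notMem_empty i)
  · have : j ∈ {j : ι | Relation.ReflTransGen (fun a b : ι => ¬ P.IsOrthogonal a b) i j} := by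
      rw [h]; trivial
    exact this

lemma rootForm_ne_zero_of_not_orthogonal [Fintype ι] {i j : ι} (h : ¬ P.IsOrthogonal i j) :
    P.RootForm (P.root i) (P.root j) ≠ 0 := by
  intro h0
  apply h
  refine ⟨pairing_eq_zero_of_rootForm_eq_zero h0, pairing_eq_zero_of_rootForm_eq_zero ?_⟩
  rw [← P.rootForm_symmetric.eq]
  exact h0

lemma rootForm_smul_smul [Fintype ι] {g : P.Aut} (hg : g ∈ P.weylGroup) (x y : M) :
    P.RootForm (g • x) (g • y) = P.RootForm x y :=
  RootPairing.InvariantForm.apply_weylGroup_smul P (B := P.toInvariantForm)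
    (⟨g, hg⟩ : P.weylGroup) x y

lemma rootForm_root_smul [Fintype ι] {g : P.Aut} (hg : g ∈ P.weylGroup) (i : ι) :
    P.RootForm (P.root (g • i)) (P.root (g • i)) = P.RootForm (P.root i) (P.root i) := by
  rw [root_smul, rootForm_smul_smul hg]

/-- in an irreducible datum, every root has a Weyl conjugate not orthogonal to a given root -/
lemma exists_weyl_rootForm_ne_zero [Finite ι] [Fintype ι] (hirr : Irred P) (i j : ι) :
    ∃ g : P.Aut, g ∈ P.weylGroup ∧ P.RootForm (P.root (g • i)) (P.root j) ≠ 0 := by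
  have hchain := irred_chain hirr i j
  induction hchain with
  | refl =>
    exact ⟨1, one_mem _, by rw [one_smul]; exact (rootForm_root_self_pos i).ne'⟩
  | @tail b c _ hbc ih =>
    obtain ⟨g, hg, hgb⟩ := ih
    by_cases hgc : P.RootForm (P.root (g • i)) (P.root c) ≠ 0
    · exact ⟨g, hg, hgc⟩
    · push Not at hgc
      refine ⟨Equiv.reflection P b * g, mul_mem (P.reflection_mem_weylGroup b) hg, ?_⟩
      rw [mul_smul, refl_smul, P.root_reflectionPerm, P.reflection_apply_root, map_sub,
        LinearMap.sub_apply, hgc, zero_sub, map_smul, LinearMap.smul_apply, smul_eq_mul, neg_ne_zero]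
      refine mul_ne_zero ?_ (rootForm_ne_zero_of_not_orthogonal hbc)
      intro h0
      apply hgb
      have := pairing_mul_rootForm (P := P) (g • i) b
      rw [h0, zero_mul] at this
      omega

/-- S5470 -/
theorem weyl_transitive_sameLength [Finite ι] [Fintype ι] (hirr : Irred P) (i j : ι)
    (hl : P.RootForm (P.root i) (P.root i) = P.RootForm (P.root j) (P.root j)) :
    ∃ g : P.Aut, g ∈ P.weylGroup ∧ g • i = j := by
  obtain ⟨w, hw, hne⟩ := exists_weyl_rootForm_ne_zero hirr i j
  obtain ⟨δ, hδ⟩ : ∃ δ, δ = w • i := ⟨_, rfl⟩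
  rw [← hδ] at hne
  have hlen : P.RootForm (P.root δ) (P.root δ) = P.RootForm (P.root j) (P.root j) := by
    rw [hδ, rootForm_root_smul hw, hl]
  have hpne : P.pairing δ j ≠ 0 := by
    intro h0
    apply hne
    have := pairing_mul_rootForm (P := P) δ j
    rw [h0, zero_mul] at this
    omega
  have hroot : ∀ g : P.Aut, P.root ((g * w) • i) = g • P.root δ := fun g => by
    rw [mul_smul, ← hδ, root_smul]
  by_cases h1 : δ = j
  · exact ⟨w, hw, hδ ▸ h1⟩
  by_cases h2 : P.root δ = -P.root j
  · refine ⟨Equiv.reflection P j * w, mul_mem (P.reflection_mem_weylGroup j) hw, ?_⟩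
    apply P.root.injective
    rw [hroot, Equiv.reflection_smul, h2, map_neg, P.reflection_apply_self, neg_neg]
  have hset := P.pairingIn_pairingIn_mem_set_of_length_eq_of_ne (B := P.toInvariantForm)
    (i := δ) (j := j) hlen h1 h2
  simp only [pairing_eq, Set.mem_insert_iff, Set.mem_singleton_iff, Prod.mk.injEq] at hset
  rcases hset with ⟨h, -⟩ | ⟨hp, hq⟩ | ⟨hp, hq⟩
  · exact absurd h hpne
  · refine ⟨(Equiv.reflection P j * Equiv.reflection P δ * Equiv.reflection P j) * w,
      mul_mem (mul_mem (mul_mem (P.reflection_mem_weylGroup j) (P.reflection_mem_weylGroup δ))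
        (P.reflection_mem_weylGroup j)) hw, ?_⟩
    apply P.root.injective
    have e1 : P.reflection j (P.root δ) = P.root δ - P.root j := by
      rw [P.reflection_apply_root, hp, one_smul]
    have e2 : P.reflection δ (P.root δ - P.root j) = - P.root j := by
      rw [map_sub, P.reflection_apply_self, P.reflection_apply_root, hq, one_smul]; abel
    have e3 : P.reflection j (- P.root j) = P.root j := by
      rw [map_neg, P.reflection_apply_self, neg_neg]
    rw [hroot, mul_smul, mul_smul, Equiv.reflection_smul, Equiv.reflection_smul,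
      Equiv.reflection_smul, e1, e2, e3]
  · refine ⟨(Equiv.reflection P δ * Equiv.reflection P j) * w,
      mul_mem (mul_mem (P.reflection_mem_weylGroup δ) (P.reflection_mem_weylGroup j)) hw, ?_⟩
    apply P.root.injective
    have e1 : P.reflection j (P.root δ) = P.root δ + P.root j := by
      rw [P.reflection_apply_root, hp]; module
    have e2 : P.reflection δ (P.root δ + P.root j) = P.root j := by
      rw [map_add, P.reflection_apply_self, P.reflection_apply_root, hq]; module
    rw [hroot, mul_smul, Equiv.reflection_smul, Equiv.reflection_smul, e1, e2]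


/-- length relation for two roots: `p ℓ(j) = q ℓ(i)` with `p = ⟨i, j^v⟩`, `q = ⟨j, i^v⟩` -/
lemma pairing_mul_len_eq [Fintype ι] (i j : ι) :
    P.pairing i j * P.RootForm (P.root j) (P.root j) =
      P.pairing j i * P.RootForm (P.root i) (P.root i) := by
  rw [pairing_mul_rootForm, pairing_mul_rootForm, ← P.rootForm_symmetric.eq (P.root i) (P.root j)]
  rfl

/-- S5471 -/
theorem rootForm_ratios [Finite ι] [Fintype ι] [P.IsReduced] (hirr : Irred P) (i₀ : ι)
    (hmin : ∀ i : ι, P.RootForm (P.root i₀) (P.root i₀) ≤ P.RootForm (P.root i) (P.root i)) :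
    (∀ i : ι, P.RootForm (P.root i) (P.root i) = P.RootForm (P.root i₀) (P.root i₀) ∨
        P.RootForm (P.root i) (P.root i) = 2 * P.RootForm (P.root i₀) (P.root i₀) ∨
        P.RootForm (P.root i) (P.root i) = 3 * P.RootForm (P.root i₀) (P.root i₀)) ∧
      ¬ ((∃ i : ι, P.RootForm (P.root i) (P.root i) = 2 * P.RootForm (P.root i₀) (P.root i₀)) ∧
          ∃ j : ι, P.RootForm (P.root j) (P.root j) = 3 * P.RootForm (P.root i₀) (P.root i₀)) := by
  have hpos₀ := rootForm_root_self_pos (P := P) i₀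
  constructor
  · intro i
    obtain ⟨w, hw, hne⟩ := exists_weyl_rootForm_ne_zero hirr i₀ i
    obtain ⟨δ, hδ⟩ : ∃ δ, δ = w • i₀ := ⟨_, rfl⟩
    rw [← hδ] at hne
    have hlen : P.RootForm (P.root δ) (P.root δ) = P.RootForm (P.root i₀) (P.root i₀) := by
      rw [hδ, rootForm_root_smul hw]
    have hrel := pairing_mul_len_eq (P := P) δ i
    rw [hlen] at hrel
    have hpne : P.pairing δ i ≠ 0 := by
      intro h0
      apply hne
      have := pairing_mul_rootForm (P := P) δ i
      rw [h0, zero_mul] at this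
      omega
    have hmini := hmin i
    have hset := P.pairingIn_pairingIn_mem_set_of_isCrystal_of_isRed δ i
    simp only [pairing_eq, Set.mem_insert_iff, Set.mem_singleton_iff, Prod.mk.injEq] at hset
    rcases hset with ⟨h, -⟩ | ⟨hp, hq⟩ | ⟨hp, hq⟩ | ⟨hp, hq⟩ | ⟨hp, hq⟩ | ⟨hp, hq⟩ | ⟨hp, hq⟩ |
      ⟨hp, hq⟩ | ⟨hp, hq⟩ | ⟨hp, hq⟩ | ⟨hp, hq⟩ | ⟨hp, hq⟩ | ⟨hp, hq⟩
    · exact absurd h hpne
    all_goals
      rw [hp, hq] at hrel
      first
        | (left; linarith)
        | (right; left; linarith)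
        | (right; right; linarith)
        | (exfalso; nlinarith)
  · rintro ⟨⟨i, hi⟩, ⟨j, hj⟩⟩
    obtain ⟨w, hw, hne⟩ := exists_weyl_rootForm_ne_zero hirr i j
    obtain ⟨δ, hδ⟩ : ∃ δ, δ = w • i := ⟨_, rfl⟩
    rw [← hδ] at hne
    have hlen : P.RootForm (P.root δ) (P.root δ) = 2 * P.RootForm (P.root i₀) (P.root i₀) := by
      rw [hδ, rootForm_root_smul hw, hi]
    have hrel := pairing_mul_len_eq (P := P) δ j
    rw [hlen, hj] at hrel
    have hpne : P.pairing δ j ≠ 0 := by
      intro h0
      apply hne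
      have := pairing_mul_rootForm (P := P) δ j
      rw [h0, zero_mul] at this
      omega
    have hset := P.pairingIn_pairingIn_mem_set_of_isCrystal_of_isRed δ j
    simp only [pairing_eq, Set.mem_insert_iff, Set.mem_singleton_iff, Prod.mk.injEq] at hset
    rcases hset with ⟨h, -⟩ | ⟨hp, hq⟩ | ⟨hp, hq⟩ | ⟨hp, hq⟩ | ⟨hp, hq⟩ | ⟨hp, hq⟩ | ⟨hp, hq⟩ |
      ⟨hp, hq⟩ | ⟨hp, hq⟩ | ⟨hp, hq⟩ | ⟨hp, hq⟩ | ⟨hp, hq⟩ | ⟨hp, hq⟩
    · exact absurd h hpne
    all_goals
      rw [hp, hq] at hrel
      nlinarith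

end Groth.Agent.RootDL
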