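import Mathlib
import Groth.Agent.Lib.lead.RootDN
import Groth.Agent.Lib.lead.RootDM

/-!
Parabolic subgroups of the Weyl group (S5462, S5463).
-/

namespace Groth.Agent.RootDL

open RootD RootPairing
open Groth.Agent.Lib.Helper4.RD
open Groth.Agent.S2953 (pr pr_nil pr_cons pr_append)

variable {ι M N : Type*} [AddCommGroup M] [AddCommGroup N] {P : RootPairing ι ℤ M N}

lemma refl_mem_inSpan_iff {Δ' : Set ι} {i : ι} (hi : i ∈ Δ') (k : ι) :
    P.reflectionPerm i k ∈ inSpan P Δ' ↔ k ∈ inSpan P Δ' := by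
  have hi' : P.root i ∈ Submodule.span ℤ (P.root '' Δ') := Submodule.subset_span ⟨i, hi, rfl⟩
  change P.root (P.reflectionPerm i k) ∈ Submodule.span ℤ (P.root '' Δ') ↔
    P.root k ∈ Submodule.span ℤ (P.root '' Δ')
  rw [P.root_reflectionPerm, P.reflection_apply_root]
  constructor
  · intro h
    have := add_mem h (Submodule.smul_mem _ (P.pairing k i) hi')
    simpa using this
  · intro h
    exact sub_mem h (Submodule.smul_mem _ _ hi')

/-- S5462 -/
theorem weylSub_mapsTo_pos_diff [Finite ι] {Δ Δ' : Set ι} (hΔ : IsSimpleSys P Δ) (hsub : Δ' ⊆ Δ)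
    {g : P.Aut} (hg : g ∈ Subgroup.closure ((fun i : ι => Equiv.reflection P i) '' Δ'))
    {k : ι} (hk : k ∈ posOf P Δ) (hk' : k ∉ inSpan P Δ') :
    g • k ∈ posOf P Δ ∧ g • k ∉ inSpan P Δ' := by
  have hgen : ∀ i ∈ Δ', ∀ k, k ∈ posOf P Δ → k ∉ inSpan P Δ' →
      (Equiv.reflection P i) • k ∈ posOf P Δ ∧ (Equiv.reflection P i) • k ∉ inSpan P Δ' := by
    intro i hi k hk hk'
    rw [refl_smul]
    have hi' : P.root i ∈ Submodule.span ℤ (P.root '' Δ') := Submodule.subset_span ⟨i, hi, rfl⟩
    refine ⟨refl_mem_posOf hΔ (hsub hi) hk (fun h => hk' ?_) (fun h => hk' ?_), ?_⟩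
    · change P.root k ∈ Submodule.span ℤ (P.root '' Δ'); rw [h]; exact hi'
    · change P.root k ∈ Submodule.span ℤ (P.root '' Δ'); rw [h]
      exact Submodule.smul_mem _ _ hi'
    · rwa [refl_mem_inSpan_iff hi]
  revert k
  induction hg using Subgroup.closure_induction'' with
  | one => intro k hk hk'; simpa using ⟨hk, hk'⟩
  | mem x hx =>
    obtain ⟨i, hi, rfl⟩ := hx
    intro k hk hk'
    exact hgen i hi k hk hk'
  | inv_mem x hx =>
    obtain ⟨i, hi, rfl⟩ := hx
    intro k hk hk'
    rw [Equiv.reflection_inv]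
    exact hgen i hi k hk hk'
  | mul x y _ _ hx hy =>
    intro k hk hk'
    rw [mul_smul]
    obtain ⟨h1, h2⟩ := hy hk hk'
    exact hx h1 h2

/-- elements of the parabolic subgroup move roots within the span of `Δ'` -/
lemma weylSub_sub_mem_span {Δ' : Set ι} {g : P.Aut}
    (hg : g ∈ Subgroup.closure ((fun i : ι => Equiv.reflection P i) '' Δ')) (k : ι) :
    P.root (g • k) - P.root k ∈ Submodule.span ℤ (P.root '' Δ') := by
  have hgen : ∀ i ∈ Δ', ∀ k, P.root ((Equiv.reflection P i) • k) - P.root k ∈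
      Submodule.span ℤ (P.root '' Δ') := by
    intro i hi k
    rw [refl_smul, P.root_reflectionPerm, P.reflection_apply_root]
    have : P.root k - P.pairing k i • P.root i - P.root k = -(P.pairing k i • P.root i) := by abel
    rw [this]
    exact neg_mem (Submodule.smul_mem _ _ (Submodule.subset_span ⟨i, hi, rfl⟩))
  revert k
  induction hg using Subgroup.closure_induction'' with
  | one => intro k; simp
  | mem x hx =>
    obtain ⟨i, hi, rfl⟩ := hx
    exact hgen i hi
  | inv_mem x hx =>
    obtain ⟨i, hi, rfl⟩ := hx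
    rw [Equiv.reflection_inv]
    exact hgen i hi
  | mul x y _ _ hx hy =>
    intro k
    rw [mul_smul]
    have : P.root (x • y • k) - P.root k =
        (P.root (x • y • k) - P.root (y • k)) + (P.root (y • k) - P.root k) := by abel
    rw [this]
    exact add_mem (hx _) (hy _)

/-- the rational-span condition of S5463 -/
def MovesIntoSpan (P : RootPairing ι ℤ M N) (Δ' : Set ι) (g : P.Aut) : Prop :=
  ∀ k : ι, ∃ n : ℕ, 0 < n ∧ n • (P.root (g • k) - P.root k) ∈ Submodule.span ℤ (P.root '' Δ')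

lemma movesIntoSpan_mul_refl {Δ' : Set ι} {g : P.Aut} {i : ι} (hi : i ∈ Δ')
    (hg : MovesIntoSpan P Δ' g) : MovesIntoSpan P Δ' (g * Equiv.reflection P i) := by
  intro k
  obtain ⟨n, hn, h⟩ := hg (P.reflectionPerm i k)
  refine ⟨n, hn, ?_⟩
  rw [mul_smul, refl_smul]
  have : P.root (g • P.reflectionPerm i k) - P.root k =
      (P.root (g • P.reflectionPerm i k) - P.root (P.reflectionPerm i k)) +
        (P.root (P.reflectionPerm i k) - P.root k) := by abel
  rw [this, smul_add]
  refine add_mem h (Submodule.smul_of_tower_mem (Submodule.span ℤ (P.root '' Δ')) n ?_)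
  have := weylSub_sub_mem_span (P := P) (Δ' := Δ') (g := Equiv.reflection P i)
    (Subgroup.subset_closure ⟨i, hi, rfl⟩) k
  rwa [refl_smul] at this

/-- a simple root made negative by an element moving roots within `ℚΔ'` belongs to `Δ'` -/
lemma mem_of_movesIntoSpan_of_neg [Finite ι] {Δ Δ' : Set ι} (hΔ : IsSimpleSys P Δ)
    (hsub : Δ' ⊆ Δ) {g : P.Aut} (hg : MovesIntoSpan P Δ' g) {r : ι} (hr : r ∈ Δ)
    (hneg : g • r ∉ posOf P Δ) : r ∈ Δ' := by
  classical
  by_contra hrΔ'
  obtain ⟨n, hn, hmem⟩ := hg r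
  -- coefficient vector of n • (root (g r) - root r)
  obtain ⟨c', hc'⟩ := (mem_span_iff_exists_lc Δ' _).mp hmem
  let e : Δ' → Δ := Set.inclusion hsub
  have h1 : lc P Δ (Finsupp.mapDomain e c') = lc P Δ ((n : ℤ) • (coef hΔ (g • r) - coef hΔ r)) := by
    rw [map_smul, map_sub, lc_coef, lc_coef, natCast_zsmul, ← hc']
    simp only [lc, Finsupp.linearCombination_mapDomain]
    rfl
  have h2 := lc_injective P hΔ.linInd h1
  have h3 := DFunLike.congr_fun h2 ⟨r, hr⟩
  have h4 : Finsupp.mapDomain e c' ⟨r, hr⟩ = 0 := by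
    apply Finsupp.mapDomain_of_notMem_range
    rintro ⟨⟨x, hx⟩, hxe⟩
    apply hrΔ'
    have : x = r := congrArg Subtype.val hxe
    exact this ▸ hx
  rw [h4] at h3
  simp only [Finsupp.smul_apply, Finsupp.sub_apply, smul_eq_mul, coef_simple hΔ ⟨r, hr⟩,
    Finsupp.single_eq_same] at h3
  -- g • r is negative, so its coefficients are ≤ 0
  have hle : coef hΔ (g • r) ⟨r, hr⟩ ≤ 0 := by
    rcases coef_sign hΔ (g • r) with h | h
    · exact absurd ((mem_posOf_iff hΔ _).mpr h) hneg
    · exact h _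
  have hn' : (0 : ℤ) < n := by exact_mod_cast hn
  have : (n : ℤ) * (coef hΔ (g • r) ⟨r, hr⟩ - 1) < 0 := mul_neg_of_pos_of_neg hn' (by omega)
  omega

/-- S5463 -/
theorem mem_weylSub_iff_moves_into_span [Finite ι] {Δ Δ' : Set ι} (hΔ : IsSimpleSys P Δ)
    (hsub : Δ' ⊆ Δ) {g : P.Aut} (hg : g ∈ P.weylGroup) :
    g ∈ Subgroup.closure ((fun i : ι => Equiv.reflection P i) '' Δ') ↔ MovesIntoSpan P Δ' g := by
  constructor
  · intro h k
    exact ⟨1, one_pos, by simpa using weylSub_sub_mem_span h k⟩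
  · intro hmv
    obtain ⟨L, hL, rfl⟩ := exists_list hΔ hg
    clear hg
    -- induction on the length of the word
    suffices H : ∀ (n : ℕ) (L : List ι), L.length = n → (∀ i ∈ L, i ∈ Δ) →
        MovesIntoSpan P Δ' (pr P L) →
        pr P L ∈ Subgroup.closure ((fun i : ι => Equiv.reflection P i) '' Δ') from
      H _ L rfl hL hmv
    intro n
    induction n using Nat.strong_induction_on with
    | _ n IH =>
      intro L hlen hL hmv
      rcases List.eq_nil_or_concat L with rfl | ⟨L', r, hL'r⟩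
      · exact one_mem _
      · rw [List.concat_eq_append] at hL'r
        subst hL'r
        have hr : r ∈ Δ := hL r (by simp)
        have hL' : ∀ i ∈ L', i ∈ Δ := fun i hi => hL i (by simp [hi])
        have hw : pr P (L' ++ [r]) = pr P L' * Equiv.reflection P r := by
          rw [pr_append, pr_cons, pr_nil, mul_one]
        by_cases hneg : pr P (L' ++ [r]) • r ∈ posOf P Δ
        · -- the word is not reduced
          have h2 : pr P L' • r ∉ posOf P Δ := by
            rw [pr_concat_smul_last] at hneg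
            exact fun h => (posOf_isPosSys hΔ).disjoint h hneg
          obtain ⟨L'', hL'', hlen'', hw2⟩ := exists_shorter hΔ L' hL' hr h2
          rw [hw2]
          exact IH _ (by omega) L'' rfl hL'' (hw2 ▸ hmv)
        · have hrΔ' : r ∈ Δ' := mem_of_movesIntoSpan_of_neg hΔ hsub hmv hr hneg
          have hmv' : MovesIntoSpan P Δ' (pr P L') := by
            have := movesIntoSpan_mul_refl hrΔ' hmv
            rwa [hw, mul_assoc, Groth.Agent.S2953.refl_mul_self, mul_one] at this
          have hlen' : L'.length < n := by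
            rw [← hlen]; simp
          rw [hw]
          exact mul_mem (IH _ hlen' L' rfl hL' hmv') (Subgroup.subset_closure ⟨r, hrΔ', rfl⟩)

end Groth.Agent.RootDL
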