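import Mathlib
import Groth.Agent.Lib.lead.RootDO
import Groth.Agent.Lib.lead.RootDH

/-!
Functionals cutting out a saturated set of roots (trace of a subspace).
-/

namespace Groth.Agent.RootDL

open RootD RootPairing

variable {ι M N : Type*} [AddCommGroup M] [AddCommGroup N] {P : RootPairing ι ℤ M N}

/-- `R'` is the trace on the roots of a rational subspace -/
def Saturated (P : RootPairing ι ℤ M N) (R' : Set ι) : Prop :=
  ∀ k : ι, (∃ n : ℕ, 0 < n ∧ n • P.root k ∈ Submodule.span ℤ (P.root '' R')) → k ∈ R'

/-- for a root outside a saturated set there is a vector orthogonal to the set but not to the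
root -/
lemma exists_ortho_vector [Fintype ι] {R' : Set ι} (hsat : Saturated P R') {α : ι}
    (hα : α ∉ R') :
    ∃ v : M, (∀ r ∈ R', P.RootForm v (P.root r) = 0) ∧ P.RootForm v (P.root α) ≠ 0 := by
  classical
  have : Module.IsReflexive ℤ M := .of_isPerfPair P.toLinearMap
  have htf := torsionFree (P := P)
  obtain ⟨T, hT, hmax⟩ := exists_maximal_linearIndepOn ℤ (fun r : R' => P.root r)
  -- every element of R' has a non-zero multiple in the span of T
  have hspanT : Submodule.span ℤ ((fun r : R' => P.root r) '' T) ≤
      Submodule.span ℤ (P.root '' R') := by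
    apply Submodule.span_mono
    rintro _ ⟨r, -, rfl⟩
    exact ⟨r, r.2, rfl⟩
  have hmult : ∀ r : R', ∃ a : ℤ, a ≠ 0 ∧
      a • P.root r ∈ Submodule.span ℤ ((fun r : R' => P.root r) '' T) := by
    intro r
    by_cases hr : r ∈ T
    · exact ⟨1, one_ne_zero, by rw [one_smul]; exact Submodule.subset_span ⟨r, hr, rfl⟩⟩
    · exact hmax r hr
  -- the extended family
  let w : ↥T ⊕ Unit → ι := Sum.elim (fun t => ((t : R') : ι)) (fun _ => α)
  have hli : LinearIndependent ℤ (fun x : ↥T ⊕ Unit => P.root (w x)) := by
    have h1 : LinearIndependent ℤ (fun t : ↥T => P.root ((t : R') : ι)) := hT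
    have h2 : LinearIndependent ℤ (fun _ : Unit => P.root α) :=
      linearIndependent_unique_iff.mpr (P.ne_zero α)
    have h3 := h1.sum_type h2 (by
      rw [Submodule.disjoint_def]
      intro x hx hx'
      have hrange : Set.range (fun _ : Unit => P.root α) = {P.root α} := by
        ext y; simp
      rw [hrange, Submodule.mem_span_singleton] at hx'
      obtain ⟨c, rfl⟩ := hx'
      by_cases hc : c = 0
      · rw [hc, zero_smul]
      · exfalso
        apply hα
        apply hsat α
        refine ⟨c.natAbs, Int.natAbs_pos.mpr hc, ?_⟩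
        have hx2 : c • P.root α ∈ Submodule.span ℤ (P.root '' R') := by
          apply hspanT
          have : Set.range (fun t : ↥T => P.root ((t : R') : ι)) =
              (fun r : R' => P.root r) '' T := by
            ext y; simp
          rw [← this]
          exact hx
        rcases Int.natAbs_eq c with h | h
        · rw [← natCast_zsmul, ← h]; exact hx2
        · rw [← natCast_zsmul]
          have : ((c.natAbs : ℕ) : ℤ) = -c := by omega
          rw [this, neg_smul]
          exact neg_mem hx2)
    have hfun : (fun x : ↥T ⊕ Unit => P.root (w x)) =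
        Sum.elim (fun t : ↥T => P.root ((t : R') : ι)) (fun _ : Unit => P.root α) := by
      ext x
      cases x <;> rfl
    rw [hfun]
    exact h3
  have hdet := det_gram_pos (P := P) w hli
  set G : Matrix (↥T ⊕ Unit) (↥T ⊕ Unit) ℤ :=
    Matrix.of fun a b => P.RootForm (P.root (w b)) (P.root (w a)) with hG
  -- the vector given by the last row of the adjugate
  let v : M := ∑ x, G.adjugate (Sum.inr ()) x • P.root (w x)
  have hv : ∀ y, P.RootForm v (P.root (w y)) = (G.adjugate * G) (Sum.inr ()) y := by
    intro y
    simp only [v, map_sum, LinearMap.sum_apply, map_smul, LinearMap.smul_apply, smul_eq_mul,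
      Matrix.mul_apply]
    refine Finset.sum_congr rfl fun x _ => ?_
    simp only [hG, Matrix.of_apply]
    rw [← P.rootForm_symmetric.eq (P.root (w x)) (P.root (w y))]
    rfl
  rw [Matrix.adjugate_mul] at hv
  refine ⟨v, ?_, ?_⟩
  · intro r hr
    obtain ⟨a, ha, hmem⟩ := hmult ⟨r, hr⟩
    -- v is orthogonal to the span of T
    have horth : ∀ x ∈ Submodule.span ℤ ((fun r : R' => P.root r) '' T), P.RootForm v x = 0 := by
      intro x hx
      induction hx using Submodule.span_induction with
      | mem x hx =>
        obtain ⟨t, ht, rfl⟩ := hx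
        have := hv (Sum.inl ⟨t, ht⟩)
        simpa [w] using this
      | zero => simp
      | add a b _ _ ha hb => rw [map_add, ha, hb, add_zero]
      | smul c a _ ha => rw [map_smul, ha, smul_zero]
    have := horth _ hmem
    rw [map_smul, smul_eq_mul] at this
    exact (mul_eq_zero.mp this).resolve_left ha
  · have := hv (Sum.inr ())
    simp only [w, Sum.elim_inr, Matrix.smul_apply, Matrix.one_apply_eq, smul_eq_mul,
      mul_one] at this
    rw [this]
    exact hdet.ne'

/-- a saturated set of roots is the set of roots killed by some additive functional -/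
theorem exists_addHom_ker_eq [Finite ι] {R' : Set ι} (hsat : Saturated P R') :
    ∃ ψ : M →+ ℤ, ∀ k, ψ (P.root k) = 0 ↔ k ∈ R' := by
  classical
  have := Fintype.ofFinite ι
  -- the group of vectors orthogonal to R'
  let A : AddSubgroup M :=
    { carrier := {v | ∀ r ∈ R', P.RootForm v (P.root r) = 0}
      zero_mem' := by intro r _; simp
      add_mem' := by
        intro a b ha hb r hr
        rw [map_add, LinearMap.add_apply, ha r hr, hb r hr, add_zero]
      neg_mem' := by
        intro a ha r hr
        rw [map_neg, LinearMap.neg_apply, ha r hr, neg_zero] }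
  let f : ι → A →+ ℤ := fun k =>
    { toFun := fun v => P.RootForm (v : M) (P.root k)
      map_zero' := by simp
      map_add' := by intro a b; simp }
  obtain ⟨y, hy⟩ := exists_forall_ne_zero (A := A) (Finset.univ.filter fun k => k ∉ R') f (by
    intro k hk
    rw [Finset.mem_filter] at hk
    obtain ⟨v, hv1, hv2⟩ := exists_ortho_vector hsat hk.2
    exact ⟨⟨v, hv1⟩, hv2⟩)
  refine ⟨(P.RootForm (y : M)).toAddMonoidHom, fun k => ⟨fun h => ?_, fun h => y.2 k h⟩⟩
  by_contra hk
  exact hy k (Finset.mem_filter.mpr ⟨Finset.mem_univ k, hk⟩) h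

end Groth.Agent.RootDL
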