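import Mathlib
import Groth.Agent.Lib.lead.RootDT
import Groth.Agent.Lib.lead.RootDI
import Groth.Agent.Lib.lead.RootDN

/-!
Traces of subspaces on the roots (S5460, S5461).
-/

namespace Groth.Agent.RootDL

open RootD RootPairing
open Groth.Agent.Lib.Helper4.RD

variable {ι M N : Type*} [AddCommGroup M] [AddCommGroup N] {P : RootPairing ι ℤ M N}

lemma span_image_inSpan_le (Δ' : Set ι) :
    Submodule.span ℤ (P.root '' inSpan P Δ') ≤ Submodule.span ℤ (P.root '' Δ') := by
  rw [Submodule.span_le]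
  rintro _ ⟨k, hk, rfl⟩
  exact hk

/-- `inSpan Δ'` is saturated when `Δ'` is part of a simple system -/
lemma saturated_inSpan {Δ Δ' : Set ι} (hΔ : IsSimpleSys P Δ) (hsub : Δ' ⊆ Δ) :
    Saturated P (inSpan P Δ') := by
  classical
  rintro k ⟨n, hn, hmem⟩
  have hmem' := span_image_inSpan_le Δ' hmem
  rw [mem_inSpan_iff hΔ hsub]
  intro l hl
  obtain ⟨c', hc'⟩ := (mem_span_iff_exists_lc Δ' _).mp hmem'
  let e : Δ' → Δ := Set.inclusion hsub
  have h1 : lc P Δ (Finsupp.mapDomain e c') = lc P Δ ((n : ℤ) • coef hΔ k) := by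
    rw [map_smul, lc_coef, natCast_zsmul, ← hc']
    simp only [lc, Finsupp.linearCombination_mapDomain]
    rfl
  have h2 := lc_injective P hΔ.linInd h1
  have h3 := DFunLike.congr_fun h2 l
  have h4 : Finsupp.mapDomain e c' l = 0 := by
    apply Finsupp.mapDomain_of_notMem_range
    rintro ⟨⟨x, hx⟩, hxe⟩
    apply hl
    rw [← hxe]
    exact hx
  rw [h4] at h3
  simp only [Finsupp.smul_apply, smul_eq_mul] at h3
  have hn' : (n : ℤ) ≠ 0 := by exact_mod_cast hn.ne'
  exact (mul_eq_zero.mp h3.symm).resolve_left hn'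

/-- S5460 -/
theorem eq_inSpan_iff_saturated [Finite ι] (R' : Set ι) :
    Saturated P R' ↔ ∃ Δ Δ' : Set ι, IsSimpleSys P Δ ∧ Δ' ⊆ Δ ∧ R' = inSpan P Δ' := by
  constructor
  · intro hsat
    obtain ⟨ψ, hψ⟩ := exists_addHom_ker_eq hsat
    have hneg : ∀ k, ψ (P.root (P.reflectionPerm k k)) = - ψ (P.root k) := fun k => by
      rw [root_neg, map_neg]
    obtain ⟨Δ, Δ'', hΔ, hsub, hP''⟩ := exists_simpleSys_parabolic (P := P)
      (P' := {k | 0 ≤ ψ (P.root k)})
      (fun k => by
        simp only [Set.mem_ofPred_eq, hneg]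
        omega)
      (fun i j k hi hj hk => by
        simp only [Set.mem_ofPred_eq] at hi hj ⊢
        rw [hk, map_add]
        omega)
    refine ⟨Δ, Δ'', hΔ, hsub, ?_⟩
    have hmemP : ∀ k, 0 ≤ ψ (P.root k) ↔
        (k ∈ posOf P Δ ∨ -P.root k ∈ natSpan P Δ'') := fun k => by
      have := Set.ext_iff.mp hP'' k
      simpa using this
    have hΔ''R' : Δ'' ⊆ R' := by
      intro δ hδ
      rw [← hψ]
      have h1 : 0 ≤ ψ (P.root δ) := (hmemP δ).mpr (Or.inl (subset_posOf Δ (hsub hδ)))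
      have h2 : 0 ≤ ψ (P.root (P.reflectionPerm δ δ)) := by
        refine (hmemP _).mpr (Or.inr ?_)
        rw [root_neg, neg_neg]
        exact root_mem_natSpan P hδ
      rw [hneg] at h2
      omega
    ext k
    constructor
    · intro hk
      have h0 : ψ (P.root k) = 0 := (hψ k).mpr hk
      by_cases hpos : k ∈ posOf P Δ
      · have h2 : 0 ≤ ψ (P.root (P.reflectionPerm k k)) := by rw [hneg, h0, neg_zero]
        rcases (hmemP _).mp h2 with h | h
        · exact absurd h ((posOf_isPosSys hΔ).disjoint hpos)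
        · rw [root_neg, neg_neg] at h
          exact natSpan_le_span Δ'' h
      · rcases (hmemP k).mp h0.ge with h | h
        · exact absurd h hpos
        · have := natSpan_le_span Δ'' h
          change P.root k ∈ Submodule.span ℤ (P.root '' Δ'')
          simpa using neg_mem this
    · intro hk
      apply hsat k
      refine ⟨1, one_pos, ?_⟩
      rw [one_smul]
      exact Submodule.span_mono (Set.image_mono hΔ''R') hk
  · rintro ⟨Δ, Δ', hΔ, hsub, rfl⟩
    exact saturated_inSpan hΔ hsub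

/-- a simple root of a linearly independent family is not a sum of two nonzero non-negative
combinations -/
lemma not_decomposable_of_linIndep {Δ' : Set ι} (hli : LinearIndepOn ℤ P.root Δ') {δ : ι}
    (hδ : δ ∈ Δ') {x y : M} (hx : x ∈ natSpan P Δ') (hy : y ∈ natSpan P Δ') (hx0 : x ≠ 0)
    (hy0 : y ≠ 0) : P.root δ ≠ x + y := by
  classical
  intro h
  obtain ⟨c, hc, rfl⟩ := (mem_natSpan_iff P Δ' x).mp hx
  obtain ⟨d, hd, rfl⟩ := (mem_natSpan_iff P Δ' y).mp hy
  have h3 : c + d = Finsupp.single ⟨δ, hδ⟩ 1 := by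
    apply lc_injective P hli
    rw [map_add, lc_single, one_smul, h]
  have key : ∀ l, c l + d l = if (⟨δ, hδ⟩ : Δ') = l then 1 else 0 := by
    intro l
    have := DFunLike.congr_fun h3 l
    simpa [Finsupp.single_apply] using this
  have hi3 := key ⟨δ, hδ⟩
  simp only [if_true] at hi3
  have hzero : ∀ e : Δ' →₀ ℤ, (∀ l, 0 ≤ e l) → (∀ l, e l ≤ c l + d l) → e ⟨δ, hδ⟩ = 0 → e = 0 := by
    intro e he hle hei
    ext l
    by_cases hl : (⟨δ, hδ⟩ : Δ') = l
    · subst hl; simpa using hei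
    · have := key l
      rw [if_neg hl] at this
      have := he l
      have := hle l
      simp only [Finsupp.coe_zero, Pi.zero_apply]
      omega
  have hor : c ⟨δ, hδ⟩ = 0 ∨ d ⟨δ, hδ⟩ = 0 := by
    have := hc ⟨δ, hδ⟩
    have := hd ⟨δ, hδ⟩
    omega
  rcases hor with h0 | h0
  · exact hx0 (by rw [hzero c hc (fun l => by have := hd l; omega) h0, map_zero])
  · exact hy0 (by rw [hzero d hd (fun l => by have := hc l; omega) h0, map_zero])

/-- S5461 -/
theorem simpleSys_sub_extends [Finite ι] {R' : Set ι} (hsat : Saturated P R') {Δ' : Set ι}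
    (hΔ'R : Δ' ⊆ R') (hli : LinearIndepOn ℤ P.root Δ')
    (hgen : ∀ k ∈ R', P.root k ∈ natSpan P Δ' ∨ -P.root k ∈ natSpan P Δ') :
    ∃ Δ : Set ι, IsSimpleSys P Δ ∧ Δ' ⊆ Δ ∧ R' = inSpan P Δ' := by
  have hR' : R' = inSpan P Δ' := by
    ext k
    constructor
    · intro hk
      rcases hgen k hk with h | h
      · exact natSpan_le_span Δ' h
      · have := natSpan_le_span Δ' h
        change P.root k ∈ Submodule.span ℤ (P.root '' Δ')
        simpa using neg_mem this
    · intro hk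
      apply hsat k
      exact ⟨1, one_pos, by rw [one_smul]; exact Submodule.span_mono (Set.image_mono hΔ'R) hk⟩
  obtain ⟨ψ, hψ⟩ := exists_addHom_ker_eq hsat
  have hneg : ∀ k, ψ (P.root (P.reflectionPerm k k)) = - ψ (P.root k) := fun k => by
    rw [root_neg, map_neg]
  set S₁ : Set ι := {k | 0 < ψ (P.root k) ∨ (ψ (P.root k) = 0 ∧ P.root k ∈ natSpan P Δ')}
    with hS₁
  have hptΔ' := pointed_of_linIndep hli
  -- elements of the cone of S₁
  have hcone : ∀ x ∈ natSpan P S₁, 0 ≤ ψ x ∧ (ψ x = 0 → x ∈ natSpan P Δ') := by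
    intro x hx
    induction hx using AddSubmonoid.closure_induction with
    | mem x hx =>
      obtain ⟨k, hk, rfl⟩ := hx
      rcases hk with h | ⟨h1, h2⟩
      · exact ⟨h.le, fun h0 => by omega⟩
      · exact ⟨h1.ge, fun _ => h2⟩
    | zero => exact ⟨by simp, fun _ => zero_mem _⟩
    | add x y _ _ hx hy =>
      refine ⟨by rw [map_add]; omega, fun h0 => ?_⟩
      rw [map_add] at h0
      exact add_mem (hx.2 (by omega)) (hy.2 (by omega))
  have hpt : Pointed P S₁ := by
    intro x y hx hy hxy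
    obtain ⟨hx1, hx2⟩ := hcone x hx
    obtain ⟨hy1, hy2⟩ := hcone y hy
    have h0 : ψ x + ψ y = 0 := by rw [← map_add, hxy, map_zero]
    exact hptΔ' (hx2 (by omega)) (hy2 (by omega)) hxy
  have hP2 : ∀ k, k ∈ S₁ ∨ P.reflectionPerm k k ∈ S₁ := by
    intro k
    rcases lt_trichotomy (ψ (P.root k)) 0 with h | h | h
    · right; left; rw [hneg]; omega
    · have hk : k ∈ R' := (hψ k).mp h
      rcases hgen k hk with h' | h'
      · exact Or.inl (Or.inr ⟨h, h'⟩)
      · right; right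
        rw [hneg, h, root_neg]
        exact ⟨by simp, h'⟩
    · exact Or.inl (Or.inl h)
  have hS : IsPosSys P S₁ := isPosSys_of_pointed (P1_of_pointed hpt) hP2 hpt
  refine ⟨simpleOf P S₁, isSimpleSys_simpleOf hS, ?_, hR'⟩
  intro δ hδ
  have hδS : δ ∈ S₁ := Or.inr ⟨(hψ δ).mpr (hΔ'R hδ), root_mem_natSpan P hδ⟩
  refine ⟨hδS, ?_⟩
  rintro ⟨a, ha, b, hb, hab⟩
  obtain ⟨ha1, ha2⟩ := hcone _ (root_mem_natSpan P ha)
  obtain ⟨hb1, hb2⟩ := hcone _ (root_mem_natSpan P hb)
  have h0 : ψ (P.root a) + ψ (P.root b) = 0 := by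
    rw [← map_add, ← hab]
    exact (hψ δ).mpr (hΔ'R hδ)
  exact not_decomposable_of_linIndep hli hδ (ha2 (by omega)) (hb2 (by omega)) (P.ne_zero a)
    (P.ne_zero b) hab

end Groth.Agent.RootDL
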