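import Mathlib
import Groth.Agent.Lib.lead.RootDU

/-!
A simple system through an indivisible root adapted to a second root (S5464).
-/

namespace Groth.Agent.RootDL

open RootD RootPairing
open Groth.Agent.Lib.Helper4.RD

variable {ι M N : Type*} [AddCommGroup M] [AddCommGroup N] {P : RootPairing ι ℤ M N}

lemma lex3_pos_iff (a b c : ℤ) : (0 : ℤ ×ₗ (ℤ ×ₗ ℤ)) < toLex (a, toLex (b, c)) ↔
    0 < a ∨ (a = 0 ∧ (0 < b ∨ (b = 0 ∧ 0 < c))) := by
  rw [Prod.Lex.lt_iff]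
  have h1 : (ofLex (0 : ℤ ×ₗ (ℤ ×ₗ ℤ))).1 = 0 := rfl
  have h2 : (ofLex (0 : ℤ ×ₗ (ℤ ×ₗ ℤ))).2 = 0 := rfl
  simp only [h1, h2, ofLex_toLex]
  rw [Prod.Lex.lt_iff]
  have h3 : (ofLex (0 : ℤ ×ₗ ℤ)).1 = 0 := rfl
  have h4 : (ofLex (0 : ℤ ×ₗ ℤ)).2 = 0 := rfl
  simp only [h3, h4, ofLex_toLex]
  constructor
  · rintro (h | ⟨h, h' | ⟨h', h''⟩⟩)
    · exact Or.inl h
    · exact Or.inr ⟨h.symm, Or.inl h'⟩
    · exact Or.inr ⟨h.symm, Or.inr ⟨h'.symm, h''⟩⟩
  · rintro (h | ⟨h, h' | ⟨h', h''⟩⟩)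
    · exact Or.inl h
    · exact Or.inr ⟨h.symm, Or.inl h'⟩
    · exact Or.inr ⟨h.symm, Or.inr ⟨h'.symm, h''⟩⟩

lemma lex3_neg_iff (a b c : ℤ) : toLex (a, toLex (b, c)) < (0 : ℤ ×ₗ (ℤ ×ₗ ℤ)) ↔
    a < 0 ∨ (a = 0 ∧ (b < 0 ∨ (b = 0 ∧ c < 0))) := by
  rw [Prod.Lex.lt_iff]
  have h1 : (ofLex (0 : ℤ ×ₗ (ℤ ×ₗ ℤ))).1 = 0 := rfl
  have h2 : (ofLex (0 : ℤ ×ₗ (ℤ ×ₗ ℤ))).2 = 0 := rfl
  simp only [h1, h2, ofLex_toLex]
  rw [Prod.Lex.lt_iff]
  have h3 : (ofLex (0 : ℤ ×ₗ ℤ)).1 = 0 := rfl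
  have h4 : (ofLex (0 : ℤ ×ₗ ℤ)).2 = 0 := rfl
  simp only [h3, h4, ofLex_toLex]

/-- the lexicographic combination of three functionals -/
noncomputable def lex3Hom (ψ θ ε : M →+ ℤ) : M →+ ℤ ×ₗ (ℤ ×ₗ ℤ) :=
  { toFun := fun x => toLex (ψ x, toLex (θ x, ε x))
    map_zero' := by simp only [map_zero]; rfl
    map_add' := by intro x y; simp only [map_add]; rfl }

lemma lex3Hom_apply (ψ θ ε : M →+ ℤ) (x : M) :
    lex3Hom ψ θ ε x = toLex (ψ x, toLex (θ x, ε x)) := rfl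

/-- an indivisible root is not the sum of two roots which are among itself and its double -/
lemma not_sum_of_multiples {i a b : ι} (hA : P.root a = P.root i ∨ P.root a = (2 : ℤ) • P.root i)
    (hB : P.root b = P.root i ∨ P.root b = (2 : ℤ) • P.root i) :
    P.root i ≠ P.root a + P.root b := by
  intro hab
  have hfin : ∃ m : ℤ, m ≠ 0 ∧ m • P.root i = 0 := by
    rcases hA with hA | hA <;> rcases hB with hB | hB
    · refine ⟨1, by norm_num, ?_⟩
      rw [hA, hB] at hab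
      have : (1 : ℤ) • P.root i = P.root i + P.root i - P.root i := by rw [one_smul]; abel
      rw [this, ← hab, sub_self]
    · refine ⟨2, by norm_num, ?_⟩
      rw [hA, hB] at hab
      have : (2 : ℤ) • P.root i = P.root i + (2 : ℤ) • P.root i - P.root i := by abel
      rw [this, ← hab, sub_self]
    · refine ⟨2, by norm_num, ?_⟩
      rw [hA, hB] at hab
      have : (2 : ℤ) • P.root i = (2 : ℤ) • P.root i + P.root i - P.root i := by abel
      rw [this, ← hab, sub_self]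
    · refine ⟨3, by norm_num, ?_⟩
      rw [hA, hB] at hab
      have : (3 : ℤ) • P.root i = (2 : ℤ) • P.root i + (2 : ℤ) • P.root i - P.root i := by
        module
      rw [this, ← hab, sub_self]
  obtain ⟨m, hm, hm0⟩ := hfin
  exact smul_root_ne_zero P hm i hm0

/-- the trace of the plane spanned by two roots -/
def planeRoots (P : RootPairing ι ℤ M N) (i k : ι) : Set ι :=
  {m | ∃ n : ℕ, 0 < n ∧ n • P.root m ∈ Submodule.span ℤ ({P.root i, P.root k} : Set M)}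

lemma saturated_planeRoots (i k : ι) : Saturated P (planeRoots P i k) := by
  have key : ∀ x ∈ Submodule.span ℤ (P.root '' planeRoots P i k), ∃ n : ℕ, 0 < n ∧
      n • x ∈ Submodule.span ℤ ({P.root i, P.root k} : Set M) := by
    intro x hx
    induction hx using Submodule.span_induction with
    | mem x hx =>
      obtain ⟨m, hm, rfl⟩ := hx
      exact hm
    | zero => exact ⟨1, one_pos, by simp⟩
    | add x y _ _ hx hy =>
      obtain ⟨n, hn, hnx⟩ := hx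
      obtain ⟨m, hm, hmy⟩ := hy
      refine ⟨n * m, Nat.mul_pos hn hm, ?_⟩
      rw [smul_add]
      refine add_mem ?_ ?_
      · rw [mul_comm, mul_smul]; exact Submodule.smul_of_tower_mem _ m hnx
      · rw [mul_smul]; exact Submodule.smul_of_tower_mem _ n hmy
    | smul c x _ hx =>
      obtain ⟨n, hn, hnx⟩ := hx
      refine ⟨n, hn, ?_⟩
      rw [smul_comm]
      exact Submodule.smul_mem _ c hnx
  rintro m ⟨n, hn, hmem⟩
  obtain ⟨n', hn', h⟩ := key _ hmem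
  exact ⟨n' * n, Nat.mul_pos hn' hn, by rw [mul_smul]; exact h⟩

end Groth.Agent.RootDL
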