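import Mathlib
import Groth.Agent.Lib.lead.RootDV

/-!
S5464: a simple system through an indivisible root `α` in which a given root `γ` not proportional
to `α` is `aα + bβ` with `β` simple.
-/

namespace Groth.Agent.RootDL

open RootD RootPairing
open Groth.Agent.Lib.Helper4.RD

variable {ι M N : Type*} [AddCommGroup M] [AddCommGroup N] {P : RootPairing ι ℤ M N}

theorem exists_simpleSys_containing_pair [Finite ι] {i k : ι} (hα : IsIndiv P i)
    (hli : LinearIndependent ℤ ![P.root i, P.root k]) :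
    ∃ Δ : Set ι, IsSimpleSys P Δ ∧ i ∈ Δ ∧
      ∃ j ∈ Δ, ∃ a b : ℕ, P.root k = a • P.root i + b • P.root j := by
  classical
  have := Fintype.ofFinite ι
  have htf := torsionFree (P := P)
  have hpair : ∀ a b : ℤ, a • P.root i + b • P.root k = 0 → a = 0 ∧ b = 0 :=
    LinearIndependent.pair_iff.mp hli
  have hVmem : ∀ x, x ∈ Submodule.span ℤ ({P.root i, P.root k} : Set M) ↔
      ∃ a b : ℤ, a • P.root i + b • P.root k = x := fun x => Submodule.mem_span_pair
  have hsat := saturated_planeRoots (P := P) i k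
  obtain ⟨ψ, hψ⟩ := exists_addHom_ker_eq hsat
  have hiR : i ∈ planeRoots P i k :=
    ⟨1, one_pos, by rw [one_smul]; exact Submodule.subset_span (by simp)⟩
  have hkR : k ∈ planeRoots P i k :=
    ⟨1, one_pos, by rw [one_smul]; exact Submodule.subset_span (by simp)⟩
  -- the second functional
  have hbii : 0 < P.RootForm (P.root i) (P.root i) := rootForm_root_self_pos i
  let v : M := P.RootForm (P.root i) (P.root i) • P.root k -
    P.RootForm (P.root k) (P.root i) • P.root i
  let θ : M →+ ℤ := (P.RootForm v).toAddMonoidHom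
  let ε : M →+ ℤ := (P.RootForm (P.root i)).toAddMonoidHom
  have hθ : ∀ x, θ x = P.RootForm (P.root i) (P.root i) * P.RootForm (P.root k) x -
      P.RootForm (P.root k) (P.root i) * P.RootForm (P.root i) x := by
    intro x
    simp [θ, v]
  have hε : ∀ x, ε x = P.RootForm (P.root i) x := fun x => rfl
  have hθi : θ (P.root i) = 0 := by rw [hθ]; ring
  have hv0 : v ≠ 0 := by
    intro h0
    have : (-P.RootForm (P.root k) (P.root i)) • P.root i +
        P.RootForm (P.root i) (P.root i) • P.root k = 0 := by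
      rw [← h0]; simp only [v]; module
    have := (hpair _ _ this).2
    omega
  have hvmem : v ∈ P.rootSpan ℤ :=
    sub_mem (Submodule.smul_mem _ _ (Submodule.subset_span ⟨k, rfl⟩))
      (Submodule.smul_mem _ _ (Submodule.subset_span ⟨i, rfl⟩))
  have hθk : 0 < θ (P.root k) := by
    have hvv : 0 < P.RootForm v v := P.rootForm_pos_of_ne_zero hvmem hv0
    have hexp : P.RootForm v v = P.RootForm (P.root i) (P.root i) * θ (P.root k) := by
      have e1 : P.RootForm v v = θ v := rfl
      rw [e1]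
      have e2 : θ v = P.RootForm (P.root i) (P.root i) * θ (P.root k) -
          P.RootForm (P.root k) (P.root i) * θ (P.root i) := by
        simp only [v, map_sub, map_zsmul, smul_eq_mul]
      rw [e2, hθi, mul_zero, sub_zero]
    rw [hexp] at hvv
    exact (mul_pos_iff_of_pos_left hbii).mp hvv
  -- roots of the plane killed by θ are proportional to `root i`
  have hprop : ∀ m ∈ planeRoots P i k, θ (P.root m) = 0 →
      ∃ n : ℕ, 0 < n ∧ ∃ a : ℤ, (n : ℤ) • P.root m = a • P.root i := by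
    rintro m ⟨n, hn, hmem⟩ hθm
    obtain ⟨a, b, hab⟩ := (hVmem _).mp hmem
    have h1 : θ (n • P.root m) = 0 := by rw [map_nsmul, hθm, smul_zero]
    rw [← hab, map_add, map_zsmul, map_zsmul, hθi, smul_zero, zero_add, smul_eq_mul] at h1
    have hb : b = 0 := (mul_eq_zero.mp h1).resolve_right hθk.ne'
    refine ⟨n, hn, a, ?_⟩
    rw [natCast_zsmul, ← hab, hb, zero_smul, add_zero]
  set φ := lex3Hom ψ θ ε with hφ
  have hφne : ∀ m : ι, 0 < φ (P.root m) ∨ φ (P.root m) < 0 := by
    intro m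
    rw [hφ, lex3Hom_apply, lex3_pos_iff, lex3_neg_iff]
    rcases lt_trichotomy (ψ (P.root m)) 0 with h | h | h
    · exact Or.inr (Or.inl h)
    · rcases lt_trichotomy (θ (P.root m)) 0 with h' | h' | h'
      · exact Or.inr (Or.inr ⟨h, Or.inl h'⟩)
      · obtain ⟨n, hn, a, ha⟩ := hprop m ((hψ m).mp h) h'
        have hεm : (n : ℤ) * ε (P.root m) = a * P.RootForm (P.root i) (P.root i) := by
          have := congrArg ε ha
          rw [map_zsmul, map_zsmul, smul_eq_mul, smul_eq_mul] at this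
          exact this
        have ha0 : a ≠ 0 := by
          rintro rfl
          rw [zero_smul] at ha
          exact smul_root_ne_zero P (by exact_mod_cast hn.ne') m ha
        have hn' : (0 : ℤ) < n := by exact_mod_cast hn
        have hne : ε (P.root m) ≠ 0 := by
          intro h0
          rw [h0, mul_zero] at hεm
          rcases mul_eq_zero.mp hεm.symm with h1 | h1
          · exact ha0 h1
          · omega
        rcases lt_or_gt_of_ne hne with h'' | h''
        · exact Or.inr (Or.inr ⟨h, Or.inr ⟨h', h''⟩⟩)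
        · exact Or.inl (Or.inr ⟨h, Or.inr ⟨h', h''⟩⟩)
      · exact Or.inl (Or.inr ⟨h, Or.inl h'⟩)
    · exact Or.inl (Or.inl h)
  have hS := Groth.Agent.S5457.result P φ hφne
  set S₁ : Set ι := {m : ι | 0 < φ (P.root m)} with hS₁
  have hposS : ∀ m ∈ S₁, 0 < ψ (P.root m) ∨ (ψ (P.root m) = 0 ∧
      (0 < θ (P.root m) ∨ (θ (P.root m) = 0 ∧ 0 < ε (P.root m)))) := by
    intro m hm
    have : 0 < φ (P.root m) := hm
    rwa [hφ, lex3Hom_apply, lex3_pos_iff] at this
  have hmemS : ∀ m, (0 < ψ (P.root m) ∨ (ψ (P.root m) = 0 ∧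
      (0 < θ (P.root m) ∨ (θ (P.root m) = 0 ∧ 0 < ε (P.root m))))) → m ∈ S₁ := by
    intro m hm
    change 0 < φ (P.root m)
    rwa [hφ, lex3Hom_apply, lex3_pos_iff]
  have hΔ := isSimpleSys_simpleOf hS
  have hSeq : S₁ = posOf P (simpleOf P S₁) := eq_posOf_of_subset hΔ hS (simpleOf_subset S₁)
  have hψi : ψ (P.root i) = 0 := (hψ i).mpr hiR
  have hψk : ψ (P.root k) = 0 := (hψ k).mpr hkR
  have hiS : i ∈ S₁ := hmemS i (Or.inr ⟨hψi, Or.inr ⟨hθi, by rw [hε]; exact hbii⟩⟩)
  have hkS : k ∈ S₁ := hmemS k (Or.inr ⟨hψk, Or.inl hθk⟩)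
  -- positive roots of the plane killed by θ are `root i` or `2 root i`
  have hmult : ∀ a ∈ S₁, ψ (P.root a) = 0 → θ (P.root a) = 0 →
      P.root a = P.root i ∨ P.root a = (2 : ℤ) • P.root i := by
    intro a ha h1 h2
    obtain ⟨n, hn, p, hp⟩ := hprop a ((hψ a).mp h1) h2
    have hεa : 0 < ε (P.root a) := by
      rcases hposS a ha with h | ⟨-, h | ⟨-, h⟩⟩
      · omega
      · omega
      · exact h
    have hn' : (0 : ℤ) < n := by exact_mod_cast hn
    have hp0 : 0 < p := by
      have := congrArg ε hp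
      rw [map_zsmul, map_zsmul, smul_eq_mul, smul_eq_mul, hε (P.root i)] at this
      have h3 : 0 < (n : ℤ) * ε (P.root a) := mul_pos hn' hεa
      rw [this] at h3
      exact (mul_pos_iff_of_pos_right hbii).mp h3
    exact eq_or_eq_two_smul_of_proportional hα hn' hp0 hp
  have hiΔ : i ∈ simpleOf P S₁ := by
    refine ⟨hiS, ?_⟩
    rintro ⟨a, ha, b, hb, hab⟩
    have hψab : ψ (P.root a) + ψ (P.root b) = 0 := by rw [← map_add, ← hab, hψi]
    have hθab : θ (P.root a) + θ (P.root b) = 0 := by rw [← map_add, ← hab, hθi]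
    have ha' := hposS a ha
    have hb' := hposS b hb
    have hψa : ψ (P.root a) = 0 := by
      rcases ha' with h | ⟨h, -⟩ <;> rcases hb' with h' | ⟨h', -⟩ <;> omega
    have hψb : ψ (P.root b) = 0 := by omega
    have hθa : θ (P.root a) = 0 := by
      rcases ha' with h | ⟨-, h | ⟨h, -⟩⟩ <;> rcases hb' with h' | ⟨-, h' | ⟨h', -⟩⟩ <;> omega
    have hθb : θ (P.root b) = 0 := by omega
    exact not_sum_of_multiples (hmult a ha hψa hθa) (hmult b hb hψb hθb) hab
  -- the coefficients of `k`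
  have hkpos : k ∈ posOf P (simpleOf P S₁) := hSeq ▸ hkS
  have hck := (mem_posOf_iff hΔ k).mp hkpos
  have hψΔ : ∀ l : simpleOf P S₁, 0 ≤ ψ (P.root l) := by
    intro l
    rcases hposS l (simpleOf_subset S₁ l.2) with h | ⟨h, -⟩ <;> omega
  have hsupp : ∀ l : simpleOf P S₁, (l : ι) ∉ planeRoots P i k → coef hΔ k l = 0 := by
    intro l hl
    have hsum : ψ (P.root k) = (coef hΔ k).sum fun l c => c * ψ (P.root l) := by
      rw [← lc_coef hΔ k, lc, Finsupp.linearCombination_apply, map_finsuppSum]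
      refine Finset.sum_congr rfl fun l _ => ?_
      simp only [map_zsmul, smul_eq_mul]
    rw [hψk, Finsupp.sum] at hsum
    by_contra hne
    have hl0 : 0 < ψ (P.root l) := by
      have := hψΔ l
      rcases this.eq_or_lt with h | h
      · exact absurd ((hψ l).mp h.symm) hl
      · exact h
    have hmem : l ∈ (coef hΔ k).support := Finsupp.mem_support_iff.mpr hne
    have hpos : 0 < ∑ l ∈ (coef hΔ k).support, coef hΔ k l * ψ (P.root l) := by
      refine Finset.sum_pos' (fun l _ => mul_nonneg (hck l) (hψΔ l)) ⟨l, hmem, ?_⟩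
      exact mul_pos (lt_of_le_of_ne (hck l) (Ne.symm hne)) hl0
    omega
  -- simple roots of the plane other than `i`
  have hplane : ∀ l : simpleOf P S₁, (l : ι) ∈ planeRoots P i k → (l : ι) ≠ i →
      ∃ n : ℕ, 0 < n ∧ ∃ a b : ℤ, b ≠ 0 ∧ (n : ℤ) • P.root l = a • P.root i + b • P.root k := by
    rintro l ⟨n, hn, hmem⟩ hli'
    obtain ⟨a, b, hab⟩ := (hVmem _).mp hmem
    refine ⟨n, hn, a, b, ?_, by rw [natCast_zsmul, hab]⟩
    rintro rfl
    rw [zero_smul, add_zero] at hab
    have hrel : lc P (simpleOf P S₁) (Finsupp.single l (n : ℤ) - Finsupp.single ⟨i, hiΔ⟩ a) = 0 := by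
      rw [map_sub, lc_single, lc_single, natCast_zsmul, ← hab, sub_self]
    have h0 := lc_injective P hΔ.linInd (hrel.trans (map_zero _).symm)
    have h1 := DFunLike.congr_fun h0 l
    have hne : (⟨i, hiΔ⟩ : simpleOf P S₁) ≠ l := fun h => hli' (by rw [← h])
    simp only [Finsupp.sub_apply, Finsupp.single_eq_same, Finsupp.single_apply, if_neg hne,
      sub_zero, Finsupp.zero_apply] at h1
    omega
  have huniq : ∀ l₁ l₂ : simpleOf P S₁, (l₁ : ι) ∈ planeRoots P i k → (l₁ : ι) ≠ i →
      (l₂ : ι) ∈ planeRoots P i k → (l₂ : ι) ≠ i → l₁ = l₂ := by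
    intro l₁ l₂ h1 h1' h2 h2'
    by_contra hne
    obtain ⟨n₁, hn₁, a₁, b₁, hb₁, e₁⟩ := hplane l₁ h1 h1'
    obtain ⟨n₂, hn₂, a₂, b₂, hb₂, e₂⟩ := hplane l₂ h2 h2'
    have hrel : lc P (simpleOf P S₁) (Finsupp.single l₁ (b₂ * n₁) - Finsupp.single l₂ (b₁ * n₂) +
        Finsupp.single ⟨i, hiΔ⟩ (b₁ * a₂ - b₂ * a₁)) = 0 := by
      rw [map_add, map_sub, lc_single, lc_single, lc_single, mul_smul, mul_smul, e₁, e₂]
      module
    have h0 := lc_injective P hΔ.linInd (hrel.trans (map_zero _).symm)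
    have h3 := DFunLike.congr_fun h0 l₁
    have hne2 : l₂ ≠ l₁ := fun h => hne h.symm
    have hne3 : (⟨i, hiΔ⟩ : simpleOf P S₁) ≠ l₁ := fun h => h1' (by rw [← h])
    simp only [Finsupp.add_apply, Finsupp.sub_apply, Finsupp.single_eq_same, Finsupp.single_apply,
      if_neg hne2, if_neg hne3, sub_zero, add_zero, Finsupp.zero_apply] at h3
    have hn₁' : (n₁ : ℤ) ≠ 0 := by exact_mod_cast hn₁.ne'
    rcases mul_eq_zero.mp h3 with h | h
    · exact hb₂ h
    · exact hn₁' h
  refine ⟨simpleOf P S₁, hΔ, hiΔ, ?_⟩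
  by_cases hex : ∃ l : simpleOf P S₁, (l : ι) ∈ planeRoots P i k ∧ (l : ι) ≠ i
  · obtain ⟨j, hj1, hj2⟩ := hex
    refine ⟨j, j.2, (coef hΔ k ⟨i, hiΔ⟩).toNat, (coef hΔ k j).toNat, ?_⟩
    have hcoef : coef hΔ k = Finsupp.single ⟨i, hiΔ⟩ (coef hΔ k ⟨i, hiΔ⟩) +
        Finsupp.single j (coef hΔ k j) := by
      ext l
      have hji : j ≠ ⟨i, hiΔ⟩ := fun h => hj2 (by rw [h])
      by_cases hl1 : l = ⟨i, hiΔ⟩
      · subst hl1
        simp [hji]
      · by_cases hl2 : l = j
        · subst hl2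
          simp [Ne.symm hl1]
        · have hl1' : (l : ι) ≠ i := fun h => hl1 (Subtype.ext h)
          have : coef hΔ k l = 0 := by
            by_cases hlR : (l : ι) ∈ planeRoots P i k
            · exact absurd (huniq l j hlR hl1' hj1 hj2) hl2
            · exact hsupp l hlR
          simp [Ne.symm hl1, Ne.symm hl2, this]
    have := lc_coef hΔ k
    rw [hcoef, map_add, lc_single, lc_single] at this
    rw [← this, ← natCast_zsmul, ← natCast_zsmul, Int.toNat_of_nonneg (hck _),
      Int.toNat_of_nonneg (hck _)]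
  · exfalso
    push Not at hex
    have hcoef : coef hΔ k = Finsupp.single ⟨i, hiΔ⟩ (coef hΔ k ⟨i, hiΔ⟩) := by
      ext l
      by_cases hl1 : l = ⟨i, hiΔ⟩
      · subst hl1; simp
      · have hl1' : (l : ι) ≠ i := fun h => hl1 (Subtype.ext h)
        have : coef hΔ k l = 0 := by
          by_cases hlR : (l : ι) ∈ planeRoots P i k
          · exact absurd (hex l hlR) hl1'
          · exact hsupp l hlR
        simp [Ne.symm hl1, this]
    have := lc_coef hΔ k
    rw [hcoef, lc_single] at this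
    have hrel : (coef hΔ k ⟨i, hiΔ⟩) • P.root i + (-1 : ℤ) • P.root k = 0 := by
      rw [this]; module
    have := (hpair _ _ hrel).2
    omega

end Groth.Agent.RootDL
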