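import Mathlib
import Groth.Agent.Lib.lead.RootDP
import Groth.Agent.Lib.lead.RootDG
import Groth.Agent.Lib.lead.RootDE

/-!
p-morphisms of root data (SGA3 XXI 6.8): `f : M' → M`, `g : N → N'` adjoint, `u : ι ≃ ι'`,
`q : ι → ℕ` positive with `f (α'_{u i}) = q i • α_i`, `g (α_i^∨) = q i • α'^∨_{u i}`.
-/

namespace Groth.Agent.RootDL

open RootD

variable {ι M N ι' M' N' : Type*} [AddCommGroup M] [AddCommGroup N] [AddCommGroup M']
  [AddCommGroup N']

structure PMor (P : RootPairing ι ℤ M N) (P' : RootPairing ι' ℤ M' N') where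
  f : M' →ₗ[ℤ] M
  g : N →ₗ[ℤ] N'
  hfg : ∀ (m' : M') (n : N), P.toLinearMap (f m') n = P'.toLinearMap m' (g n)
  u : ι ≃ ι'
  q : ι → ℕ
  hq : ∀ i, 0 < q i
  hroot : ∀ i : ι, f (P'.root (u i)) = (q i : ℤ) • P.root i
  hcoroot : ∀ i : ι, g (P.coroot i) = (q i : ℤ) • P'.coroot (u i)

namespace PMor

variable {P : RootPairing ι ℤ M N} {P' : RootPairing ι' ℤ M' N'} (φ : PMor P P')

lemma pairing_rel (i j : ι) :
    (φ.q i : ℤ) * P'.pairing (φ.u j) (φ.u i) = (φ.q j : ℤ) * P.pairing j i := by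
  have h := φ.hfg (P'.root (φ.u j)) (P.coroot i)
  rw [φ.hroot, φ.hcoroot] at h
  simp only [map_smul, LinearMap.smul_apply, smul_eq_mul] at h
  rw [RootPairing.root_coroot_eq_pairing, RootPairing.root_coroot_eq_pairing] at h
  exact h.symm

lemma f_refl (i j : ι) :
    φ.f (P'.root (P'.reflectionPerm (φ.u i) (φ.u j))) =
      (φ.q j : ℤ) • P.root (P.reflectionPerm i j) := by
  rw [P'.root_reflectionPerm, P.root_reflectionPerm, RootPairing.reflection_apply_root,
    RootPairing.reflection_apply_root, map_sub, map_smul, φ.hroot, φ.hroot, smul_sub, smul_smul,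
    smul_smul, mul_comm, φ.pairing_rel i j]

include φ in
lemma refl_eq [P.IsReduced] (i j : ι) :
    φ.q (P.reflectionPerm i j) = φ.q j ∧
      φ.u (P.reflectionPerm i j) = P'.reflectionPerm (φ.u i) (φ.u j) := by
  have htf := torsionFree (P := P)
  set k' := P'.reflectionPerm (φ.u i) (φ.u j) with hk'
  set k := φ.u.symm k' with hk
  set l := P.reflectionPerm i j with hl
  have h1 : (φ.q k : ℤ) • P.root k = (φ.q j : ℤ) • P.root l := by
    rw [← φ.hroot k, hk, Equiv.apply_symm_apply, hk', φ.f_refl]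
  have hqk := φ.hq k
  have hqj := φ.hq j
  -- `root k` and `root l` are proportional, so equal up to sign
  have hnli : ¬ LinearIndependent ℤ ![P.root k, P.root l] := by
    rw [LinearIndependent.pair_iff]
    intro h
    have := h (φ.q k) (-(φ.q j : ℤ)) (by rw [neg_smul, h1, add_neg_cancel])
    omega
  have hkl : k = l := by
    rcases RootPairing.IsReduced.eq_or_eq_neg (P := P) k l hnli with h | h
    · exact P.root.injective h
    · exfalso
      rw [h, smul_neg, neg_eq_iff_add_eq_zero, ← add_smul] at h1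
      exact smul_root_ne_zero P (by omega) l h1
  refine ⟨?_, ?_⟩
  · rw [hkl] at h1
    have h2 : ((φ.q l : ℤ) - φ.q j) • P.root l = 0 := by rw [sub_smul, h1, sub_self]
    by_contra hne
    exact smul_root_ne_zero P (by omega) l h2
  · rw [← hkl, hk, Equiv.apply_symm_apply]

lemma u_neg [P.IsReduced] (i : ι) :
    φ.u (P.reflectionPerm i i) = P'.reflectionPerm (φ.u i) (φ.u i) := (φ.refl_eq i i).2

lemma q_neg [P.IsReduced] (i : ι) : φ.q (P.reflectionPerm i i) = φ.q i := (φ.refl_eq i i).1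

/-- `q` is invariant under the Weyl group. -/
lemma q_weyl [P.IsReduced] {w : P.Aut} (hw : w ∈ P.weylGroup) (i : ι) : φ.q (w • i) = φ.q i := by
  revert i
  induction hw using Subgroup.closure_induction with
  | mem w hw =>
    obtain ⟨j, rfl⟩ := hw
    intro i
    rw [refl_smul]
    exact (φ.refl_eq j i).1
  | one => intro i; rw [one_smul]
  | mul w₁ w₂ _ _ h₁ h₂ => intro i; rw [mul_smul, h₁, h₂]
  | inv w _ h => intro i; rw [← h (w⁻¹ • i), smul_inv_smul]

/-- the relation between Weyl group elements intertwined by `u` -/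
def Rel (w : P.Aut) (w' : P'.Aut) : Prop := ∀ i, φ.u (w • i) = w' • φ.u i

lemma exists_rel [P.IsReduced] {w : P.Aut} (hw : w ∈ P.weylGroup) :
    ∃ w' ∈ P'.weylGroup, φ.Rel w w' := by
  induction hw using Subgroup.closure_induction with
  | mem w hw =>
    obtain ⟨j, rfl⟩ := hw
    refine ⟨RootPairing.Equiv.reflection P' (φ.u j), P'.reflection_mem_weylGroup _, fun i => ?_⟩
    rw [refl_smul, refl_smul]
    exact (φ.refl_eq j i).2
  | one => exact ⟨1, one_mem _, fun i => by rw [one_smul, one_smul]⟩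
  | mul w₁ w₂ _ _ h₁ h₂ =>
    obtain ⟨w₁', hw₁', hr₁⟩ := h₁
    obtain ⟨w₂', hw₂', hr₂⟩ := h₂
    exact ⟨w₁' * w₂', mul_mem hw₁' hw₂', fun i => by rw [mul_smul, mul_smul, hr₁, hr₂]⟩
  | inv w _ h =>
    obtain ⟨w', hw', hr⟩ := h
    refine ⟨w'⁻¹, inv_mem hw', fun i => ?_⟩
    rw [eq_inv_smul_iff, ← hr, smul_inv_smul]

lemma exists_rel' [P.IsReduced] {w' : P'.Aut} (hw' : w' ∈ P'.weylGroup) :
    ∃ w ∈ P.weylGroup, φ.Rel w w' := by
  induction hw' using Subgroup.closure_induction with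
  | mem w' hw' =>
    obtain ⟨j', rfl⟩ := hw'
    refine ⟨RootPairing.Equiv.reflection P (φ.u.symm j'), P.reflection_mem_weylGroup _,
      fun i => ?_⟩
    rw [refl_smul, refl_smul, (φ.refl_eq _ i).2, Equiv.apply_symm_apply]
  | one => exact ⟨1, one_mem _, fun i => by rw [one_smul, one_smul]⟩
  | mul w₁ w₂ _ _ h₁ h₂ =>
    obtain ⟨w₁', hw₁', hr₁⟩ := h₁
    obtain ⟨w₂', hw₂', hr₂⟩ := h₂
    exact ⟨w₁' * w₂', mul_mem hw₁' hw₂', fun i => by rw [mul_smul, mul_smul, hr₁, hr₂]⟩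
  | inv w _ h =>
    obtain ⟨w', hw', hr⟩ := h
    refine ⟨w'⁻¹, inv_mem hw', fun i => ?_⟩
    rw [eq_inv_smul_iff, ← hr, smul_inv_smul]

lemma rel_unique_right [Finite ι'] {w : P.Aut} {w₁ w₂ : P'.Aut} (h₁ : w₁ ∈ P'.weylGroup)
    (h₂ : w₂ ∈ P'.weylGroup) (hr₁ : φ.Rel w w₁) (hr₂ : φ.Rel w w₂) : w₁ = w₂ := by
  have : w₂⁻¹ * w₁ = 1 := by
    apply weyl_eq_one_of_fix_roots (mul_mem (inv_mem h₂) h₁)
    intro i'
    obtain ⟨i, rfl⟩ := φ.u.surjective i'
    rw [mul_smul, ← hr₁, hr₂, inv_smul_smul]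
  rw [inv_mul_eq_one] at this
  exact this.symm

lemma rel_unique_left [Finite ι] {w₁ w₂ : P.Aut} {w' : P'.Aut} (h₁ : w₁ ∈ P.weylGroup)
    (h₂ : w₂ ∈ P.weylGroup) (hr₁ : φ.Rel w₁ w') (hr₂ : φ.Rel w₂ w') : w₁ = w₂ := by
  have : w₂⁻¹ * w₁ = 1 := by
    apply weyl_eq_one_of_fix_roots (mul_mem (inv_mem h₂) h₁)
    intro i
    rw [mul_smul, inv_smul_eq_iff]
    apply φ.u.injective
    rw [hr₁, hr₂]
  rw [inv_mul_eq_one] at this
  exact this.symm

/-- The isomorphism of Weyl groups induced by a p-morphism. -/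
noncomputable def weylEquiv [Finite ι] [Finite ι'] [P.IsReduced] : P.weylGroup ≃* P'.weylGroup where
  toFun w := ⟨(φ.exists_rel w.2).choose, (φ.exists_rel w.2).choose_spec.1⟩
  invFun w' := ⟨(φ.exists_rel' w'.2).choose, (φ.exists_rel' w'.2).choose_spec.1⟩
  left_inv w := by
    apply Subtype.ext
    have h1 := (φ.exists_rel w.2).choose_spec
    set w' := (φ.exists_rel w.2).choose
    have h2 := (φ.exists_rel' h1.1).choose_spec
    exact φ.rel_unique_left h2.1 w.2 h2.2 h1.2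
  right_inv w' := by
    apply Subtype.ext
    have h1 := (φ.exists_rel' w'.2).choose_spec
    set w := (φ.exists_rel' w'.2).choose
    have h2 := (φ.exists_rel h1.1).choose_spec
    exact φ.rel_unique_right h2.1 w'.2 h2.2 h1.2
  map_mul' w₁ w₂ := by
    apply Subtype.ext
    have h1 := (φ.exists_rel w₁.2).choose_spec
    have h2 := (φ.exists_rel w₂.2).choose_spec
    have h12 := (φ.exists_rel (w₁ * w₂).2).choose_spec
    refine φ.rel_unique_right h12.1 (mul_mem h1.1 h2.1) h12.2 (fun i => ?_)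
    rw [Subgroup.coe_mul, mul_smul, h1.2, h2.2, Subgroup.coe_mul, mul_smul]

lemma weylEquiv_rel [Finite ι] [Finite ι'] [P.IsReduced] (w : P.weylGroup) :
    φ.Rel (w : P.Aut) ((φ.weylEquiv w : P'.weylGroup) : P'.Aut) :=
  (φ.exists_rel w.2).choose_spec.2

lemma weylEquiv_ofIdx [Finite ι] [Finite ι'] [P.IsReduced] (i : ι) :
    φ.weylEquiv (RootPairing.weylGroup.ofIdx P i) = RootPairing.weylGroup.ofIdx P' (φ.u i) := by
  apply Subtype.ext
  refine φ.rel_unique_right (φ.weylEquiv _).2 (P'.reflection_mem_weylGroup _)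
    (φ.weylEquiv_rel _) (fun j => ?_)
  change φ.u (RootPairing.Equiv.reflection P i • j) = RootPairing.Equiv.reflection P' (φ.u i) • φ.u j
  rw [refl_smul, refl_smul]
  exact (φ.refl_eq i j).2

end PMor

end Groth.Agent.RootDL
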