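import Mathlib
import Groth.Agent.Lib.lead.RootDX
import Groth.Agent.Lib.lead.RootDD
import Groth.Agent.Lib.lead.RootDB

/-!
p-morphisms of root data: the root bijection `u` preserves positive systems and simple systems.
-/

namespace Groth.Agent.RootDL

open RootD

variable {ι M N ι' M' N' : Type*} [AddCommGroup M] [AddCommGroup N] [AddCommGroup M']
  [AddCommGroup N']

lemma linearIndependent_smul_of_ne_zero {κ V : Type*} [AddCommGroup V] [IsAddTorsionFree V]
    {v : κ → V} (hv : LinearIndependent ℤ v) (c : κ → ℤ) (hc : ∀ i, c i ≠ 0) :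
    LinearIndependent ℤ (fun i => c i • v i) := by
  rw [linearIndependent_iff'] at hv ⊢
  intro s g hg i hi
  have h := hv s (fun i => g i * c i) (by simpa only [smul_smul] using hg) i hi
  exact (mul_eq_zero.mp h).resolve_right (hc i)

namespace PMor

variable {P : RootPairing ι ℤ M N} {P' : RootPairing ι' ℤ M' N'} (φ : PMor P P')

lemma f_mem_natSpan (S : Set ι) {x : M'} (hx : x ∈ natSpan P' (φ.u '' S)) :
    φ.f x ∈ natSpan P S := by
  induction hx using AddSubmonoid.closure_induction with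
  | mem x hx =>
    obtain ⟨_, ⟨i, hi, rfl⟩, rfl⟩ := hx
    rw [φ.hroot, natCast_zsmul]
    exact nsmul_mem (root_mem_natSpan P hi) _
  | zero => rw [map_zero]; exact zero_mem _
  | add x y _ _ hx hy => rw [map_add]; exact add_mem hx hy

/-- positive systems are carried to positive systems -/
theorem isPosSys_image [P.IsReduced] {S : Set ι} (hS : IsPosSys P S) : IsPosSys P' (φ.u '' S) := by
  refine ⟨?_, ?_, ?_⟩
  · rintro _ ⟨i, hi, rfl⟩ ⟨j, hj, hji⟩
    rw [← φ.u_neg] at hji
    rw [φ.u.injective hji] at hj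
    exact hS.disjoint hi hj
  · intro i'
    obtain ⟨i, rfl⟩ := φ.u.surjective i'
    rcases hS.cover i with h | h
    · exact Or.inl ⟨i, h, rfl⟩
    · exact Or.inr ⟨_, h, φ.u_neg i⟩
  · intro k' n hn hk'
    obtain ⟨k, rfl⟩ := φ.u.surjective k'
    have h1 := φ.f_mem_natSpan S hk'
    rw [map_nsmul, φ.hroot, natCast_zsmul, ← mul_nsmul'] at h1
    exact ⟨k, hS.sat _ (Nat.mul_pos hn (φ.hq k)) h1, rfl⟩

/-- the dual p-morphism -/
def flip : PMor P'.flip P.flip where
  f := φ.g
  g := φ.f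
  hfg := fun n m' => (φ.hfg m' n).symm
  u := φ.u.symm
  q := φ.q ∘ φ.u.symm
  hq := fun i => φ.hq _
  hroot := fun i' => by
    have := φ.hcoroot (φ.u.symm i')
    rw [Equiv.apply_symm_apply] at this
    simpa using this
  hcoroot := fun i' => by
    have := φ.hroot (φ.u.symm i')
    rw [Equiv.apply_symm_apply] at this
    simpa using this

/-- positive systems are reflected -/
theorem isPosSys_of_image [Finite ι] [Finite ι'] [P'.IsReduced] {S : Set ι}
    (hS : IsPosSys P' (φ.u '' S)) : IsPosSys P S := by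
  have : Module.IsReflexive ℤ N' := .of_isPerfPair P'.flip.toLinearMap
  have : Module.IsReflexive ℤ M' := .of_isPerfPair P'.toLinearMap
  have h1 : IsPosSys P'.flip (φ.u '' S) := isPosSys_flip hS
  have h2 := φ.flip.isPosSys_image h1
  have h3 : φ.flip.u '' (φ.u '' S) = S := by
    change φ.u.symm '' (φ.u '' S) = S
    rw [Equiv.symm_image_image]
  rw [h3] at h2
  exact isPosSys_flip (P := P.flip) h2

lemma f_eq_zero_of_mem_rootSpan [Fintype ι'] {x : M'} (hx : x ∈ P'.rootSpan ℤ) (h0 : φ.f x = 0) :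
    x = 0 := by
  have hpair : ∀ i' : ι', P'.toLinearMap x (P'.coroot i') = 0 := by
    intro i'
    obtain ⟨i, rfl⟩ := φ.u.surjective i'
    have h1 := φ.hfg x (P.coroot i)
    rw [h0, map_zero, LinearMap.zero_apply, φ.hcoroot, map_smul, smul_eq_mul] at h1
    have := φ.hq i
    rcases mul_eq_zero.mp h1.symm with h | h
    · omega
    · exact h
  have hform : P'.RootForm x x = 0 := by
    rw [RootPairing.rootForm_apply_apply]
    exact Finset.sum_eq_zero (fun i _ => by simp [hpair i])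
  exact P'.eq_zero_of_mem_rootSpan_of_rootForm_self_eq_zero hx hform

lemma natSpan_le_rootSpan (P : RootPairing ι ℤ M N) (S : Set ι) {x : M} (hx : x ∈ natSpan P S) :
    x ∈ P.rootSpan ℤ := by
  induction hx using AddSubmonoid.closure_induction with
  | mem x hx =>
    obtain ⟨i, -, rfl⟩ := hx
    exact Submodule.subset_span ⟨i, rfl⟩
  | zero => exact zero_mem _
  | add x y _ _ hx hy => exact add_mem hx hy

lemma exists_lift (Δ : Set ι) {x : M} (hx : x ∈ natSpan P Δ) :
    ∃ n : ℕ, 0 < n ∧ ∃ y ∈ natSpan P' (φ.u '' Δ), φ.f y = n • x := by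
  induction hx using AddSubmonoid.closure_induction with
  | mem x hx =>
    obtain ⟨i, hi, rfl⟩ := hx
    refine ⟨φ.q i, φ.hq i, P'.root (φ.u i), root_mem_natSpan P' ⟨i, hi, rfl⟩, ?_⟩
    rw [φ.hroot, natCast_zsmul]
  | zero => exact ⟨1, one_pos, 0, zero_mem _, by simp⟩
  | add x y _ _ hx hy =>
    obtain ⟨n, hn, a, ha, hfa⟩ := hx
    obtain ⟨m, hm, b, hb, hfb⟩ := hy
    refine ⟨n * m, Nat.mul_pos hn hm, m • a + n • b, add_mem (nsmul_mem ha _) (nsmul_mem hb _), ?_⟩
    rw [map_add, map_nsmul, map_nsmul, hfa, hfb, smul_add, ← mul_nsmul', ← mul_nsmul',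
      mul_comm m n]

/-- simple systems are carried to simple systems -/
theorem isSimpleSys_image [Finite ι] [Finite ι'] [P'.IsReduced] {Δ : Set ι}
    (hΔ : IsSimpleSys P Δ) : IsSimpleSys P' (φ.u '' Δ) := by
  classical
  have := Fintype.ofFinite ι'
  have htf := torsionFree (P := P)
  have htf' := torsionFree (P := P')
  apply isSimpleSys_of_indiv_linIndep_cone
  · intro i' _ j h
    have : (2 : ℕ) • P'.root j ∉ Set.range P'.root := RootPairing.nsmul_notMem_range_root P'
    apply this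
    refine ⟨i', ?_⟩
    rw [← h, ofNat_zsmul]
  · -- linear independence
    have h1 : LinearIndepOn ℤ (fun i => (φ.q i : ℤ) • P.root i) Δ :=
      linearIndependent_smul_of_ne_zero (v := fun i : Δ => P.root i) hΔ.linInd
        (fun i => (φ.q i : ℤ)) (fun i => by have := φ.hq i; omega)
    have h2 : LinearIndepOn ℤ (φ.f ∘ (P'.root ∘ φ.u)) Δ := by
      convert h1 using 1
      ext i
      exact φ.hroot i
    exact (LinearIndepOn.of_comp φ.f h2).image_of_comp φ.u P'.root
  · intro k'
    obtain ⟨k, rfl⟩ := φ.u.surjective k'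
    have hqk := φ.hq k
    rcases hΔ.mem_or_neg_mem k with h | h
    · obtain ⟨n, hn, y, hy, hfy⟩ := φ.exists_lift Δ h
      refine ⟨n, hn, Or.inl ?_⟩
      have hsub : φ.q k • y - n • P'.root (φ.u k) = 0 := by
        apply φ.f_eq_zero_of_mem_rootSpan
        · exact sub_mem (Submodule.smul_of_tower_mem _ _ (natSpan_le_rootSpan P' _ hy))
            (Submodule.smul_of_tower_mem _ _ (Submodule.subset_span ⟨_, rfl⟩))
        · rw [map_sub, map_nsmul, map_nsmul, hfy, φ.hroot, natCast_zsmul, smul_comm, sub_self]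
      rw [← sub_eq_zero.mp hsub]
      exact nsmul_mem hy _
    · obtain ⟨n, hn, y, hy, hfy⟩ := φ.exists_lift Δ h
      refine ⟨n, hn, Or.inr ?_⟩
      have hsub : φ.q k • y - n • (-P'.root (φ.u k)) = 0 := by
        apply φ.f_eq_zero_of_mem_rootSpan
        · exact sub_mem (Submodule.smul_of_tower_mem _ _ (natSpan_le_rootSpan P' _ hy))
            (Submodule.smul_of_tower_mem _ _ (neg_mem (Submodule.subset_span ⟨_, rfl⟩)))
        · rw [map_sub, map_nsmul, map_nsmul, hfy, map_neg, φ.hroot, natCast_zsmul, smul_neg,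
            smul_neg, smul_neg, smul_comm, sub_self]
      rw [← sub_eq_zero.mp hsub]
      exact nsmul_mem hy _

/-- simple systems are reflected -/
theorem isSimpleSys_of_image [Finite ι] [Finite ι'] [P.IsReduced] [P'.IsReduced] {Δ : Set ι}
    (hΔ : IsSimpleSys P' (φ.u '' Δ)) : IsSimpleSys P Δ := by
  have hS' : IsPosSys P' (posOf P' (φ.u '' Δ)) := posOf_isPosSys hΔ
  set S : Set ι := φ.u ⁻¹' (posOf P' (φ.u '' Δ)) with hSdef
  have himg : φ.u '' S = posOf P' (φ.u '' Δ) := by
    rw [hSdef, Equiv.image_preimage]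
  have hS : IsPosSys P S := φ.isPosSys_of_image (himg ▸ hS')
  obtain ⟨Δ₀, ⟨hΔ₀, hpos⟩, -⟩ := existsUnique_simpleSys hS
  have hΔ₀' : IsSimpleSys P' (φ.u '' Δ₀) := φ.isSimpleSys_image hΔ₀
  have hsub : φ.u '' Δ₀ ⊆ φ.u '' S := Set.image_mono hpos
  obtain ⟨Δ₁, -, huniq⟩ := existsUnique_simpleSys hS'
  have e1 := huniq (φ.u '' Δ) ⟨hΔ, subset_posOf _⟩
  have e2 := huniq (φ.u '' Δ₀) ⟨hΔ₀', himg ▸ hsub⟩
  have : Δ = Δ₀ := by
    have := e1.trans e2.symm
    exact (Set.image_eq_image φ.u.injective).mp this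
  rw [this]
  exact hΔ₀

end PMor

end Groth.Agent.RootDL
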