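import Mathlib
import Groth.Agent.Lib.lead.RootDM
import Groth.Agent.Lib.lead.RootDD

/-!
Words in a subset `J` of a simple system, minimal among `J`-words; dominance inequality
`x - w x ∈ natSpan Δ` for `w ∈ W_J` and `x` dominant along `J`.
-/

namespace Groth.Agent.RootDL

open RootD RootPairing
open Groth.Agent.Lib.Helper4.RD
open Groth.Agent.S2953 (pr pr_nil pr_cons pr_append refl_mul_self pr_inv conj_pr)

variable {ι M N : Type*} [AddCommGroup M] [AddCommGroup N] {P : RootPairing ι ℤ M N}

/-- deletion, with the shorter word a sublist -/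
theorem exists_shorter_sublist [Finite ι] {Δ : Set ι} (hΔ : IsSimpleSys P Δ) (L' : List ι)
    (hL' : ∀ i ∈ L', i ∈ Δ) {r : ι} (hr : r ∈ Δ) (hneg : pr P L' • r ∉ posOf P Δ) :
    ∃ L'' : List ι, L''.Sublist L' ∧ L''.length + 2 = (L' ++ [r]).length ∧
      pr P (L' ++ [r]) = pr P L'' := by
  obtain ⟨L1, i, L2, hsplit, hi⟩ := exists_split hΔ L' hL' r (subset_posOf Δ hr)
    (Groth.Agent.S5448.result P Δ hΔ r hr) hneg
  have hw : pr P (L' ++ [r]) = pr P L' * Equiv.reflection P r := by
    rw [pr_append, pr_cons, pr_nil, mul_one]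
  have hconj : Equiv.reflection P i = pr P L2 * Equiv.reflection P r * (pr P L2)⁻¹ := by
    rw [← hi, conj_pr]
  refine ⟨L1 ++ L2, ?_, ?_, ?_⟩
  · rw [hsplit]
    exact List.Sublist.append (List.Sublist.refl _) (List.sublist_cons_self _ _)
  · rw [hsplit]
    simp only [List.length_append, List.length_cons, List.length_nil]
    omega
  · rw [hw, hsplit, pr_append, pr_cons, pr_append, hconj]
    have := refl_mul_self P r
    calc pr P L1 * (pr P L2 * Equiv.reflection P r * (pr P L2)⁻¹ * pr P L2) *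
          Equiv.reflection P r
        = pr P L1 * (pr P L2 * (Equiv.reflection P r * Equiv.reflection P r)) := by
          simp only [mul_assoc, inv_mul_cancel_left]
      _ = pr P L1 * pr P L2 := by rw [this, mul_one]

/-- `L` is a `J`-word, of minimal length among the `J`-words with the same product -/
def JMin (P : RootPairing ι ℤ M N) (J : Set ι) (L : List ι) : Prop :=
  (∀ a ∈ L, a ∈ J) ∧ ∀ L' : List ι, (∀ a ∈ L', a ∈ J) → pr P L' = pr P L → L.length ≤ L'.length

lemma JMin.prefix {J : Set ι} {L' : List ι} {r : ι} (h : JMin P J (L' ++ [r])) : JMin P J L' := by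
  refine ⟨fun a ha => h.1 a (List.mem_append_left _ ha), fun L'' hL'' hpr => ?_⟩
  have := h.2 (L'' ++ [r]) (fun a ha => by
    rcases List.mem_append.mp ha with ha | ha
    · exact hL'' a ha
    · exact h.1 a (List.mem_append_right _ ha)) (by rw [pr_append, pr_append, hpr])
  simp only [List.length_append, List.length_cons, List.length_nil] at this
  omega

lemma JMin.last_pos [Finite ι] {Δ : Set ι} (hΔ : IsSimpleSys P Δ) {J : Set ι} (hJ : J ⊆ Δ)
    {L' : List ι} {r : ι} (h : JMin P J (L' ++ [r])) : pr P L' • r ∈ posOf P Δ := by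
  by_contra hneg
  have hL' : ∀ a ∈ L', a ∈ J := fun a ha => h.1 a (List.mem_append_left _ ha)
  have hr : r ∈ J := h.1 r (List.mem_append_right _ (List.mem_singleton.mpr rfl))
  obtain ⟨L'', hsub, hlen, hpr⟩ :=
    exists_shorter_sublist hΔ L' (fun a ha => hJ (hL' a ha)) (hJ hr) hneg
  have := h.2 L'' (fun a ha => hL' a (hsub.subset ha)) hpr.symm
  omega

lemma exists_JMin (J : Set ι) {L : List ι} (hL : ∀ a ∈ L, a ∈ J) :
    ∃ L₀ : List ι, JMin P J L₀ ∧ pr P L₀ = pr P L := by
  classical
  let p : ℕ → Prop := fun n => ∃ L' : List ι, (∀ a ∈ L', a ∈ J) ∧ pr P L' = pr P L ∧ L'.length = n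
  have hp : ∃ n, p n := ⟨L.length, L, hL, rfl, rfl⟩
  obtain ⟨L₀, hL₀, hpr, hlen⟩ := Nat.find_spec hp
  refine ⟨L₀, ⟨hL₀, fun L' hL' hpr' => ?_⟩, hpr⟩
  rw [hlen]
  exact Nat.find_min' hp ⟨L', hL', hpr'.trans hpr, rfl⟩

/-- dominance: for `x` with non-negative pairings against the coroots of `J` and a `J`-minimal word
`L`, `x - w x` is a non-negative combination of simple roots, non-zero if a letter of `L` pairs
positively with `x`. -/
theorem JMin.sub_smul_mem [Finite ι] {Δ : Set ι} (hΔ : IsSimpleSys P Δ) {J : Set ι} (hJ : J ⊆ Δ)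
    {x : M} (hx : ∀ r ∈ J, 0 ≤ P.coroot' r x) :
    ∀ {L : List ι}, JMin P J L → (x - pr P L • x ∈ natSpan P Δ ∧
      ((∃ r ∈ L, 0 < P.coroot' r x) → x - pr P L • x ≠ 0)) := by
  intro L
  induction L using List.reverseRecOn with
  | nil =>
    intro _
    refine ⟨by rw [pr_nil, one_smul, sub_self]; exact zero_mem _, ?_⟩
    rintro ⟨r, hr, -⟩
    simp at hr
  | append_singleton L' r ih =>
    intro h
    obtain ⟨ih1, ih2⟩ := ih h.prefix
    have hr : r ∈ J := h.1 r (List.mem_append_right _ (List.mem_singleton.mpr rfl))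
    have hpos := h.last_pos hΔ hJ
    have hdecomp : x - pr P (L' ++ [r]) • x =
        (x - pr P L' • x) + (P.coroot' r x) • P.root (pr P L' • r) := by
      rw [pr_append, pr_cons, pr_nil, mul_one, mul_smul, Equiv.reflection_smul,
        P.reflection_apply, smul_sub, root_smul, smul_comm (pr P L') (P.coroot' r x)]
      abel
    have h2 : (P.coroot' r x) • P.root (pr P L' • r) ∈ natSpan P Δ := by
      have h0 := hx r hr
      obtain ⟨n, hn⟩ := Int.eq_ofNat_of_zero_le h0
      rw [hn, natCast_zsmul]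
      exact nsmul_mem hpos _
    refine ⟨by rw [hdecomp]; exact add_mem ih1 h2, ?_⟩
    rintro ⟨r', hr', hr'pos⟩ h0
    rw [hdecomp] at h0
    have hpt := pointed_of_linIndep hΔ.linInd
    have e1 := hpt ih1 h2 h0
    have e2 : (P.coroot' r x) • P.root (pr P L' • r) = 0 := by rwa [e1, zero_add] at h0
    rcases List.mem_append.mp hr' with hr' | hr'
    · exact ih2 ⟨r', hr', hr'pos⟩ e1
    · rw [List.mem_singleton] at hr'
      subst hr'
      exact smul_root_ne_zero P hr'pos.ne' _ e2

/-- words representing elements of a subgroup generated by reflections -/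
lemma exists_word_of_mem_closure (J : Set ι) {g : P.Aut}
    (hg : g ∈ Subgroup.closure ((fun a => Equiv.reflection P a) '' J)) :
    ∃ L : List ι, (∀ a ∈ L, a ∈ J) ∧ pr P L = g := by
  induction hg using Subgroup.closure_induction with
  | mem x hx =>
    obtain ⟨a, ha, rfl⟩ := hx
    exact ⟨[a], by simpa using ha, by simp [pr]⟩
  | one => exact ⟨[], by simp, pr_nil P⟩
  | mul x y _ _ hx hy =>
    obtain ⟨L1, h1, rfl⟩ := hx
    obtain ⟨L2, h2, rfl⟩ := hy
    refine ⟨L1 ++ L2, ?_, pr_append P L1 L2⟩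
    intro a ha
    rcases List.mem_append.mp ha with ha | ha
    · exact h1 a ha
    · exact h2 a ha
  | inv x _ hx =>
    obtain ⟨L, h, rfl⟩ := hx
    exact ⟨L.reverse, fun a ha => h a (List.mem_reverse.mp ha), (pr_inv P L).symm⟩

end Groth.Agent.RootDL
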