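import Mathlib

/-! Semisimple part lies in the Zariski closure of the conjugacy class. -/

namespace Groth.Agent.SemisimpleClosure
open Matrix MvPolynomial

variable {k : Type*} [Field k] {ι : Type*} [Fintype ι] [DecidableEq ι]

lemma eval_line [Infinite k] (F : MvPolynomial (ι × ι) k) (M0 M1 : Matrix ι ι k)
    (h : ∀ u : k, u ≠ 0 → eval (fun p => (M0 + u • M1) p.1 p.2) F = 0) :
    eval (fun p => M0 p.1 p.2) F = 0 := by
  let f : ι × ι → Polynomial k := fun p =>
    Polynomial.C (M0 p.1 p.2) + Polynomial.X * Polynomial.C (M1 p.1 p.2)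
  let g : Polynomial k := MvPolynomial.aeval f F
  have hg : ∀ u : k, Polynomial.eval u g = eval (fun p => (M0 + u • M1) p.1 p.2) F := by
    intro u
    have : (Polynomial.evalRingHom u).comp (MvPolynomial.aeval f).toRingHom =
        (MvPolynomial.eval (fun p => (M0 + u • M1) p.1 p.2)) := by
      apply MvPolynomial.ringHom_ext
      · intro c; simp
      · intro p; simp [f]; ring
    exact DFunLike.congr_fun this F
  have hg0 : g = 0 := by
    apply Polynomial.eq_zero_of_infinite_isRoot
    apply Set.Infinite.mono (s := {u | u ≠ 0})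
    · intro u hu
      show Polynomial.IsRoot g u
      rw [Polynomial.IsRoot.def]
      rw [hg u, h u hu]
    · exact (Set.finite_singleton (0 : k)).infinite_compl
  have h0 := hg 0
  rw [hg0] at h0
  simpa using h0.symm

lemma exists_proj (S N : Matrix ι ι k) (hS : Module.End.IsSemisimple (toLin' S)) (hSN : Commute S N) :
    ∃ P : Matrix ι ι k, P * P = P ∧ Commute S P ∧ N * P = 0 ∧
      ∀ X : Matrix ι ι k, N * X = 0 → P * X = X := by
  set K := LinearMap.ker (toLin' N) with hKdef
  have hK : K ∈ Module.End.invtSubmodule (toLin' S) := by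
    rw [Module.End.mem_invtSubmodule]
    intro x hx
    rw [Submodule.mem_comap, hKdef, LinearMap.mem_ker] at *
    have : toLin' N (toLin' S x) = toLin' S (toLin' N x) := by
      rw [← LinearMap.comp_apply, ← Matrix.toLin'_mul, ← hSN.eq, Matrix.toLin'_mul,
        LinearMap.comp_apply]
    rw [this, hx, map_zero]
  obtain ⟨q, hq, hc⟩ := (Module.End.isSemisimple_iff).mp hS K hK
  set π := K.projection q hc with hπ
  have hidem : IsIdempotentElem π := Submodule.isIdempotentElem_projection hc
  refine ⟨LinearMap.toMatrix' π, ?_, ?_, ?_, ?_⟩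
  · apply Matrix.toLin'.injective
    rw [Matrix.toLin'_mul, Matrix.toLin'_toMatrix', ← Module.End.mul_eq_comp]
    exact hidem.eq
  · have hcomm : Commute π (toLin' S) := by
      rw [LinearMap.IsIdempotentElem.commute_iff hidem, Submodule.range_projection, Submodule.ker_projection]
      exact ⟨hK, hq⟩
    apply Matrix.toLin'.injective
    rw [Matrix.toLin'_mul, Matrix.toLin'_mul, Matrix.toLin'_toMatrix']
    exact hcomm.eq.symm
  · apply Matrix.toLin'.injective
    rw [Matrix.toLin'_mul, Matrix.toLin'_toMatrix', map_zero]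
    apply LinearMap.ext
    intro x
    have : π x ∈ K := Submodule.projection_apply_mem hc x
    rw [LinearMap.comp_apply, LinearMap.zero_apply]
    exact this
  · intro X hX
    apply Matrix.toLin'.injective
    rw [Matrix.toLin'_mul, Matrix.toLin'_toMatrix']
    apply LinearMap.ext
    intro x
    rw [LinearMap.comp_apply]
    apply Submodule.projection_apply_of_mem_left hc
    rw [hKdef, LinearMap.mem_ker, ← LinearMap.comp_apply, ← Matrix.toLin'_mul, hX, map_zero,
      LinearMap.zero_apply]

section alg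
variable {R : Type*} [Ring R] [Algebra k R]

lemma E_mul_E' (P : R) (hP : P * P = P) (u : k) (hu : u ≠ 0) :
    (P + u⁻¹ • (1 - P)) * (P + u • (1 - P)) = 1 := by
  have h1 : P * (1 - P) = 0 := by rw [mul_sub, mul_one, hP, sub_self]
  have h2 : (1 - P) * P = 0 := by rw [sub_mul, one_mul, hP, sub_self]
  have h3 : (1 - P) * (1 - P) = 1 - P := by rw [mul_sub, mul_one, h2, sub_zero]
  rw [add_mul, mul_add, mul_add, hP, mul_smul_comm, h1, smul_zero, smul_mul_assoc, h2, smul_zero,
    smul_mul_assoc, mul_smul_comm, h3, smul_smul, inv_mul_cancel₀ hu, one_smul]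
  abel

lemma E_conj (P S N : R) (hP : P * P = P) (hSP : Commute S P) (hNP : N * P = 0) (u : k)
    (hu : u ≠ 0) :
    (P + u⁻¹ • (1 - P)) * (S + N) * (P + u • (1 - P)) = S + (1 - P) * N + u • (P * N) := by
  have hSE : (P + u⁻¹ • (1 - P)) * S = S * (P + u⁻¹ • (1 - P)) := by
    have : Commute S (P + u⁻¹ • (1 - P)) :=
      hSP.add_right (((Commute.one_right S).sub_right hSP).smul_right _)
    exact this.eq.symm
  have hNE' : N * (P + u • (1 - P)) = u • N := by
    rw [mul_add, hNP, zero_add, mul_smul_comm, mul_sub, mul_one, hNP, sub_zero]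
  calc (P + u⁻¹ • (1 - P)) * (S + N) * (P + u • (1 - P))
      = (P + u⁻¹ • (1 - P)) * S * (P + u • (1 - P)) +
          (P + u⁻¹ • (1 - P)) * (N * (P + u • (1 - P))) := by
        rw [mul_add (P + u⁻¹ • (1 - P)) S N, add_mul, mul_assoc _ N]
    _ = S + (P + u⁻¹ • (1 - P)) * (u • N) := by
        rw [hSE, mul_assoc, E_mul_E' P hP u hu, mul_one, hNE']
    _ = _ := by
        rw [mul_smul_comm, add_mul, smul_add, smul_mul_assoc, smul_smul, mul_inv_cancel₀ hu,
          one_smul]
        abel

end alg

theorem main [Infinite k] (S : Matrix ι ι k) (hS : Module.End.IsSemisimple (toLin' S))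
    (F : MvPolynomial (ι × ι) k) :
    ∀ m : ℕ, ∀ N : Matrix ι ι k, N ^ (m + 1) = 0 → Commute S N →
      (∀ A : Matrix ι ι k, IsUnit A.det →
        eval (fun p => (A * (S + N) * A⁻¹) p.1 p.2) F = 0) →
      eval (fun p => S p.1 p.2) F = 0 := by
  intro m
  induction m with
  | zero =>
    intro N hN _ h
    have hN0 : N = 0 := by simpa using hN
    have := h 1 (by simp)
    simpa [hN0] using this
  | succ m ih =>
    intro N hN hSN h
    obtain ⟨P, hPP, hSP, hNP, hPX⟩ := exists_proj S N hS hSN
    have hN1pow : ∀ j : ℕ, ((1 - P) * N) ^ (j + 1) = (1 - P) * N ^ (j + 1) := by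
      intro j
      induction j with
      | zero => simp
      | succ j ihj =>
        have h0 : N ^ (j + 1) * P = 0 := by rw [pow_succ, mul_assoc, hNP, mul_zero]
        rw [pow_succ, ihj, pow_succ N (j + 1), mul_assoc (1 - P) (N ^ (j + 1)), ← mul_assoc (N ^ (j+1)),
          mul_sub, mul_one, h0, sub_zero]
    apply ih ((1 - P) * N)
    · rw [hN1pow, sub_mul, one_mul, hPX (N ^ (m + 1)) (by rw [← pow_succ', hN]), sub_self]
    · exact ((Commute.one_right S).sub_right hSP).mul_right hSN
    · intro A hA
      apply eval_line F (A * (S + (1 - P) * N) * A⁻¹) (A * (P * N) * A⁻¹)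
      intro u hu
      have hEE' := E_mul_E' (k := k) P hPP u hu
      have hconj := E_conj (k := k) P S N hPP hSP hNP u hu
      have hdetE : IsUnit (P + u⁻¹ • (1 - P)).det :=
        Matrix.isUnit_det_of_right_inverse hEE'
      have hAE : IsUnit (A * (P + u⁻¹ • (1 - P))).det := by
        rw [Matrix.det_mul]; exact hA.mul hdetE
      have key := h _ hAE
      have hinv : (A * (P + u⁻¹ • (1 - P)))⁻¹ = (P + u • (1 - P)) * A⁻¹ := by
        rw [Matrix.mul_inv_rev, Matrix.inv_eq_right_inv hEE']
      have hmat : A * (S + (1 - P) * N) * A⁻¹ + u • (A * (P * N) * A⁻¹) =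
          A * (P + u⁻¹ • (1 - P)) * (S + N) * (A * (P + u⁻¹ • (1 - P)))⁻¹ := by
        rw [hinv]
        have : A * (P + u⁻¹ • (1 - P)) * (S + N) * ((P + u • (1 - P)) * A⁻¹) =
            A * ((P + u⁻¹ • (1 - P)) * (S + N) * (P + u • (1 - P))) * A⁻¹ := by
          simp only [mul_assoc]
        rw [this, hconj, mul_add A (S + (1 - P) * N) (u • (P * N)), add_mul, mul_smul_comm,
          smul_mul_assoc]
      rw [hmat]
      exact key

end Groth.Agent.SemisimpleClosure
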