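import Mathlib
import Groth.Prelude.Def_CAlg
import Groth.Agent.Lib.Helper21.DepthKit12

namespace Groth.Agent.Lib.lead.SkQuot

universe u
open IsLocalRing RingTheory.Sequence Pointwise
open Groth.Agent.Lib.Helper21.DepthKit

theorem sk_quot (A B : Type u) [CommRing A] [CommRing B] [IsLocalRing A] [IsNoetherianRing A]
    [IsLocalRing B] (φ : A →+* B) (hφ : Function.Surjective φ) (t : A)
    (ht : t ∈ nonZeroDivisors A) (hker : RingHom.ker φ = Ideal.span {t}) (k : ℕ)
    (hA : min (k : WithBot ℕ∞) (ringKrullDim A) ≤ ((LocCoh.depth A A : ℕ∞) : WithBot ℕ∞)) :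
    min ((k - 1 : ℕ) : WithBot ℕ∞) (ringKrullDim B) ≤ ((LocCoh.depth B B : ℕ∞) : WithBot ℕ∞) := by
  have htm : t ∈ maximalIdeal A := by
    rw [mem_maximalIdeal, mem_nonunits_iff]
    intro hu
    have : RingHom.ker φ = ⊤ := by
      rw [hker]; exact Ideal.span_singleton_eq_top.2 hu
    exact (RingHom.ker_ne_top φ) this
  have hreg : IsSMulRegular A t := by
    intro a b hab
    simp only [smul_eq_mul] at hab
    have : (a - b) * t = 0 := by rw [mul_comm, mul_sub, hab, sub_self]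
    exact sub_eq_zero.1 ((mem_nonZeroDivisors_iff.1 ht).2 (a - b) this)
  -- depth
  have hd1 := depth_quotSMulTop (A := A) (M := A) t htm hreg
  letI : Module A B := Module.compHom B φ
  have hsm : ∀ (a x : A), φ (a • x) = (RingHom.id A) a • φ x := fun a x => by
    change φ (a * x) = φ a * φ x
    exact map_mul φ a x
  let ψ : A →ₗ[A] B := { toFun := φ, map_add' := map_add φ, map_smul' := hsm }
  have hψs : Function.Surjective ψ := hφ
  have hker' : (t • (⊤ : Submodule A A)) = LinearMap.ker ψ := by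
    ext x
    rw [LinearMap.mem_ker]
    change _ ↔ φ x = 0
    rw [← RingHom.mem_ker, hker, Ideal.mem_span_singleton', Submodule.mem_smul_pointwise_iff_exists]
    constructor
    · rintro ⟨b, -, rfl⟩; exact ⟨b, by rw [smul_eq_mul, mul_comm]⟩
    · rintro ⟨b, rfl⟩; exact ⟨b, trivial, by rw [smul_eq_mul, mul_comm]⟩
  let e : QuotSMulTop t A ≃ₗ[A] B :=
    (Submodule.quotEquivOfEq _ _ hker').trans (ψ.quotKerEquivOfSurjective hψs)
  have hd2 : LocCoh.depth A (QuotSMulTop t A) = LocCoh.depth B B :=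
    depth_eq_of_semilinear φ hφ e.toAddEquiv (fun a x => by
      change e (a • x) = φ a • e x
      rw [map_smul]; rfl)
  -- dimension
  have hdim : ringKrullDim B + 1 ≤ ringKrullDim A := by
    have h1 := ringKrullDim_quotient_succ_le_of_nonZeroDivisor ht
    have e2 : (A ⧸ Ideal.span {t}) ≃+* B :=
      (Ideal.quotEquivOfEq hker.symm).trans (RingHom.quotientKerEquivOfSurjective hφ)
    rw [← ringKrullDim_eq_of_ringEquiv e2]
    exact h1
  -- arithmetic
  haveI : IsNoetherianRing B := isNoetherianRing_of_surjective A B φ hφ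
  obtain ⟨n, hn⟩ := exists_nat_depth (A := B) (M := B)
  obtain ⟨m, hm⟩ := exists_nat_depth (A := A) (M := A)
  rw [hd2, hn, hm] at hd1
  have hnm : n + 1 = m := by exact_mod_cast hd1
  rw [hm] at hA
  rw [hn]
  -- goal: min (k-1) dim B ≤ n ; hA : min k dim A ≤ m
  have hkk : ((k : ℕ) : WithBot ℕ∞) = (((k : ℕ) : ℕ∞) : WithBot ℕ∞) := rfl
  have hkk1 : ((k - 1 : ℕ) : WithBot ℕ∞) = (((k - 1 : ℕ) : ℕ∞) : WithBot ℕ∞) := rfl
  rw [hkk] at hA
  rw [hkk1]
  rcases le_total (((k : ℕ) : ℕ∞) : WithBot ℕ∞) (ringKrullDim A) with h | h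
  · rw [min_eq_left h] at hA
    have hkm : k ≤ m := by exact_mod_cast (WithBot.coe_le_coe.1 hA)
    refine (min_le_left _ _).trans ?_
    have : k - 1 ≤ n := by omega
    exact WithBot.coe_le_coe.2 (by exact_mod_cast this)
  · rw [min_eq_right h] at hA
    refine (min_le_right _ _).trans ?_
    have h2 : ringKrullDim B + 1 ≤ (((n + 1 : ℕ) : ℕ∞) : WithBot ℕ∞) := by
      refine hdim.trans (hA.trans ?_)
      rw [← hnm]
    rcases hB : ringKrullDim B with _ | b
    · exact bot_le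
    · rw [hB] at h2
      have h3 : ((b + 1 : ℕ∞) : WithBot ℕ∞) ≤ (((n + 1 : ℕ) : ℕ∞) : WithBot ℕ∞) := h2
      have h4 : b + 1 ≤ ((n + 1 : ℕ) : ℕ∞) := WithBot.coe_le_coe.1 h3
      have h5 : b ≤ (n : ℕ∞) := by
        have : b + 1 ≤ (n : ℕ∞) + 1 := by exact_mod_cast h4
        exact (ENat.add_le_add_iff_right (by simp)).1 this
      exact WithBot.coe_le_coe.2 h5

end Groth.Agent.Lib.lead.SkQuot
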