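import Mathlib
import Groth.Agent.Lib.lead.FibreStalkAlg
import Groth.Agent.S1562
import Groth.Agent.S7606
import Groth.Agent.S2155
import Groth.Agent.S2793
import Groth.Agent.Lib.Helper12.QExcA
import Groth.Agent.Lib.Helper22.GeomRed2
import Groth.Agent.Lib.Helper25.FibCritPt
import Groth.Prelude.Def_FDesc

set_option autoImplicit false
set_option linter.style.haveILetI false
set_option linter.unusedSectionVars false
universe u
open CategoryTheory CategoryTheory.Limits AlgebraicGeometry TensorProduct Topology IsLocalRing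

namespace Groth.Agent.Lib.lead.SmoothFibreCrit

open Groth.Agent.Lib.lead.FibreStalkAlg

variable {X Y : Scheme.{u}}

open Groth.Agent.Lib.Helper21.FibreBC in
attribute [local instance] fibOver

attribute [local instance] Curv2.stalkAlgebra

/-- geometric regularity of the fibre ring at `x` is smoothness of the fibre at `x`. -/
theorem geomRegular_iff_mem_smoothLocus [IsLocallyNoetherian Y] (f : X ⟶ Y) [LocallyOfFiniteType f]
    (x : X) :
    letI φ := (f.stalkMap x).hom
    letI 𝔪 := IsLocalRing.maximalIdeal ↑(Y.presheaf.stalk (f.base x))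
    letI : Algebra (IsLocalRing.ResidueField ↑(Y.presheaf.stalk (f.base x)))
        (↑(X.presheaf.stalk x) ⧸ 𝔪.map φ) :=
      (Ideal.quotientMap (𝔪.map φ) φ Ideal.le_comap_map).toAlgebra
    CAlg.IsGeometricallyRegular (IsLocalRing.ResidueField ↑(Y.presheaf.stalk (f.base x)))
        (↑(X.presheaf.stalk x) ⧸ 𝔪.map φ) ↔
      f.asFiber x ∈ (f.fiberToSpecResidueField (f x)).smoothLocus := by
  rw [geomRegular_iff f x]
  haveI : LocallyOfFiniteType (f.fiberToSpecResidueField (f x)) :=
    MorphismProperty.pullback_snd _ _ inferInstance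
  haveI : IsLocallyNoetherian (f.fiber (f x)) :=
    LocallyOfFiniteType.isLocallyNoetherian (f.fiberToSpecResidueField (f x))
  haveI : LocallyOfFinitePresentation (f.fiberToSpecResidueField (f x)) := inferInstance
  haveI : LocallyOfFinitePresentation
      (f.fiber (f x) ↘ Spec (CommRingCat.of ↑(Y.residueField (f x)))) :=
    (inferInstance : LocallyOfFinitePresentation (f.fiberToSpecResidueField (f x)))
  have h1 := Groth.Agent.S7606.result (Y.residueField (f x)) (f.fiber (f x)) (f.asFiber x)
  have h2 := Groth.Agent.S1562.result (Y.residueField (f x)) (f.fiber (f x)) (f.asFiber x)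
  exact h1.2.symm.trans (h1.1.symm.trans h2)

/-- geometric regularity of the fibre ring implies geometric reducedness of the fibre at the
point. -/
theorem isGeomReducedAt_of_geomRegular (f : X ⟶ Y) (x : X) :
    letI φ := (f.stalkMap x).hom
    letI 𝔪 := IsLocalRing.maximalIdeal ↑(Y.presheaf.stalk (f.base x))
    letI : Algebra (IsLocalRing.ResidueField ↑(Y.presheaf.stalk (f.base x)))
        (↑(X.presheaf.stalk x) ⧸ 𝔪.map φ) :=
      (Ideal.quotientMap (𝔪.map φ) φ Ideal.le_comap_map).toAlgebra
    CAlg.IsGeometricallyRegular (IsLocalRing.ResidueField ↑(Y.presheaf.stalk (f.base x)))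
        (↑(X.presheaf.stalk x) ⧸ 𝔪.map φ) →
      FBase.IsGeomReducedAt (f.fiberToSpecResidueField (f.base x)) (f.asFiber x) := by
  rw [geomRegular_iff f x]
  intro h
  have h1 : Algebra.IsGeometricallyReduced (Y.residueField (f x))
      ((f.fiber (f x)).presheaf.stalk (f.asFiber x)) := by
    apply Groth.Agent.Lib.Helper22.GeomRed2.isGeometricallyReduced_of_forall_purelyInseparable
    intro k' _ _ hfin _
    haveI := h k' hfin
    exact Groth.Agent.Lib.Helper12.QExc.isReduced_of_isRegularRing _
  have h2 := (Groth.Agent.Lib.Helper5.StalkBC.isGeomReducedAt_iff (Y.residueField (f x))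
    (f.fiber (f x)) (f.asFiber x)).mpr h1
  exact h2

/-- **EGA IV 17.5.1**, pointwise: smooth near `x` iff flat at `x` and the fibre ring is
geometrically regular. -/
theorem smooth_nhd_iff [IsLocallyNoetherian Y] (f : X ⟶ Y) [LocallyOfFiniteType f] (x : X) :
    letI φ := (f.stalkMap x).hom
    letI 𝔪 := IsLocalRing.maximalIdeal ↑(Y.presheaf.stalk (f.base x))
    letI : Algebra (IsLocalRing.ResidueField ↑(Y.presheaf.stalk (f.base x)))
        (↑(X.presheaf.stalk x) ⧸ 𝔪.map φ) :=
      (Ideal.quotientMap (𝔪.map φ) φ Ideal.le_comap_map).toAlgebra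
    (∃ U : X.Opens, x ∈ U ∧ Smooth (U.ι ≫ f)) ↔
      (f.stalkMap x).hom.Flat ∧
        CAlg.IsGeometricallyRegular (IsLocalRing.ResidueField ↑(Y.presheaf.stalk (f.base x)))
          (↑(X.presheaf.stalk x) ⧸ 𝔪.map φ) := by
  rw [geomRegular_iff_mem_smoothLocus f x]
  haveI : LocallyOfFiniteType (f.fiberToSpecResidueField (f x)) :=
    MorphismProperty.pullback_snd _ _ inferInstance
  haveI : LocallyOfFinitePresentation (f.fiberToSpecResidueField (f x)) := inferInstance
  constructor
  · rintro ⟨U, hxU, hU⟩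
    refine ⟨?_, ?_⟩
    · have h1 : ((U.ι ≫ f).stalkMap ⟨x, hxU⟩).hom.Flat := Flat.stalkMap (U.ι ≫ f) _
      exact (Groth.Agent.Lib.Helper25.FibCritPt.flat_stalkMap_ι_comp_iff f U ⟨x, hxU⟩).mp h1
    · have hx : x ∈ f.smoothLocus := (Groth.Agent.S2793.nhd_smooth_iff f x).mp ⟨U, hxU, hU⟩
      have hpb : IsPullback (f.fiberι (f x)) (f.fiberToSpecResidueField (f x)) f
          (Y.fromSpecResidueField (f x)) := IsPullback.of_hasPullback _ _
      refine Groth.Agent.S2155.mem_smoothLocus_of_isPullback f _ _ _ hpb (f.asFiber x) ?_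
      rw [Scheme.Hom.fiberι_asFiber]
      exact hx
  · rintro ⟨hflat, hz⟩
    have hx : x ∈ f.smoothLocus :=
      Groth.Agent.S2155.mem_smoothLocus_of_flat_of_fiber' f x (f x) rfl (f.asFiber x)
        (f.fiberι_asFiber x) hflat hz
    exact (Groth.Agent.S2793.nhd_smooth_iff f x).mpr hx

end Groth.Agent.Lib.lead.SmoothFibreCrit
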