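import Mathlib
import Groth.Agent.Lib.lead.SmoothFibreCrit
import Groth.Agent.Lib.lead.ValFlatI
import Groth.Agent.Lib.lead.EquidimGU
import Groth.Agent.Lib.lead.EquidimBC
import Groth.Agent.Lib.lead.SmoothDimSp
import Groth.Agent.Lib.Helper24.FibreDim.Main3397

set_option autoImplicit false
set_option linter.style.haveILetI false
set_option linter.unusedSectionVars false
universe u
open CategoryTheory CategoryTheory.Limits AlgebraicGeometry TensorProduct Topology IsLocalRing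

namespace Groth.Agent.Lib.lead.SmoothEquidim

open Groth.Agent.Lib.lead.SmoothFibreCrit Groth.Agent.Lib.Helper24.FibreDim
  Groth.Agent.Lib.Helper18

variable {X Y : Scheme.{u}}

/-- a morphism smooth near `x` is equidimensional at `x`. -/
theorem isEquidimAt_of_smooth [IsLocallyNoetherian Y] (f : X ⟶ Y) [LocallyOfFiniteType f] (x : X)
    (U : X.Opens) (hxU : x ∈ U) [Smooth (U.ι ≫ f)] : EGA43.IsEquidimAt f x := by
  obtain ⟨W, n, hxW, hn⟩ :=
    Groth.Agent.Lib.lead.SmoothDimSp.exists_nat_fibreDimAt_const (U.ι ≫ f) (⟨x, hxU⟩ : U.toScheme)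
  let U₁ : X.Opens := U.ι ''ᵁ W
  have hxU₁ : x ∈ U₁ := ⟨⟨x, hxU⟩, hxW, rfl⟩
  have hU₁U : ∀ v ∈ U₁, v ∈ U := by
    rintro _ ⟨v, -, rfl⟩
    exact v.2
  have hdim : ∀ v ∈ U₁, FlatMor.fibreDimAt f v = (n : WithBot ℕ∞) := by
    rintro _ ⟨v, hv, rfl⟩
    have comm : (U.ι ≫ f) ≫ 𝟙 Y = U.ι ≫ f := Category.comp_id _
    haveI : LocallyOfFiniteType (U.ι ≫ f) := inferInstance
    have := Chev.fibreDimAt_eq_of_openImmersion_square (U.ι ≫ f) (𝟙 Y) U.ι f comm v
    exact this.trans (hn v hv)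
  haveI : IsLocallyNoetherian X := LocallyOfFiniteType.isLocallyNoetherian f
  obtain ⟨U'', hle, hxU'', hspec⟩ :=
    Groth.Agent.Lib.lead.EquidimBC.exists_open_maximal_specializes X U₁ x hxU₁
  refine isEquidimAt_of_points' f x n U'' hxU'' ?_ ?_
  · intro ξ hξ hmax
    have hξx := hspec ξ hξ hmax
    refine ⟨hξx.map f.continuous, ?_⟩
    intro η hη
    have hξU : ξ ∈ U := hU₁U ξ (hle hξ)
    haveI : Flat (U.ι ≫ f) := inferInstance
    have hgen : GeneralizingMap (U.ι ≫ f) := Flat.generalizingMap (U.ι ≫ f)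
    obtain ⟨ξ', hξ', hfξ'⟩ := hgen (a := (⟨ξ, hξU⟩ : U.toScheme)) (b := η) hη
    have h1 : U.ι ξ' ⤳ ξ := hξ'.map U.ι.continuous
    have h2 : U.ι ξ' = ξ := hmax _ h1
    rw [← hfξ', Scheme.Hom.comp_apply, h2]
  · intro ζ hζ hζmax
    have h1 := fibreDimAt_of_max f ζ hζmax
    have h2 := hdim ζ (hle hζ)
    rw [h1] at h2
    exact_mod_cast h2

theorem main (f : X ⟶ Y)
    [IsLocallyNoetherian Y] [LocallyOfFiniteType f] (x : ↥X)
    (hred : IsReduced ↑(Y.presheaf.stalk (f.base x)))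
    (hgu : CAlg2.IsGeomUnibranch ↑(Y.presheaf.stalk (f.base x))) :
    letI φ := (f.stalkMap x).hom
    letI 𝔪 := IsLocalRing.maximalIdeal ↑(Y.presheaf.stalk (f.base x))
    letI : Algebra (IsLocalRing.ResidueField ↑(Y.presheaf.stalk (f.base x))) (↑(X.presheaf.stalk x) ⧸ 𝔪.map φ) :=
      (Ideal.quotientMap (𝔪.map φ) φ Ideal.le_comap_map).toAlgebra
    (∃ U : X.Opens, x ∈ U ∧ Smooth (U.ι ≫ f)) ↔
      EGA43.IsEquidimAt f x ∧
        CAlg.IsGeometricallyRegular (IsLocalRing.ResidueField ↑(Y.presheaf.stalk (f.base x)))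
          (↑(X.presheaf.stalk x) ⧸ 𝔪.map φ) := by
  constructor
  · intro h
    have h2 := ((smooth_nhd_iff f x).mp h).2
    obtain ⟨U, hxU, hU⟩ := h
    exact ⟨isEquidimAt_of_smooth f x U hxU, h2⟩
  · rintro ⟨heq, hreg⟩
    refine (smooth_nhd_iff f x).mpr ⟨?_, hreg⟩
    have h3 := ((Groth.Agent.Lib.lead.EquidimGU.main f x hgu).out 0 2).mp heq
    exact Groth.Agent.Lib.lead.ValFlatI.main f x h3.2 (isGeomReducedAt_of_geomRegular f x hreg) hred

end Groth.Agent.Lib.lead.SmoothEquidim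

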