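import Mathlib
import Groth.Agent.Lib.lead.FibreDimComp

set_option autoImplicit false
set_option linter.style.haveILetI false
universe u
open CategoryTheory CategoryTheory.Limits AlgebraicGeometry Topology TopologicalSpace

namespace Groth.Agent.Lib.lead.SmoothFibreAdd

open Groth.Agent.Lib.lead

theorem S4992 {X Y Z : Scheme.{u}} (f : X ⟶ Y) (g : Y ⟶ Z) [Smooth f] [Smooth g]
    (x : ↥X) :
    FlatMor.fibreDimAt (f ≫ g) x = FlatMor.fibreDimAt f x + FlatMor.fibreDimAt g (f.base x) := by
  haveI : Flat f := inferInstance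
  exact (FibreDimComp.S9354 f g x).2 (Flat.stalkMap f x)

end Groth.Agent.Lib.lead.SmoothFibreAdd
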