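import Mathlib
import Groth.Agent.Lib.lead.SmoothFibreCrit
import Groth.Agent.Lib.lead.ValFlatI
import Groth.Agent.Lib.lead.UnibranchUnivOpenAt

set_option autoImplicit false
set_option linter.style.haveILetI false
set_option linter.unusedSectionVars false
universe u
open CategoryTheory CategoryTheory.Limits AlgebraicGeometry TensorProduct Topology IsLocalRing

namespace Groth.Agent.Lib.lead.SmoothUnivOpen

open Groth.Agent.Lib.lead.SmoothFibreCrit

variable {X Y : Scheme.{u}}

theorem main (f : X ⟶ Y)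
    [IsLocallyNoetherian Y] [LocallyOfFiniteType f] (x : ↥X)
    (hred : IsReduced ↑(Y.presheaf.stalk (f.base x))) :
    letI φ := (f.stalkMap x).hom
    letI 𝔪 := IsLocalRing.maximalIdeal ↑(Y.presheaf.stalk (f.base x))
    letI : Algebra (IsLocalRing.ResidueField ↑(Y.presheaf.stalk (f.base x))) (↑(X.presheaf.stalk x) ⧸ 𝔪.map φ) :=
      (Ideal.quotientMap (𝔪.map φ) φ Ideal.le_comap_map).toAlgebra
    (∃ U : X.Opens, x ∈ U ∧ Smooth (U.ι ≫ f)) ↔
      (∃ W : X.Opens, x ∈ W ∧ ∀ x' ∈ W, f.base x' = f.base x → EGA43.IsUnivOpenAt f x') ∧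
        CAlg.IsGeometricallyRegular (IsLocalRing.ResidueField ↑(Y.presheaf.stalk (f.base x)))
          (↑(X.presheaf.stalk x) ⧸ 𝔪.map φ) := by
  constructor
  · intro h
    have h2 := ((smooth_nhd_iff f x).mp h).2
    obtain ⟨U, hxU, hU⟩ := h
    refine ⟨⟨U, hxU, ?_⟩, h2⟩
    intro x' hx' _
    haveI : UniversallyOpen (U.ι ≫ f) := inferInstance
    have h3 := Groth.Agent.Lib.lead.UnibranchUnivOpenAt.isUnivOpenAt_of_universallyOpen
      (U.ι ≫ f) (⟨x', hx'⟩ : U.toScheme)
    exact Groth.Agent.Lib.Helper9.UnivOpen.isUnivOpenAt_right_of_comp U.ι f ⟨x', hx'⟩ h3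
  · rintro ⟨⟨W, hxW, hW⟩, hreg⟩
    refine (smooth_nhd_iff f x).mpr ⟨?_, hreg⟩
    refine Groth.Agent.Lib.lead.ValFlatI.main f x ?_ (isGeomReducedAt_of_geomRegular f x hreg) hred
    intro z hz _
    have h1 : (f.fiberι (f.base x)) z ⤳ x := by
      have h0 : z ⤳ f.asFiber x := specializes_iff_mem_closure.mpr hz
      have := h0.map (f.fiberι (f.base x)).continuous
      rwa [Scheme.Hom.fiberι_asFiber] at this
    have h2 : (f.fiberι (f.base x)) z ∈ W := h1.mem_open W.2 hxW
    refine hW _ h2 ?_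
    have : (f.fiberι (f.base x)) z ∈ Set.range (f.fiberι (f.base x)) := ⟨z, rfl⟩
    rw [Scheme.Hom.range_fiberι] at this
    exact this

end Groth.Agent.Lib.lead.SmoothUnivOpen

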