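import Mathlib
import Groth.Prelude.Def_EGA43
import Groth.Agent.Lib.lead.SteinLscA
import Groth.Agent.Lib.lead.UnibranchUnivOpenAt

/-!
# The finite part of the Stein factorization over a geometrically unibranch point (lead)

If every irreducible component of `X` dominates the irreducible locally Noetherian `Y` and
`f : X ⟶ Y` is proper, then `f.fromNormalization` is universally open at every point over a
geometrically unibranch point of `Y`.
-/

set_option autoImplicit false
universe u
open CategoryTheory CategoryTheory.Limits AlgebraicGeometry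

namespace Groth.Agent.Lib.lead.SteinLsc

/-- a generic point of an irreducible component has no proper generization -/
theorem eq_of_specializes_of_isGenericPoint_irreducibleComponent {T : Type*} [TopologicalSpace T]
    [T0Space T] (a ξ ξ' : T) (hξ : IsGenericPoint ξ (irreducibleComponent a)) (h : ξ' ⤳ ξ) :
    ξ' = ξ := by
  have h1 : closure ({ξ} : Set T) ⊆ closure ({ξ'} : Set T) :=
    isClosed_closure.closure_subset_iff.2 (Set.singleton_subset_iff.2 h.mem_closure)
  have hmem : irreducibleComponent a ∈ irreducibleComponents T :=
    irreducibleComponent_mem_irreducibleComponents a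
  have h2 : closure ({ξ'} : Set T) ⊆ irreducibleComponent a := by
    have h3 : irreducibleComponent a ⊆ closure ({ξ'} : Set T) := by
      rw [← hξ.def]; exact h1
    exact hmem.2 isIrreducible_singleton.closure h3
  have h3 : closure ({ξ'} : Set T) = closure ({ξ} : Set T) := by
    rw [hξ.def]
    refine Set.Subset.antisymm h2 ?_
    rw [← hξ.def]; exact h1
  exact (inseparable_iff_closure_eq.2 h3).eq

/-- every point of a quasi-sober space has a maximal generization -/
theorem exists_maximal_generization {T : Type*} [TopologicalSpace T] [T0Space T] [QuasiSober T]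
    (a : T) : ∃ ξ : T, ξ ⤳ a ∧ IsGenericPoint ξ (irreducibleComponent a) ∧
      ∀ ξ', ξ' ⤳ ξ → ξ' = ξ := by
  obtain ⟨ξ, hξ⟩ := QuasiSober.sober (isIrreducible_irreducibleComponent (x := a))
    isClosed_irreducibleComponent
  refine ⟨ξ, ?_, hξ, fun ξ' h => eq_of_specializes_of_isGenericPoint_irreducibleComponent a ξ ξ' hξ h⟩
  rw [specializes_iff_mem_closure, hξ.def]
  exact mem_irreducibleComponent

theorem isUnivOpenAt_fromNormalization_of_gu {X Y : Scheme.{u}} [IrreducibleSpace Y]
    [IsLocallyNoetherian Y] (f : X ⟶ Y) [IsProper f]
    (hdom : ∀ Z ∈ irreducibleComponents (X : Type u), closure (f.base '' Z) = Set.univ)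
    (s' : f.normalization)
    (hy : CAlg2.IsGeomUnibranch (Y.presheaf.stalk (f.fromNormalization.base s'))) :
    EGA43.IsUnivOpenAt f.fromNormalization s' := by
  have hfin : IsFinite f.fromNormalization :=
    Groth.Agent.Lib.Helper21.ProperGamma.isFinite_fromNormalization f
  have hsurj : Surjective f.toNormalization :=
    Groth.Agent.Lib.Helper21.SteinUH.surjective_toNormalization f
  refine Groth.Agent.Lib.lead.UnibranchUnivOpenAt.isUnivOpenAt_of_lqf_of_gu
    f.fromNormalization s' hy ?_
  obtain ⟨ξ, hξs, -, hξmax⟩ := exists_maximal_generization s'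
  refine ⟨ξ, hξs, hξmax, ?_⟩
  obtain ⟨x, hx⟩ := f.toNormalization.surjective ξ
  obtain ⟨x₀, hx₀x, hx₀gen, -⟩ := exists_maximal_generization x
  have htx₀ : f.toNormalization.base x₀ = ξ := by
    apply hξmax
    rw [← hx]
    exact hx₀x.map f.toNormalization.base.hom.continuous
  have hfx₀ : f.fromNormalization.base ξ = f.base x₀ := by
    rw [← htx₀]
    have h0 := congrArg (fun φ : X ⟶ Y => φ.base x₀) f.toNormalization_fromNormalization
    exact h0
  have hcl : closure ({f.base x₀} : Set Y) = Set.univ := by
    have h1 := hdom (irreducibleComponent x) (irreducibleComponent_mem_irreducibleComponents x)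
    rw [← hx₀gen.def] at h1
    apply Set.eq_univ_of_univ_subset
    rw [← h1]
    apply closure_minimal _ isClosed_closure
    have h2 := image_closure_subset_closure_image (f := f.base) (s := ({x₀} : Set X))
      f.base.hom.continuous
    rwa [Set.image_singleton] at h2
  intro η' hη'
  rw [hfx₀] at hη' ⊢
  have h2 : f.base x₀ ⤳ η' := by
    rw [specializes_iff_mem_closure, hcl]; trivial
  exact (hη'.antisymm h2).eq

end Groth.Agent.Lib.lead.SteinLsc
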