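import Mathlib
import Groth.Prelude.Def_EGA43
import Groth.Prelude.Def_MoreMor
import Groth.Prelude.Def_FDesc
import Groth.Agent.S1335
import Groth.Agent.Lib.helper11.FEGood

/-!
# Geometric reducedness of a single fibre, and transfer of local constancy (lead)

* `GRAt f y`: every base change of `f` along `Spec K ⟶ Spec κ(y) ⟶ Y` is reduced.
* `GRAt.of_isPullback`: stable under base change.
* `GRAt.goodAt`: gives helper11's `GoodAt`.
* `GRAt.isGeomReducedAt`: gives the prelude's pointwise notion at every point of the fibre.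
* `const_nhd_of_isPullback`: local constancy of the geometric number of connected components
  transfers along a base change by an open map.
-/

set_option autoImplicit false
set_option linter.style.haveILetI false
universe u
open CategoryTheory CategoryTheory.Limits AlgebraicGeometry

namespace Groth.Agent.Lib.lead.SteinLsc

/-- the fibre of `f` over `y` is geometrically reduced, in residue-field form -/
def GRAt {X Y : Scheme.{u}} (f : X ⟶ Y) (y : Y) : Prop :=
  ∀ (K : Type u) [Field K] (φ : Y.residueField y ⟶ CommRingCat.of K),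
    IsReduced (pullback f (Spec.map φ ≫ Y.fromSpecResidueField y))

theorem GRAt.of_geometricallyReduced_fiber {X Y : Scheme.{u}} (f : X ⟶ Y) (y : Y)
    (h : GeometricallyReduced (f.fiberToSpecResidueField y)) : GRAt f y := by
  intro K _ φ
  have h1 : IsReduced (pullback (f.fiberToSpecResidueField y) (Spec.map φ)) :=
    GeometricallyReduced.geometrically_isReduced (Spec.map φ) _ _
      (IsPullback.of_hasPullback (f.fiberToSpecResidueField y) (Spec.map φ))
  let e : pullback (f.fiberToSpecResidueField y) (Spec.map φ) ≅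
      pullback f (Spec.map φ ≫ Y.fromSpecResidueField y) :=
    pullbackLeftPullbackSndIso f (Y.fromSpecResidueField y) (Spec.map φ)
  exact isReduced_of_isOpenImmersion e.inv

theorem GRAt.of_isPullback {X S T X' : Scheme.{u}} {f : X ⟶ S} {g : T ⟶ S} {g' : X' ⟶ X}
    {f' : X' ⟶ T} (sq : IsPullback g' f' f g) (t : T) (h : GRAt f (g.base t)) : GRAt f' t := by
  intro K _ φ
  have hσ : Spec.map (g.residueFieldMap t ≫ φ) ≫ S.fromSpecResidueField (g.base t) =
      (Spec.map φ ≫ T.fromSpecResidueField t) ≫ g := by
    rw [Spec.map_comp, Category.assoc, Scheme.Hom.SpecMap_residueFieldMap_fromSpecResidueField,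
      Category.assoc]
  have big := (IsPullback.of_hasPullback f' (Spec.map φ ≫ T.fromSpecResidueField t)).paste_horiz sq
  let i1 : pullback f' (Spec.map φ ≫ T.fromSpecResidueField t) ≅
      pullback f ((Spec.map φ ≫ T.fromSpecResidueField t) ≫ g) := big.isoPullback
  let i2 : pullback f ((Spec.map φ ≫ T.fromSpecResidueField t) ≫ g) ≅
      pullback f (Spec.map (g.residueFieldMap t ≫ φ) ≫ S.fromSpecResidueField (g.base t)) :=
    pullback.congrHom rfl hσ.symm
  haveI := h K (g.residueFieldMap t ≫ φ)
  exact isReduced_of_isOpenImmersion (i1 ≪≫ i2).hom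

theorem GRAt.goodAt {X Y : Scheme.{u}} {f : X ⟶ Y} {y : Y} (h : GRAt f y) :
    Groth.Agent.Lib.helper11.FE.GoodAt f y := by
  let Ω := AlgebraicClosure (Y.residueField y)
  let φ : Y.residueField y ⟶ CommRingCat.of Ω :=
    CommRingCat.ofHom (algebraMap (Y.residueField y) Ω)
  refine ⟨Ω, inferInstance, inferInstance, φ, ?_⟩
  haveI := h Ω φ
  infer_instance

theorem GRAt.isGeomReducedAt {X Y : Scheme.{u}} {f : X ⟶ Y} (x : X) (h : GRAt f (f.base x)) :
    FBase.IsGeomReducedAt (f.fiberToSpecResidueField (f.base x)) (f.asFiber x) := by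
  intro K instK instA x' _
  let φ : Y.residueField (f.base x) ⟶ CommRingCat.of K :=
    CommRingCat.ofHom (@algebraMap (IsLocalRing.ResidueField (Y.presheaf.stalk (f.base x))) K _ _ instA)
  have h1 := h K φ
  let e : pullback (f.fiberToSpecResidueField (f.base x)) (Spec.map φ) ≅
      pullback f (Spec.map φ ≫ Y.fromSpecResidueField (f.base x)) :=
    pullbackLeftPullbackSndIso f (Y.fromSpecResidueField (f.base x)) _
  have h2 : IsReduced (pullback (f.fiberToSpecResidueField (f.base x)) (Spec.map φ)) :=
    isReduced_of_isOpenImmersion e.hom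
  haveI : IsReduced (FBase.bc (f.fiberToSpecResidueField (f.base x)) K) := h2
  infer_instance

/-- local constancy of the number of geometric connected components transfers along a base
change by an open map -/
theorem const_nhd_of_isPullback {X Y X' Y' : Scheme.{u}} {f : X ⟶ Y} {f' : X' ⟶ Y'}
    {g' : X' ⟶ X} {g : Y' ⟶ Y} (sq : IsPullback g' f' f g) (hg : IsOpenMap g.base) (t : Y')
    (h : ∃ V' ∈ nhds t, ∀ z' ∈ V', MoreMor.nGeomConnComp f' z' = MoreMor.nGeomConnComp f' t) :
    ∃ V ∈ nhds (g.base t), ∀ z ∈ V,
      MoreMor.nGeomConnComp f z = MoreMor.nGeomConnComp f (g.base t) := by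
  obtain ⟨V', hV', hc⟩ := h
  refine ⟨g.base '' V', hg.image_mem_nhds hV', ?_⟩
  rintro _ ⟨z', hz', rfl⟩
  rw [← Groth.Agent.S1335.result f f' g' g sq z', ← Groth.Agent.S1335.result f f' g' g sq t]
  exact hc z' hz'

end Groth.Agent.Lib.lead.SteinLsc
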