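import Mathlib
import Groth.Agent.Lib.helper11.FEGlobal2

/-!
# Pointwise étaleness of global sections at a good point, and spreading out (lead)

* `mem_etaleLocus_of_goodAt`: proper flat `f : X ⟶ Spec B`, `q` a prime of `Γ(X, ⊤)` over a good
  point: `Γ(X, ⊤)` is étale over `Γ(Spec B, ⊤)` at `q` (pointwise form of helper11's
  `finEt_of_goodAt_Spec`).
* `exists_etale_away_of_fibre_subset_etaleLocus`: spreading out for finite algebras.
-/

set_option autoImplicit false
set_option linter.style.haveILetI false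
universe u
open CategoryTheory CategoryTheory.Limits AlgebraicGeometry Opposite TopologicalSpace

namespace Groth.Agent.Lib.lead.SteinLsc

open Groth.Agent.Lib.helper11.FE

theorem mem_etaleLocus_of_goodAt (B : Type u) [CommRing B] {X : Scheme.{u}}
    (f : X ⟶ Spec (CommRingCat.of B)) [IsProper f] [Flat f] [LocallyOfFinitePresentation f]
    (q : Ideal Γ(X, ⊤)) [q.IsPrime]
    (hgood : GoodAt f ((isAffineOpen_top (Spec (CommRingCat.of B))).fromSpec
      ⟨q.comap f.appTop.hom, inferInstance⟩)) :
    letI := f.appTop.hom.toAlgebra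
    (⟨q, inferInstance⟩ : PrimeSpectrum Γ(X, ⊤)) ∈
      Algebra.etaleLocus Γ(Spec (CommRingCat.of B), ⊤) Γ(X, ⊤) := by
  let S := Spec (CommRingCat.of B)
  have hU := isAffineOpen_top S
  let y₀ : PrimeSpectrum Γ(S, ⊤) := ⟨q.comap f.appTop.hom, inferInstance⟩
  have hloc := hU.isLocalization_stalk' y₀ (show hU.fromSpec y₀ ∈ (⊤ : S.Opens) from trivial)
  let y : S := hU.fromSpec y₀
  let c := S.fromSpecStalk y
  let fy := pullback.snd f c
  let c' := pullback.fst f c
  have h1 : BCsq f c c' fy := BCsq.of_flat f c c' fy (IsPullback.of_hasPullback f c)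
  obtain ⟨e, he⟩ := exists_iso_fromSpecStalk_appTop S y
  have het : fy.appTop.hom.Etale := (finEt_bc_stalk f y hgood).1.2
  have hpo : IsPushout f.appTop (S.presheaf.germ ⊤ y trivial ≫ e.hom) c'.appTop fy.appTop := by
    rw [← he]; exact h1
  have hpo' := isPushout_of_comp_iso e hpo
  have he' : e.hom.hom.FormallyEtale := by
    have : Function.Bijective e.hom.hom := by
      have := (ConcreteCategory.isIso_iff_bijective e.hom).mp inferInstance
      exact this
    exact (RingHom.Etale.of_bijective this).toAlgebra.formallyEtale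
  have hφy : (e.hom ≫ fy.appTop).hom.FormallyEtale := by
    rw [CommRingCat.hom_comp]
    exact he'.comp het.toAlgebra.formallyEtale
  have key := formallyEtale_atPrime_of_isPushout f.appTop (S.presheaf.germ ⊤ y trivial) c'.appTop
    (e.hom ≫ fy.appTop) hpo' q hloc hφy
  letI := f.appTop.hom.toAlgebra
  show Algebra.FormallyEtale Γ(S, ⊤) (Localization.AtPrime q)
  have h2 : (algebraMap Γ(X, ⊤) (Localization.AtPrime q)).comp f.appTop.hom =
      algebraMap Γ(S, ⊤) (Localization.AtPrime q) := by
    rw [IsScalarTower.algebraMap_eq Γ(S, ⊤) Γ(X, ⊤) (Localization.AtPrime q)]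
    rfl
  rw [h2] at key
  exact (RingHom.formallyEtale_algebraMap).mp key

/-- spreading out étaleness of a finite, finitely presented algebra from a fibre -/
theorem exists_etale_away_of_fibre_subset_etaleLocus (A B : Type u) [CommRing A] [CommRing B]
    [Algebra A B] [Module.Finite A B] [Algebra.FinitePresentation A B] (p : PrimeSpectrum A)
    (H : ∀ q : PrimeSpectrum B, PrimeSpectrum.comap (algebraMap A B) q = p →
      q ∈ Algebra.etaleLocus A B) :
    ∃ h : A, h ∉ p.asIdeal ∧ Algebra.Etale A (Localization.Away (algebraMap A B h)) := by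
  have hopen : IsOpen (Algebra.etaleLocus A B) := Algebra.isOpen_etaleLocus
  have hint : Algebra.IsIntegral A B := inferInstance
  have hclosed : IsClosed (PrimeSpectrum.comap (algebraMap A B) '' (Algebra.etaleLocus A B)ᶜ) :=
    PrimeSpectrum.isClosedMap_comap_of_isIntegral (algebraMap A B)
      (algebraMap_isIntegral_iff.mpr hint) _ hopen.isClosed_compl
  have hp : p ∈ (PrimeSpectrum.comap (algebraMap A B) '' (Algebra.etaleLocus A B)ᶜ)ᶜ := by
    rintro ⟨q, hq, hqp⟩
    exact hq (H q hqp)
  obtain ⟨_, ⟨_, ⟨h, rfl⟩, rfl⟩, hph, hsub⟩ :=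
    PrimeSpectrum.isBasis_basic_opens.exists_subset_of_mem_open hp hclosed.isOpen_compl
  refine ⟨h, hph, ?_⟩
  apply Algebra.basicOpen_subset_etaleLocus_iff_etale.mp
  intro q hq
  by_contra hcon
  have h1 : PrimeSpectrum.comap (algebraMap A B) q ∈
      (PrimeSpectrum.basicOpen h : Set (PrimeSpectrum A)) := by
    show h ∉ (PrimeSpectrum.comap (algebraMap A B) q).asIdeal
    exact hq
  exact hsub h1 ⟨q, hcon, rfl⟩

end Groth.Agent.Lib.lead.SteinLsc
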