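import Mathlib

/-!
# Étaleness of sections over a basic open from étaleness of a localization (lead)
-/

set_option autoImplicit false
set_option linter.style.haveILetI false
universe u
open CategoryTheory CategoryTheory.Limits AlgebraicGeometry Opposite TopologicalSpace

namespace Groth.Agent.Lib.lead.SteinLsc

theorem etale_app_basicOpen {X S : Scheme.{u}} (f : X ⟶ S) (W : S.Opens) (hW : IsAffineOpen W)
    (hc : IsCompact (f ⁻¹ᵁ W).1) (hqs : IsQuasiSeparated (f ⁻¹ᵁ W).1) (h : Γ(S, W))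
    (H : letI := (f.app W).hom.toAlgebra
      Algebra.Etale Γ(S, W) (Localization.Away ((f.app W).hom h))) :
    (f.app (S.basicOpen h)).hom.Etale := by
  have hpre : f ⁻¹ᵁ S.basicOpen h = X.basicOpen (f.app W h) := Scheme.preimage_basicOpen f h
  haveI locA : IsLocalization.Away h Γ(S, S.basicOpen h) := hW.isLocalization_basicOpen h
  haveI locB : IsLocalization.Away ((f.app W).hom h) Γ(X, X.basicOpen (f.app W h)) :=
    isLocalization_basicOpen_of_qcqs hc hqs _
  let ψ : Γ(S, S.basicOpen h) ⟶ Γ(X, X.basicOpen (f.app W h)) :=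
    f.app (S.basicOpen h) ≫ X.presheaf.map (eqToHom hpre.symm).op
  suffices hψ : ψ.hom.Etale by
    have h1 : f.app (S.basicOpen h) = ψ ≫ X.presheaf.map (eqToHom hpre).op := by
      dsimp only [ψ]
      rw [Category.assoc, ← Functor.map_comp, ← op_comp, eqToHom_trans, eqToHom_refl, op_id,
        CategoryTheory.Functor.map_id, Category.comp_id]
    rw [h1]
    exact (RingHom.Etale.respectsIso.cancel_right_isIso _ _).mpr hψ
  have hcomm : S.presheaf.map (homOfLE (S.basicOpen_le h)).op ≫ ψ =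
      f.app W ≫ X.presheaf.map (homOfLE (X.basicOpen_le (f.app W h))).op := by
    have hnat := f.naturality (homOfLE (S.basicOpen_le h)).op
    dsimp only [ψ]
    rw [← Category.assoc, hnat, Category.assoc, ← Functor.map_comp]
    rfl
  letI algAB : Algebra Γ(S, W) Γ(X, f ⁻¹ᵁ W) := (f.app W).hom.toAlgebra
  letI algA'B' : Algebra Γ(S, S.basicOpen h) Γ(X, X.basicOpen (f.app W h)) := ψ.hom.toAlgebra
  letI algAB' : Algebra Γ(S, W) Γ(X, X.basicOpen (f.app W h)) :=
    ((algebraMap Γ(X, f ⁻¹ᵁ W) Γ(X, X.basicOpen (f.app W h))).comp (f.app W).hom).toAlgebra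
  haveI t1 : IsScalarTower Γ(S, W) Γ(X, f ⁻¹ᵁ W) Γ(X, X.basicOpen (f.app W h)) :=
    IsScalarTower.of_algebraMap_eq fun _ => rfl
  haveI t2 : IsScalarTower Γ(S, W) Γ(S, S.basicOpen h) Γ(X, X.basicOpen (f.app W h)) :=
    IsScalarTower.of_algebraMap_eq fun a => (congrArg (fun k => k.hom a) hcomm).symm
  haveI hEt : Algebra.Etale Γ(S, W) (Localization.Away ((f.app W).hom h)) := H
  let e : Localization.Away ((f.app W).hom h) ≃ₐ[Γ(X, f ⁻¹ᵁ W)] Γ(X, X.basicOpen (f.app W h)) :=
    IsLocalization.algEquiv (Submonoid.powers ((f.app W).hom h)) _ _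
  haveI hEt' : Algebra.Etale Γ(S, W) Γ(X, X.basicOpen (f.app W h)) :=
    Algebra.Etale.of_equiv (e.restrictScalars Γ(S, W))
  haveI hfe : Algebra.FormallyEtale Γ(S, S.basicOpen h) Γ(X, X.basicOpen (f.app W h)) :=
    Algebra.FormallyEtale.localization_base (Submonoid.powers h)
  haveI hfpA : Algebra.FinitePresentation Γ(S, W) Γ(S, S.basicOpen h) :=
    IsLocalization.Away.finitePresentation h
  haveI hft : Algebra.FiniteType Γ(S, W) Γ(S, S.basicOpen h) := inferInstance
  haveI hfp : Algebra.FinitePresentation Γ(S, S.basicOpen h) Γ(X, X.basicOpen (f.app W h)) :=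
    Algebra.FinitePresentation.of_restrict_scalars_finitePresentation Γ(S, W) _ _
  have hfin : Algebra.Etale Γ(S, S.basicOpen h) Γ(X, X.basicOpen (f.app W h)) := ⟨hfe, hfp⟩
  exact RingHom.etale_algebraMap.mpr hfin

end Groth.Agent.Lib.lead.SteinLsc
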