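import Mathlib
import Groth.Agent.Lib.lead.SteinLscC
import Groth.Agent.Lib.lead.SteinLscD
import Groth.Agent.Lib.lead.SteinLscE
import Groth.Agent.Lib.helper11.FEStein
import Groth.Agent.Lib.helper11.FECount
import Groth.Agent.Lib.Helper21.ProperGamma2
import Groth.Agent.Lib.Helper7.AffinePoints
import Groth.Agent.S7838

/-!
# Local constancy of the number of geometric connected components at a good point (lead)

`const_nhd_of_goodAt_Spec`: `f : X ⟶ Spec B` proper and flat over a Noetherian ring, `y` a good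
point (global functions of a geometric fibre reduced): the geometric number of connected components
of the fibres is constant near `y`.
-/

set_option autoImplicit false
set_option linter.style.haveILetI false
universe u
open CategoryTheory CategoryTheory.Limits AlgebraicGeometry Opposite TopologicalSpace

namespace Groth.Agent.Lib.lead.SteinLsc

open Groth.Agent.Lib.helper11.FE

/-- over an affine locally Noetherian base, if `Γ(S) → Γ(X)` is étale (and `f` proper) then the
finite part of the Stein factorization is finite étale -/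
theorem isFinite_etale_fromNormalization_of_etale_appTop {X S : Scheme.{u}} [IsAffine S]
    [IsLocallyNoetherian S] (f : X ⟶ S) [IsProper f] (H : f.appTop.hom.Etale) :
    IsFinite f.fromNormalization ∧ Etale f.fromNormalization := by
  refine ⟨Groth.Agent.Lib.Helper21.ProperGamma.isFinite_fromNormalization f, ?_⟩
  refine (HasRingHomProperty.iff_exists_appLE (P := @Etale)
    etale_stableUnderCompositionWithLocalizationAwaySource).mpr (fun x => ?_)
  refine ⟨⟨⊤, isAffineOpen_top S⟩, ⟨f.fromNormalization ⁻¹ᵁ ⊤,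
    (isAffineOpen_top S).preimage f.fromNormalization⟩, trivial, le_rfl, ?_⟩
  rw [← Scheme.Hom.app_eq_appLE]
  have key : ∀ (f' : X ⟶ S), f' = f → (f'.app ⊤).hom.Etale := by
    rintro _ rfl; exact H
  have h' := key _ f.toNormalization_fromNormalization
  rw [Scheme.Hom.comp_app] at h'
  haveI := Groth.Agent.Lib.Helper13.SteinUC.isIso_toNormalization_app f
    (f.fromNormalization ⁻¹ᵁ ⊤)
  exact (RingHom.Etale.respectsIso.cancel_right_isIso _ _).mp h'

theorem lfp_of_isLocallyNoetherian {X Y : Scheme.{u}} (f : X ⟶ Y)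
    [LocallyOfFiniteType f] [IsLocallyNoetherian Y] : LocallyOfFinitePresentation f := by
  rw [HasRingHomProperty.iff_appLE (P := @LocallyOfFinitePresentation)]
  intro U V e
  haveI : IsNoetherianRing Γ(Y, U.1) := IsLocallyNoetherian.component_noetherian U
  exact RingHom.FinitePresentation.of_finiteType.mp
    (HasRingHomProperty.appLE (P := @LocallyOfFiniteType) f inferInstance U V e)

theorem etale_app_of_eq {X S : Scheme.{u}} (f : X ⟶ S) {U V : S.Opens} (h : V = U)
    (H : (f.app U).hom.Etale) : (f.app V).hom.Etale := by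
  subst h; exact H

theorem const_nhd_of_goodAt_Spec (B : Type u) [CommRing B] [IsNoetherianRing B] {X : Scheme.{u}}
    (f : X ⟶ Spec (CommRingCat.of B)) [IsProper f] [Flat f] (y : Spec (CommRingCat.of B))
    (hy : GoodAt f y) :
    ∃ V ∈ nhds y, ∀ z ∈ V, MoreMor.nGeomConnComp f z = MoreMor.nGeomConnComp f y := by
  let S := Spec (CommRingCat.of B)
  have hU := isAffineOpen_top S
  haveI : LocallyOfFinitePresentation f := lfp_of_isLocallyNoetherian f
  letI alg : Algebra Γ(S, ⊤) Γ(X, ⊤) := f.appTop.hom.toAlgebra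
  have hfin : (f.app ⊤).hom.Finite :=
    Groth.Agent.Lib.Helper21.ProperGamma.finite_app_of_isProper f ⊤ hU
  haveI : Module.Finite Γ(S, ⊤) Γ(X, ⊤) := hfin
  haveI : IsNoetherianRing Γ(S, ⊤) := IsLocallyNoetherian.component_noetherian ⟨⊤, hU⟩
  haveI : Algebra.FinitePresentation Γ(S, ⊤) Γ(X, ⊤) :=
    Algebra.FinitePresentation.of_finiteType.mp inferInstance
  let p : PrimeSpectrum Γ(S, ⊤) := hU.primeIdealOf ⟨y, trivial⟩
  have hpy : hU.fromSpec p = y := hU.fromSpec_primeIdealOf ⟨y, trivial⟩
  have Hq : ∀ q : PrimeSpectrum Γ(X, ⊤),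
      PrimeSpectrum.comap (algebraMap Γ(S, ⊤) Γ(X, ⊤)) q = p →
      q ∈ Algebra.etaleLocus Γ(S, ⊤) Γ(X, ⊤) := by
    intro q hq
    haveI := q.2
    refine mem_etaleLocus_of_goodAt B f q.asIdeal ?_
    have h1 : (⟨q.asIdeal.comap f.appTop.hom, inferInstance⟩ : PrimeSpectrum Γ(S, ⊤)) = p := hq
    rw [h1, hpy]
    exact hy
  obtain ⟨h, hhp, hEt⟩ := exists_etale_away_of_fibre_subset_etaleLocus Γ(S, ⊤) Γ(X, ⊤) p Hq
  let D : S.Opens := S.basicOpen h
  have hyD : y ∈ D := by
    by_contra hcon
    exact hhp ((Groth.Agent.Lib.Helper7.AffPts.mem_primeIdealOf_iff hU ⟨y, trivial⟩ h).mpr hcon)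
  haveI : CompactSpace X := QuasiCompact.compactSpace_of_compactSpace f
  haveI : QuasiSeparatedSpace X := quasiSeparatedSpace_of_quasiSeparated f
  have hEtD : (f.app D).hom.Etale :=
    etale_app_basicOpen f ⊤ hU (show IsCompact (Set.univ : Set X) from isCompact_univ)
      (show IsQuasiSeparated (Set.univ : Set X) from isQuasiSeparated_univ_iff.mpr inferInstance)
      h hEt
  let fD := f ∣_ D
  haveI : IsProper fD := IsZariskiLocalAtTarget.restrict ‹_› D
  haveI : IsAffine D.toScheme := hU.basicOpen h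
  have hEt' : fD.appTop.hom.Etale := by
    rw [morphismRestrict_appTop]
    refine (RingHom.Etale.respectsIso.cancel_right_isIso _ _).mpr ?_
    exact etale_app_of_eq f (by simp) hEtD
  obtain ⟨hfinN, hetN⟩ := isFinite_etale_fromNormalization_of_etale_appTop fD hEt'
  haveI := hfinN
  haveI := hetN
  have hloc := isLocallyConstant_nGeomConnComp_of_finite_etale fD.fromNormalization
  have hconst' : ∃ V' ∈ nhds (⟨y, hyD⟩ : D), ∀ z' ∈ V',
      MoreMor.nGeomConnComp fD z' = MoreMor.nGeomConnComp fD ⟨y, hyD⟩ := by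
    rw [IsLocallyConstant.iff_eventually_eq] at hloc
    refine ⟨_, hloc ⟨y, hyD⟩, fun z' hz' => ?_⟩
    rw [(Groth.Agent.S7838.result fD z').2, (Groth.Agent.S7838.result fD ⟨y, hyD⟩).2]
    exact hz'
  have sq : IsPullback (f ⁻¹ᵁ D).ι fD f D.ι := (isPullback_morphismRestrict f D).flip
  exact const_nhd_of_isPullback sq D.ι.isOpenEmbedding.isOpenMap ⟨y, hyD⟩ hconst'

end Groth.Agent.Lib.lead.SteinLsc
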