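import Mathlib
import Groth.Agent.Lib.lead.SteinLscF
import Groth.Agent.Lib.lead.UnivOpenAtLocal
import Groth.Agent.Lib.Helper21.FlatDescK
import Groth.Agent.S2561
import Groth.Agent.S8051

/-!
# Constancy of the geometric number of connected components near a geometrically reduced fibre
along which a proper morphism is universally open (lead)
-/

set_option autoImplicit false
set_option linter.style.haveILetI false
universe u
open CategoryTheory CategoryTheory.Limits AlgebraicGeometry Opposite TopologicalSpace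

namespace Groth.Agent.Lib.lead.SteinLsc

/-- flatness of a restriction from flatness of the stalk maps over the open -/
theorem flat_restrict_of_stalk {X Y : Scheme.{u}} (f : X ⟶ Y) (W : Y.Opens)
    (h : ∀ x : X, f.base x ∈ W → (f.stalkMap x).hom.Flat) : Flat (f ∣_ W) := by
  rw [Flat.iff_flat_stalkMap]
  intro x
  have h1 := h x.1 x.2
  exact (RingHom.Flat.respectsIso.arrow_mk_iso_iff (morphismRestrictStalkMap f W x)).mpr h1

/-- over a reduced locally Noetherian base, a proper morphism which is universally open along a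
geometrically reduced fibre is flat over a neighbourhood of the base point -/
theorem exists_flat_nhd {X Y : Scheme.{u}} [IsLocallyNoetherian Y] [IsReduced Y] (f : X ⟶ Y)
    [IsProper f] (y : Y) (h : ∀ x : X, f.base x = y → EGA43.IsUnivOpenAt f x) (hgr : GRAt f y) :
    ∃ U : Y.Opens, y ∈ U ∧ ∀ x : X, f.base x ∈ U → (f.stalkMap x).hom.Flat := by
  haveI : LocallyOfFinitePresentation f := lfp_of_isLocallyNoetherian f
  have hopen : IsOpen {x : X | (f.stalkMap x).hom.Flat} :=
    Groth.Agent.Lib.Helper21.FlatDesc.isOpen_flat_locus f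
  have hcl : IsClosed (f.base '' {x : X | (f.stalkMap x).hom.Flat}ᶜ) :=
    f.isClosedMap _ hopen.isClosed_compl
  refine ⟨⟨(f.base '' {x : X | (f.stalkMap x).hom.Flat}ᶜ)ᶜ, hcl.isOpen_compl⟩, ?_, ?_⟩
  · rintro ⟨x, hx, hxy⟩
    apply hx
    subst hxy
    refine Groth.Agent.S2561.result f x (fun z _ _ => h _ ?_) (GRAt.isGeomReducedAt x hgr)
      inferInstance
    have h1 : (f.fiberι (f.base x)).base z ∈ Set.range (f.fiberι (f.base x)).base := ⟨z, rfl⟩
    rw [show Set.range (f.fiberι (f.base x)).base = f.base ⁻¹' {f.base x} from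
      f.range_fiberι (f.base x)] at h1
    exact h1
  · intro x hx
    by_contra hcon
    exact hx ⟨x, hcon, rfl⟩

/-- the reduced case -/
theorem const_nhd_of_isReduced {X Y : Scheme.{u}} [IsLocallyNoetherian Y] [IsReduced Y]
    (f : X ⟶ Y) [IsProper f] (y : Y) (h : ∀ x : X, f.base x = y → EGA43.IsUnivOpenAt f x)
    (hgr : GRAt f y) :
    ∃ V ∈ nhds y, ∀ z ∈ V, MoreMor.nGeomConnComp f z = MoreMor.nGeomConnComp f y := by
  obtain ⟨U, hyU, hflat⟩ := exists_flat_nhd f y h hgr
  obtain ⟨_, ⟨W, hW : IsAffineOpen W, rfl⟩, hyW, hWU⟩ :=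
    Y.isBasis_affineOpens.exists_subset_of_mem_open hyU U.isOpen
  haveI : IsNoetherianRing Γ(Y, W) := IsLocallyNoetherian.component_noetherian ⟨W, hW⟩
  haveI : IsProper (f ∣_ W) := IsZariskiLocalAtTarget.restrict ‹_› W
  haveI : Flat (f ∣_ W) := flat_restrict_of_stalk f W (fun x hx => hflat x (hWU hx))
  let fW : (f ⁻¹ᵁ W).toScheme ⟶ Spec Γ(Y, W) := (f ∣_ W) ≫ hW.isoSpec.hom
  haveI : IsProper fW := inferInstance
  haveI : Flat fW := inferInstance
  have sq : IsPullback (f ⁻¹ᵁ W).ι fW f (hW.isoSpec.inv ≫ Scheme.Opens.ι W) := by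
    have h0 := (isPullback_morphismRestrict f W).flip
    refine IsPullback.of_iso h0 (Iso.refl _) (Iso.refl _) hW.isoSpec (Iso.refl _) ?_ ?_ ?_ ?_
    · simp
    · simp [fW]
    · simp
    · simp
  let y₃ : Spec Γ(Y, W) := hW.isoSpec.hom.base ⟨y, hyW⟩
  have hy₃ : (hW.isoSpec.inv ≫ Scheme.Opens.ι W).base y₃ = y := by
    have h1 : (hW.isoSpec.hom ≫ hW.isoSpec.inv ≫ Scheme.Opens.ι W).base ⟨y, hyW⟩ = y := by
      rw [Iso.hom_inv_id_assoc]; rfl
    exact h1
  have hgood : Groth.Agent.Lib.helper11.FE.GoodAt fW y₃ :=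
    (GRAt.of_isPullback sq y₃ (by rw [hy₃]; exact hgr)).goodAt
  have hcore := const_nhd_of_goodAt_Spec Γ(Y, W) fW y₃ hgood
  have hopen : IsOpenMap (hW.isoSpec.inv ≫ Scheme.Opens.ι W).base :=
    (hW.isoSpec.inv ≫ Scheme.Opens.ι W).isOpenEmbedding.isOpenMap
  have := const_nhd_of_isPullback sq hopen y₃ hcore
  rwa [hy₃] at this

/-- **main theorem**: `f` proper over a locally Noetherian base, universally open along the fibre
over `y`, which is geometrically reduced: the geometric number of connected components of the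
fibres is constant near `y`. -/
theorem const_nhd_main {X Y : Scheme.{u}} [IsLocallyNoetherian Y] (f : X ⟶ Y) [IsProper f] (y : Y)
    (h : ∀ x : X, f.base x = y → EGA43.IsUnivOpenAt f x) (hgr : GRAt f y) :
    ∃ V ∈ nhds y, ∀ z ∈ V, MoreMor.nGeomConnComp f z = MoreMor.nGeomConnComp f y := by
  let j : Y.nilradical.subscheme ⟶ Y := Y.nilradical.subschemeι
  haveI : IsReduced Y.nilradical.subscheme := Groth.Agent.S8051.isReduced_nilradical_subscheme Y
  haveI : IsLocallyNoetherian Y.nilradical.subscheme := LocallyOfFiniteType.isLocallyNoetherian j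
  haveI : Surjective j := ⟨by
    rw [← Set.range_eq_univ, Scheme.IdealSheafData.range_subschemeι]
    simp⟩
  obtain ⟨y₁, hy₁⟩ := j.surjective y
  have hjopen : IsOpenMap j.base := by
    have hemb : Topology.IsClosedEmbedding j.base := j.isClosedEmbedding
    have hhomeo : IsHomeomorph j.base :=
      isHomeomorph_iff_isEmbedding_surjective.mpr ⟨hemb.isEmbedding, j.surjective⟩
    exact hhomeo.isOpenMap
  have sq := IsPullback.of_hasPullback f j
  have h₁ : ∀ x₁ : ↥(pullback f j), (pullback.snd f j).base x₁ = y₁ →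
      EGA43.IsUnivOpenAt (pullback.snd f j) x₁ := by
    intro x₁ hx₁
    refine Groth.Agent.Lib.lead.UnivOpenAtLocal.isUnivOpenAt_snd f j _ x₁ rfl (h _ ?_)
    have h2 := congrArg (fun φ => φ.base x₁) (pullback.condition (f := f) (g := j))
    simp only [Scheme.Hom.comp_base, TopCat.comp_app] at h2
    rw [h2, hx₁, hy₁]
  have hgr₁ : GRAt (pullback.snd f j) y₁ := GRAt.of_isPullback sq y₁ (by rw [hy₁]; exact hgr)
  have hred := const_nhd_of_isReduced (pullback.snd f j) y₁ h₁ hgr₁
  have := const_nhd_of_isPullback sq hjopen y₁ hred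
  rwa [hy₁] at this

end Groth.Agent.Lib.lead.SteinLsc
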