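import Mathlib
import Groth.Prelude.Def_FDesc
import Groth.Agent.Lib.lead.TensorDomAss
import Groth.Agent.Lib.Helper29.MeroReg4
import Groth.Agent.Lib.Helper7.AffinePoints

/-!
# No embedded points on a product of integral schemes over a field (lead, S4635)
-/

set_option autoImplicit false
set_option linter.style.haveILetI false

universe u

open CategoryTheory CategoryTheory.Limits AlgebraicGeometry TensorProduct

namespace Groth.Agent.Lib.lead.TensorDomAss

/-- "all associated primes are minimal" is invariant under ring isomorphisms -/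
theorem assMin_of_ringEquiv {T T' : Type*} [CommRing T] [CommRing T'] (e : T ≃+* T')
    (h : associatedPrimes T T ⊆ minimalPrimes T) :
    associatedPrimes T' T' ⊆ minimalPrimes T' := by
  intro P' hP'
  obtain ⟨hprime, x', hx'⟩ := hP'
  haveI := hprime
  have hP : P'.comap e.toRingHom ∈ associatedPrimes T T := by
    refine ⟨Ideal.comap_isPrime _ _, e.symm x', ?_⟩
    ext t
    rw [Ideal.mem_comap, hx']
    constructor
    · rintro ⟨n, hn⟩
      refine ⟨n, ?_⟩
      rw [Submodule.mem_colon_singleton] at hn ⊢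
      have h1 : e (t ^ n * e.symm x') = 0 := by
        rw [map_mul, map_pow, e.apply_symm_apply]
        simpa using hn
      have h2 : t ^ n * e.symm x' = 0 := by
        apply e.injective; rw [h1, map_zero]
      simpa using h2
    · rintro ⟨n, hn⟩
      refine ⟨n, ?_⟩
      rw [Submodule.mem_colon_singleton] at hn ⊢
      have h1 : t ^ n * e.symm x' = 0 := by simpa using hn
      have h2 : e (t ^ n * e.symm x') = 0 := by rw [h1, map_zero]
      rw [map_mul, map_pow, e.apply_symm_apply] at h2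
      simpa using h2
  have hmin := h hP
  refine ⟨⟨hprime, bot_le⟩, fun Q' hQ' hQP => ?_⟩
  haveI := hQ'.1
  have h1 : Q'.comap e.toRingHom ≤ P'.comap e.toRingHom := Ideal.comap_mono hQP
  have h2 := hmin.2 ⟨Ideal.comap_isPrime _ _, bot_le⟩ h1
  intro a ha
  have h3 : e.symm a ∈ P'.comap e.toRingHom := by
    show e (e.symm a) ∈ P'
    rw [e.apply_symm_apply]; exact ha
  have h4 := h2 h3
  have h5 : e (e.symm a) ∈ Q' := h4
  rwa [e.apply_symm_apply] at h5

/-- sections of a product of two affine `k`-schemes -/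
theorem assMin_pullback_affine {k : Type u} [Field k] {U V : Scheme.{u}} [IsAffine U] [IsAffine V]
    [IsIntegral U] [IsIntegral V]
    (f : U ⟶ Spec (CommRingCat.of k)) (g : V ⟶ Spec (CommRingCat.of k))
    [IsNoetherianRing Γ(pullback f g, ⊤)] :
    associatedPrimes Γ(pullback f g, ⊤) Γ(pullback f g, ⊤) ⊆ minimalPrimes Γ(pullback f g, ⊤) := by
  have H₀ := isPushout_appTop_of_isPullback (IsPullback.of_hasPullback f g)
  let φA : CommRingCat.of k ⟶ Γ(U, ⊤) := (Scheme.ΓSpecIso (CommRingCat.of k)).inv ≫ f.appTop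
  let φB : CommRingCat.of k ⟶ Γ(V, ⊤) := (Scheme.ΓSpecIso (CommRingCat.of k)).inv ≫ g.appTop
  have H : IsPushout φA φB (pullback.fst f g).appTop (pullback.snd f g).appTop :=
    H₀.of_iso (Scheme.ΓSpecIso (CommRingCat.of k)) (Iso.refl _) (Iso.refl _) (Iso.refl _)
      (by simp [φA]) (by simp [φB]) (by simp) (by simp)
  letI : Algebra k Γ(U, ⊤) := φA.hom.toAlgebra
  letI : Algebra k Γ(V, ⊤) := φB.hom.toAlgebra
  letI : Algebra Γ(U, ⊤) Γ(pullback f g, ⊤) := (pullback.fst f g).appTop.hom.toAlgebra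
  letI : Algebra Γ(V, ⊤) Γ(pullback f g, ⊤) := (pullback.snd f g).appTop.hom.toAlgebra
  letI : Algebra k Γ(pullback f g, ⊤) := (φA ≫ (pullback.fst f g).appTop).hom.toAlgebra
  haveI : IsScalarTower k Γ(U, ⊤) Γ(pullback f g, ⊤) := IsScalarTower.of_algebraMap_eq fun a => rfl
  haveI : IsScalarTower k Γ(V, ⊤) Γ(pullback f g, ⊤) := IsScalarTower.of_algebraMap_eq fun a => by
    have := congrArg (fun ψ => ψ.hom a) H.w
    exact this
  have Hpush : Algebra.IsPushout k Γ(U, ⊤) Γ(V, ⊤) Γ(pullback f g, ⊤) :=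
    (CommRingCat.isPushout_iff_isPushout (R := k) (R' := Γ(U, ⊤)) (S := Γ(V, ⊤))
      (S' := Γ(pullback f g, ⊤))).mp H
  let e : Γ(U, ⊤) ⊗[k] Γ(V, ⊤) ≃ₐ[Γ(U, ⊤)] Γ(pullback f g, ⊤) :=
    Algebra.IsPushout.equiv k Γ(U, ⊤) Γ(V, ⊤) Γ(pullback f g, ⊤)
  haveI : IsNoetherianRing (Γ(U, ⊤) ⊗[k] Γ(V, ⊤)) :=
    isNoetherianRing_of_ringEquiv _ e.symm.toRingEquiv
  exact assMin_of_ringEquiv e.toRingEquiv associatedPrimes_subset_minimalPrimes

open Groth.Agent.Lib.Helper29.QCohStalk in
/-- **S4635**: no embedded points on `X ×_k Y`, `X`, `Y` integral -/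
theorem main {k : Type u} [Field k] {X Y : Scheme.{u}}
    (f : X ⟶ Spec (CommRingCat.of k)) (g : Y ⟶ Spec (CommRingCat.of k)) [IsIntegral X] [IsIntegral Y]
    [IsLocallyNoetherian X] [IsLocallyNoetherian Y] [IsLocallyNoetherian (pullback f g)] :
    _root_.AssSch.NoEmbedded (Coh.structureModule (pullback f g)) := by
  intro x hx y hy hyx
  have hx' := (Groth.Agent.Lib.Helper29.MeroReg.isAssPoint_structureModule_iff (X := pullback f g) x).mp hx
  have hy' := (Groth.Agent.Lib.Helper29.MeroReg.isAssPoint_structureModule_iff (X := pullback f g) y).mp hy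
  -- affine charts
  obtain ⟨U, hU, hxU⟩ : ∃ U : X.Opens, IsAffineOpen U ∧ (pullback.fst f g).base x ∈ U := by
    obtain ⟨U, hU, hxU, -⟩ := TopologicalSpace.Opens.isBasis_iff_nbhd.mp X.isBasis_affineOpens
      (U := ⊤) (x := (pullback.fst f g).base x) trivial
    exact ⟨U, hU, hxU⟩
  obtain ⟨V, hV, hxV⟩ : ∃ V : Y.Opens, IsAffineOpen V ∧ (pullback.snd f g).base x ∈ V := by
    obtain ⟨V, hV, hxV, -⟩ := TopologicalSpace.Opens.isBasis_iff_nbhd.mp Y.isBasis_affineOpens
      (U := ⊤) (x := (pullback.snd f g).base x) trivial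
    exact ⟨V, hV, hxV⟩
  haveI : IsAffine (U : Scheme) := hU
  haveI : IsAffine (V : Scheme) := hV
  haveI : Nonempty ↥(U : Scheme) := ⟨⟨_, hxU⟩⟩
  haveI : Nonempty ↥(V : Scheme) := ⟨⟨_, hxV⟩⟩
  haveI : IsIntegral (U : Scheme) := isIntegral_of_isOpenImmersion U.ι
  haveI : IsIntegral (V : Scheme) := isIntegral_of_isOpenImmersion V.ι
  let ι : pullback (U.ι ≫ f) (V.ι ≫ g) ⟶ pullback f g :=
    pullback.map (U.ι ≫ f) (V.ι ≫ g) f g U.ι V.ι (𝟙 _) (by simp) (by simp)
  haveI : IsOpenImmersion ι := by dsimp only [ι]; infer_instance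
  let W : (pullback f g).Opens := ι ''ᵁ ⊤
  have hW : IsAffineOpen W := (isAffineOpen_top _).image_of_isOpenImmersion ι
  have hxW : x ∈ W := by
    have hr : Set.range ι.base = (pullback.fst f g).base ⁻¹' Set.range U.ι.base ∩
        (pullback.snd f g).base ⁻¹' Set.range V.ι.base := by
      dsimp only [ι]
      exact Scheme.Pullback.range_map _ _ _ _ _ _ _ _ _
    have : x ∈ Set.range ι.base := by
      rw [hr]
      refine ⟨?_, ?_⟩
      · show (pullback.fst f g).base x ∈ Set.range U.ι.base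
        rw [Scheme.Opens.range_ι]; exact hxU
      · show (pullback.snd f g).base x ∈ Set.range V.ι.base
        rw [Scheme.Opens.range_ι]; exact hxV
    obtain ⟨z, hz⟩ := this
    exact ⟨z, trivial, hz⟩
  have hyW : y ∈ W := hyx.mem_open W.isOpen hxW
  -- Ass ⊆ Min on Γ(Z, W)
  haveI : IsNoetherianRing Γ(pullback f g, W) := IsLocallyNoetherian.component_noetherian ⟨W, hW⟩
  let e : Γ(pullback f g, W) ≃+* Γ(pullback (U.ι ≫ f) (V.ι ≫ g), ⊤) :=
    (ι.appIso ⊤).commRingCatIsoToRingEquiv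
  haveI : IsNoetherianRing Γ(pullback (U.ι ≫ f) (V.ι ≫ g), ⊤) := isNoetherianRing_of_ringEquiv _ e
  have hAM : associatedPrimes Γ(pullback f g, W) Γ(pullback f g, W) ⊆
      minimalPrimes Γ(pullback f g, W) :=
    assMin_of_ringEquiv e.symm (assMin_pullback_affine (U.ι ≫ f) (V.ι ≫ g))
  have hxA := Groth.Agent.Lib.Helper29.MeroReg.germPrime_mem_associatedPrimes hW x hxW hx'
  have hyA := Groth.Agent.Lib.Helper29.MeroReg.germPrime_mem_associatedPrimes hW y hyW hy'
  have hxM := hAM hxA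
  -- germPrime y ≤ germPrime x
  have hle : germPrime W y hyW ≤ germPrime W x hxW := by
    intro a ha
    rw [mem_germPrime_iff_notMem_basicOpen] at ha ⊢
    intro hxa
    exact ha (hyx.mem_open ((pullback f g).basicOpen a).isOpen hxa)
  have hEq : germPrime W x hxW ≤ germPrime W y hyW :=
    hxM.2 ⟨inferInstance, bot_le⟩ hle
  have hpx : (hW.primeIdealOf ⟨x, hxW⟩).asIdeal = germPrime W x hxW := by
    ext a
    rw [Groth.Agent.Lib.Helper7.AffPts.mem_primeIdealOf_iff hW, mem_germPrime_iff_notMem_basicOpen]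
  have hpy : (hW.primeIdealOf ⟨y, hyW⟩).asIdeal = germPrime W y hyW := by
    ext a
    rw [Groth.Agent.Lib.Helper7.AffPts.mem_primeIdealOf_iff hW, mem_germPrime_iff_notMem_basicOpen]
  have hpp : hW.primeIdealOf ⟨x, hxW⟩ = hW.primeIdealOf ⟨y, hyW⟩ := by
    apply PrimeSpectrum.ext
    rw [hpx, hpy]
    exact le_antisymm hEq hle
  have := Groth.Agent.Lib.Helper7.AffPts.primeIdealOf_injective hW hpp
  exact congrArg Subtype.val this

end Groth.Agent.Lib.lead.TensorDomAss
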