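import Mathlib
import Groth.Agent.Lib.lead.RootDZ

/-!
Tits decomposition: if `w α = β` with `α, β` simple, then `w` is a product of elements of rank-two
parabolic subgroups moving simple roots to simple roots.  Word form, over `ℤ`.
-/

namespace Groth.Agent.RootDL

open RootD RootPairing
open Groth.Agent.Lib.Helper4.RD
open Groth.Agent.S2953 (pr pr_nil pr_cons pr_append refl_mul_self pr_inv conj_pr)

section general

variable {ι R M N : Type*} [CommRing R] [AddCommGroup M] [Module R M] [AddCommGroup N] [Module R N]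

/-- chains of rank-two moves (word form) -/
inductive WChain (P : RootPairing ι R M N) (Δ : Set ι) : ι → ι → List ι → Prop
  | nil (α : ι) (hα : α ∈ Δ) : WChain P Δ α α []
  | cons {α α₁ β : ι} (hα : α ∈ Δ) (γ : ι) (hγ : γ ∈ Δ) (Lv : List ι)
      (hLv : ∀ a ∈ Lv, a = α ∨ a = γ)
      (hv : pr P Lv • α = α₁) (hne : α ≠ α₁ → γ = α₁) {L' : List ι}
      (h : WChain P Δ α₁ β L') : WChain P Δ α β (L' ++ Lv)

end general

variable {ι M N : Type*} [AddCommGroup M] [AddCommGroup N] {P : RootPairing ι ℤ M N}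

/-- total of the coefficients -/
noncomputable def tot (Δ : Set ι) : (Δ →₀ ℤ) →ₗ[ℤ] ℤ :=
  Finsupp.linearCombination ℤ (fun _ => (1 : ℤ))

lemma tot_single (Δ : Set ι) (l : Δ) (z : ℤ) : tot Δ (Finsupp.single l z) = z := by
  simp [tot]

lemma tot_apply (Δ : Set ι) (c : Δ →₀ ℤ) : tot Δ c = c.sum fun _ a => a := by
  simp [tot, Finsupp.linearCombination_apply]

lemma tot_coef_pos {Δ : Set ι} (hΔ : IsSimpleSys P Δ) {k : ι} (hk : k ∈ posOf P Δ) :
    0 < tot Δ (coef hΔ k) := by
  rw [tot_apply]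
  have hnn := (mem_posOf_iff hΔ k).mp hk
  have hne := coef_ne_zero hΔ k
  obtain ⟨l, hl⟩ := Finsupp.support_nonempty_iff.mpr hne
  exact Finset.sum_pos' (fun l _ => hnn l) ⟨l, hl,
    lt_of_le_of_ne (hnn l) (Ne.symm (Finsupp.mem_support_iff.mp hl))⟩

/-- a `J`-word maps the span of the roots of `J = {α, γ}` into itself -/
lemma pr_smul_mem_span_pair (α γ : ι) (L : List ι) (hL : ∀ a ∈ L, a = α ∨ a = γ) {x : M}
    (hx : x ∈ Submodule.span ℤ {P.root α, P.root γ}) :
    pr P L • x ∈ Submodule.span ℤ {P.root α, P.root γ} := by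
  induction L with
  | nil => rwa [pr_nil, one_smul]
  | cons a L ih =>
    have ih' := ih (fun b hb => hL b (List.mem_cons_of_mem _ hb))
    rw [pr_cons, mul_smul, Equiv.reflection_smul, P.reflection_apply]
    refine sub_mem ih' (Submodule.smul_mem _ _ ?_)
    rcases hL a List.mem_cons_self with rfl | rfl
    · exact Submodule.subset_span (by simp)
    · exact Submodule.subset_span (by simp)

/-- the crux: an element of the rank-two group `W_{α,γ}` followed by `w'` positive on `α, γ` maps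
`α` to a simple root only if it maps `α` into `{α, γ}` -/
theorem crux [Finite ι] {Δ : Set ι} (hΔ : IsSimpleSys P Δ) {α γ β : ι} (hα : α ∈ Δ) (hγ : γ ∈ Δ)
    (hβ : β ∈ Δ) (hαγ : α ≠ γ) (L₂ : List ι) (hL₂ : ∀ a ∈ L₂, a = α ∨ a = γ) (w' : P.Aut)
    (hwα : w' • α ∈ posOf P Δ) (hwγ : w' • γ ∈ posOf P Δ)
    (hβ' : w' • (pr P L₂ • α) = β) : pr P L₂ • α = α ∨ pr P L₂ • α = γ := by
  classical
  set k := pr P L₂ • α with hk
  -- root k = p root α + q root γ
  have hmem : P.root k ∈ Submodule.span ℤ {P.root α, P.root γ} := by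
    rw [hk, root_smul]
    exact pr_smul_mem_span_pair α γ L₂ hL₂ (Submodule.subset_span (by simp))
  obtain ⟨p, q, hpq⟩ := Submodule.mem_span_pair.mp hmem
  let a' : Δ := ⟨α, hα⟩
  let g' : Δ := ⟨γ, hγ⟩
  have hag : a' ≠ g' := fun h => hαγ (congrArg Subtype.val h)
  have hcoef : coef hΔ k = Finsupp.single a' p + Finsupp.single g' q := by
    apply coef_eq_of_lc_eq
    rw [map_add, lc_single, lc_single, hpq]
  have hpa : coef hΔ k a' = p := by
    rw [hcoef]; simp [Finsupp.single_apply, hag, hag.symm]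
  have hqa : coef hΔ k g' = q := by
    rw [hcoef]; simp [Finsupp.single_apply, hag, hag.symm]
  -- apply w'
  have hβroot : P.root β = p • P.root (w' • α) + q • P.root (w' • γ) := by
    rw [← hβ', root_smul, ← hpq, smul_add, smul_comm w' p, smul_comm w' q, root_smul, root_smul]
  have hcoefβ : Finsupp.single (⟨β, hβ⟩ : Δ) (1 : ℤ) =
      p • coef hΔ (w' • α) + q • coef hΔ (w' • γ) := by
    rw [← coef_simple hΔ ⟨β, hβ⟩]
    apply coef_eq_of_lc_eq
    rw [map_add, map_smul, map_smul, lc_coef, lc_coef, hβroot]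
  have htot := congrArg (tot Δ) hcoefβ
  rw [tot_single, map_add, map_smul, map_smul, smul_eq_mul, smul_eq_mul] at htot
  have h1 := tot_coef_pos hΔ hwα
  have h2 := tot_coef_pos hΔ hwγ
  set t₁ := tot Δ (coef hΔ (w' • α))
  set t₂ := tot Δ (coef hΔ (w' • γ))
  -- signs of p, q
  have hsign : (0 ≤ p ∧ 0 ≤ q) ∨ (p ≤ 0 ∧ q ≤ 0) := by
    rcases coef_sign hΔ k with h | h
    · exact Or.inl ⟨hpa ▸ h a', hqa ▸ h g'⟩
    · exact Or.inr ⟨hpa ▸ h a', hqa ▸ h g'⟩
  have hpq0 : 0 ≤ p ∧ 0 ≤ q := by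
    rcases hsign with h | ⟨hp, hq⟩
    · exact h
    · exfalso
      nlinarith
  obtain ⟨hp0, hq0⟩ := hpq0
  have hcases : (p = 1 ∧ q = 0) ∨ (p = 0 ∧ q = 1) := by
    have hsum : p + q ≤ 1 := by nlinarith
    have hsum' : 1 ≤ p + q := by
      by_contra hlt
      have hp' : p = 0 := by omega
      have hq' : q = 0 := by omega
      rw [hp', hq'] at htot
      simp at htot
    omega
  rcases hcases with ⟨hp, hq⟩ | ⟨hp, hq⟩
  · left
    apply P.root.injective
    rw [← hpq, hp, hq]; simp
  · right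
    apply P.root.injective
    rw [← hpq, hp, hq]; simp

/-- Tits decomposition, word form -/
theorem exists_wchain [Finite ι] {Δ : Set ι} (hΔ : IsSimpleSys P Δ) :
    ∀ (n : ℕ) (L : List ι), L.length ≤ n → (∀ a ∈ L, a ∈ Δ) → ∀ α ∈ Δ, ∀ β ∈ Δ,
      pr P L • α = β → ∃ Lc, WChain P Δ α β Lc ∧ pr P Lc = pr P L := by
  classical
  intro n
  induction n with
  | zero =>
    intro L hlen _ α hα β _ hαβ
    have : L = [] := List.length_eq_zero_iff.mp (Nat.le_zero.mp hlen)
    subst this
    rw [pr_nil, one_smul] at hαβ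
    subst hαβ
    exact ⟨[], WChain.nil α hα, rfl⟩
  | succ n ih =>
    intro L hlen hL α hα β hβ hαβ
    obtain ⟨L₀, hmin, hpr⟩ := exists_JMin (P := P) Δ hL
    have hlen₀ : L₀.length ≤ n + 1 := (hmin.2 L hL hpr.symm).trans hlen
    rw [← hpr] at hαβ ⊢
    rcases List.eq_nil_or_concat L₀ with rfl | ⟨L', γ, rfl⟩
    · rw [pr_nil, one_smul] at hαβ
      subst hαβ
      exact ⟨[], WChain.nil α hα, rfl⟩
    · rw [List.concat_eq_append] at hmin hlen₀ hαβ ⊢
      have hγ : γ ∈ Δ := hmin.1 γ (List.mem_append_right _ (List.mem_singleton.mpr rfl))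
      have hL' : ∀ a ∈ L', a ∈ Δ := fun a ha => hmin.1 a (List.mem_append_left _ ha)
      have hpos := hmin.last_pos hΔ subset_rfl
      have hPS := posOf_isPosSys hΔ
      -- γ ≠ α
      have hαγ : α ≠ γ := by
        rintro rfl
        have h1 := pr_concat_smul_last (P := P) L' α
        rw [hαβ] at h1
        exact hPS.disjoint hpos (h1 ▸ subset_posOf Δ hβ)
      have hlen' : L'.length ≤ n := by
        simp only [List.length_append, List.length_cons, List.length_nil] at hlen₀
        omega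
      -- minimal pair
      let p : ℕ → Prop := fun k => ∃ L₁ L₂ : List ι, (∀ a ∈ L₁, a ∈ Δ) ∧
        (∀ a ∈ L₂, a = α ∨ a = γ) ∧ pr P L₁ * pr P L₂ = pr P (L' ++ [γ]) ∧ L₁.length = k
      have hp : ∃ k, p k := ⟨L'.length, L', [γ], hL', by simp, by rw [pr_append], rfl⟩
      obtain ⟨L₁, L₂, hL₁, hL₂, hprod, hk₀⟩ := Nat.find_spec hp
      have hk₀le : L₁.length ≤ L'.length := by
        rw [hk₀]
        exact Nat.find_min' hp ⟨L', [γ], hL', by simp, by rw [pr_append], rfl⟩
      have hposJ : ∀ r, (r = α ∨ r = γ) → pr P L₁ • r ∈ posOf P Δ := by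
        intro r hr
        by_contra hneg
        have hrΔ : r ∈ Δ := by rcases hr with rfl | rfl <;> assumption
        obtain ⟨L'', hsub, hlen'', hpr''⟩ := exists_shorter_sublist hΔ L₁ hL₁ hrΔ hneg
        have hmem : p L''.length := by
          refine ⟨L'', r :: L₂, fun a ha => hL₁ a (hsub.subset ha), ?_, ?_, rfl⟩
          · intro a ha
            rcases List.mem_cons.mp ha with rfl | ha
            · exact hr
            · exact hL₂ a ha
          · rw [← hpr'', pr_append, pr_cons, pr_cons, pr_nil, mul_one, mul_assoc,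
              ← mul_assoc (Equiv.reflection P r), refl_mul_self, one_mul, hprod]
        have := Nat.find_min' hp hmem
        simp only [List.length_append, List.length_cons, List.length_nil] at hlen''
        omega
      have hβ' : pr P L₁ • (pr P L₂ • α) = β := by
        rw [← mul_smul, hprod, hαβ]
      have hcr := crux hΔ hα hγ hβ hαγ L₂ hL₂ (pr P L₁) (hposJ α (Or.inl rfl))
        (hposJ γ (Or.inr rfl)) hβ'
      set α₁ := pr P L₂ • α with hα₁
      have hα₁Δ : α₁ ∈ Δ := by rcases hcr with h | h <;> rw [h] <;> assumption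
      have hne : α ≠ α₁ → γ = α₁ := by
        intro hne
        rcases hcr with h | h
        · exact absurd h.symm hne
        · exact h.symm
      obtain ⟨Lc', hch, hprc⟩ := ih L₁ (hk₀le.trans hlen') hL₁ α₁ hα₁Δ β hβ hβ'
      refine ⟨Lc' ++ L₂, WChain.cons hα γ hγ L₂ hL₂ hα₁.symm hne hch, ?_⟩
      rw [pr_append, hprc, hprod]

end Groth.Agent.RootDL
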