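import Mathlib

/-!
The `ℤ`-form of a finite crystallographic root pairing over a characteristic-zero domain:
the root pairing on `(rootSpan ℤ, Dual ℤ (rootSpan ℤ))` with the same index set and the same
reflection permutations.
-/

namespace Groth.Agent.ZForm

open Module

variable {ι R M N : Type*} [CommRing R] [CharZero R] [IsDomain R] [AddCommGroup M] [Module R M]
  [AddCommGroup N] [Module R N] (P : RootPairing ι R M N) [Finite ι] [P.IsCrystallographic]

include P in
lemma isAddTorsionFree : IsAddTorsionFree M := by
  have : IsReflexive R M := .of_isPerfPair P.toLinearMap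
  exact .of_isTorsionFree R M

instance isReflexive_rootSpan : IsReflexive ℤ (P.rootSpan ℤ) := by
  have h1 : IsAddTorsionFree M := isAddTorsionFree P
  have h2 : Module.IsTorsionFree ℤ (P.rootSpan ℤ) := inferInstance
  have h3 : Module.Finite ℤ (P.rootSpan ℤ) := Module.Finite.span_of_finite ℤ (Set.finite_range _)
  have h4 : Module.Free ℤ (P.rootSpan ℤ) := inferInstance
  infer_instance

lemma coroot'In_injective : Function.Injective (fun i => P.coroot'In ℤ i) := by
  intro i j hij
  have h1 : IsAddTorsionFree M := isAddTorsionFree P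
  have hpair : ∀ k, P.pairing k i = P.pairing k j := by
    intro k
    have h2 : P.pairingIn ℤ k i = P.pairingIn ℤ k j := by
      simpa using congrArg (fun f => f (P.rootSpanMem ℤ k)) hij
    rw [← P.algebraMap_pairingIn ℤ k i, ← P.algebraMap_pairingIn ℤ k j, h2]
  apply P.coroot.injective
  apply P.injOn_dualMap_subtype_span_root_coroot (Set.mem_range_self i) (Set.mem_range_self j)
  ext ⟨x, hx⟩
  simp only [LinearMap.coe_comp, Function.comp_apply, LinearMap.dualMap_apply,
    Submodule.coe_subtype, LinearMap.flip_apply]
  induction hx using Submodule.span_induction with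
  | mem x hx =>
    obtain ⟨k, rfl⟩ := hx
    exact hpair k
  | zero => simp
  | add x y _ _ hx hy => simp [hx, hy]
  | smul a x _ hx => simp [hx]

/-- the `ℤ`-form -/
noncomputable def zForm : RootPairing ι ℤ (P.rootSpan ℤ) (Module.Dual ℤ (P.rootSpan ℤ)) where
  toLinearMap := Module.Dual.eval ℤ (P.rootSpan ℤ)
  root := ⟨fun i => P.rootSpanMem ℤ i, fun i j h => P.root.injective (congrArg Subtype.val h)⟩
  coroot := ⟨fun i => P.coroot'In ℤ i, coroot'In_injective P⟩
  root_coroot_two := fun i => by
    apply FaithfulSMul.algebraMap_injective ℤ R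
    simp
  reflectionPerm := P.reflectionPerm
  reflectionPerm_root := fun i j => by
    apply Subtype.ext
    have h := P.reflectionPerm_root i j
    have e : ((Module.Dual.eval ℤ (P.rootSpan ℤ)) (P.rootSpanMem ℤ j)) (P.coroot'In ℤ i) =
        P.pairingIn ℤ j i := rfl
    simp only [Function.Embedding.coeFn_mk, e]
    rw [Submodule.coe_sub, Submodule.coe_smul, ← h, P.root_coroot_eq_pairing,
      ← P.algebraMap_pairingIn ℤ j i, algebraMap_smul]
  reflectionPerm_coroot := fun i j => by
    have h := P.reflectionPerm_coroot i j
    have e : ((Module.Dual.eval ℤ (P.rootSpan ℤ)) (P.rootSpanMem ℤ i)) (P.coroot'In ℤ j) =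
        P.pairingIn ℤ i j := rfl
    simp only [Function.Embedding.coeFn_mk, e]
    ext x
    apply FaithfulSMul.algebraMap_injective ℤ R
    simp only [LinearMap.sub_apply, LinearMap.smul_apply, map_sub, smul_eq_mul, map_mul,
      RootPairing.algebraMap_coroot'In_apply, RootPairing.algebraMap_pairingIn]
    have h3 := congrArg (P.toLinearMap (x : M)) h
    simp only [map_sub, map_smul, smul_eq_mul, P.root_coroot_eq_pairing] at h3
    exact h3

@[simp] lemma zForm_root (i : ι) : ((zForm P).root i : M) = P.root i := rfl

@[simp] lemma zForm_reflectionPerm : (zForm P).reflectionPerm = P.reflectionPerm := rfl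

@[simp] lemma zForm_pairing (i j : ι) : ((zForm P).pairing i j : R) = P.pairing i j := by
  change algebraMap ℤ R (P.coroot'In ℤ j (P.rootSpanMem ℤ i)) = _
  rw [RootPairing.algebraMap_coroot'In_apply]
  rfl

end Groth.Agent.ZForm
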