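import Mathlib
import Groth.Agent.Lib.lead.ZForm
import Groth.Agent.Lib.lead.RootDM

/-!
Transfer between a finite crystallographic root pairing over a char-zero domain and its `ℤ`-form:
bases are simple systems, words in reflections act on indices in the same way.
-/

namespace Groth.Agent.ZForm

open Module RootD RootPairing
open Groth.Agent.S2953 (pr pr_nil pr_cons pr_append)

variable {ι R M N : Type*} [CommRing R] [CharZero R] [IsDomain R] [AddCommGroup M] [Module R M]
  [AddCommGroup N] [Module R N] (P : RootPairing ι R M N) [Finite ι] [P.IsCrystallographic]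

lemma mem_natSpan_zForm_iff (S : Set ι) (x : P.rootSpan ℤ) :
    x ∈ natSpan (zForm P) S ↔ (x : M) ∈ AddSubmonoid.closure (P.root '' S) := by
  have himg : P.root '' S = (P.rootSpan ℤ).subtype.toAddMonoidHom '' ((zForm P).root '' S) := by
    rw [Set.image_image]
    rfl
  rw [himg, ← AddMonoidHom.map_mclosure]
  constructor
  · intro hx
    exact ⟨x, hx, rfl⟩
  · rintro ⟨y, hy, hyx⟩
    have : y = x := Subtype.ext hyx
    exact this ▸ hy

/-- the support of a base is a simple system of the `ℤ`-form -/
theorem isSimpleSys_of_base (b : P.Base) : IsSimpleSys (zForm P) (b.support : Set ι) := by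
  refine ⟨?_, fun i => ?_⟩
  · exact b.linearIndependentInt
  · rcases b.root_mem_or_neg_mem i with h | h
    · exact Or.inl ((mem_natSpan_zForm_iff P _ _).mpr h)
    · exact Or.inr ((mem_natSpan_zForm_iff P _ _).mpr h)

omit [CharZero R] [IsDomain R] [Finite ι] [P.IsCrystallographic] in
lemma pr_mem_weylGroup (L : List ι) : pr P L ∈ P.weylGroup := by
  induction L with
  | nil => exact one_mem _
  | cons a L ih =>
    rw [pr_cons]
    exact mul_mem (P.reflection_mem_weylGroup a) ih

/-- words act on indices in the same way in `P` and in its `ℤ`-form -/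
lemma pr_smul_idx (L : List ι) (i : ι) : pr P L • i = pr (zForm P) L • i := by
  induction L generalizing i with
  | nil => rfl
  | cons a L ih =>
    rw [pr_cons, pr_cons, mul_smul, mul_smul, ih]
    rfl

lemma pr_image (L : List ι) (S : Set ι) :
    (fun i : ι => pr P L • i) '' S = (fun i : ι => pr (zForm P) L • i) '' S := by
  exact Set.image_congr fun i _ => pr_smul_idx P L i

end Groth.Agent.ZForm
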