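import Mathlib
import Groth.Agent.Lib.lead.TitsA
import Groth.Agent.Lib.lead.ZFormB

/-!
Tits decomposition: conversion of word chains to `Fin`-indexed data, and transfer from the `ℤ`-form.
-/

namespace Groth.Agent.RootDL

open RootD RootPairing
open Groth.Agent.S2953 (pr pr_nil pr_cons pr_append)

section general

variable {ι R M N : Type*} [CommRing R] [AddCommGroup M] [Module R M] [AddCommGroup N] [Module R N]
  {P : RootPairing ι R M N}

lemma pr_mem_weylGroup' (L : List ι) : pr P L ∈ P.weylGroup := by
  induction L with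
  | nil => exact one_mem _
  | cons a L ih =>
    rw [pr_cons]
    exact mul_mem (P.reflection_mem_weylGroup a) ih

lemma pr_mem_closure_pair {α γ : ι} (L : List ι) (hL : ∀ a ∈ L, a = α ∨ a = γ) :
    pr P L ∈ Subgroup.closure {Equiv.reflection P α, Equiv.reflection P γ} := by
  induction L with
  | nil => exact one_mem _
  | cons a L ih =>
    rw [pr_cons]
    refine mul_mem ?_ (ih fun b hb => hL b (List.mem_cons_of_mem _ hb))
    rcases hL a List.mem_cons_self with rfl | rfl
    · exact Subgroup.subset_closure (by simp)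
    · exact Subgroup.subset_closure (by simp)

theorem WChain.toFin {Δ : Set ι} {α β : ι} {L : List ι} (h : WChain P Δ α β L) :
    ∃ (m : ℕ) (a : Fin (m + 1) → ι) (ws : Fin m → P.Aut),
      (∀ i, a i ∈ Δ) ∧ a 0 = α ∧ a (Fin.last m) = β ∧
      (∀ i, ws i ∈ P.weylGroup) ∧
      pr P L = (List.ofFn fun i : Fin m => ws (Fin.rev i)).prod ∧
      (∀ i : Fin m, ws i • a (Fin.castSucc i) = a (Fin.succ i)) ∧
      ∀ i : Fin m, ∃ γ ∈ Δ,
        ws i ∈ Subgroup.closure {Equiv.reflection P (a (Fin.castSucc i)), Equiv.reflection P γ} ∧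
        (a (Fin.castSucc i) ≠ a (Fin.succ i) → γ = a (Fin.succ i)) := by
  induction h with
  | nil α hα =>
    refine ⟨0, fun _ => α, fun i => i.elim0, fun _ => hα, rfl, rfl, fun i => i.elim0, ?_,
      fun i => i.elim0, fun i => i.elim0⟩
    simp [pr_nil]
  | @cons α α₁ β hα γ hγ Lv hLv hv hne L' _ ih =>
    obtain ⟨m, a, ws, haΔ, ha0, halast, hws, hprod, hstep, hpair⟩ := ih
    refine ⟨m + 1, Fin.cons α a, Fin.cons (pr P Lv) ws, ?_, ?_, ?_, ?_, ?_, ?_, ?_⟩
    · intro i
      refine Fin.cases ?_ (fun j => ?_) i
      · simpa using hα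
      · simpa using haΔ j
    · simp
    · rw [← Fin.succ_last, Fin.cons_succ, halast]
    · intro i
      refine Fin.cases ?_ (fun j => ?_) i
      · simpa using pr_mem_weylGroup' Lv
      · simpa using hws j
    · rw [pr_append, hprod, List.ofFn_succ', List.concat_eq_append, List.prod_append,
        List.prod_singleton]
      congr 1
      · congr 1
        apply List.ofFn_inj.mpr
        funext i
        rw [Fin.rev_castSucc, Fin.cons_succ]
      · rw [Fin.rev_last, Fin.cons_zero]
    · intro i
      refine Fin.cases ?_ (fun j => ?_) i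
      · simp only [Fin.cons_zero, Fin.castSucc_zero, Fin.cons_succ]
        rw [ha0]
        exact hv
      · rw [Fin.cons_succ, ← Fin.succ_castSucc, Fin.cons_succ, Fin.cons_succ]
        exact hstep j
    · intro i
      refine Fin.cases ?_ (fun j => ?_) i
      · refine ⟨γ, hγ, ?_, ?_⟩
        · simp only [Fin.cons_zero, Fin.castSucc_zero]
          exact pr_mem_closure_pair Lv hLv
        · simp only [Fin.cons_zero, Fin.castSucc_zero, Fin.cons_succ]
          rw [ha0]
          exact hne
      · obtain ⟨γ', hγ', h1, h2⟩ := hpair j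
        refine ⟨γ', hγ', ?_, ?_⟩
        · rw [Fin.cons_succ, ← Fin.succ_castSucc, Fin.cons_succ]
          exact h1
        · rw [← Fin.succ_castSucc, Fin.cons_succ, Fin.cons_succ]
          exact h2

end general

section transfer

open Groth.Agent.ZForm

variable {ι R M N : Type*} [CommRing R] [CharZero R] [IsDomain R] [AddCommGroup M] [Module R M]
  [AddCommGroup N] [Module R N] (P : RootPairing ι R M N) [Finite ι] [P.IsCrystallographic]

theorem WChain.of_zForm {Δ : Set ι} {α β : ι} {L : List ι} (h : WChain (zForm P) Δ α β L) :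
    WChain P Δ α β L := by
  induction h with
  | nil α hα => exact WChain.nil α hα
  | cons hα γ hγ Lv hLv hv hne _ ih =>
    exact WChain.cons hα γ hγ Lv hLv (by rw [pr_smul_idx]; exact hv) hne ih

end transfer

end Groth.Agent.RootDL
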