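import Mathlib

set_option autoImplicit false
set_option linter.style.haveILetI false
set_option linter.unusedSectionVars false
universe u

namespace Groth.Agent.Lib.lead.WtLcD

open AlgebraicGeometry CategoryTheory Limits

/-- a finite algebra is a quotient of a finite, finitely presented algebra -/
theorem exists_fp_finite_cover (A B : Type u) [CommRing A] [CommRing B] [Algebra A B]
    [Module.Finite A B] :
    ∃ (C : Type u) (_ : CommRing C) (_ : Algebra A C) (β : C →ₐ[A] B),
      Function.Surjective β ∧ Module.Finite A C ∧ Algebra.FinitePresentation A C := by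
  classical
  obtain ⟨s, hs⟩ := (Module.Finite.fg_top : (⊤ : Submodule A B).FG)
  let b : s → B := Subtype.val
  have hint : ∀ i : s, IsIntegral A (b i) := fun i => Algebra.IsIntegral.isIntegral _
  choose p hpm hp using hint
  let P := MvPolynomial s A
  let gen : s → P := fun i => Polynomial.aeval (MvPolynomial.X i : P) (p i)
  let I : Ideal P := Ideal.span (Set.range gen)
  have hker : ∀ a ∈ I, (MvPolynomial.aeval b : P →ₐ[A] B) a = 0 := by
    intro a ha
    have : I ≤ RingHom.ker (MvPolynomial.aeval b : P →ₐ[A] B).toRingHom := by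
      rw [Ideal.span_le]
      rintro _ ⟨i, rfl⟩
      show (MvPolynomial.aeval b : P →ₐ[A] B) (Polynomial.aeval (MvPolynomial.X i : P) (p i)) = 0
      rw [← Polynomial.aeval_algHom_apply, MvPolynomial.aeval_X]
      exact hp i
    exact this ha
  let β : (P ⧸ I) →ₐ[A] B := Ideal.Quotient.liftₐ I (MvPolynomial.aeval b) hker
  have hβmk : ∀ q : P, β (Ideal.Quotient.mk I q) = MvPolynomial.aeval b q := fun q =>
    Ideal.Quotient.liftₐ_apply I _ hker _
  have hadj : Algebra.adjoin A (Set.range b) = ⊤ := by
    rw [eq_top_iff]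
    intro y _
    have hy : y ∈ Submodule.span A (Set.range b) := by
      have : Set.range b = (s : Set B) := Subtype.range_coe
      rw [this, hs]
      trivial
    exact Algebra.span_le_adjoin A _ hy
  have hsurj : Function.Surjective β := by
    intro y
    have hy : y ∈ (MvPolynomial.aeval b : P →ₐ[A] B).range := by
      rw [← Algebra.adjoin_range_eq_range_aeval, hadj]
      trivial
    obtain ⟨q, rfl⟩ := hy
    exact ⟨Ideal.Quotient.mk I q, hβmk q⟩
  refine ⟨P ⧸ I, inferInstance, inferInstance, β, hsurj, ?_, ?_⟩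
  · -- finiteness
    let x : s → P ⧸ I := fun i => Ideal.Quotient.mk I (MvPolynomial.X i)
    have hxint : ∀ y ∈ Set.range x, IsIntegral A y := by
      rintro _ ⟨i, rfl⟩
      refine ⟨p i, hpm i, ?_⟩
      show Polynomial.aeval (x i) (p i) = 0
      have h1 : x i = (Ideal.Quotient.mkₐ A I) (MvPolynomial.X i) := rfl
      rw [h1, Polynomial.aeval_algHom_apply]
      exact Ideal.Quotient.eq_zero_iff_mem.mpr (Ideal.subset_span ⟨i, rfl⟩)
    have hfg := fg_adjoin_of_finite (Set.finite_range x) hxint
    have htop : Algebra.adjoin A (Set.range x) = ⊤ := by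
      have h1 : Set.range x = (Ideal.Quotient.mkₐ A I) '' (Set.range (MvPolynomial.X : s → P)) := by
        rw [← Set.range_comp]
        rfl
      rw [h1, ← AlgHom.map_adjoin, MvPolynomial.adjoin_range_X, Algebra.map_top,
        AlgHom.range_eq_top]
      exact Ideal.Quotient.mkₐ_surjective A I
    rw [htop] at hfg
    exact ⟨hfg⟩
  · exact Algebra.FinitePresentation.quotient (Submodule.fg_span (Set.finite_range gen))

/-- scheme version: a finite morphism to an affine scheme factors through a closed immersion
into a finite morphism of finite presentation -/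
theorem exists_fp_embedding {T W : Scheme.{u}} (π : T ⟶ W) [IsFinite π] [IsAffine W] :
    ∃ (T' : Scheme.{u}) (i : T ⟶ T') (π' : T' ⟶ W), IsClosedImmersion i ∧ IsFinite π' ∧
      LocallyOfFinitePresentation π' ∧ IsAffine T' ∧ i ≫ π' = π := by
  haveI : IsAffine T := isAffine_of_isAffineHom π
  have hfin : (π.appTop).hom.Finite := (HasAffineProperty.iff_of_isAffine (P := @IsFinite)).mp
    (inferInstanceAs (IsFinite π)) |>.2
  letI : Algebra Γ(W, ⊤) Γ(T, ⊤) := (π.appTop).hom.toAlgebra
  haveI : Module.Finite Γ(W, ⊤) Γ(T, ⊤) := hfin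
  obtain ⟨C, _, _, β, hβ, hCfin, hCfp⟩ := exists_fp_finite_cover Γ(W, ⊤) Γ(T, ⊤)
  let α : Γ(W, ⊤) ⟶ CommRingCat.of C := CommRingCat.ofHom (algebraMap Γ(W, ⊤) C)
  let β' : CommRingCat.of C ⟶ Γ(T, ⊤) := CommRingCat.ofHom β.toRingHom
  have hαβ : α ≫ β' = π.appTop := by
    ext a
    exact β.commutes a
  refine ⟨Spec (CommRingCat.of C), T.isoSpec.hom ≫ Spec.map β', Spec.map α ≫ W.isoSpec.inv,
    ?_, ?_, ?_, inferInstance, ?_⟩
  · haveI : IsClosedImmersion (Spec.map β') := IsClosedImmersion.spec_of_surjective β' hβ
    infer_instance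
  · haveI : IsFinite (Spec.map α) := by
      rw [IsFinite.SpecMap_iff]
      exact RingHom.finite_algebraMap.mpr hCfin
    infer_instance
  · haveI : LocallyOfFinitePresentation (Spec.map α) := by
      rw [HasRingHomProperty.Spec_iff (P := @LocallyOfFinitePresentation)]
      exact RingHom.finitePresentation_algebraMap.mpr hCfp
    infer_instance
  · rw [Category.assoc, ← Category.assoc (Spec.map β'), ← Spec.map_comp, hαβ,
      ← Category.assoc, Scheme.isoSpec_hom_naturality, Category.assoc, Iso.hom_inv_id,
      Category.comp_id]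

end Groth.Agent.Lib.lead.WtLcD
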