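import Mathlib
import Groth.Agent.Lib.lead.WtLcD

set_option autoImplicit false
set_option linter.style.haveILetI false
universe u

namespace Groth.Agent.Lib.lead.UfoA

open Groth.Agent.Lib.lead.WtLcD

/-- If the extension of `I` to `R[1/β]` is finitely generated, then a finitely generated sub-ideal
of `I` absorbs `I` up to powers of `β`. -/
theorem exists_finset_pow_mul_mem {R : Type u} [CommRing R] (β : R) (I : Ideal R)
    (h : (I.map (algebraMap R (Localization.Away β))).FG) :
    ∃ F : Finset R, (↑F : Set R) ⊆ I ∧ ∀ x ∈ I, ∃ N : ℕ, β ^ N * x ∈ Ideal.span (↑F : Set R) := by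
  classical
  rw [Ideal.map, Ideal.span] at h
  obtain ⟨t, ht, hspan⟩ := (Submodule.fg_span_iff_fg_span_finset_subset _).mp h
  obtain ⟨F, hF, hFt⟩ := Finset.subset_set_image_iff.mp ht
  refine ⟨F, hF, ?_⟩
  intro x hx
  have h1 : algebraMap R (Localization.Away β) x ∈
      (Ideal.span (↑F : Set R)).map (algebraMap R (Localization.Away β)) := by
    rw [Ideal.map_span]
    have : algebraMap R (Localization.Away β) x ∈
        Submodule.span (Localization.Away β) (⇑(algebraMap R (Localization.Away β)) '' (I : Set R)) :=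
      Submodule.subset_span ⟨x, hx, rfl⟩
    rw [hspan, ← hFt] at this
    simpa [Ideal.span] using this
  rw [IsLocalization.mem_map_algebraMap_iff (Submonoid.powers β)] at h1
  obtain ⟨⟨⟨j, hj⟩, ⟨_, k, rfl⟩⟩, hjk⟩ := h1
  simp only at hjk
  rw [← map_mul] at hjk
  obtain ⟨⟨_, m, rfl⟩, hm⟩ := (IsLocalization.eq_iff_exists (Submonoid.powers β) _).mp hjk
  simp only at hm
  refine ⟨m + k, ?_⟩
  have : β ^ (m + k) * x = β ^ m * j := by
    rw [pow_add, ← hm]; ring
  rw [this]
  exact Ideal.mul_mem_left _ _ hj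

/-- A finite algebra whose localizations at `b i` are finitely presented is a quotient of a finite,
finitely presented algebra, with kernel killed by powers of (lifts of) each `b i`. -/
theorem exists_fp_approx (A B : Type u) [CommRing A] [CommRing B] [Algebra A B] [Module.Finite A B]
    {n : ℕ} (b : Fin n → B) (hb : ∀ i, Algebra.FinitePresentation A (Localization.Away (b i))) :
    ∃ (C : Type u) (_ : CommRing C) (_ : Algebra A C) (q : C →ₐ[A] B) (β : Fin n → C),
      Function.Surjective q ∧ Module.Finite A C ∧ Algebra.FinitePresentation A C ∧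
      (∀ i, q (β i) = b i) ∧ ∀ i, ∀ x : C, q x = 0 → ∃ N : ℕ, β i ^ N * x = 0 := by
  classical
  obtain ⟨C₁, _, _, q₁, hq₁, hfin₁, hfp₁⟩ := exists_fp_finite_cover A B
  choose β₁ hβ₁ using fun i => hq₁ (b i)
  have hb' : ∀ i, Algebra.FinitePresentation A (Localization.Away (q₁ (β₁ i))) := fun i => by
    rw [hβ₁ i]; exact hb i
  -- the kernel of the localized map is finitely generated
  have hfg : ∀ i, ((RingHom.ker q₁.toRingHom).map
      (algebraMap C₁ (Localization.Away (β₁ i)))).FG := by
    intro i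
    haveI := hb' i
    haveI : Algebra.FinitePresentation C₁ (Localization.Away (β₁ i)) :=
      IsLocalization.Away.finitePresentation (β₁ i)
    haveI : Algebra.FinitePresentation A (Localization.Away (β₁ i)) :=
      Algebra.FinitePresentation.trans A C₁ _
    have hsurj : Function.Surjective (Localization.awayMapₐ q₁ (β₁ i)) :=
      IsLocalization.Away.mapₐ_surjective_of_surjective _ hq₁
    have := Algebra.FinitePresentation.ker_fG_of_surjective (Localization.awayMapₐ q₁ (β₁ i)) hsurj
    rw [← IsLocalization.ker_map (Localization.Away (q₁.toRingHom (β₁ i))) q₁.toRingHom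
      (Submonoid.map_powers q₁.toRingHom (β₁ i))]
    exact this
  choose F hFI hF using fun i => exists_finset_pow_mul_mem (β₁ i) _ (hfg i)
  let I₀ : Ideal C₁ := Ideal.span (⋃ i, (↑(F i) : Set C₁))
  have hI₀fg : I₀.FG := by
    refine ⟨Finset.univ.biUnion F, ?_⟩
    simp [I₀]
  have hI₀le : I₀ ≤ RingHom.ker q₁.toRingHom := by
    rw [Ideal.span_le]
    intro x hx
    obtain ⟨i, hi⟩ := Set.mem_iUnion.mp hx
    exact hFI i hi
  have hker : ∀ a ∈ I₀, q₁ a = 0 := fun a ha => hI₀le ha
  let q : (C₁ ⧸ I₀) →ₐ[A] B := Ideal.Quotient.liftₐ I₀ q₁ hker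
  have hqmk : ∀ c : C₁, q (Ideal.Quotient.mk I₀ c) = q₁ c := fun c =>
    Ideal.Quotient.liftₐ_apply I₀ _ hker _
  refine ⟨C₁ ⧸ I₀, inferInstance, inferInstance, q, fun i => Ideal.Quotient.mk I₀ (β₁ i), ?_, ?_, ?_,
    ?_, ?_⟩
  · intro y
    obtain ⟨c, rfl⟩ := hq₁ y
    exact ⟨Ideal.Quotient.mk I₀ c, hqmk c⟩
  · exact Module.Finite.of_surjective (Ideal.Quotient.mkₐ A I₀).toLinearMap
      Ideal.Quotient.mk_surjective
  · exact Algebra.FinitePresentation.quotient hI₀fg
  · intro i
    rw [hqmk, hβ₁]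
  · intro i x hx
    obtain ⟨c, rfl⟩ := Ideal.Quotient.mk_surjective x
    rw [hqmk] at hx
    obtain ⟨N, hN⟩ := hF i c hx
    refine ⟨N, ?_⟩
    rw [← map_pow, ← map_mul, Ideal.Quotient.eq_zero_iff_mem]
    refine Ideal.span_mono ?_ hN
    exact Set.subset_iUnion (fun i => (↑(F i) : Set C₁)) i

end Groth.Agent.Lib.lead.UfoA
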