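import Mathlib
import Groth.Agent.Lib.lead.UfoA
import Groth.Agent.Lib.Helper13.ZMTFinAffine

set_option autoImplicit false
set_option linter.style.haveILetI false
universe u

namespace Groth.Agent.Lib.lead.UfoB

open AlgebraicGeometry CategoryTheory Limits TopologicalSpace

/-- A closed immersion into an affine scheme whose kernel is killed by powers of `β` is an
isomorphism over `D(β)`. -/
theorem isIso_morphismRestrict_basicOpen {T₀ T : Scheme.{u}} [IsAffine T] (ι : T₀ ⟶ T)
    [IsClosedImmersion ι] (β : Γ(T, ⊤))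
    (hkill : ∀ x : Γ(T, ⊤), ι.appTop x = 0 → ∃ N : ℕ, β ^ N * x = 0) :
    IsIso (ι ∣_ T.basicOpen β) := by
  haveI : IsAffine T₀ := isAffine_of_isAffineHom ι
  haveI : IsAffine (T.basicOpen β).toScheme := (isAffineOpen_top T).basicOpen β
  haveI : IsClosedImmersion (ι ∣_ T.basicOpen β) := IsZariskiLocalAtTarget.restrict ‹_› _
  apply IsClosedImmersion.isIso_of_injective_of_isAffine
  have hD : (T.basicOpen β).ι ''ᵁ ⊤ = T.basicOpen β := by simp
  have hinj : Function.Injective (ι.app (T.basicOpen β)) := by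
    rw [injective_iff_map_eq_zero]
    intro s hs
    haveI := (isAffineOpen_top T).isLocalization_basicOpen β
    obtain ⟨⟨x, ⟨_, n, rfl⟩⟩, hx⟩ := IsLocalization.surj (Submonoid.powers β) s
    simp only at hx
    -- `x` restricted to `D(β)` maps to zero
    have h1 : ι.app (T.basicOpen β) (algebraMap Γ(T, ⊤) Γ(T, T.basicOpen β) x) = 0 := by
      rw [← hx, map_mul, hs, zero_mul]
    have h2' : T₀.presheaf.map (homOfLE (le_top : ι ⁻¹ᵁ T.basicOpen β ≤ ⊤)).op (ι.appTop x) = 0 := by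
      have hnat := ι.naturality (homOfLE (le_top : T.basicOpen β ≤ ⊤)).op
      have := congr($(hnat).hom x)
      simp only [CommRingCat.hom_comp, RingHom.coe_comp, Function.comp_apply] at this
      rw [← h1]
      exact this.symm
    have h2g : ∀ (V : T₀.Opens) (hV : V = ι ⁻¹ᵁ T.basicOpen β), (ι.appTop x) |_ V = 0 := by
      rintro V rfl
      exact h2'
    have h2 : (ι.appTop x) |_ (T₀.basicOpen (ι.appTop β)) = 0 :=
      h2g _ (Scheme.preimage_basicOpen_top ι β).symm
    obtain ⟨m, hm⟩ := exists_pow_mul_eq_zero_of_res_basicOpen_eq_zero_of_isAffineOpen T₀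
      (isAffineOpen_top T₀) (ι.appTop x) (ι.appTop β) h2
    obtain ⟨N, hN⟩ := hkill (β ^ m * x) (by rw [map_mul, map_pow]; exact hm)
    have h3 : algebraMap Γ(T, ⊤) Γ(T, T.basicOpen β) x = 0 := by
      have hu : IsUnit (algebraMap Γ(T, ⊤) Γ(T, T.basicOpen β) (β ^ N * β ^ m)) :=
        IsLocalization.map_units (M := Submonoid.powers β) Γ(T, T.basicOpen β)
          ⟨β ^ N * β ^ m, N + m, by simp [pow_add]⟩
      have : algebraMap Γ(T, ⊤) Γ(T, T.basicOpen β) (β ^ N * β ^ m) *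
          algebraMap Γ(T, ⊤) Γ(T, T.basicOpen β) x = 0 := by
        rw [← map_mul, mul_assoc, hN, map_zero]
      exact (hu.mul_right_eq_zero).mp this
    have hu : IsUnit (algebraMap Γ(T, ⊤) Γ(T, T.basicOpen β) (β ^ n)) :=
      IsLocalization.map_units (M := Submonoid.powers β) Γ(T, T.basicOpen β) ⟨β ^ n, n, rfl⟩
    rw [h3] at hx
    exact (hu.mul_left_eq_zero).mp hx
  have hinjg : ∀ (V : T.Opens) (hV : V = T.basicOpen β), Function.Injective (ι.app V) := by
    rintro V rfl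
    exact hinj
  have h1 := hinjg _ hD
  have h2 : Function.Injective (T₀.presheaf.map (eqToHom
      (image_morphismRestrict_preimage ι (T.basicOpen β) ⊤)).op) :=
    ((ConcreteCategory.isIso_iff_bijective _).mp inferInstance).1
  have key : ∀ a, (ι ∣_ T.basicOpen β).appTop a = (T₀.presheaf.map (eqToHom
      (image_morphismRestrict_preimage ι (T.basicOpen β) ⊤)).op)
        (ι.app ((T.basicOpen β).ι ''ᵁ ⊤) a) := fun a =>
    congr(($(morphismRestrict_appTop ι (T.basicOpen β))).hom a)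
  intro a b hab
  rw [key, key] at hab
  exact h1 (h2 hab)

theorem isIso_morphismRestrict_iSup {T₀ T : Scheme.{u}} (ι : T₀ ⟶ T) {J : Type u} (V : J → T.Opens)
    (hV : ∀ i, IsIso (ι ∣_ V i)) : IsIso (ι ∣_ ⨆ i, V i) := by
  let 𝒰 := Scheme.Opens.iSupOpenCover V
  refine (IsZariskiLocalAtTarget.iff_of_openCover (P := .isomorphisms _) 𝒰).mpr fun x ↦ ?_
  refine (MorphismProperty.arrow_mk_iso_iff (.isomorphisms _)
    ((morphismRestrictRestrict ..).symm ≪≫ morphismRestrictOpensRange ..)).mp ?_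
  have : Scheme.Opens.ι _ ''ᵁ (𝒰.f x).opensRange = V x := by
    simp only [Scheme.Opens.iSupOpenCover, 𝒰, ← Scheme.Hom.opensRange_comp, Scheme.homOfLE_ι,
      Scheme.Opens.opensRange_ι]
  convert! hV x

theorem appLE_comp_eq {X T₀ Y : Scheme.{u}} (j : X ⟶ T₀) (π₀ : T₀ ⟶ Y) (D : T₀.Opens) :
    (j ≫ π₀).appLE ⊤ (j ⁻¹ᵁ D) le_top =
      π₀.appTop ≫ T₀.presheaf.map (homOfLE (le_top : D ≤ ⊤)).op ≫ j.app D := by
  rw [Scheme.Hom.comp_appLE, j.app_eq_appLE, Scheme.Hom.map_appLE]
  rfl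

theorem finitePresentation_away_of_le_opensRange {X T₀ Y : Scheme.{u}} [IsAffine Y] [IsAffine T₀]
    (j : X ⟶ T₀) [IsOpenImmersion j] (π₀ : T₀ ⟶ Y) [LocallyOfFinitePresentation (j ≫ π₀)]
    (b : Γ(T₀, ⊤)) (hb : T₀.basicOpen b ≤ j.opensRange) :
    ((algebraMap Γ(T₀, ⊤) (Localization.Away b)).comp π₀.appTop.hom).FinitePresentation := by
  have hD : IsAffineOpen (T₀.basicOpen b) := (isAffineOpen_top T₀).basicOpen b
  have hU : IsAffineOpen (j ⁻¹ᵁ T₀.basicOpen b) := hD.preimage_of_isOpenImmersion j hb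
  have hfp := (j ≫ π₀).finitePresentation_appLE (isAffineOpen_top Y) hU le_top
  rw [appLE_comp_eq] at hfp
  haveI : IsIso (j.app (T₀.basicOpen b)) := Scheme.Hom.isIso_app j _ hb
  rw [← Category.assoc, CommRingCat.hom_comp,
    RingHom.finitePresentation_respectsIso.cancel_right_isIso] at hfp
  haveI hloc := (isAffineOpen_top T₀).isLocalization_basicOpen b
  let e : Localization.Away b ≃ₐ[Γ(T₀, ⊤)] Γ(T₀, T₀.basicOpen b) :=
    IsLocalization.algEquiv (Submonoid.powers b) _ _
  have h2 := RingHom.finitePresentation_respectsIso.1 _ e.symm.toRingEquiv hfp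
  convert h2 using 1
  ext x
  simp only [RingHom.coe_comp, Function.comp_apply, CommRingCat.hom_comp]
  exact (e.symm.commutes (π₀.appTop.hom x)).symm

open Groth.Agent.Lib.lead.UfoA in
/-- **Zariski's main theorem, finite and finitely presented form, for affine schemes.** -/
theorem exists_fp_finite_factorization {X Y : Scheme.{u}} [IsAffine X] [IsAffine Y] (f : X ⟶ Y)
    [LocallyQuasiFinite f] [LocallyOfFinitePresentation f] :
    ∃ (C : Type u) (_ : CommRing C) (_ : Algebra Γ(Y, ⊤) C) (k : X ⟶ Spec (CommRingCat.of C))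
      (n : ℕ) (β : Fin n → C), Module.Finite Γ(Y, ⊤) C ∧ Algebra.FinitePresentation Γ(Y, ⊤) C ∧
      IsOpenImmersion k ∧
      k ≫ Spec.map (CommRingCat.ofHom (algebraMap Γ(Y, ⊤) C)) ≫ Y.isoSpec.inv = f ∧
      ∀ t : Spec (CommRingCat.of C), t ∈ Set.range k ↔ ∃ i, β i ∉ t.asIdeal := by
  classical
  obtain ⟨T₀, j, π₀, hj, -, hπ₀, hcomp⟩ :=
    Groth.Agent.Lib.Helper13.ZMTFin.exists_finite_factorization_of_isAffine f
  haveI := hj
  haveI := hπ₀
  haveI : IsAffine T₀ := isAffine_of_isAffineHom π₀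
  haveI : LocallyOfFinitePresentation (j ≫ π₀) := by rw [hcomp]; infer_instance
  letI : Algebra Γ(Y, ⊤) Γ(T₀, ⊤) := π₀.appTop.hom.toAlgebra
  have hfin : (π₀.appTop).hom.Finite := (HasAffineProperty.iff_of_isAffine (P := @IsFinite)).mp
    (inferInstanceAs (IsFinite π₀)) |>.2
  haveI : Module.Finite Γ(Y, ⊤) Γ(T₀, ⊤) := hfin
  -- the range of `j` is a finite union of basic opens
  have hcpt : IsCompact (j.opensRange : Set T₀) := by
    rw [Scheme.Hom.coe_opensRange]; exact isCompact_range j.continuous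
  obtain ⟨s, hs, hU⟩ := isCompact_and_isOpen_iff_finite_and_eq_biUnion_basicOpen.mp
    ⟨hcpt, j.opensRange.isOpen⟩
  obtain ⟨n, b, hb⟩ := hs.fin_embedding
  have hble : ∀ i, T₀.basicOpen (b i) ≤ j.opensRange := by
    intro i x hx
    show x ∈ (j.opensRange : Set T₀)
    rw [hU]
    have : b i ∈ s := hb ▸ Set.mem_range_self i
    exact Set.mem_biUnion this hx
  have hcover : ∀ x ∈ j.opensRange, ∃ i, x ∈ T₀.basicOpen (b i) := by
    intro x hx
    have hx' : x ∈ (j.opensRange : Set T₀) := hx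
    rw [hU] at hx'
    obtain ⟨r, hr, hxr⟩ := Set.mem_iUnion₂.mp hx'
    rw [← hb] at hr
    obtain ⟨i, rfl⟩ := hr
    exact ⟨i, hxr⟩
  have hbfp : ∀ i, Algebra.FinitePresentation Γ(Y, ⊤) (Localization.Away (b i)) := by
    intro i
    have := finitePresentation_away_of_le_opensRange j π₀ (b i) (hble i)
    rw [← RingHom.finitePresentation_algebraMap]
    convert this using 1
    exact IsScalarTower.algebraMap_eq Γ(Y, ⊤) Γ(T₀, ⊤) (Localization.Away (b i))
  obtain ⟨C, _, _, q, β, hq, hCfin, hCfp, hqβ, hkill⟩ :=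
    exists_fp_approx Γ(Y, ⊤) Γ(T₀, ⊤) b hbfp
  let α : Γ(Y, ⊤) ⟶ CommRingCat.of C := CommRingCat.ofHom (algebraMap Γ(Y, ⊤) C)
  let q' : CommRingCat.of C ⟶ Γ(T₀, ⊤) := CommRingCat.ofHom q.toRingHom
  have hαq : α ≫ q' = π₀.appTop := by
    ext a
    exact q.commutes a
  let T : Scheme.{u} := Spec (CommRingCat.of C)
  let ι : T₀ ⟶ T := T₀.isoSpec.hom ≫ Spec.map q'
  let π : T ⟶ Y := Spec.map α ≫ Y.isoSpec.inv
  haveI : IsClosedImmersion ι := by
    haveI : IsClosedImmersion (Spec.map q') := IsClosedImmersion.spec_of_surjective q' hq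
    infer_instance
  haveI : IsFinite π := by
    haveI : IsFinite (Spec.map α) := by
      rw [IsFinite.SpecMap_iff]
      exact RingHom.finite_algebraMap.mpr hCfin
    infer_instance
  haveI : LocallyOfFinitePresentation π := by
    haveI : LocallyOfFinitePresentation (Spec.map α) := by
      rw [HasRingHomProperty.Spec_iff (P := @LocallyOfFinitePresentation)]
      exact RingHom.finitePresentation_algebraMap.mpr hCfp
    infer_instance
  have hιπ : ι ≫ π = π₀ := by
    show (T₀.isoSpec.hom ≫ Spec.map q') ≫ Spec.map α ≫ Y.isoSpec.inv = π₀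
    rw [Category.assoc, ← Category.assoc (Spec.map q'), ← Spec.map_comp, hαq,
      ← Category.assoc, Scheme.isoSpec_hom_naturality, Category.assoc, Iso.hom_inv_id,
      Category.comp_id]
  -- sections
  let βT : Fin n → Γ(T, ⊤) := fun i => (Scheme.ΓSpecIso (CommRingCat.of C)).inv (β i)
  have hιapp : ∀ x : Γ(T, ⊤), ι.appTop x = q ((Scheme.ΓSpecIso (CommRingCat.of C)).hom x) := by
    intro x
    have h1 : ι.appTop = (Scheme.ΓSpecIso (CommRingCat.of C)).hom ≫ q' := by
      show (T₀.isoSpec.hom ≫ Spec.map q').appTop = _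
      rw [Scheme.Hom.comp_appTop, Scheme.isoSpec_hom, Scheme.toSpecΓ_appTop,
        Scheme.ΓSpecIso_naturality]
    rw [h1]
    rfl
  have hβT : ∀ i, ι.appTop (βT i) = b i := by
    intro i
    rw [hιapp]
    show q ((Scheme.ΓSpecIso (CommRingCat.of C)).hom ((Scheme.ΓSpecIso (CommRingCat.of C)).inv (β i))) = _
    rw [Iso.inv_hom_id_apply]
    exact hqβ i
  have hkillT : ∀ i, ∀ x : Γ(T, ⊤), ι.appTop x = 0 → ∃ N : ℕ, βT i ^ N * x = 0 := by
    intro i x hx
    rw [hιapp] at hx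
    obtain ⟨N, hN⟩ := hkill i _ hx
    refine ⟨N, ?_⟩
    apply (ConcreteCategory.bijective_of_isIso (Scheme.ΓSpecIso (CommRingCat.of C)).hom).1
    rw [map_mul, map_pow, map_zero]
    show (Scheme.ΓSpecIso (CommRingCat.of C)).hom ((Scheme.ΓSpecIso (CommRingCat.of C)).inv (β i)) ^ N * _ = 0
    rw [Iso.inv_hom_id_apply]
    exact hN
  have hiso : ∀ i, IsIso (ι ∣_ T.basicOpen (βT i)) := fun i =>
    isIso_morphismRestrict_basicOpen ι (βT i) (hkillT i)
  let W : T.Opens := ⨆ i : ULift.{u} (Fin n), T.basicOpen (βT i.down)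
  haveI hW : IsIso (ι ∣_ W) := isIso_morphismRestrict_iSup ι _ (fun i => hiso i.down)
  have hpre : j.opensRange = ι ⁻¹ᵁ W := by
    ext x
    constructor
    · intro hx
      obtain ⟨i, hi⟩ := hcover x hx
      show ι x ∈ W
      rw [TopologicalSpace.Opens.mem_iSup]
      refine ⟨⟨i⟩, ?_⟩
      show x ∈ ι ⁻¹ᵁ T.basicOpen (βT i)
      rw [Scheme.preimage_basicOpen_top, hβT]
      exact hi
    · intro hx
      have hx' : ι x ∈ W := hx
      rw [TopologicalSpace.Opens.mem_iSup] at hx'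
      obtain ⟨⟨i⟩, hi⟩ := hx'
      have : x ∈ ι ⁻¹ᵁ T.basicOpen (βT i) := hi
      rw [Scheme.preimage_basicOpen_top, hβT] at this
      exact hble i this
  have hmemW : ∀ t : T, t ∈ W ↔ ∃ i, β i ∉ t.asIdeal := by
    intro t
    rw [TopologicalSpace.Opens.mem_iSup]
    constructor
    · rintro ⟨⟨i⟩, hi⟩
      refine ⟨i, ?_⟩
      have : t ∈ (Spec (CommRingCat.of C)).basicOpen
          ((Scheme.ΓSpecIso (CommRingCat.of C)).inv (β i)) := hi
      rw [basicOpen_eq_of_affine] at this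
      exact this
    · rintro ⟨i, hi⟩
      refine ⟨⟨i⟩, ?_⟩
      show t ∈ (Spec (CommRingCat.of C)).basicOpen
          ((Scheme.ΓSpecIso (CommRingCat.of C)).inv (β i))
      rw [basicOpen_eq_of_affine]
      exact hi
  refine ⟨C, inferInstance, inferInstance, j ≫ ι, n, β, hCfin, hCfp, ?_, ?_, ?_⟩
  · have : j ≫ ι = j.isoOpensRange.hom ≫ (T₀.isoOfEq hpre).hom ≫ (ι ∣_ W) ≫ W.ι := by
      rw [morphismRestrict_ι, Scheme.isoOfEq_hom_ι_assoc, Scheme.Hom.isoOpensRange_hom_ι_assoc]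
    rw [this]
    infer_instance
  · show (j ≫ ι) ≫ π = f
    rw [Category.assoc, hιπ, hcomp]
  · intro t
    rw [← hmemW]
    constructor
    · rintro ⟨x, rfl⟩
      have : j x ∈ j.opensRange := ⟨x, rfl⟩
      rw [hpre] at this
      rw [Scheme.Hom.comp_apply]
      exact this
    · intro ht
      obtain ⟨y, hy⟩ := (ι ∣_ W).surjective ⟨t, ht⟩
      have hy' : ι y.1 = t := by
        have := congrArg Subtype.val hy
        rwa [morphismRestrict_base_coe] at this
      have hy2 : y.1 ∈ j.opensRange := by rw [hpre]; exact y.2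
      obtain ⟨x, hx⟩ := hy2
      exact ⟨x, by rw [Scheme.Hom.comp_apply, hx, hy']⟩

end Groth.Agent.Lib.lead.UfoB
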