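import Mathlib

set_option autoImplicit false
set_option linter.style.haveILetI false
universe u

namespace Groth.Agent.Lib.lead.UfoC

open TensorProduct

/-- relations in a base change of a finitely presented module come from the presentation -/
theorem exists_coeff_of_sum_tmul_eq_zero {A : Type u} [CommRing A] {C : Type u} [AddCommGroup C]
    [Module A C] {r p : ℕ} (g : Fin r → C) (hg : Submodule.span A (Set.range g) = ⊤)
    (κ : Fin p → (Fin r → A))
    (hκ : Submodule.span A (Set.range κ) = LinearMap.ker (Fintype.linearCombination A g))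
    (A' : Type u) [CommRing A'] [Algebra A A'] (v : Fin r → A')
    (hv : ∑ k, v k ⊗ₜ[A] g k = 0) :
    ∃ c : Fin p → A', ∀ k, v k = ∑ m, c m * algebraMap A A' (κ m k) := by
  classical
  set L : (Fin r → A) →ₗ[A] C := Fintype.linearCombination A g with hL
  have hLsurj : Function.Surjective L := by
    rw [← LinearMap.range_eq_top, hL, Fintype.range_linearCombination, hg]
  have hex : Function.Exact (LinearMap.ker L).subtype L := LinearMap.exact_subtype_ker_map L
  have hex' := lTensor_exact A' hex hLsurj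
  set z : A' ⊗[A] (Fin r → A) := ∑ k, v k ⊗ₜ[A] (Pi.single k (1 : A)) with hz
  have hz0 : LinearMap.lTensor A' L z = 0 := by
    rw [hz, map_sum]
    simp only [LinearMap.lTensor_tmul]
    rw [← hv]
    refine Finset.sum_congr rfl fun k _ => ?_
    rw [hL, Fintype.linearCombination_apply_single, one_smul]
  obtain ⟨y, hy⟩ := (hex' z).mp hz0
  -- elements of `A' ⊗ K`
  have hκmem : ∀ m, κ m ∈ LinearMap.ker L := fun m => by
    rw [← hκ]; exact Submodule.subset_span ⟨m, rfl⟩
  let κ' : Fin p → LinearMap.ker L := fun m => ⟨κ m, hκmem m⟩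
  have hκ' : Submodule.span A (Set.range κ') = ⊤ := by
    rw [eq_top_iff]
    rintro ⟨x, hx⟩ -
    have hx' : x ∈ Submodule.span A (Set.range κ) := by rw [hκ]; exact hx
    have : Submodule.span A (Set.range κ) = (Submodule.span A (Set.range κ')).map
        (LinearMap.ker L).subtype := by
      rw [Submodule.map_span, ← Set.range_comp]
      rfl
    rw [this] at hx'
    obtain ⟨x', hx', hxx⟩ := hx'
    have : x' = ⟨x, hx⟩ := Subtype.ext hxx
    rw [← this]
    exact hx'
  have hspan : Submodule.span A' (Set.range fun m => (1 : A') ⊗ₜ[A] κ' m) = ⊤ := by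
    have h1 := Submodule.baseChange_span (R := A) A' (Set.range κ')
    rw [hκ', Submodule.baseChange_top] at h1
    rw [h1, ← Set.range_comp]
    rfl
  obtain ⟨c, hc⟩ := (Submodule.mem_span_range_iff_exists_fun A').mp
    (hspan ▸ Submodule.mem_top : y ∈ Submodule.span A' (Set.range fun m => (1 : A') ⊗ₜ[A] κ' m))
  refine ⟨c, fun k => ?_⟩
  have hz2 : z = ∑ m, c m ⊗ₜ[A] κ m := by
    rw [← hy, ← hc, map_sum]
    refine Finset.sum_congr rfl fun m _ => ?_
    rw [TensorProduct.smul_tmul', LinearMap.lTensor_tmul, smul_eq_mul, mul_one]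
    rfl
  have h3 := congrArg (fun t => TensorProduct.piScalarRight A A' A' (Fin r) t k) hz2
  simp only [hz, map_sum, TensorProduct.piScalarRight_apply, TensorProduct.piScalarRightHom_tmul,
    Finset.sum_apply] at h3
  rw [Finset.sum_eq_single k] at h3
  · rw [Pi.single_eq_same, one_smul] at h3
    rw [h3]
    refine Finset.sum_congr rfl fun m _ => ?_
    rw [Algebra.smul_def, mul_comm]
  · intro b _ hb
    rw [Pi.single_eq_of_ne' hb, zero_smul]
  · intro h; exact absurd (Finset.mem_univ k) h

/-- elements of a base change of a finitely generated module -/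
theorem exists_sum_tmul {A : Type u} [CommRing A] {C : Type u} [AddCommGroup C]
    [Module A C] {r : ℕ} (g : Fin r → C) (hg : Submodule.span A (Set.range g) = ⊤)
    (S : Type u) [CommRing S] [Algebra A S] (y : S ⊗[A] C) :
    ∃ a : Fin r → S, y = ∑ k, a k ⊗ₜ[A] g k := by
  have hspan : Submodule.span S (Set.range fun k => (1 : S) ⊗ₜ[A] g k) = ⊤ := by
    have h1 := Submodule.baseChange_span (R := A) S (Set.range g)
    rw [hg, Submodule.baseChange_top] at h1
    rw [h1, ← Set.range_comp]
    rfl
  obtain ⟨a, ha⟩ := (Submodule.mem_span_range_iff_exists_fun S).mp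
    (hspan ▸ Submodule.mem_top : y ∈ Submodule.span S (Set.range fun k => (1 : S) ⊗ₜ[A] g k))
  refine ⟨a, ?_⟩
  rw [← ha]
  refine Finset.sum_congr rfl fun k _ => ?_
  rw [TensorProduct.smul_tmul', smul_eq_mul, mul_one]

open MvPolynomial in
/-- **Versal idempotent.**  For a finite, finitely presented `A`-algebra `C` and elements `β i`,
there is a finitely presented `A`-algebra `R` with an idempotent `ε ∈ (β) (R ⊗ C)` from which every
such idempotent over any `A`-algebra is obtained by base change. -/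
theorem exists_versal_idempotent (A : Type u) [CommRing A] (C : Type u) [CommRing C] [Algebra A C]
    [Module.Finite A C] [Algebra.FinitePresentation A C] {n : ℕ} (β : Fin n → C) :
    ∃ (R : Type u) (_ : CommRing R) (_ : Algebra A R) (ε : R ⊗[A] C),
      Algebra.FinitePresentation A R ∧ IsIdempotentElem ε ∧
      ε ∈ Ideal.span (Set.range fun i => (1 : R) ⊗ₜ[A] β i) ∧
      ∀ (A' : Type u) [CommRing A'] [Algebra A A'] (e' : A' ⊗[A] C), IsIdempotentElem e' →
        e' ∈ Ideal.span (Set.range fun i => (1 : A') ⊗ₜ[A] β i) →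
        ∃ φ : R →ₐ[A] A', Algebra.TensorProduct.map φ (AlgHom.id A C) ε = e' := by
  classical
  haveI : Module.FinitePresentation A C := .of_finite_of_finitePresentation A C
  obtain ⟨r, g, hg⟩ := Module.Finite.exists_fin (R := A) (M := C)
  set L : (Fin r → A) →ₗ[A] C := Fintype.linearCombination A g with hL
  have hLsurj : Function.Surjective L := by
    rw [← LinearMap.range_eq_top, hL, Fintype.range_linearCombination, hg]
  have hKfg : (LinearMap.ker L).FG := Module.FinitePresentation.fg_ker L hLsurj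
  obtain ⟨p, κ, hκ⟩ := Submodule.fg_iff_exists_fin_generating_family.mp hKfg
  have hLκ : ∀ m, ∑ k, κ m k • g k = 0 := by
    intro m
    have : κ m ∈ LinearMap.ker L := by rw [← hκ]; exact Submodule.subset_span ⟨m, rfl⟩
    rw [LinearMap.mem_ker, hL, Fintype.linearCombination_apply] at this
    exact this
  -- the general form of an element in the ideal
  let elt : ∀ (S : Type u) [CommRing S] [Algebra A S], (Fin n → Fin r → S) → S ⊗[A] C :=
    fun S _ _ a => ∑ i, ∑ k, a i k ⊗ₜ[A] (β i * g k)
  have helt_map : ∀ (S S' : Type u) [CommRing S] [Algebra A S] [CommRing S'] [Algebra A S']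
      (φ : S →ₐ[A] S') (a : Fin n → Fin r → S),
      Algebra.TensorProduct.map φ (AlgHom.id A C) (elt S a) = elt S' (fun i k => φ (a i k)) := by
    intro S S' _ _ _ _ φ a
    simp only [elt, map_sum, Algebra.TensorProduct.map_tmul, AlgHom.coe_id, id_eq]
  have helt_mem : ∀ (S : Type u) [CommRing S] [Algebra A S] (a : Fin n → Fin r → S),
      elt S a ∈ Ideal.span (Set.range fun i => (1 : S) ⊗ₜ[A] β i) := by
    intro S _ _ a
    refine Ideal.sum_mem _ fun i _ => Ideal.sum_mem _ fun k _ => ?_
    have : a i k ⊗ₜ[A] (β i * g k) = (a i k ⊗ₜ[A] g k) * ((1 : S) ⊗ₜ[A] β i) := by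
      rw [Algebra.TensorProduct.tmul_mul_tmul, mul_one, mul_comm]
    rw [this]
    exact Ideal.mul_mem_left _ _ (Ideal.subset_span ⟨i, rfl⟩)
  have helt_surj : ∀ (S : Type u) [CommRing S] [Algebra A S] (e : S ⊗[A] C),
      e ∈ Ideal.span (Set.range fun i => (1 : S) ⊗ₜ[A] β i) → ∃ a, e = elt S a := by
    intro S _ _ e he
    obtain ⟨y, hy⟩ := (Submodule.mem_span_range_iff_exists_fun (S ⊗[A] C)).mp he
    choose a ha using fun i => exists_sum_tmul g hg S (y i)
    refine ⟨a, ?_⟩
    rw [← hy]
    refine Finset.sum_congr rfl fun i _ => ?_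
    rw [ha i, smul_eq_mul, Finset.sum_mul]
    refine Finset.sum_congr rfl fun k _ => ?_
    rw [Algebra.TensorProduct.tmul_mul_tmul, mul_one, mul_comm]
  -- the first polynomial ring
  let P₁ := MvPolynomial (Fin n × Fin r) A
  let a₁ : Fin n → Fin r → P₁ := fun i k => X (i, k)
  let ε₁ : P₁ ⊗[A] C := elt P₁ a₁
  obtain ⟨d₁, hd₁⟩ := exists_sum_tmul g hg P₁ (ε₁ * ε₁ - ε₁)
  -- the second polynomial ring
  let P := MvPolynomial ((Fin n × Fin r) ⊕ Fin p) A
  let ρ : Fin r → P := fun k => rename Sum.inl (d₁ k) - ∑ m, X (Sum.inr m) * MvPolynomial.C (κ m k)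
  let I : Ideal P := Ideal.span (Set.range ρ)
  let ψ : P₁ →ₐ[A] (P ⧸ I) := (Ideal.Quotient.mkₐ A I).comp (rename Sum.inl)
  let ε : (P ⧸ I) ⊗[A] C := elt (P ⧸ I) (fun i k => ψ (a₁ i k))
  have hε : Algebra.TensorProduct.map ψ (AlgHom.id A C) ε₁ = ε := helt_map _ _ ψ a₁
  refine ⟨P ⧸ I, inferInstance, inferInstance, ε, ?_, ?_, helt_mem _ _, ?_⟩
  · exact Algebra.FinitePresentation.quotient ⟨Finset.univ.image ρ, by simp [I]⟩
  · -- idempotent
    have h1 : ε * ε - ε = ∑ k, ψ (d₁ k) ⊗ₜ[A] g k := by
      rw [← hε, ← map_mul, ← map_sub, hd₁, map_sum]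
      simp only [Algebra.TensorProduct.map_tmul, AlgHom.coe_id, id_eq]
    have h2 : ∀ k, ψ (d₁ k) =
        ∑ m, Ideal.Quotient.mk I (X (Sum.inr m)) * algebraMap A (P ⧸ I) (κ m k) := by
      intro k
      have hρ : Ideal.Quotient.mk I (ρ k) = 0 :=
        Ideal.Quotient.eq_zero_iff_mem.mpr (Ideal.subset_span ⟨k, rfl⟩)
      simp only [ρ, map_sub, map_sum, map_mul, sub_eq_zero] at hρ
      show Ideal.Quotient.mk I (rename Sum.inl (d₁ k)) = _
      rw [hρ]
      rfl
    have h3 : ε * ε - ε = 0 := by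
      rw [h1]
      simp only [h2, TensorProduct.sum_tmul]
      rw [Finset.sum_comm]
      refine Finset.sum_eq_zero fun m _ => ?_
      have : ∀ k, (Ideal.Quotient.mk I (X (Sum.inr m)) * algebraMap A (P ⧸ I) (κ m k)) ⊗ₜ[A] g k =
          Ideal.Quotient.mk I (X (Sum.inr m)) ⊗ₜ[A] (κ m k • g k) := by
        intro k
        rw [mul_comm, ← Algebra.smul_def, TensorProduct.smul_tmul]
      simp only [this]
      rw [← TensorProduct.tmul_sum, hLκ, TensorProduct.tmul_zero]
    exact sub_eq_zero.mp h3
  · -- versality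
    intro A' _ _ e' he' hmem
    obtain ⟨a', ha'⟩ := helt_surj A' e' hmem
    let φ₁ : P₁ →ₐ[A] A' := aeval (fun ik : Fin n × Fin r => a' ik.1 ik.2)
    have hφ₁ : Algebra.TensorProduct.map φ₁ (AlgHom.id A C) ε₁ = e' := by
      rw [helt_map, ha']
      congr 1
      funext i k
      exact aeval_X _ _
    have h0 : ∑ k, φ₁ (d₁ k) ⊗ₜ[A] g k = 0 := by
      have := congrArg (Algebra.TensorProduct.map φ₁ (AlgHom.id A C)) hd₁
      rw [map_sub, map_mul, hφ₁, he'.eq, sub_self, map_sum] at this
      simp only [Algebra.TensorProduct.map_tmul, AlgHom.coe_id, id_eq] at this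
      exact this.symm
    obtain ⟨c', hc'⟩ := exists_coeff_of_sum_tmul_eq_zero g hg κ hκ A' (fun k => φ₁ (d₁ k)) h0
    let φP : P →ₐ[A] A' := aeval (Sum.elim (fun ik : Fin n × Fin r => a' ik.1 ik.2) c')
    have hφPρ : ∀ x ∈ I, φP x = 0 := by
      have : I ≤ RingHom.ker φP.toRingHom := by
        rw [Ideal.span_le]
        rintro _ ⟨k, rfl⟩
        show φP (rename Sum.inl (d₁ k) - ∑ m, X (Sum.inr m) * MvPolynomial.C (κ m k)) = 0
        rw [map_sub, map_sum, sub_eq_zero]
        have e1 : φP (rename Sum.inl (d₁ k)) = φ₁ (d₁ k) := aeval_rename _ _ _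
        have e2 : ∀ m, φP (X (Sum.inr m) * MvPolynomial.C (κ m k)) =
            c' m * algebraMap A A' (κ m k) := by
          intro m
          rw [map_mul]
          congr 1
          · exact aeval_X _ _
          · exact aeval_C _ _
        rw [e1, hc' k]
        exact Finset.sum_congr rfl fun m _ => (e2 m).symm
      exact fun x hx => this hx
    let φ : (P ⧸ I) →ₐ[A] A' := Ideal.Quotient.liftₐ I φP hφPρ
    refine ⟨φ, ?_⟩
    rw [helt_map, ha']
    congr 1
    funext i k
    show φ (Ideal.Quotient.mk I (rename Sum.inl (X (i, k)))) = a' i k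
    rw [Ideal.Quotient.liftₐ_apply, Ideal.Quotient.lift_mk, rename_X]
    exact aeval_X _ _

end Groth.Agent.Lib.lead.UfoC
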