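import Mathlib
import Groth.Agent.Lib.Helper25.ProConsScheme

set_option autoImplicit false
set_option linter.style.haveILetI false
set_option linter.unusedSectionVars false
universe u

namespace Groth.Agent.Lib.lead.WtLcA

open AlgebraicGeometry CategoryTheory Limits Topology TopologicalSpace Set
  Groth.Agent.Lib.Helper25.PC
open scoped Set.Notation

/-- integer valued functions with locally constructible level sets -/
def LCF {X : Type*} [TopologicalSpace X] (φ : X → ℤ) : Prop :=
  ∀ n : ℤ, IsLocallyConstructible {x | φ x = n}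

theorem isLocallyConstructible_preimage {X Y : Scheme.{u}} (f : X ⟶ Y) {s : Set Y}
    (hs : IsLocallyConstructible s) : IsLocallyConstructible (f ⁻¹' s) := by
  intro x
  obtain ⟨U, hxU, hU, H⟩ := hs (f x)
  refine ⟨f ⁻¹' U, f.continuous.continuousAt.preimage_mem_nhds hxU, hU.preimage f.continuous, ?_⟩
  have := (f ∣_ ⟨U, hU⟩).isConstructible_preimage H
  have hset : ((f ∣_ ⟨U, hU⟩) ⁻¹' (Subtype.val ⁻¹' s)) =
      (Subtype.val ⁻¹' (f ⁻¹' s) : Set ↥(f ⁻¹ᵁ ⟨U, hU⟩)) := by
    ext z
    show ((f ∣_ ⟨U, hU⟩) z).1 ∈ s ↔ f z.1 ∈ s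
    rw [morphismRestrict_base_coe f ⟨U, hU⟩ z]
  have h2 : IsConstructible (Subtype.val ⁻¹' (f ⁻¹' s) : Set ↥(f ⁻¹ᵁ ⟨U, hU⟩)) := hset ▸ this
  exact h2

theorem isLocallyConstructible_compl {X : Type*} [TopologicalSpace X] {s : Set X}
    (hs : IsLocallyConstructible s) : IsLocallyConstructible sᶜ := by
  intro x
  obtain ⟨U, hxU, hU, H⟩ := hs x
  exact ⟨U, hxU, hU, by rw [preimage_compl]; exact isConstructible_compl.mpr H⟩

theorem LCF.comp {X Y : Scheme.{u}} (f : X ⟶ Y) {φ : Y → ℤ} (h : LCF φ) :
    LCF (fun x => φ (f x)) :=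
  fun n => isLocallyConstructible_preimage f (h n)

theorem isLocallyConstructible_of_isClopen {X : Type*} [TopologicalSpace X] {s : Set X}
    (hs : IsClopen s) : IsLocallyConstructible s :=
  (IsRetrocompact.isConstructible hs.isOpen
    (fun _ hU _ => hU.inter_left hs.isClosed)).isLocallyConstructible

theorem LCF.of_isLocallyConstant {X : Type*} [TopologicalSpace X] {φ : X → ℤ}
    (h : IsLocallyConstant φ) : LCF φ :=
  fun n => isLocallyConstructible_of_isClopen (h.isClopen_fiber n)

theorem LCF.const {X : Type*} [TopologicalSpace X] (c : ℤ) : LCF (fun _ : X => c) :=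
  LCF.of_isLocallyConstant (IsLocallyConstant.const c)

/-- finitely many values on a quasi-compact scheme -/
theorem LCF.exists_finset {X : Scheme.{u}} [CompactSpace X] {φ : X → ℤ} (h : LCF φ) :
    ∃ J : Finset ℤ, ∀ x, φ x ∈ J := by
  have hZ := locSpectral X
  have huniv : ProC (univ : Set X) :=
    ((isLocallyConstructible_iff hZ).mp IsLocallyConstructible.univ).2
  obtain ⟨J, hJ⟩ := exists_finset_subset_iUnion hZ huniv (fun n : ℤ => {x | φ x = n})
    (fun n => ((isLocallyConstructible_iff hZ).mp (h n)).1)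
    (fun x _ => mem_iUnion.mpr ⟨φ x, rfl⟩)
  refine ⟨J, fun x => ?_⟩
  obtain ⟨n, hn, hx⟩ := mem_iUnion₂.mp (hJ (mem_univ x))
  rw [show φ x = n from hx]
  exact hn

theorem LCF.restrict_opens {X : Scheme.{u}} {φ : X → ℤ} (h : LCF φ) (U : X.Opens) :
    LCF (fun x : (U : Scheme.{u}) => φ (U.ι x)) :=
  LCF.comp U.ι h

/-- locality -/
theorem LCF.of_affine_cover {X : Scheme.{u}} {φ : X → ℤ}
    (h : ∀ U : X.Opens, IsAffineOpen U → LCF (fun x : (U : Scheme.{u}) => φ (U.ι x))) : LCF φ := by
  intro n
  refine IsLocallyConstructible.of_isOpenCover (U := fun U : X.affineOpens => U.1)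
    (iSup_affineOpens_eq_top X) fun U => ?_
  exact h U.1 U.2 n

theorem LCF.add {X : Scheme.{u}} {φ ψ : X → ℤ} (hφ : LCF φ) (hψ : LCF ψ) :
    LCF (fun x => φ x + ψ x) := by
  apply LCF.of_affine_cover
  intro U hU n
  haveI : CompactSpace (U : Scheme.{u}) := isCompact_iff_compactSpace.mp hU.isCompact
  have h1 := hφ.restrict_opens U
  have h2 := hψ.restrict_opens U
  obtain ⟨J, hJ⟩ := h1.exists_finset
  have : {x : (U : Scheme.{u}) | φ (U.ι x) + ψ (U.ι x) = n} =
      ⋃ a ∈ (J : Set ℤ), ({x | φ (U.ι x) = a} ∩ {x | ψ (U.ι x) = n - a}) := by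
    ext x
    simp only [mem_ofPred_eq, mem_iUnion, mem_inter_iff, exists_prop]
    constructor
    · intro hx
      exact ⟨φ (U.ι x), hJ x, rfl, by omega⟩
    · rintro ⟨a, -, h3, h4⟩
      omega
  rw [this]
  exact IsLocallyConstructible.biUnion J.finite_toSet fun a _ => (h1 a).inter (h2 (n - a))

theorem LCF.neg {X : Type*} [TopologicalSpace X] {φ : X → ℤ} (hφ : LCF φ) :
    LCF (fun x => - φ x) := by
  intro n
  have : {x | - φ x = n} = {x | φ x = -n} := by
    ext x
    simp only [mem_ofPred_eq]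
    omega
  rw [this]
  exact hφ (-n)

theorem LCF.sub {X : Scheme.{u}} {φ ψ : X → ℤ} (hφ : LCF φ) (hψ : LCF ψ) :
    LCF (fun x => φ x - ψ x) := by
  have := hφ.add hψ.neg
  simpa [sub_eq_add_neg] using this

theorem LCF.finset_sum {X : Scheme.{u}} {K : Type*} (s : Finset K) (φ : K → X → ℤ)
    (h : ∀ k ∈ s, LCF (φ k)) : LCF (fun x => ∑ k ∈ s, φ k x) := by
  classical
  induction s using Finset.induction_on with
  | empty => simpa using LCF.const (X := X) 0
  | insert a s ha ih =>
    have h1 := h a (Finset.mem_insert_self a s)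
    have h2 := ih fun k hk => h k (Finset.mem_insert_of_mem hk)
    have := h1.add h2
    simpa [Finset.sum_insert ha] using this

/-- multiplication by the indicator of a locally constructible set -/
theorem LCF.indicator {X : Scheme.{u}} {φ : X → ℤ} (hφ : LCF φ) {E : Set X}
    (hE : IsLocallyConstructible E) [DecidablePred (· ∈ E)] :
    LCF (fun x => if x ∈ E then φ x else 0) := by
  intro n
  by_cases hn : n = 0
  · subst hn
    have : {x | (if x ∈ E then φ x else 0) = 0} = ({x | φ x = 0} ∩ E) ∪ Eᶜ := by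
      ext x
      by_cases hx : x ∈ E <;> simp [hx]
    rw [this]
    exact ((hφ 0).inter hE).union (isLocallyConstructible_compl hE)
  · have : {x | (if x ∈ E then φ x else 0) = n} = {x | φ x = n} ∩ E := by
      ext x
      by_cases hx : x ∈ E
      · simp [hx]
      · simp only [hx, if_false, mem_ofPred_eq, mem_inter_iff, and_false, iff_false]
        exact fun h => hn h.symm
    rw [this]
    exact (hφ n).inter hE

/-- Chevalley: descent of `LCF` along a quasi-compact morphism locally of finite presentation. -/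
theorem LCF.push {X Y : Scheme.{u}} (f : X ⟶ Y) [LocallyOfFinitePresentation f] [QuasiCompact f]
    (F : Y → ℤ) (hF : LCF (fun x => F (f x))) (h0 : ∀ y, y ∉ Set.range f → F y = 0) : LCF F := by
  intro n
  have himg : IsLocallyConstructible (f '' {x | F (f x) = n}) :=
    f.isLocallyConstructible_image (hF n)
  have hrange : IsLocallyConstructible (Set.range f) := by
    rw [← image_univ]
    exact f.isLocallyConstructible_image IsLocallyConstructible.univ
  by_cases hn : n = 0
  · subst hn
    have : {y | F y = 0} = f '' {x | F (f x) = 0} ∪ (Set.range f)ᶜ := by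
      ext y
      simp only [mem_ofPred_eq, mem_union, mem_image, mem_compl_iff, mem_range]
      constructor
      · intro hy
        by_cases hr : ∃ x, f x = y
        · obtain ⟨x, rfl⟩ := hr
          exact Or.inl ⟨x, hy, rfl⟩
        · exact Or.inr hr
      · rintro (⟨x, hx, rfl⟩ | hr)
        · exact hx
        · exact h0 y (by simpa using hr)
    rw [this]
    exact himg.union (isLocallyConstructible_compl hrange)
  · have : {y | F y = n} = f '' {x | F (f x) = n} := by
      ext y
      simp only [mem_ofPred_eq, mem_image]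
      constructor
      · intro hy
        by_cases hr : y ∈ Set.range f
        · obtain ⟨x, rfl⟩ := hr
          exact ⟨x, hy, rfl⟩
        · exact absurd ((h0 y hr).symm.trans hy).symm hn
      · rintro ⟨x, hx, rfl⟩
        exact hx
    rw [this]
    exact himg

/-- étale descent -/
theorem isLocallyConstructible_of_etale {T X : Scheme.{u}} (a : T ⟶ X) [Etale a] (E : Set X)
    (h : IsLocallyConstructible (a ⁻¹' E)) :
    ∃ O : X.Opens, (O : Set X) = Set.range a ∧ IsLocallyConstructible ((O : Set X) ↓∩ E) := by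
  let O : X.Opens := ⟨Set.range a, a.isOpenMap.isOpen_range⟩
  refine ⟨O, rfl, ?_⟩
  haveI : Surjective (a ∣_ O) := by
    constructor
    rintro ⟨_, t, rfl⟩
    refine ⟨⟨t, ⟨t, rfl⟩⟩, ?_⟩
    apply Subtype.ext
    rw [morphismRestrict_base_coe]
  have h1 : IsLocallyConstructible ((a ∣_ O) ⁻¹' ((O : Set X) ↓∩ E)) := by
    have h2 : IsLocallyConstructible (Subtype.val ⁻¹' (a ⁻¹' E) : Set ↥(a ⁻¹ᵁ O)) :=
      h.preimage_of_isOpenEmbedding (a ⁻¹ᵁ O).isOpenEmbedding'
    have hset : ((a ∣_ O) ⁻¹' ((O : Set X) ↓∩ E)) =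
        (Subtype.val ⁻¹' (a ⁻¹' E) : Set ↥(a ⁻¹ᵁ O)) := by
      ext z
      show ((a ∣_ O) z).1 ∈ E ↔ a z.1 ∈ E
      rw [morphismRestrict_base_coe]
    rw [hset]
    exact h2
  exact (isLocallyConstructible_preimage_iff (a ∣_ O) (Or.inr inferInstance)).mp h1

theorem LCF.of_etale_cover {X : Scheme.{u}} {φ : X → ℤ}
    (h : ∀ x : X, ∃ (T : Scheme.{u}) (a : T ⟶ X) (_ : Etale a), x ∈ Set.range a ∧
      LCF (fun t => φ (a t))) : LCF φ := by
  intro n
  choose T a ha hx hφ using h
  have := fun x => by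
    haveI := ha x
    exact isLocallyConstructible_of_etale (a x) {x | φ x = n} (hφ x n)
  choose O hO hOE using this
  refine IsLocallyConstructible.of_isOpenCover (U := O) ?_ hOE
  rw [IsOpenCover, eq_top_iff]
  intro x _
  exact Opens.mem_iSup.mpr ⟨x, by
    show x ∈ (O x : Set X)
    rw [hO]; exact hx x⟩

end Groth.Agent.Lib.lead.WtLcA
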