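import Mathlib
import Groth.Agent.Lib.lead.WtO

set_option autoImplicit false
set_option linter.style.haveILetI false
set_option linter.unusedSectionVars false
universe u

namespace Groth.Agent.Lib.lead.WtRestrict

open AlgebraicGeometry CategoryTheory Limits IsLocalRing Groth.Agent.Lib.lead.WtD
  Groth.Agent.Lib.lead.WtF

theorem isWeighting_restrict_open {X Y : Scheme.{u}} (f : X ⟶ Y) [LocallyQuasiFinite f]
    [LocallyOfFiniteType f] (w : X → ℤ) (hw : MoreMor.IsWeighting f w) (X' : X.Opens) :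
    MoreMor.IsWeighting (X'.ι ≫ f) (fun x => w (X'.ι x)) := by
  intro V g _ U hU
  haveI : IsFinite (U.ι ≫ pullback.snd (X'.ι ≫ f) g) := hU
  -- the base change of the open immersion
  have hΨc : (pullback.fst (X'.ι ≫ f) g ≫ X'.ι) ≫ f = pullback.snd (X'.ι ≫ f) g ≫ g := by
    rw [Category.assoc, pullback.condition]
  let Ψ : pullback (X'.ι ≫ f) g ⟶ pullback f g :=
    pullback.lift (pullback.fst (X'.ι ≫ f) g ≫ X'.ι) (pullback.snd (X'.ι ≫ f) g) hΨc
  have hΨ1 : Ψ ≫ pullback.fst f g = pullback.fst (X'.ι ≫ f) g ≫ X'.ι := pullback.lift_fst _ _ _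
  have hΨ2 : Ψ ≫ pullback.snd f g = pullback.snd (X'.ι ≫ f) g := pullback.lift_snd _ _ _
  have hbig : IsPullback (pullback.fst (X'.ι ≫ f) g) (Ψ ≫ pullback.snd f g) (X'.ι ≫ f) g := by
    rw [hΨ2]
    exact IsPullback.of_hasPullback (X'.ι ≫ f) g
  have hleft : IsPullback (pullback.fst (X'.ι ≫ f) g) Ψ X'.ι (pullback.fst f g) :=
    IsPullback.of_bot hbig hΨ1.symm (IsPullback.of_hasPullback f g)
  haveI : IsOpenImmersion Ψ :=
    MorphismProperty.of_isPullback hleft (inferInstanceAs (IsOpenImmersion X'.ι))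
  have comm : (U.ι ≫ pullback.fst (X'.ι ≫ f) g ≫ X'.ι) ≫ f =
      (U.ι ≫ pullback.snd (X'.ι ≫ f) g) ≫ g := by
    simp only [Category.assoc]
    rw [pullback.condition]
  have hchart : IsChart f g (U.ι ≫ pullback.fst (X'.ι ≫ f) g ≫ X'.ι)
      (U.ι ≫ pullback.snd (X'.ι ≫ f) g) := by
    refine ⟨comm, ?_⟩
    have : pullback.lift (U.ι ≫ pullback.fst (X'.ι ≫ f) g ≫ X'.ι)
        (U.ι ≫ pullback.snd (X'.ι ≫ f) g) comm = U.ι ≫ Ψ := by
      apply pullback.hom_ext
      · rw [pullback.lift_fst, Category.assoc, hΨ1]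
      · rw [pullback.lift_snd, Category.assoc, hΨ2]
    rw [this]
    infer_instance
  exact isLocallyConstant_of_isChart hw hchart

end Groth.Agent.Lib.lead.WtRestrict
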