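import Mathlib
import Groth.Agent.Lib.lead.IrrDisj
import Groth.Agent.Lib.lead.WtRestrict
import Groth.Agent.Lib.lead.WtLcA
import Groth.Agent.S4599

set_option autoImplicit false
set_option linter.style.haveILetI false
set_option linter.unusedSectionVars false
universe u

namespace Groth.Agent.Lib.lead.WtLcB

open AlgebraicGeometry CategoryTheory Limits Topology TopologicalSpace
  Groth.Agent.Lib.lead.WtA Groth.Agent.Lib.lead.WtB Groth.Agent.Lib.lead.WtC
  Groth.Agent.Lib.lead.WtG Groth.Agent.Lib.lead.WtM Groth.Agent.Lib.lead.IrrDisj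
  Groth.Agent.Lib.lead.WtLcA
open scoped Set.Notation

variable {U V : Scheme.{u}}

/-- integral of a function supported in an open piece -/
theorem fibreIntegral_supp_open {C : Scheme.{u}} (c : C ⟶ U) [IsOpenImmersion c] (π : U ⟶ V)
    [LocallyQuasiFinite π] (n : V) (hfin : Finite {u : U // π u = n}) (F : U → ℤ)
    (hF : ∀ u, u ∉ Set.range c → F u = 0) :
    MoreMor.fibreIntegral (c ≫ π) (F ∘ c) n = MoreMor.fibreIntegral π F n := by
  classical
  let Ω := AlgebraicClosure (V.residueField n)
  let ι : V.residueField n ⟶ CommRingCat.of Ω :=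
    CommRingCat.ofHom (algebraMap (V.residueField n) Ω)
  have hfd := fun u : {u : U // π u = n} => finite_residueFieldMap π u.1
  rw [fibreIntegral_open_eq c π n hfin F Ω ι, fibreIntegral_eq_finsum (ι := ι) hfin hfd,
    finsum_subtype_eq_finsum_cond (f := fun σ : GeomPts π n Ω ι => F (σ.pt).1)
      (fun σ => (σ.pt).1 ∈ Set.range c)]
  refine finsum_congr fun σ => ?_
  rw [finsum_eq_if]
  split_ifs with h
  · rfl
  · exact (hF _ h).symm

/-- monotonicity in the open piece for nonnegative functions -/
theorem fibreIntegral_open_le {C : Scheme.{u}} (c : C ⟶ U) [IsOpenImmersion c] (π : U ⟶ V)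
    [LocallyQuasiFinite π] (n : V) (hfin : Finite {u : U // π u = n}) (F : U → ℤ)
    (hF : ∀ u, 0 ≤ F u) :
    MoreMor.fibreIntegral (c ≫ π) (F ∘ c) n ≤ MoreMor.fibreIntegral π F n := by
  classical
  let F₁ : U → ℤ := fun u => if u ∈ Set.range c then F u else 0
  let F₂ : U → ℤ := fun u => if u ∈ Set.range c then 0 else F u
  have hFF : F = fun u => F₁ u + F₂ u := by
    funext u
    by_cases hu : u ∈ Set.range c
    · simp only [F₁, F₂, if_pos hu, add_zero]
    · simp only [F₁, F₂, if_neg hu, zero_add]
  have h1 : MoreMor.fibreIntegral (c ≫ π) (F₁ ∘ c) n = MoreMor.fibreIntegral π F₁ n :=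
    fibreIntegral_supp_open c π n hfin F₁ (fun u hu => by simp only [F₁, if_neg hu])
  have h2 : F₁ ∘ c = F ∘ c := by
    funext z
    simp only [F₁, Function.comp_apply, if_pos (Set.mem_range_self z)]
  have h3 : 0 ≤ MoreMor.fibreIntegral π F₂ n :=
    fibreIntegral_nonneg π F₂ (fun u => by
      dsimp only [F₂]
      split_ifs
      · exact le_rfl
      · exact hF u) n
  rw [h2] at h1
  rw [h1]
  conv_rhs => rw [hFF]
  rw [fibreIntegral_add π F₁ F₂ n hfin]
  omega

theorem sdeg_nonneg (π : U ⟶ V) (u : U) : 0 ≤ sdeg π u := by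
  unfold sdeg
  exact Int.natCast_nonneg _

theorem sdeg_id (X : Scheme.{u}) (x : X) : sdeg (𝟙 X) x = 1 := by
  unfold sdeg
  rw [Scheme.residueFieldMap_id]
  exact_mod_cast Field.finSepDegree_self _

section Diag

variable {X Y : Scheme.{u}} (f : X ⟶ Y) [IsSeparated f]

theorem sdeg_snd_diagonal (x : X) : sdeg (pullback.snd f f) (pullback.diagonal f x) = 1 := by
  have h := sdeg_comp (pullback.diagonal f) (pullback.snd f f) x
  rw [pullback.diagonal_snd, sdeg_id] at h
  exact Int.eq_one_of_mul_eq_one_right (sdeg_nonneg _ _) h.symm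

/-- complement of the diagonal -/
noncomputable def offDiag : (pullback f f).Opens :=
  ⟨(Set.range (pullback.diagonal f))ᶜ,
    (pullback.diagonal f).isClosedEmbedding.isClosed_range.isOpen_compl⟩

theorem mem_offDiag (z : ↑(pullback f f)) : z ∈ offDiag f ↔ z ∉ Set.range (pullback.diagonal f) :=
  Iff.rfl

/-- the second projection restricted to the complement of the diagonal -/
noncomputable def offDiagMap : (offDiag f : Scheme.{u}) ⟶ X := (offDiag f).ι ≫ pullback.snd f f

theorem snd_diagonal (x : X) : pullback.snd f f (pullback.diagonal f x) = x := by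
  have h : (pullback.diagonal f ≫ pullback.snd f f) x = (𝟙 X : X ⟶ X) x := by
    rw [pullback.diagonal_snd]
  exact h

theorem fst_diagonal (x : X) : pullback.fst f f (pullback.diagonal f x) = x := by
  have h : (pullback.diagonal f ≫ pullback.fst f f) x = (𝟙 X : X ⟶ X) x := by
    rw [pullback.diagonal_fst]
  exact h

theorem diag_formula [LocallyQuasiFinite f] (hfin : ∀ y : Y, (f ⁻¹' {y}).Finite) (φ : X → ℤ)
    (x : X) :
    MoreMor.fibreIntegral (offDiagMap f) (fun z => φ (pullback.fst f f ((offDiag f).ι z))) x =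
      MoreMor.fibreIntegral f φ (f x) - φ x := by
  classical
  have hc : IsPullback (pullback.fst f f) (pullback.snd f f) f f := IsPullback.of_hasPullback f f
  have hfinx : Finite {u : ↑(pullback f f) // pullback.snd f f u = x} :=
    finite_fibre_baseChange hc x (hfin (f x)).to_subtype
  have hbc : MoreMor.fibreIntegral (pullback.snd f f) (φ ∘ pullback.fst f f) x =
      MoreMor.fibreIntegral f φ (f x) :=
    fibreIntegral_baseChange hc φ x (hfin (f x)).to_subtype
  let F : ↑(pullback f f) → ℤ := φ ∘ pullback.fst f f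
  let F₁ : ↑(pullback f f) → ℤ := fun u => if u ∈ offDiag f then F u else 0
  let F₂ : ↑(pullback f f) → ℤ := fun u => if u ∈ offDiag f then 0 else F u
  have hFF : F = fun u => F₁ u + F₂ u := by
    funext u
    by_cases hu : u ∈ offDiag f
    · simp only [F₁, F₂, if_pos hu, add_zero]
    · simp only [F₁, F₂, if_neg hu, zero_add]
  have h1 : MoreMor.fibreIntegral ((offDiag f).ι ≫ pullback.snd f f) (F₁ ∘ (offDiag f).ι) x =
      MoreMor.fibreIntegral (pullback.snd f f) F₁ x :=
    fibreIntegral_supp_open (offDiag f).ι (pullback.snd f f) x hfinx F₁ (fun u hu => by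
      rw [Scheme.Opens.range_ι] at hu
      have hu' : u ∉ offDiag f := hu
      simp only [F₁, if_neg hu'])
  have h2 : F₁ ∘ (offDiag f).ι = fun z => φ (pullback.fst f f ((offDiag f).ι z)) := by
    funext z
    have hz : (offDiag f).ι z ∈ offDiag f := by
      have := Set.mem_range_self (f := (offDiag f).ι) z
      rwa [Scheme.Opens.range_ι] at this
    simp only [F₁, F, Function.comp_apply, if_pos hz]
  have h3 : MoreMor.fibreIntegral (pullback.snd f f) F₂ x = φ x := by
    rw [fibreIntegral_eq_sdeg]
    have hΔ : pullback.diagonal f x ∉ offDiag f := fun h => h ⟨x, rfl⟩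
    rw [finsum_eq_single _ (⟨pullback.diagonal f x, snd_diagonal f x⟩ :
      {u : ↑(pullback f f) // pullback.snd f f u = x})]
    · show F₂ (pullback.diagonal f x) * sdeg (pullback.snd f f) (pullback.diagonal f x) = φ x
      rw [sdeg_snd_diagonal, mul_one]
      simp only [F₂, hΔ, if_false, F, Function.comp_apply]
      rw [fst_diagonal]
    · rintro ⟨u, hu⟩ hne
      show F₂ u * sdeg (pullback.snd f f) u = 0
      by_cases hmem : u ∈ offDiag f
      · simp only [F₂, if_pos hmem, zero_mul]
      · exfalso
        have : u ∈ Set.range (pullback.diagonal f) := by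
          by_contra hcon
          exact hmem hcon
        obtain ⟨x', rfl⟩ := this
        have hx' : x' = x := by rw [← snd_diagonal f x']; exact hu
        subst hx'
        exact hne rfl
  have hsum : MoreMor.fibreIntegral (pullback.snd f f) F x =
      MoreMor.fibreIntegral (pullback.snd f f) F₁ x + MoreMor.fibreIntegral (pullback.snd f f) F₂ x := by
    conv_lhs => rw [hFF]
    exact fibreIntegral_add _ F₁ F₂ x hfinx
  show MoreMor.fibreIntegral ((offDiag f).ι ≫ pullback.snd f f) _ x = _
  rw [← h2, h1, ← hbc]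
  show _ = MoreMor.fibreIntegral (pullback.snd f f) F x - φ x
  rw [hsum, h3]
  ring

/-- constructible sets are retrocompact -/
theorem isRetrocompact_of_isConstructible {Z : Type*} [TopologicalSpace Z] {s : Set Z}
    (hs : IsConstructible s) : IsRetrocompact s := by
  induction s, hs using BooleanSubalgebra.closure_sdiff_sup_induction with
  | isSublattice =>
    exact ⟨fun s hs t ht ↦ ⟨hs.1.union ht.1, hs.2.union ht.2⟩,
      fun s hs t ht ↦ ⟨hs.1.inter ht.1, hs.2.inter_isOpen ht.2 ht.1⟩⟩
  | bot_mem => exact ⟨isOpen_empty, .empty⟩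
  | top_mem => exact ⟨isOpen_univ, .univ⟩
  | sdiff U hU V hV =>
    intro W hWc hWo
    have : (U \ V) ∩ W = (U ∩ W) \ V := by
      ext x; simp only [Set.mem_inter_iff, Set.mem_sdiff]; tauto
    rw [this]
    exact (hU.2 hWc hWo).diff hV.1
  | sup s _ t _ hs' ht' => exact hs'.union ht'

/-- an open locally constructible subset of a scheme is retrocompact -/
theorem quasiCompact_ι_of_isLocallyConstructible {P : Scheme.{u}} (D : P.Opens)
    (hD : IsLocallyConstructible (D : Set P)) : QuasiCompact D.ι := by
  rw [quasiCompact_iff_forall_isAffineOpen]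
  intro W hW
  have hWs : Groth.Agent.Lib.Helper25.PC.IsSpecOpen (W : Set P) := hW.isSpecOpen
  haveI := hWs.compactSpace
  haveI := hWs.quasiSeparatedSpace
  haveI := hWs.prespectralSpace
  have h1 : IsLocallyConstructible ((W : Set P) ↓∩ (D : Set P)) :=
    hD.preimage_of_isOpenEmbedding W.isOpenEmbedding'
  have h2 : IsConstructible ((W : Set P) ↓∩ (D : Set P)) := h1.isConstructible
  have h3 : IsCompact (((W : Set P) ↓∩ (D : Set P)) ∩ Set.univ) :=
    isRetrocompact_of_isConstructible h2 isCompact_univ isOpen_univ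
  rw [Set.inter_univ] at h3
  have h4 : IsCompact ((W : Set P) ∩ (D : Set P)) := by
    have := h3.image W.isOpenEmbedding'.continuous
    rwa [Subtype.image_preimage_coe] at this
  rw [D.ι.isOpenEmbedding.isEmbedding.isCompact_iff]
  convert h4 using 1
  ext z
  simp only [Set.mem_image, Set.mem_inter_iff]
  constructor
  · rintro ⟨t, ht, rfl⟩
    refine ⟨ht, ?_⟩
    have := Set.mem_range_self (f := D.ι) t
    rwa [Scheme.Opens.range_ι] at this
  · rintro ⟨hz1, hz2⟩
    exact ⟨⟨z, hz2⟩, hz1, rfl⟩

instance quasiCompact_offDiag_ι [LocallyOfFiniteType f] : QuasiCompact (offDiag f).ι := by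
  haveI : LocallyOfFinitePresentation (pullback.diagonal f) := Groth.Agent.S4599.result f
  apply quasiCompact_ι_of_isLocallyConstructible
  have hrange : IsLocallyConstructible (Set.range (pullback.diagonal f)) := by
    rw [← Set.image_univ]
    exact (pullback.diagonal f).isLocallyConstructible_image IsLocallyConstructible.univ
  exact isLocallyConstructible_compl hrange

end Diag

end Groth.Agent.Lib.lead.WtLcB
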