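import Mathlib
import Groth.Agent.Lib.lead.WtLcB

set_option autoImplicit false
set_option linter.style.haveILetI false
set_option linter.unusedSectionVars false
universe u

namespace Groth.Agent.Lib.lead.WtLcC

open AlgebraicGeometry CategoryTheory Limits Topology TopologicalSpace
  Groth.Agent.Lib.lead.WtA Groth.Agent.Lib.lead.WtB Groth.Agent.Lib.lead.WtC
  Groth.Agent.Lib.lead.WtG Groth.Agent.Lib.lead.WtM Groth.Agent.Lib.lead.IrrDisj
  Groth.Agent.Lib.lead.WtLcA Groth.Agent.Lib.lead.WtLcB Groth.Agent.Lib.lead.WtF
  Groth.Agent.Lib.lead.WtRestrict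
open scoped Set.Notation

variable {X Y : Scheme.{u}}

/-- number of geometric points of the fibre -/
noncomputable abbrev cnt (f : X ⟶ Y) (y : Y) : ℤ := MoreMor.fibreIntegral f (fun _ => 1) y

section Inst
variable (f : X ⟶ Y) [IsSeparated f]

instance [LocallyOfFinitePresentation f] : LocallyOfFinitePresentation (offDiagMap f) := by
  unfold offDiagMap; infer_instance

instance [LocallyQuasiFinite f] : LocallyQuasiFinite (offDiagMap f) := by
  unfold offDiagMap; infer_instance

instance : IsSeparated (offDiagMap f) := by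
  unfold offDiagMap; infer_instance

instance [LocallyOfFiniteType f] [QuasiCompact f] : QuasiCompact (offDiagMap f) := by
  unfold offDiagMap; infer_instance

theorem cnt_offDiagMap [LocallyQuasiFinite f] [QuasiCompact f] (x : X) :
    cnt (offDiagMap f) x = cnt f (f x) - 1 :=
  diag_formula f (fun y => f.finite_preimage_singleton y) (fun _ => 1) x

end Inst

/-- reduction to finite étale-local pieces -/
theorem lcf_of_pieces (f : X ⟶ Y) [LocallyQuasiFinite f] [LocallyOfFiniteType f] [IsSeparated f]
    (w : X → ℤ)
    (hC : ∀ (W : Scheme.{u}) (g : W ⟶ Y) [Etale g] (T : (pullback f g).Opens),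
      IsFinite (T.ι ≫ pullback.snd f g) → LCF (fun t : T => w (pullback.fst f g (T.ι t)))) :
    LCF w := by
  apply LCF.of_etale_cover
  intro x₀
  obtain ⟨W, g, u, hg, hgu, J, hJ, V, v, hclopen, hdisj, hV, hall⟩ :=
    Groth.Agent.Lib.Helper19.PI12.main_pi_sep f (f x₀) (fun _ : Unit => x₀)
      (fun a b _ => Subsingleton.elim a b) (fun _ => rfl) (fun _ => f.quasiFiniteAt x₀)
  haveI := hg
  obtain ⟨z, hz1, hz2⟩ := Scheme.Pullback.exists_preimage_pullback x₀ u hgu.symm
  obtain ⟨j, hj⟩ := hall z () hz2 hz1
  refine ⟨(V () j : Scheme.{u}), (V () j).ι ≫ pullback.fst f g, inferInstance, ⟨⟨z, hj⟩, hz1⟩, ?_⟩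
  exact hC W g (V () j) (hV () j).2.1

theorem main (d : ℕ) : ∀ {X Y : Scheme.{u}} (f : X ⟶ Y) [LocallyOfFinitePresentation f]
    [LocallyQuasiFinite f] [IsSeparated f] [QuasiCompact f], (∀ y, cnt f y ≤ d) →
    (∀ φ : X → ℤ, LCF φ → LCF (MoreMor.fibreIntegral f φ)) ∧
      (∀ w : X → ℤ, MoreMor.IsWeighting f w → LCF w) := by
  induction d with
  | zero =>
    intro X Y f _ _ _ _ hd
    have hfin := fun y => f.finite_preimage_singleton y
    haveI : IsEmpty X := by
      constructor
      intro x
      have h1 : (1 : ℤ) ≤ cnt f (f x) :=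
        le_fibreIntegral f (fun _ => 1) (fun _ => zero_le_one) (f x) (hfin (f x)).to_subtype x rfl
      have h2 := hd (f x)
      simp only [Nat.cast_zero] at h2
      omega
    refine ⟨fun φ _ => ?_, fun w _ n x => (IsEmpty.false x).elim⟩
    have : MoreMor.fibreIntegral f φ = fun _ => 0 := by
      funext y
      haveI : IsEmpty {u : X // f u = y} := ⟨fun u => IsEmpty.false u.1⟩
      exact finsum_of_isEmpty _
    rw [this]
    exact LCF.const 0
  | succ d ih =>
    intro X Y f _ _ _ _ hd
    have hfin := fun y => f.finite_preimage_singleton y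
    have hq : ∀ x, cnt (offDiagMap f) x ≤ d := by
      intro x
      rw [cnt_offDiagMap]
      have := hd (f x)
      push_cast at this
      omega
    -- (D)
    have hD : ∀ φ : X → ℤ, LCF φ → LCF (MoreMor.fibreIntegral f φ) := by
      intro φ hφ
      have h1 : LCF (fun z : (offDiag f : Scheme.{u}) => φ (pullback.fst f f ((offDiag f).ι z))) :=
        LCF.comp (offDiag f).ι (LCF.comp (pullback.fst f f) hφ)
      have h2 := (ih (offDiagMap f) hq).1 _ h1
      have h3 : LCF (fun x => MoreMor.fibreIntegral f φ (f x)) := by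
        have h4 := h2.add hφ
        have h5 : (fun x => MoreMor.fibreIntegral f φ (f x)) = fun x =>
            MoreMor.fibreIntegral (offDiagMap f)
              (fun z => φ (pullback.fst f f ((offDiag f).ι z))) x + φ x := by
          funext x
          rw [diag_formula f hfin φ x]
          ring
        rw [h5]
        exact h4
      refine LCF.push f _ h3 fun y hy => ?_
      haveI : IsEmpty {u : X // f u = y} := ⟨fun u => hy ⟨u.1, u.2⟩⟩
      exact finsum_of_isEmpty _
    refine ⟨hD, fun w hw => ?_⟩
    -- (A)
    apply lcf_of_pieces f w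
    intro W g _ T hT
    haveI : IsFinite (T.ι ≫ pullback.snd f g) := hT
    set π : (T : Scheme.{u}) ⟶ W := T.ι ≫ pullback.snd f g with hπ
    let wT : T.toScheme → ℤ := fun t => w (pullback.fst f g (T.ι t))
    have hc : IsPullback (pullback.fst f g) (pullback.snd f g) f g := IsPullback.of_hasPullback f g
    have hwsnd : MoreMor.IsWeighting (pullback.snd f g) (w ∘ pullback.fst f g) :=
      S1419 f w hw (pullback.snd f g) (pullback.fst f g) g hc
    have hwT : MoreMor.IsWeighting π wT :=
      isWeighting_restrict_open (pullback.snd f g) (w ∘ pullback.fst f g) hwsnd T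
    have hconst : IsLocallyConstant (MoreMor.fibreIntegral π wT) := hw W g T hT
    have hfinπ := fun v => π.finite_preimage_singleton v
    have hcntπ : ∀ v, cnt π v ≤ (d + 1 : ℕ) := by
      intro v
      have hfinsnd : Finite {u : ↑(pullback f g) // pullback.snd f g u = v} :=
        finite_fibre_baseChange hc v (hfin (g v)).to_subtype
      have h1 := fibreIntegral_open_le T.ι (pullback.snd f g) v hfinsnd (fun _ => 1)
        (fun _ => zero_le_one)
      have h2 : MoreMor.fibreIntegral (pullback.snd f g) ((fun _ => (1 : ℤ)) ∘ pullback.fst f g) v =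
          MoreMor.fibreIntegral f (fun _ => 1) (g v) :=
        fibreIntegral_baseChange hc (fun _ => 1) v (hfin (g v)).to_subtype
      have h3 := hd (g v)
      exact le_trans h1 (le_trans (le_of_eq h2) h3)
    have hq' : ∀ t, cnt (offDiagMap π) t ≤ d := by
      intro t
      rw [cnt_offDiagMap]
      have := hcntπ (π t)
      push_cast at this
      omega
    obtain ⟨hD', hA'⟩ := ih (offDiagMap π) hq'
    let w'' : (offDiag π).toScheme → ℤ := fun z => wT (pullback.fst π π ((offDiag π).ι z))
    have hcπ : IsPullback (pullback.fst π π) (pullback.snd π π) π π := IsPullback.of_hasPullback π π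
    have hw'' : MoreMor.IsWeighting (offDiagMap π) w'' :=
      isWeighting_restrict_open (pullback.snd π π) (wT ∘ pullback.fst π π)
        (S1419 π wT hwT (pullback.snd π π) (pullback.fst π π) π hcπ) (offDiag π)
    have h1 : LCF (MoreMor.fibreIntegral (offDiagMap π) w'') := hD' w'' (hA' w'' hw'')
    have h2 : LCF (fun t => MoreMor.fibreIntegral π wT (π t)) :=
      LCF.comp π (LCF.of_isLocallyConstant hconst)
    have h3 := h2.sub h1
    have h4 : wT = fun t => MoreMor.fibreIntegral π wT (π t) -
        MoreMor.fibreIntegral (offDiagMap π) w'' t := by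
      funext t
      have := diag_formula π hfinπ wT t
      show wT t = _ - MoreMor.fibreIntegral (offDiagMap π)
        (fun z => wT (pullback.fst π π ((offDiag π).ι z))) t
      rw [this]
      ring
    show LCF wT
    rw [h4]
    exact h3

end Groth.Agent.Lib.lead.WtLcC
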