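import Mathlib
import Groth.Agent.Lib.lead.WtLcC
import Groth.Agent.Lib.lead.WtLcD
import Groth.Agent.Lib.lead.QfBound

set_option autoImplicit false
set_option linter.style.haveILetI false
set_option linter.unusedSectionVars false
universe u

namespace Groth.Agent.Lib.lead.WtLcE

open AlgebraicGeometry CategoryTheory Limits Topology TopologicalSpace
  Groth.Agent.Lib.lead.WtA Groth.Agent.Lib.lead.WtB Groth.Agent.Lib.lead.WtC
  Groth.Agent.Lib.lead.WtG Groth.Agent.Lib.lead.WtM Groth.Agent.Lib.lead.IrrDisj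
  Groth.Agent.Lib.lead.WtLcA Groth.Agent.Lib.lead.WtLcB Groth.Agent.Lib.lead.WtF
  Groth.Agent.Lib.lead.WtRestrict Groth.Agent.Lib.lead.WtLcC Groth.Agent.Lib.lead.WtLcD
  Groth.Agent.Lib.lead.QfBound
open scoped Set.Notation

theorem residueFieldMap_surjective' {X Y : Scheme.{u}} (j : X ⟶ Y) [SurjectiveOnStalks j] (x : X) :
    Function.Surjective (j.residueFieldMap x).hom := by
  intro b
  obtain ⟨s, rfl⟩ := IsLocalRing.residue_surjective b
  obtain ⟨t, rfl⟩ := j.stalkMap_surjective x s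
  exact ⟨IsLocalRing.residue _ t, rfl⟩

theorem sdeg_eq_one_of_surjective {U V : Scheme.{u}} (π : U ⟶ V) (u : U)
    (h : Function.Surjective (π.residueFieldMap u).hom) : sdeg π u = 1 := by
  unfold sdeg
  letI := (π.residueFieldMap u).hom.toAlgebra
  haveI : IsPurelyInseparable (V.residueField (π u)) (U.residueField u) :=
    ⟨Algebra.isIntegral_of_surjective h, fun x _ => h x⟩
  rw [IsPurelyInseparable.finSepDegree_eq_one]
  rfl

/-- integral of a function supported on a closed subscheme -/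
theorem fibreIntegral_supp_closed {A B V : Scheme.{u}} (κ : A ⟶ B) [IsClosedImmersion κ]
    (p : B ⟶ V) (v : V) (F : B → ℤ) (hF : ∀ b, b ∉ Set.range κ → F b = 0) :
    MoreMor.fibreIntegral (κ ≫ p) (F ∘ κ) v = MoreMor.fibreIntegral p F v := by
  rw [fibreIntegral_eq_sdeg, fibreIntegral_eq_sdeg]
  let e : {a : A // (κ ≫ p) a = v} → {b : B // p b = v} := fun a => ⟨κ a.1, a.2⟩
  have he : Function.Injective e := fun a a' h =>
    Subtype.ext (κ.isClosedEmbedding.injective (congrArg Subtype.val h))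
  have hterm : ∀ a : {a : A // (κ ≫ p) a = v}, (F ∘ κ) a.1 * sdeg (κ ≫ p) a.1 =
      (fun b : {b : B // p b = v} => F b.1 * sdeg p b.1) (e a) := by
    intro a
    rw [sdeg_comp κ p a.1, sdeg_eq_one_of_surjective κ a.1 (residueFieldMap_surjective' κ a.1),
      mul_one]
    rfl
  rw [finsum_congr hterm]
  refine (finsum_mem_range (f := fun b : {b : B // p b = v} => F b.1 * sdeg p b.1) he).symm.trans ?_
  rw [finsum_mem_def]
  refine finsum_congr fun b => ?_
  by_cases hb : b ∈ Set.range e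
  · rw [Set.indicator_of_mem hb]
  · rw [Set.indicator_of_notMem hb]
    have hb' : b.1 ∉ Set.range κ := fun ⟨a, ha⟩ =>
      hb ⟨⟨a, by show p (κ a) = v; rw [ha]; exact b.2⟩, Subtype.ext ha⟩
    show 0 = F b.1 * _
    rw [hF _ hb', zero_mul]

theorem exists_preimage_of_isPullback {P A B C : Scheme.{u}} {a : P ⟶ A} {b : P ⟶ B} {c : A ⟶ C}
    {d : B ⟶ C} (h : IsPullback a b c d) (x : A) (y : B) (hxy : c x = d y) :
    ∃ z : P, a z = x ∧ b z = y := by
  obtain ⟨z₀, hz1, hz2⟩ := Scheme.Pullback.exists_preimage_pullback x y hxy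
  refine ⟨h.isoPullback.inv z₀, ?_, ?_⟩
  · have : (h.isoPullback.inv ≫ a) z₀ = x := by rw [h.isoPullback_inv_fst]; exact hz1
    exact this
  · have : (h.isoPullback.inv ≫ b) z₀ = y := by rw [h.isoPullback_inv_snd]; exact hz2
    exact this

/-- extension by zero -/
noncomputable def extZero {T T' : Scheme.{u}} (i : T ⟶ T') (w : T → ℤ) : T' → ℤ := fun t' => by
  classical exact if h : t' ∈ Set.range i then w h.choose else 0

theorem extZero_apply {T T' : Scheme.{u}} (i : T ⟶ T') [IsClosedImmersion i] (w : T → ℤ) (t : T) :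
    extZero i w (i t) = w t := by
  classical
  have h : i t ∈ Set.range i := ⟨t, rfl⟩
  unfold extZero
  rw [dif_pos h]
  exact congrArg w (i.isClosedEmbedding.injective h.choose_spec)

theorem extZero_of_notMem {T T' : Scheme.{u}} (i : T ⟶ T') (w : T → ℤ) (t' : T')
    (h : t' ∉ Set.range i) : extZero i w t' = 0 := by
  classical
  unfold extZero
  rw [dif_neg h]

theorem isWeighting_extZero {T T' W : Scheme.{u}} (i : T ⟶ T') [IsClosedImmersion i]
    (π' : T' ⟶ W) (w : T → ℤ) (hw : MoreMor.IsWeighting (i ≫ π') w) :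
    MoreMor.IsWeighting π' (extZero i w) := by
  intro V' g _ U hU
  haveI : IsFinite (U.ι ≫ pullback.snd π' g) := hU
  have hΨc : (pullback.fst (i ≫ π') g ≫ i) ≫ π' = pullback.snd (i ≫ π') g ≫ g := by
    rw [Category.assoc, pullback.condition]
  let Ψ : pullback (i ≫ π') g ⟶ pullback π' g :=
    pullback.lift (pullback.fst (i ≫ π') g ≫ i) (pullback.snd (i ≫ π') g) hΨc
  have hΨ1 : Ψ ≫ pullback.fst π' g = pullback.fst (i ≫ π') g ≫ i := pullback.lift_fst _ _ _
  have hΨ2 : Ψ ≫ pullback.snd π' g = pullback.snd (i ≫ π') g := pullback.lift_snd _ _ _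
  have hbig : IsPullback (pullback.fst (i ≫ π') g) (Ψ ≫ pullback.snd π' g) (i ≫ π') g := by
    rw [hΨ2]
    exact IsPullback.of_hasPullback (i ≫ π') g
  have hleft : IsPullback (pullback.fst (i ≫ π') g) Ψ i (pullback.fst π' g) :=
    IsPullback.of_bot hbig hΨ1.symm (IsPullback.of_hasPullback π' g)
  haveI : IsClosedImmersion Ψ :=
    MorphismProperty.of_isPullback hleft (inferInstanceAs (IsClosedImmersion i))
  let U' : (pullback (i ≫ π') g).Opens := Ψ ⁻¹ᵁ U
  let κ : (U' : Scheme.{u}) ⟶ (U : Scheme.{u}) := Ψ ∣_ U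
  haveI : IsClosedImmersion κ :=
    MorphismProperty.of_isPullback (isPullback_morphismRestrict Ψ U).flip
      (inferInstanceAs (IsClosedImmersion Ψ))
  have hκι : κ ≫ U.ι = U'.ι ≫ Ψ := morphismRestrict_ι Ψ U
  have hκp : κ ≫ (U.ι ≫ pullback.snd π' g) = U'.ι ≫ pullback.snd (i ≫ π') g := by
    rw [← Category.assoc, hκι, Category.assoc, hΨ2]
  have hfin' : IsFinite (U'.ι ≫ pullback.snd (i ≫ π') g) := by
    rw [← hκp]
    infer_instance
  have hlc := hw V' g U' hfin'
  let F : U.toScheme → ℤ := fun u => extZero i w (pullback.fst π' g (U.ι u))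
  have hFκ : F ∘ κ = fun u => w (pullback.fst (i ≫ π') g (U'.ι u)) := by
    funext u
    have h1 : U.ι (κ u) = Ψ (U'.ι u) := by
      have : (κ ≫ U.ι) u = (U'.ι ≫ Ψ) u := by rw [hκι]
      exact this
    have h2 : pullback.fst π' g (Ψ (U'.ι u)) = i (pullback.fst (i ≫ π') g (U'.ι u)) := by
      have : (Ψ ≫ pullback.fst π' g) (U'.ι u) = (pullback.fst (i ≫ π') g ≫ i) (U'.ι u) := by
        rw [hΨ1]
      exact this
    show extZero i w (pullback.fst π' g (U.ι (κ u))) = _
    rw [h1, h2, extZero_apply]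
  have hF0 : ∀ b, b ∉ Set.range κ → F b = 0 := by
    intro b hb
    by_contra hne
    have hmem : pullback.fst π' g (U.ι b) ∈ Set.range i := by
      by_contra hcon
      exact hne (extZero_of_notMem i w _ hcon)
    obtain ⟨t, ht⟩ := hmem
    obtain ⟨z, hz1, hz2⟩ := exists_preimage_of_isPullback hleft t (U.ι b) ht
    have hzU : z ∈ U' := by
      show Ψ z ∈ U
      rw [hz2]
      have := Set.mem_range_self (f := U.ι) b
      rwa [Scheme.Opens.range_ι] at this
    apply hb
    refine ⟨⟨z, hzU⟩, ?_⟩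
    apply U.ι.isOpenEmbedding.injective
    have : (κ ≫ U.ι) ⟨z, hzU⟩ = (U'.ι ≫ Ψ) ⟨z, hzU⟩ := by rw [hκι]
    exact this.trans hz2
  have hpt : MoreMor.fibreIntegral (U.ι ≫ pullback.snd π' g) F =
      MoreMor.fibreIntegral (U'.ι ≫ pullback.snd (i ≫ π') g)
        (fun u => w (pullback.fst (i ≫ π') g (U'.ι u))) := by
    funext v
    rw [← fibreIntegral_supp_closed κ (U.ι ≫ pullback.snd π' g) v F hF0, hFκ, hκp]
  show IsLocallyConstant (MoreMor.fibreIntegral (U.ι ≫ pullback.snd π' g) F)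
  rw [hpt]
  exact hlc

theorem exists_bound_cnt {X Y : Scheme.{u}} (f : X ⟶ Y) [LocallyQuasiFinite f]
    [LocallyOfFiniteType f] [CompactSpace X] :
    ∃ d : ℕ, ∀ y, Finite {x : X // f x = y} ∧ cnt f y ≤ d := by
  classical
  obtain ⟨d, hd⟩ := exists_bound_geomPts f
  refine ⟨d, fun y => ?_⟩
  let Ω := AlgebraicClosure (Y.residueField y)
  let ι : Y.residueField y ⟶ CommRingCat.of Ω :=
    CommRingCat.ofHom (algebraMap (Y.residueField y) Ω)
  obtain ⟨h1, h2⟩ := hd y Ω ι
  have hfd := fun u : {u : X // f u = y} => finite_residueFieldMap f u.1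
  have hfin : Finite {x : X // f x = y} := Finite.of_surjective _ (pt_surjective (ι := ι) hfd)
  refine ⟨hfin, ?_⟩
  letI : Fintype (GeomPts f y Ω ι) := Fintype.ofFinite _
  show MoreMor.fibreIntegral f (fun _ => 1) y ≤ d
  rw [fibreIntegral_eq_finsum (ι := ι) hfin hfd, finsum_eq_sum_of_fintype, Finset.sum_const,
    Finset.card_univ, ← Nat.card_eq_fintype_card]
  simp only [nsmul_eq_mul, mul_one]
  exact_mod_cast h2

/-- finite morphisms to an affine scheme -/
theorem lcf_of_finite_affine {T W : Scheme.{u}} (π : T ⟶ W) [IsFinite π] [IsAffine W] (w : T → ℤ)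
    (hw : MoreMor.IsWeighting π w) : LCF w := by
  obtain ⟨T', i, π', hi, hπ'fin, hπ'fp, hT'aff, hcomp⟩ := exists_fp_embedding π
  rw [← hcomp] at hw
  have hw0 := isWeighting_extZero i π' w hw
  obtain ⟨d, hd⟩ := exists_bound_cnt π'
  have h1 := (main d π' (fun y => (hd y).2)).2 _ hw0
  have h2 := LCF.comp i h1
  have h3 : (fun t => extZero i w (i t)) = w := by
    funext t
    exact extZero_apply i w t
  rw [h3] at h2
  exact h2

/-- finite morphisms -/
theorem lcf_of_finite {T W : Scheme.{u}} (π : T ⟶ W) [IsFinite π] (w : T → ℤ)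
    (hw : MoreMor.IsWeighting π w) : LCF w := by
  apply LCF.of_etale_cover
  intro t
  obtain ⟨_, ⟨W₀, hW₀, rfl⟩, htW', -⟩ := W.isBasis_affineOpens.exists_subset_of_mem_open
    (Set.mem_univ (π t)) isOpen_univ
  obtain ⟨W', hW'e⟩ : ∃ W' : W.Opens, W' = W₀ := ⟨W₀, rfl⟩
  subst hW'e
  have hW' : IsAffineOpen W' := hW₀
  haveI : IsAffine (W' : Scheme.{u}) := hW'
  refine ⟨(π ⁻¹ᵁ W' : Scheme.{u}), (π ⁻¹ᵁ W').ι, inferInstance, ?_, ?_⟩
  · rw [Scheme.Opens.range_ι]
    exact htW'
  · have hwr : MoreMor.IsWeighting (π ∣_ W') (w ∘ (π ⁻¹ᵁ W').ι) :=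
      S1419 π w hw (π ∣_ W') (π ⁻¹ᵁ W').ι W'.ι (isPullback_morphismRestrict π W').flip
    exact lcf_of_finite_affine (π ∣_ W') _ hwr

end Groth.Agent.Lib.lead.WtLcE
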