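import Mathlib
import Groth.Agent.Lib.lead.UfoC
import Groth.Agent.Lib.lead.WtLcE

set_option autoImplicit false
set_option linter.style.haveILetI false
set_option linter.unusedSectionVars false
universe u

namespace Groth.Agent.Lib.lead.UfoD

open AlgebraicGeometry CategoryTheory Limits TopologicalSpace TensorProduct

section frame

variable {X Y : Scheme.{u}} [IsAffine Y] (f : X ⟶ Y)
  (C : Type u) [CommRing C] [Algebra Γ(Y, ⊤) C]
  (k : X ⟶ Spec (CommRingCat.of C))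
  (hk : k ≫ Spec.map (CommRingCat.ofHom (algebraMap Γ(Y, ⊤) C)) ≫ Y.isoSpec.inv = f)
  (A' : Type u) [CommRing A'] [Algebra Γ(Y, ⊤) A'] {Y' : Scheme.{u}}
  (θ : Y' ⟶ Spec (CommRingCat.of A')) [IsIso θ] (b : Y' ⟶ Y)
  (hb : θ ≫ Spec.map (CommRingCat.ofHom (algebraMap Γ(Y, ⊤) A')) ≫ Y.isoSpec.inv = b)

/-- the base change of `T = Spec C` -/
noncomputable abbrev T' : Scheme.{u} := Spec (CommRingCat.of (A' ⊗[Γ(Y, ⊤)] C))

/-- first projection -/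
noncomputable abbrev p₁ : T' (Y := Y) C A' ⟶ Spec (CommRingCat.of C) :=
  Spec.map (CommRingCat.ofHom (Algebra.TensorProduct.includeRight (R := Γ(Y, ⊤)) (A := A') (B := C)).toRingHom)

/-- second projection -/
noncomputable abbrev p₂ : T' (Y := Y) C A' ⟶ Y' :=
  Spec.map (CommRingCat.ofHom (Algebra.TensorProduct.includeLeftRingHom (R := Γ(Y, ⊤)) (A := A') (B := C))) ≫ inv θ

include hb in
theorem isPullback_T' :
    IsPullback (p₁ (Y := Y) C A') (p₂ C A' θ)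
      (Spec.map (CommRingCat.ofHom (algebraMap Γ(Y, ⊤) C)) ≫ Y.isoSpec.inv) b := by
  have h0 := (isPullback_SpecMap_of_isPushout _ _ _ _
    (CommRingCat.isPushout_tensorProduct Γ(Y, ⊤) A' C)).flip
  refine h0.of_iso (Iso.refl _) (Iso.refl _) (asIso θ).symm Y.isoSpec.symm ?_ ?_ ?_ ?_
  · simp only [Iso.refl_hom, Category.comp_id, Category.id_comp]
  · simp [p₂]
  · simp
  · simp [← hb]

/-- the base change of `k` -/
noncomputable def k' : pullback f b ⟶ T' (Y := Y) C A' :=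
  (isPullback_T' C A' θ b hb).lift (pullback.fst f b ≫ k) (pullback.snd f b)
    (by rw [Category.assoc, hk, pullback.condition])

@[reassoc]
theorem k'_p₁ : k' f C k hk A' θ b hb ≫ p₁ (Y := Y) C A' = pullback.fst f b ≫ k :=
  (isPullback_T' C A' θ b hb).lift_fst _ _ _

@[reassoc]
theorem k'_p₂ : k' f C k hk A' θ b hb ≫ p₂ C A' θ = pullback.snd f b :=
  (isPullback_T' C A' θ b hb).lift_snd _ _ _

theorem isPullback_k' :
    IsPullback (k' f C k hk A' θ b hb) (pullback.fst f b) (p₁ (Y := Y) C A') k := by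
  refine IsPullback.of_right ?_ (k'_p₁ f C k hk A' θ b hb) (isPullback_T' C A' θ b hb).flip
  rw [k'_p₂, hk]
  exact (IsPullback.of_hasPullback f b).flip

instance [IsOpenImmersion k] : IsOpenImmersion (k' f C k hk A' θ b hb) :=
  MorphismProperty.of_isPullback (P := @IsOpenImmersion) (isPullback_k' f C k hk A' θ b hb).flip ‹_›

theorem mem_range_k' {n : ℕ} (β : Fin n → C)
    (hβ : ∀ t : Spec (CommRingCat.of C), t ∈ Set.range k ↔ ∃ i, β i ∉ t.asIdeal)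
    (t : T' (Y := Y) C A') :
    t ∈ Set.range (k' f C k hk A' θ b hb) ↔ ∃ i, (1 : A') ⊗ₜ[Γ(Y, ⊤)] β i ∉ t.asIdeal := by
  have h1 : t ∈ Set.range (k' f C k hk A' θ b hb) ↔ p₁ (Y := Y) C A' t ∈ Set.range k := by
    constructor
    · rintro ⟨z, rfl⟩
      refine ⟨pullback.fst f b z, ?_⟩
      rw [← Scheme.Hom.comp_apply, ← k'_p₁ f C k hk A' θ b hb, Scheme.Hom.comp_apply]
    · rintro ⟨x, hx⟩
      obtain ⟨z, hz1, -⟩ := Groth.Agent.Lib.lead.WtLcE.exists_preimage_of_isPullback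
        (isPullback_k' f C k hk A' θ b hb) t x hx.symm
      exact ⟨z, hz1⟩
  rw [h1, hβ]
  rfl

/-- the basic open `D(e)` of `T'` -/
noncomputable def De (e : A' ⊗[Γ(Y, ⊤)] C) : (T' (Y := Y) C A').Opens := PrimeSpectrum.basicOpen e

theorem mem_De (e : A' ⊗[Γ(Y, ⊤)] C) (t : T' (Y := Y) C A') :
    t ∈ De (Y := Y) C A' e ↔ e ∉ t.asIdeal := Iff.rfl

instance isFinite_p₂ [Module.Finite Γ(Y, ⊤) C] : IsFinite (p₂ (Y := Y) C A' θ) := by
  haveI : IsFinite (Spec.map (CommRingCat.ofHom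
      (Algebra.TensorProduct.includeLeftRingHom (R := Γ(Y, ⊤)) (A := A') (B := C)))) := by
    rw [IsFinite.SpecMap_iff]
    exact RingHom.finite_algebraMap.mpr
      (inferInstance : Module.Finite A' (A' ⊗[Γ(Y, ⊤)] C))
  unfold p₂
  infer_instance

theorem De_subset_range {n : ℕ} (β : Fin n → C)
    (hβ : ∀ t : Spec (CommRingCat.of C), t ∈ Set.range k ↔ ∃ i, β i ∉ t.asIdeal)
    (e : A' ⊗[Γ(Y, ⊤)] C)
    (hmem : e ∈ Ideal.span (Set.range fun i => (1 : A') ⊗ₜ[Γ(Y, ⊤)] β i))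
    (t : T' (Y := Y) C A') (ht : t ∈ De (Y := Y) C A' e) :
    t ∈ Set.range (k' f C k hk A' θ b hb) := by
  rw [mem_range_k' f C k hk A' θ b hb β hβ]
  by_contra hcon
  push Not at hcon
  apply ht
  have : Ideal.span (Set.range fun i => (1 : A') ⊗ₜ[Γ(Y, ⊤)] β i) ≤ t.asIdeal := by
    rw [Ideal.span_le]
    rintro _ ⟨i, rfl⟩
    exact hcon i
  exact this hmem

theorem isFinite_of_idempotent [IsOpenImmersion k] [Module.Finite Γ(Y, ⊤) C] {n : ℕ} (β : Fin n → C)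
    (hβ : ∀ t : Spec (CommRingCat.of C), t ∈ Set.range k ↔ ∃ i, β i ∉ t.asIdeal)
    (e : A' ⊗[Γ(Y, ⊤)] C) (he : IsIdempotentElem e)
    (hmem : e ∈ Ideal.span (Set.range fun i => (1 : A') ⊗ₜ[Γ(Y, ⊤)] β i)) :
    IsFinite (((k' f C k hk A' θ b hb) ⁻¹ᵁ De (Y := Y) C A' e).ι ≫ pullback.snd f b) := by
  set V := (k' f C k hk A' θ b hb) ⁻¹ᵁ De (Y := Y) C A' e with hV
  have hsnd : V.ι ≫ pullback.snd f b = (V.ι ≫ k' f C k hk A' θ b hb) ≫ p₂ C A' θ := by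
    rw [Category.assoc, k'_p₂]
  have hrange : Set.range (V.ι ≫ k' f C k hk A' θ b hb) = (De (Y := Y) C A' e : Set _) := by
    ext t
    constructor
    · rintro ⟨v, rfl⟩
      rw [Scheme.Hom.comp_apply]
      exact v.2
    · intro ht
      obtain ⟨z, rfl⟩ := De_subset_range f C k hk A' θ b hb β hβ e hmem t ht
      exact ⟨⟨z, ht⟩, rfl⟩
  haveI : IsClosedImmersion (V.ι ≫ k' f C k hk A' θ b hb) := by
    apply IsClosedImmersion.of_isPreimmersion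
    rw [hrange]
    show IsClosed ((PrimeSpectrum.basicOpen e : Set (PrimeSpectrum (A' ⊗[Γ(Y, ⊤)] C))))
    rw [PrimeSpectrum.basicOpen_eq_zeroLocus_of_isIdempotentElem e he]
    exact PrimeSpectrum.isClosed_zeroLocus _
  rw [hsnd]
  infer_instance

theorem exists_idempotent_of_isFinite [IsOpenImmersion k] [Module.Finite Γ(Y, ⊤) C] {n : ℕ}
    (β : Fin n → C)
    (hβ : ∀ t : Spec (CommRingCat.of C), t ∈ Set.range k ↔ ∃ i, β i ∉ t.asIdeal)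
    (U' : (pullback f b).Opens) (hU' : IsFinite (U'.ι ≫ pullback.snd f b)) :
    ∃ e : A' ⊗[Γ(Y, ⊤)] C, IsIdempotentElem e ∧
      e ∈ Ideal.span (Set.range fun i => (1 : A') ⊗ₜ[Γ(Y, ⊤)] β i) ∧
      (k' f C k hk A' θ b hb) ⁻¹ᵁ De (Y := Y) C A' e = U' := by
  set κ := k' f C k hk A' θ b hb with hκ
  have hopen : IsOpen (κ '' (↑U' : Set ↥(pullback f b))) :=
    κ.isOpenEmbedding.isOpenMap _ U'.isOpen
  have hclosed : IsClosed (κ '' (↑U' : Set ↥(pullback f b))) := by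
    haveI : UniversallyClosed ((U'.ι ≫ κ) ≫ p₂ C A' θ) := by
      rw [Category.assoc, hκ, k'_p₂]
      haveI := hU'
      infer_instance
    haveI : UniversallyClosed (U'.ι ≫ κ) :=
      UniversallyClosed.of_comp_of_isSeparated (U'.ι ≫ κ) (p₂ C A' θ)
    have h1 : IsClosed (Set.range (U'.ι ≫ κ)) := (U'.ι ≫ κ).isClosedMap.isClosed_range
    have h2 : Set.range (U'.ι ≫ κ) = κ '' (↑U' : Set ↥(pullback f b)) := by
      ext t
      constructor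
      · rintro ⟨v, rfl⟩
        exact ⟨v.1, v.2, by rw [Scheme.Hom.comp_apply]; rfl⟩
      · rintro ⟨z, hz, rfl⟩
        exact ⟨⟨z, hz⟩, by rw [Scheme.Hom.comp_apply]; rfl⟩
    rw [← h2]; exact h1
  obtain ⟨e, he, hZ⟩ := PrimeSpectrum.exists_idempotent_basicOpen_eq_of_isClopen
    (s := (κ '' (↑U' : Set ↥(pullback f b)) : Set (PrimeSpectrum (A' ⊗[Γ(Y, ⊤)] C))))
    ⟨hclosed, hopen⟩
  have hrad : e ∈ (Ideal.span (Set.range fun i => (1 : A') ⊗ₜ[Γ(Y, ⊤)] β i)).radical := by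
    rw [Ideal.radical_eq_sInf, Ideal.mem_sInf]
    rintro J ⟨hJ, hJp⟩
    by_contra heJ
    let t : T' (Y := Y) C A' := ⟨J, hJp⟩
    have ht : t ∈ (κ '' (↑U' : Set ↥(pullback f b)) : Set (PrimeSpectrum (A' ⊗[Γ(Y, ⊤)] C))) := by
      rw [hZ]; exact heJ
    obtain ⟨z, -, hz⟩ := ht
    have ht2 : t ∈ Set.range κ := ⟨z, hz⟩
    rw [hκ, mem_range_k' f C k hk A' θ b hb β hβ] at ht2
    obtain ⟨i, hi⟩ := ht2
    exact hi (hJ (Ideal.subset_span ⟨i, rfl⟩))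
  have hmem : e ∈ Ideal.span (Set.range fun i => (1 : A') ⊗ₜ[Γ(Y, ⊤)] β i) := by
    obtain ⟨N, hN⟩ := hrad
    rcases N with _ | N
    · rw [pow_zero] at hN
      rw [(Ideal.eq_top_iff_one _).mpr hN]
      trivial
    · rwa [he.pow_succ_eq] at hN
  refine ⟨e, he, hmem, ?_⟩
  ext z
  constructor
  · intro hz
    have hz' : κ z ∈ (κ '' (↑U' : Set ↥(pullback f b)) : Set (PrimeSpectrum (A' ⊗[Γ(Y, ⊤)] C))) := by
      rw [hZ]; exact hz
    obtain ⟨z', hz', hzz⟩ := hz'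
    rw [← κ.isOpenEmbedding.injective hzz]
    exact hz'
  · intro hz
    have hz' : κ z ∈ (κ '' (↑U' : Set ↥(pullback f b)) : Set (PrimeSpectrum (A' ⊗[Γ(Y, ⊤)] C))) :=
      ⟨z, hz, rfl⟩
    rw [hZ] at hz'
    exact hz'

end frame

section functoriality

variable {X Y : Scheme.{u}} [IsAffine Y] (f : X ⟶ Y)
  (C : Type u) [CommRing C] [Algebra Γ(Y, ⊤) C]
  (k : X ⟶ Spec (CommRingCat.of C))
  (hk : k ≫ Spec.map (CommRingCat.ofHom (algebraMap Γ(Y, ⊤) C)) ≫ Y.isoSpec.inv = f)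
  (A₁ : Type u) [CommRing A₁] [Algebra Γ(Y, ⊤) A₁] {Y₁ : Scheme.{u}}
  (θ₁ : Y₁ ⟶ Spec (CommRingCat.of A₁)) [IsIso θ₁] (b₁ : Y₁ ⟶ Y)
  (hb₁ : θ₁ ≫ Spec.map (CommRingCat.ofHom (algebraMap Γ(Y, ⊤) A₁)) ≫ Y.isoSpec.inv = b₁)
  (A₂ : Type u) [CommRing A₂] [Algebra Γ(Y, ⊤) A₂] {Y₂ : Scheme.{u}}
  (θ₂ : Y₂ ⟶ Spec (CommRingCat.of A₂)) [IsIso θ₂] (b₂ : Y₂ ⟶ Y)
  (hb₂ : θ₂ ≫ Spec.map (CommRingCat.ofHom (algebraMap Γ(Y, ⊤) A₂)) ≫ Y.isoSpec.inv = b₂)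
  (φ : A₂ →ₐ[Γ(Y, ⊤)] A₁)

include hb₁ hb₂ in
theorem comp_eq_of_algHom :
    (θ₁ ≫ Spec.map (CommRingCat.ofHom φ.toRingHom) ≫ inv θ₂) ≫ b₂ = b₁ := by
  rw [← hb₂, ← hb₁]
  simp only [Category.assoc, IsIso.inv_hom_id_assoc]
  rw [← Spec.map_comp_assoc]
  congr 3
  ext a
  exact φ.commutes a

theorem preimage_map (c : Y₁ ⟶ Y₂)
    (hc : c = θ₁ ≫ Spec.map (CommRingCat.ofHom φ.toRingHom) ≫ inv θ₂)
    (h1 : f ≫ 𝟙 Y = 𝟙 X ≫ f) (h2 : b₁ ≫ 𝟙 Y = c ≫ b₂) (e₂ : A₂ ⊗[Γ(Y, ⊤)] C) :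
    (pullback.map f b₁ f b₂ (𝟙 X) c (𝟙 Y) h1 h2) ⁻¹ᵁ
      ((k' f C k hk A₂ θ₂ b₂ hb₂) ⁻¹ᵁ De (Y := Y) C A₂ e₂) =
    (k' f C k hk A₁ θ₁ b₁ hb₁) ⁻¹ᵁ
      De (Y := Y) C A₁ (Algebra.TensorProduct.map φ (AlgHom.id Γ(Y, ⊤) C) e₂) := by
  set Φr : (A₂ ⊗[Γ(Y, ⊤)] C) →ₐ[Γ(Y, ⊤)] (A₁ ⊗[Γ(Y, ⊤)] C) :=
    Algebra.TensorProduct.map φ (AlgHom.id Γ(Y, ⊤) C) with hΦr
  let Φ : T' (Y := Y) C A₁ ⟶ T' (Y := Y) C A₂ := Spec.map (CommRingCat.ofHom Φr.toRingHom)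
  have hΦ1 : Φ ≫ p₁ (Y := Y) C A₂ = p₁ (Y := Y) C A₁ := by
    show Spec.map _ ≫ Spec.map _ = Spec.map _
    rw [← Spec.map_comp]
    congr 1
    ext x
    show Φr ((1 : A₂) ⊗ₜ x) = (1 : A₁) ⊗ₜ x
    rw [hΦr, Algebra.TensorProduct.map_tmul, map_one]
    rfl
  have hΦ2 : Φ ≫ Spec.map (CommRingCat.ofHom
      (Algebra.TensorProduct.includeLeftRingHom (R := Γ(Y, ⊤)) (A := A₂) (B := C))) =
      Spec.map (CommRingCat.ofHom
        (Algebra.TensorProduct.includeLeftRingHom (R := Γ(Y, ⊤)) (A := A₁) (B := C))) ≫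
        Spec.map (CommRingCat.ofHom φ.toRingHom) := by
    rw [← Spec.map_comp, ← Spec.map_comp]
    congr 1
  have key : pullback.map f b₁ f b₂ (𝟙 X) c (𝟙 Y) h1 h2 ≫ k' f C k hk A₂ θ₂ b₂ hb₂ =
      k' f C k hk A₁ θ₁ b₁ hb₁ ≫ Φ := by
    apply (isPullback_T' C A₂ θ₂ b₂ hb₂).hom_ext
    · rw [Category.assoc, k'_p₁, Category.assoc, hΦ1, k'_p₁, ← Category.assoc]
      congr 1
      exact (pullback.lift_fst _ _ _).trans (Category.comp_id _)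
    · rw [Category.assoc, k'_p₂, Category.assoc]
      have : Φ ≫ p₂ (Y := Y) C A₂ θ₂ = p₂ (Y := Y) C A₁ θ₁ ≫ c := by
        unfold p₂
        rw [← Category.assoc, hΦ2, hc]
        simp
      rw [this, ← Category.assoc (k' f C k hk A₁ θ₁ b₁ hb₁), k'_p₂]
      exact pullback.lift_snd _ _ _
  have hpre : Φ ⁻¹ᵁ De (Y := Y) C A₂ e₂ = De (Y := Y) C A₁ (Φr e₂) := by
    ext t
    rfl
  rw [← Scheme.Hom.comp_preimage, key, Scheme.Hom.comp_preimage, hpre]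

end functoriality

end Groth.Agent.Lib.lead.UfoD
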