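import Mathlib
import Groth.Agent.Lib.lead.UfoB
import Groth.Agent.Lib.lead.UfoD

set_option autoImplicit false
set_option linter.style.haveILetI false
universe u

namespace Groth.Agent.Lib.lead.UfoE

open AlgebraicGeometry CategoryTheory Limits TopologicalSpace TensorProduct
open Groth.Agent.Lib.lead.UfoB Groth.Agent.Lib.lead.UfoC Groth.Agent.Lib.lead.UfoD

theorem S1445 {X Y : Scheme.{u}} (f : X ⟶ Y) [IsAffine X] [IsAffine Y] [LocallyQuasiFinite f] [LocallyOfFinitePresentation f] :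
    ∃ (Yu : Scheme.{u}) (a : Yu ⟶ Y) (Uu : (pullback f a).Opens), LocallyOfFinitePresentation a ∧ QuasiCompact a ∧ QuasiSeparated a ∧
      IsFinite (Uu.ι ≫ pullback.snd f a) ∧
      ∀ (Y' : Scheme.{u}) (b : Y' ⟶ Y) (U' : (pullback f b).Opens), IsAffine Y' → IsFinite (U'.ι ≫ pullback.snd f b) →
        ∃ (c : Y' ⟶ Yu) (hc : c ≫ a = b),
          (pullback.map f b f a (𝟙 X) c (𝟙 Y) ((Category.comp_id f).trans (Category.id_comp f).symm) ((Category.comp_id b).trans hc.symm)) ⁻¹ᵁ Uu = U' := by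
  obtain ⟨C, _, _, k, n, β, hCfin, hCfp, hko, hk, hβ⟩ := exists_fp_finite_factorization f
  haveI := hCfin
  haveI := hCfp
  haveI := hko
  obtain ⟨R, _, _, ε, hRfp, hεid, hεmem, hvers⟩ := exists_versal_idempotent Γ(Y, ⊤) C β
  let Yu : Scheme.{u} := Spec (CommRingCat.of R)
  let a : Yu ⟶ Y := Spec.map (CommRingCat.ofHom (algebraMap Γ(Y, ⊤) R)) ≫ Y.isoSpec.inv
  have hbu : 𝟙 Yu ≫ Spec.map (CommRingCat.ofHom (algebraMap Γ(Y, ⊤) R)) ≫ Y.isoSpec.inv = a :=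
    Category.id_comp _
  haveI : LocallyOfFinitePresentation a := by
    haveI : LocallyOfFinitePresentation (Spec.map (CommRingCat.ofHom (algebraMap Γ(Y, ⊤) R))) := by
      rw [HasRingHomProperty.Spec_iff (P := @LocallyOfFinitePresentation)]
      exact RingHom.finitePresentation_algebraMap.mpr hRfp
    infer_instance
  refine ⟨Yu, a, (k' f C k hk R (𝟙 Yu) a hbu) ⁻¹ᵁ De (Y := Y) C R ε, inferInstance, inferInstance,
    inferInstance, isFinite_of_idempotent f C k hk R (𝟙 Yu) a hbu β hβ ε hεid hεmem, ?_⟩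
  intro Y' b U' hY' hU'
  letI : Algebra Γ(Y, ⊤) Γ(Y', ⊤) := b.appTop.hom.toAlgebra
  have hb' : Y'.isoSpec.hom ≫ Spec.map (CommRingCat.ofHom (algebraMap Γ(Y, ⊤) Γ(Y', ⊤))) ≫
      Y.isoSpec.inv = b := by
    have : CommRingCat.ofHom (algebraMap Γ(Y, ⊤) Γ(Y', ⊤)) = b.appTop := rfl
    rw [this, ← Category.assoc, Scheme.isoSpec_hom_naturality, Category.assoc, Iso.hom_inv_id,
      Category.comp_id]
  obtain ⟨e', he', hmem', hpre'⟩ :=
    exists_idempotent_of_isFinite f C k hk Γ(Y', ⊤) Y'.isoSpec.hom b hb' β hβ U' hU'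
  obtain ⟨φ, hφ⟩ := hvers Γ(Y', ⊤) e' he' hmem'
  let c : Y' ⟶ Yu := Y'.isoSpec.hom ≫ Spec.map (CommRingCat.ofHom φ.toRingHom) ≫ inv (𝟙 Yu)
  have hc : c ≫ a = b :=
    comp_eq_of_algHom Γ(Y', ⊤) Y'.isoSpec.hom b hb' R (𝟙 Yu) a hbu φ
  refine ⟨c, hc, ?_⟩
  rw [preimage_map f C k hk Γ(Y', ⊤) Y'.isoSpec.hom b hb' R (𝟙 Yu) a hbu φ c rfl, hφ, hpre']

end Groth.Agent.Lib.lead.UfoE

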