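import Mathlib
import Groth.Agent.Lib.lead.WtF
import Groth.Agent.Lib.lead.WtN
import Groth.Agent.Lib.lead.WtLcE
import Groth.Agent.Lib.lead.WtE

set_option autoImplicit false
set_option linter.style.haveILetI false
set_option linter.unusedSectionVars false
universe u

namespace Groth.Agent.Lib.lead.UfoF

open AlgebraicGeometry CategoryTheory Limits TopologicalSpace
open Groth.Agent.Lib.lead.WtA Groth.Agent.Lib.lead.WtB Groth.Agent.Lib.lead.WtD

/-- A chart of `f` over `τ ≫ g₀` lifts to a chart of the base change of `f` along `g₀`. -/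
theorem IsChart.lift_isPullback {X Y X' Y' : Scheme.{u}} {f : X ⟶ Y} {f' : X' ⟶ Y'} {h' : X' ⟶ X}
    {g₀ : Y' ⟶ Y} (hc : IsPullback h' f' f g₀) {W T : Scheme.{u}} {τ : W ⟶ Y'} {a₀ : T ⟶ X}
    {q : T ⟶ W} (h : IsChart f (τ ≫ g₀) a₀ q) (b' : T ⟶ X') (hb1 : b' ≫ h' = a₀)
    (hb2 : b' ≫ f' = q ≫ τ) : IsChart f' τ b' q := by
  have hpaste : IsPullback (pullback.fst f' τ ≫ h') (pullback.snd f' τ) f (τ ≫ g₀) :=
    (IsPullback.of_hasPullback f' τ).paste_horiz hc
  refine ⟨hb2, ?_⟩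
  have : pullback.lift b' q hb2 = h.j ≫ hpaste.isoPullback.inv := by
    rw [Iso.eq_comp_inv]
    apply pullback.hom_ext
    · rw [Category.assoc, hpaste.isoPullback_hom_fst, pullback.lift_fst_assoc, hb1, h.j_fst]
    · rw [Category.assoc, hpaste.isoPullback_hom_snd, pullback.lift_snd, h.j_snd]
  rw [this]
  infer_instance

/-- Two finite charts with the same image have the same integrals. -/
theorem IsChart.fibreIntegral_eq_of_range_eq {X Y : Scheme.{u}} {f : X ⟶ Y} {V A B : Scheme.{u}}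
    {ρ : V ⟶ Y} {a : A ⟶ X} {p : A ⟶ V} {b : B ⟶ X} {q : B ⟶ V} (hA : IsChart f ρ a p)
    (hB : IsChart f ρ b q) [IsFinite q] (hr : Set.range hA.j = Set.range hB.j) (w : X → ℤ) (v : V) :
    MoreMor.fibreIntegral p (w ∘ a) v = MoreMor.fibreIntegral q (w ∘ b) v := by
  let e : A ≅ B := IsOpenImmersion.isoOfRangeEq hA.j hB.j hr
  have he : e.hom ≫ hB.j = hA.j := IsOpenImmersion.isoOfRangeEq_hom_fac hA.j hB.j hr
  have h1 : e.hom ≫ b = a := by rw [← hB.j_fst, ← Category.assoc, he, hA.j_fst]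
  have h2 : e.hom ≫ q = p := by rw [← hB.j_snd, ← Category.assoc, he, hA.j_snd]
  have hc : IsPullback e.hom p q (𝟙 V) :=
    IsPullback.of_horiz_isIso ⟨by rw [h2, Category.comp_id]⟩
  have := fibreIntegral_baseChange hc (w ∘ b) v (finite_fibre_of_isFinite q _)
  have h3 : MoreMor.fibreIntegral q (w ∘ b) ((𝟙 V : V ⟶ V) v) = MoreMor.fibreIntegral q (w ∘ b) v := rfl
  rw [← h3, ← this]
  congr 1
  funext x
  show w (a x) = w (b (e.hom x))
  rw [← Scheme.Hom.comp_apply, h1]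

/-- the image of a base-changed chart -/
theorem IsChart.range_baseChange_j {X Y : Scheme.{u}} {f : X ⟶ Y} {V A V₁ : Scheme.{u}} {ρ : V ⟶ Y}
    {a : A ⟶ X} {p : A ⟶ V} (h : IsChart f ρ a p) (b : V₁ ⟶ V) (ρ₁ : V₁ ⟶ Y) (hρ : ρ₁ = b ≫ ρ) :
    Set.range (h.baseChange b ρ₁ hρ).j = (beta f ρ b ρ₁ hρ) ⁻¹' Set.range h.j := by
  ext z
  constructor
  · rintro ⟨t, rfl⟩
    refine ⟨pullback.fst p b t, ?_⟩
    rw [← Scheme.Hom.comp_apply, ← h.baseChange_j_beta b ρ₁ hρ, Scheme.Hom.comp_apply]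
  · intro hz
    exact h.mem_range_baseChange_j b ρ₁ hρ z hz

section stage

variable {X0 Y0 Yu : Scheme.{u}} (f0 : X0 ⟶ Y0) (au : Yu ⟶ Y0) (Uu : (pullback f0 au).Opens)
  {S : Scheme.{u}} (σ : S ⟶ Y0)

/-- the universal finite chart: projection to the base -/
noncomputable abbrev πu : Uu.toScheme ⟶ Yu := Uu.ι ≫ pullback.snd f0 au

/-- the universal finite chart: projection to `X0` -/
noncomputable abbrev hu : Uu.toScheme ⟶ X0 := Uu.ι ≫ pullback.fst f0 au

/-- stage objects -/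
noncomputable abbrev XS : Scheme.{u} := pullback σ f0
noncomputable abbrev fS : XS f0 σ ⟶ S := pullback.fst σ f0
noncomputable abbrev YuS : Scheme.{u} := pullback σ au
noncomputable abbrev ρS : YuS au σ ⟶ S := pullback.fst σ au
noncomputable abbrev bS : YuS au σ ⟶ Yu := pullback.snd σ au
noncomputable abbrev AS : Scheme.{u} := pullback (πu f0 au Uu) (bS au σ)
noncomputable abbrev pS : AS f0 au Uu σ ⟶ YuS au σ := pullback.snd (πu f0 au Uu) (bS au σ)

theorem aS_comm : (pS f0 au Uu σ ≫ ρS au σ) ≫ σ =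
    (pullback.fst (πu f0 au Uu) (bS au σ) ≫ hu f0 au Uu) ≫ f0 := by
  simp only [Category.assoc]
  rw [pullback.condition (f := f0) (g := au), pullback.condition (f := σ) (g := au),
    ← pullback.condition_assoc (f := πu f0 au Uu) (g := bS au σ)]
  simp only [Category.assoc]

noncomputable def aS : AS f0 au Uu σ ⟶ XS f0 σ :=
  pullback.lift (pS f0 au Uu σ ≫ ρS au σ) (pullback.fst (πu f0 au Uu) (bS au σ) ≫ hu f0 au Uu)
    (aS_comm f0 au Uu σ)

@[reassoc]
theorem aS_fst : aS f0 au Uu σ ≫ pullback.fst σ f0 = pS f0 au Uu σ ≫ ρS au σ :=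
  pullback.lift_fst _ _ _

@[reassoc]
theorem aS_snd : aS f0 au Uu σ ≫ pullback.snd σ f0 =
    pullback.fst (πu f0 au Uu) (bS au σ) ≫ hu f0 au Uu :=
  pullback.lift_snd _ _ _

theorem chartS : IsChart (fS f0 σ) (ρS au σ) (aS f0 au Uu σ) (pS f0 au Uu σ) := by
  have h0 : IsChart f0 au (hu f0 au Uu) (πu f0 au Uu) := IsChart.of_opens f0 au Uu
  have h1 := h0.baseChange (bS au σ) (ρS au σ ≫ σ) pullback.condition
  exact IsChart.lift_isPullback (IsPullback.of_hasPullback σ f0).flip h1 _ (aS_snd f0 au Uu σ)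
    (aS_fst f0 au Uu σ)

/-- the universal integral at stage `σ` -/
noncomputable def FS (ω : XS f0 σ → ℤ) : YuS au σ → ℤ :=
  MoreMor.fibreIntegral (pS f0 au Uu σ) (ω ∘ aS f0 au Uu σ)

end stage

section stageMap

variable {X0 Y0 Yu : Scheme.{u}} (f0 : X0 ⟶ Y0) (au : Yu ⟶ Y0) (Uu : (pullback f0 au).Opens)
  {S S' : Scheme.{u}} (σ : S ⟶ Y0) (σ' : S' ⟶ Y0) (τ : S' ⟶ S) (hσ : σ' = τ ≫ σ)

/-- transition map on the `X`-side -/
noncomputable def xτ : XS f0 σ' ⟶ XS f0 σ :=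
  pullback.map σ' f0 σ f0 τ (𝟙 X0) (𝟙 Y0) (by rw [hσ, Category.comp_id]) (by simp)

/-- transition map on the `Yu`-side -/
noncomputable def tτ : YuS au σ' ⟶ YuS au σ :=
  pullback.map σ' au σ au τ (𝟙 Yu) (𝟙 Y0) (by rw [hσ, Category.comp_id]) (by simp)

@[reassoc]
theorem xτ_fst : xτ f0 σ σ' τ hσ ≫ pullback.fst σ f0 = pullback.fst σ' f0 ≫ τ :=
  pullback.lift_fst _ _ _

@[reassoc]
theorem xτ_snd : xτ f0 σ σ' τ hσ ≫ pullback.snd σ f0 = pullback.snd σ' f0 :=
  (pullback.lift_snd _ _ _).trans (Category.comp_id _)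

@[reassoc]
theorem tτ_fst : tτ au σ σ' τ hσ ≫ pullback.fst σ au = pullback.fst σ' au ≫ τ :=
  pullback.lift_fst _ _ _

@[reassoc]
theorem tτ_snd : tτ au σ σ' τ hσ ≫ pullback.snd σ au = pullback.snd σ' au :=
  (pullback.lift_snd _ _ _).trans (Category.comp_id _)

theorem FS_comp [IsFinite (πu f0 au Uu)] (ω : XS f0 σ → ℤ) :
    FS f0 au Uu σ' (ω ∘ xτ f0 σ σ' τ hσ) = FS f0 au Uu σ ω ∘ tτ au σ σ' τ hσ := by
  have hb : bS au σ' = tτ au σ σ' τ hσ ≫ bS au σ := (tτ_snd au σ σ' τ hσ).symm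
  set top := beta (πu f0 au Uu) (bS au σ) (tτ au σ σ' τ hσ) (bS au σ') hb with htop
  have hpb : IsPullback top (pS f0 au Uu σ') (pS f0 au Uu σ) (tτ au σ σ' τ hσ) :=
    beta_isPullback (πu f0 au Uu) (bS au σ) (tτ au σ σ' τ hσ) (bS au σ') hb
  have hcomm : aS f0 au Uu σ' ≫ xτ f0 σ σ' τ hσ = top ≫ aS f0 au Uu σ := by
    apply pullback.hom_ext
    · rw [Category.assoc, xτ_fst, aS_fst_assoc, Category.assoc, aS_fst, ← Category.assoc top,
        htop, beta_snd, Category.assoc, tτ_fst]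
    · rw [Category.assoc, xτ_snd, aS_snd, Category.assoc, aS_snd, ← Category.assoc top, htop,
        beta_fst]
  funext y
  show MoreMor.fibreIntegral (pS f0 au Uu σ') ((ω ∘ xτ f0 σ σ' τ hσ) ∘ aS f0 au Uu σ') y =
    MoreMor.fibreIntegral (pS f0 au Uu σ) (ω ∘ aS f0 au Uu σ) (tτ au σ σ' τ hσ y)
  rw [← fibreIntegral_baseChange hpb (ω ∘ aS f0 au Uu σ) y (finite_fibre_of_isFinite _ _)]
  congr 1
  funext z
  show ω ((xτ f0 σ σ' τ hσ) (aS f0 au Uu σ' z)) = ω (aS f0 au Uu σ (top z))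
  rw [← Scheme.Hom.comp_apply, ← Scheme.Hom.comp_apply, hcomm]

end stageMap

/-- the weighting condition may be checked over affine étale bases -/
theorem isWeighting_of_affine {X Y : Scheme.{u}} (f : X ⟶ Y) (w : X → ℤ)
    (h : ∀ (V : Scheme.{u}) (g : V ⟶ Y) [Etale g] [IsAffine V] (U : (pullback f g).Opens),
      IsFinite (U.ι ≫ pullback.snd f g) →
      IsLocallyConstant (MoreMor.fibreIntegral (U.ι ≫ pullback.snd f g)
        (fun u => w (pullback.fst f g (U.ι u))))) :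
    MoreMor.IsWeighting f w := by
  intro V g _ U hU
  haveI := hU
  rw [IsLocallyConstant.iff_exists_open]
  intro v
  obtain ⟨_, ⟨V'', hV', rfl⟩, hvV', -⟩ := V.isBasis_affineOpens.exists_subset_of_mem_open
    (Set.mem_univ v) isOpen_univ
  obtain ⟨V', rfl⟩ : ∃ V' : V.Opens, V' = V'' := ⟨V'', rfl⟩
  haveI : IsAffine V'.toScheme := hV'
  have hUc : IsChart f g (U.ι ≫ pullback.fst f g) (U.ι ≫ pullback.snd f g) :=
    IsChart.of_opens f g U
  have hB := hUc.baseChange V'.ι (V'.ι ≫ g) rfl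
  set U'' : (pullback f (V'.ι ≫ g)).Opens := hB.j.opensRange with hU''
  have hU''c : IsChart f (V'.ι ≫ g) (U''.ι ≫ pullback.fst f (V'.ι ≫ g))
      (U''.ι ≫ pullback.snd f (V'.ι ≫ g)) := IsChart.of_opens f _ U''
  have hfin : IsFinite (U''.ι ≫ pullback.snd f (V'.ι ≫ g)) := by
    have : U''.ι ≫ pullback.snd f (V'.ι ≫ g) =
        hB.j.isoOpensRange.inv ≫ pullback.snd (U.ι ≫ pullback.snd f g) V'.ι :=
      calc U''.ι ≫ pullback.snd f (V'.ι ≫ g)
          = (hB.j.isoOpensRange.inv ≫ hB.j) ≫ pullback.snd f (V'.ι ≫ g) := by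
            rw [Scheme.Hom.isoOpensRange_inv_comp]
        _ = hB.j.isoOpensRange.inv ≫ pullback.snd (U.ι ≫ pullback.snd f g) V'.ι :=
            (Category.assoc _ _ _).trans (congrArg _ hB.j_snd)
    rw [this]
    infer_instance
  haveI := hfin
  have hlc := h V'.toScheme (V'.ι ≫ g) U'' hfin
  have hr : Set.range hU''c.j = Set.range hB.j := by
    rw [Groth.Agent.Lib.lead.WtE.IsChart.of_opens_j, Scheme.Opens.range_ι, hU'']
    rfl
  have heq : ∀ v' : V'.toScheme, MoreMor.fibreIntegral (U''.ι ≫ pullback.snd f (V'.ι ≫ g))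
      (fun u => w (pullback.fst f (V'.ι ≫ g) (U''.ι u))) v' =
      MoreMor.fibreIntegral (U.ι ≫ pullback.snd f g)
        (fun u => w (pullback.fst f g (U.ι u))) (V'.ι v') := by
    intro v'
    have h1 := IsChart.fibreIntegral_eq_of_range_eq hU''c hB hr w v'
    have h2 := fibreIntegral_pullback (U.ι ≫ pullback.snd f g) V'.ι
      (w ∘ (U.ι ≫ pullback.fst f g)) v'
    exact h1.trans h2
  rw [IsLocallyConstant.iff_exists_open] at hlc
  obtain ⟨W, hW, hvW, hWc⟩ := hlc ⟨v, hvV'⟩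
  refine ⟨V'.ι '' W, V'.ι.isOpenEmbedding.isOpenMap W hW, ⟨⟨v, hvV'⟩, hvW, rfl⟩, ?_⟩
  rintro _ ⟨v', hv', rfl⟩
  have := hWc v' hv'
  rw [heq, heq] at this
  exact this

/-- versality of a finite open -/
def IsVersal {X0 Y0 Yu : Scheme.{u}} (f0 : X0 ⟶ Y0) (au : Yu ⟶ Y0) (Uu : (pullback f0 au).Opens) :
    Prop :=
  ∀ (Y' : Scheme.{u}) (b : Y' ⟶ Y0) (U' : (pullback f0 b).Opens), IsAffine Y' →
    IsFinite (U'.ι ≫ pullback.snd f0 b) →
      ∃ (c : Y' ⟶ Yu) (hc : c ≫ au = b),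
        (pullback.map f0 b f0 au (𝟙 X0) c (𝟙 Y0)
          ((Category.comp_id f0).trans (Category.id_comp f0).symm)
          ((Category.comp_id b).trans hc.symm)) ⁻¹ᵁ Uu = U'

section versal

variable {X0 Y0 Yu : Scheme.{u}} (f0 : X0 ⟶ Y0) (au : Yu ⟶ Y0) (Uu : (pullback f0 au).Opens)
  {S : Scheme.{u}} (σ : S ⟶ Y0)

/-- the canonical map to the universal fibre product -/
noncomputable def nS : pullback (fS f0 σ) (ρS au σ) ⟶ pullback f0 au :=
  pullback.map (fS f0 σ) (ρS au σ) f0 au (pullback.snd σ f0) (bS au σ) σ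
    pullback.condition pullback.condition

@[reassoc]
theorem nS_fst : nS f0 au σ ≫ pullback.fst f0 au =
    pullback.fst (fS f0 σ) (ρS au σ) ≫ pullback.snd σ f0 := pullback.lift_fst _ _ _

@[reassoc]
theorem nS_snd : nS f0 au σ ≫ pullback.snd f0 au =
    pullback.snd (fS f0 σ) (ρS au σ) ≫ bS au σ := pullback.lift_snd _ _ _

theorem isPullback_nS :
    IsPullback (nS f0 au σ) (pullback.snd (fS f0 σ) (ρS au σ)) (pullback.snd f0 au) (bS au σ) := by
  have hc0 : IsPullback (pullback.snd σ f0) (fS f0 σ) f0 σ := (IsPullback.of_hasPullback σ f0).flip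
  have houter : IsPullback (nS f0 au σ ≫ pullback.fst f0 au) (pullback.snd (fS f0 σ) (ρS au σ)) f0
      (bS au σ ≫ au) := by
    rw [nS_fst, ← pullback.condition (f := σ) (g := au)]
    exact (IsPullback.of_hasPullback (fS f0 σ) (ρS au σ)).paste_horiz hc0
  exact IsPullback.of_right houter (nS_snd f0 au σ) (IsPullback.of_hasPullback f0 au)

theorem chartS_j_nS : (chartS f0 au Uu σ).j ≫ nS f0 au σ =
    pullback.fst (πu f0 au Uu) (bS au σ) ≫ Uu.ι := by
  apply pullback.hom_ext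
  · rw [Category.assoc, nS_fst, IsChart.j_fst_assoc, aS_snd, Category.assoc]
  · rw [Category.assoc, nS_snd, IsChart.j_snd_assoc, Category.assoc, ← pullback.condition]

theorem range_chartS_j : Set.range (chartS f0 au Uu σ).j = (nS f0 au σ) ⁻¹' (Uu : Set _) := by
  have hpb : IsPullback (chartS f0 au Uu σ).j (pullback.fst (πu f0 au Uu) (bS au σ)) (nS f0 au σ)
      Uu.ι := by
    refine IsPullback.of_right ?_ (chartS_j_nS f0 au Uu σ) (isPullback_nS f0 au σ).flip
    rw [IsChart.j_snd]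
    exact (IsPullback.of_hasPullback (πu f0 au Uu) (bS au σ)).flip
  ext z
  constructor
  · rintro ⟨t, rfl⟩
    show nS f0 au σ ((chartS f0 au Uu σ).j t) ∈ Uu
    rw [← Scheme.Hom.comp_apply, chartS_j_nS, Scheme.Hom.comp_apply]
    exact (pullback.fst (πu f0 au Uu) (bS au σ) t).2
  · intro hz
    obtain ⟨t, ht, -⟩ := Groth.Agent.Lib.lead.WtLcE.exists_preimage_of_isPullback hpb z
      ⟨nS f0 au σ z, hz⟩ rfl
    exact ⟨t, ht⟩

theorem versal_stage (hvers : IsVersal f0 au Uu) [IsFinite (πu f0 au Uu)] {V : Scheme.{u}}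
    [IsAffine V] (g : V ⟶ S) (U : (pullback (fS f0 σ) g).Opens)
    (hU : IsFinite (U.ι ≫ pullback.snd (fS f0 σ) g)) :
    ∃ c : V ⟶ YuS au σ, c ≫ ρS au σ = g ∧ ∀ (ω : XS f0 σ → ℤ) (v : V),
      MoreMor.fibreIntegral (U.ι ≫ pullback.snd (fS f0 σ) g)
        (fun u => ω (pullback.fst (fS f0 σ) g (U.ι u))) v = FS f0 au Uu σ ω (c v) := by
  haveI := hU
  have hUc : IsChart (fS f0 σ) g (U.ι ≫ pullback.fst (fS f0 σ) g)
      (U.ι ≫ pullback.snd (fS f0 σ) g) := IsChart.of_opens _ g U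
  have hUcj : hUc.j = U.ι := Groth.Agent.Lib.lead.WtE.IsChart.of_opens_j _ g U
  have hc0 : IsPullback (pullback.snd σ f0) (fS f0 σ) f0 σ := (IsPullback.of_hasPullback σ f0).flip
  have hpaste : IsPullback (pullback.fst (fS f0 σ) g ≫ pullback.snd σ f0)
      (pullback.snd (fS f0 σ) g) f0 (g ≫ σ) :=
    (IsPullback.of_hasPullback (fS f0 σ) g).paste_horiz hc0
  have hU0 : IsChart f0 (g ≫ σ) ((U.ι ≫ pullback.fst (fS f0 σ) g) ≫ pullback.snd σ f0)
      (U.ι ≫ pullback.snd (fS f0 σ) g) := hUc.of_isPullback hc0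
  have hU0j : hU0.j = U.ι ≫ hpaste.isoPullback.hom := by
    apply pullback.hom_ext
    · rw [IsChart.j_fst, Category.assoc, Category.assoc, hpaste.isoPullback_hom_fst]
    · rw [IsChart.j_snd, Category.assoc, hpaste.isoPullback_hom_snd]
  set U' : (pullback f0 (g ≫ σ)).Opens := hU0.j.opensRange with hU'
  have hfin' : IsFinite (U'.ι ≫ pullback.snd f0 (g ≫ σ)) := by
    have : U'.ι ≫ pullback.snd f0 (g ≫ σ) =
        hU0.j.isoOpensRange.inv ≫ (U.ι ≫ pullback.snd (fS f0 σ) g) :=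
      calc U'.ι ≫ pullback.snd f0 (g ≫ σ)
          = (hU0.j.isoOpensRange.inv ≫ hU0.j) ≫ pullback.snd f0 (g ≫ σ) := by
            rw [Scheme.Hom.isoOpensRange_inv_comp]
        _ = hU0.j.isoOpensRange.inv ≫ (U.ι ≫ pullback.snd (fS f0 σ) g) :=
            (Category.assoc _ _ _).trans (congrArg _ hU0.j_snd)
    rw [this]
    infer_instance
  obtain ⟨c₀, hc₀, hpre⟩ := hvers V (g ≫ σ) U' inferInstance hfin'
  let c : V ⟶ YuS au σ := pullback.lift g c₀ hc₀.symm
  have hcρ : c ≫ ρS au σ = g := pullback.lift_fst _ _ _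
  have hcb : c ≫ bS au σ = c₀ := pullback.lift_snd _ _ _
  refine ⟨c, hcρ, ?_⟩
  have hB := (chartS f0 au Uu σ).baseChange c g hcρ.symm
  -- the two charts have the same range
  set m := pullback.map f0 (g ≫ σ) f0 au (𝟙 X0) c₀ (𝟙 Y0)
        ((Category.comp_id f0).trans (Category.id_comp f0).symm)
        ((Category.comp_id (g ≫ σ)).trans hc₀.symm) with hm
  have hm1 : m ≫ pullback.fst f0 au = pullback.fst f0 (g ≫ σ) :=
    (pullback.lift_fst _ _ _).trans (Category.comp_id _)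
  have hm2 : m ≫ pullback.snd f0 au = pullback.snd f0 (g ≫ σ) ≫ c₀ := pullback.lift_snd _ _ _
  have hR2 : beta (fS f0 σ) (ρS au σ) c g hcρ.symm ≫ nS f0 au σ = hpaste.isoPullback.hom ≫ m := by
    apply pullback.hom_ext
    · rw [Category.assoc, nS_fst, beta_fst_assoc, Category.assoc, hm1,
        hpaste.isoPullback_hom_fst]
    · rw [Category.assoc, nS_snd, beta_snd_assoc, Category.assoc, hcb, hm2,
        hpaste.isoPullback_hom_snd_assoc]
  have hr : Set.range hUc.j = Set.range hB.j := by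
    rw [IsChart.range_baseChange_j (chartS f0 au Uu σ) c g hcρ.symm, range_chartS_j f0 au Uu σ,
      hUcj, Scheme.Opens.range_ι]
    ext z
    have h1 : z ∈ (U : Set _) ↔ hpaste.isoPullback.hom z ∈ U' := by
      constructor
      · intro hz
        exact ⟨⟨z, hz⟩, by rw [hU0j, Scheme.Hom.comp_apply]; rfl⟩
      · rintro ⟨t, ht⟩
        rw [hU0j, Scheme.Hom.comp_apply] at ht
        have : U.ι t = z := by
          have h3 : (hpaste.isoPullback.hom ≫ hpaste.isoPullback.inv) (U.ι t) =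
              (hpaste.isoPullback.hom ≫ hpaste.isoPullback.inv) z := by
            rw [Scheme.Hom.comp_apply, Scheme.Hom.comp_apply, ht]
          rw [Iso.hom_inv_id] at h3
          exact h3
        rw [← this]
        exact t.2
    rw [h1, ← hpre]
    have e3 : nS f0 au σ (beta (fS f0 σ) (ρS au σ) c g hcρ.symm z) =
        m (hpaste.isoPullback.hom z) := by
      rw [← Scheme.Hom.comp_apply, ← Scheme.Hom.comp_apply, hR2]
    constructor
    · intro hz
      show nS f0 au σ (beta (fS f0 σ) (ρS au σ) c g hcρ.symm z) ∈ Uu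
      rw [e3]; exact hz
    · intro hz
      show m (hpaste.isoPullback.hom z) ∈ Uu
      rw [← e3]; exact hz
  intro ω v
  have h1 := IsChart.fibreIntegral_eq_of_range_eq hUc hB hr ω v
  have h2 := fibreIntegral_pullback (pS f0 au Uu σ) c (ω ∘ aS f0 au Uu σ) v
  show MoreMor.fibreIntegral (U.ι ≫ pullback.snd (fS f0 σ) g)
    (ω ∘ (U.ι ≫ pullback.fst (fS f0 σ) g)) v = _
  rw [h1]
  exact h2

theorem isWeighting_of_isLocallyConstant_FS (hvers : IsVersal f0 au Uu) [IsFinite (πu f0 au Uu)]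
    (ω : XS f0 σ → ℤ) (hω : IsLocallyConstant (FS f0 au Uu σ ω)) :
    MoreMor.IsWeighting (fS f0 σ) ω := by
  refine isWeighting_of_affine _ _ fun V g _ _ U hU => ?_
  obtain ⟨c, -, hint⟩ := versal_stage f0 au Uu σ hvers g U hU
  have : MoreMor.fibreIntegral (U.ι ≫ pullback.snd (fS f0 σ) g)
      (fun u => ω (pullback.fst (fS f0 σ) g (U.ι u))) = FS f0 au Uu σ ω ∘ c := funext (hint ω)
  rw [this]
  exact hω.comp_continuous c.continuous

theorem isLocallyConstant_FS_of_isWeighting [IsFinite (πu f0 au Uu)] [LocallyQuasiFinite f0]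
    [LocallyOfFiniteType f0] (ω : XS f0 σ → ℤ) (hω : MoreMor.IsWeighting (fS f0 σ) ω) :
    IsLocallyConstant (FS f0 au Uu σ ω) :=
  Groth.Agent.Lib.lead.WtF.isLocallyConstant_of_isChart hω (chartS f0 au Uu σ)

end versal

end Groth.Agent.Lib.lead.UfoF
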