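import Mathlib
import Groth.Agent.Lib.lead.WtLcE

set_option autoImplicit false
set_option linter.style.haveILetI false
set_option linter.unusedSectionVars false
universe u

namespace Groth.Agent.Lib.lead.WtLcF

open AlgebraicGeometry CategoryTheory Limits Topology TopologicalSpace
  Groth.Agent.Lib.lead.WtLcA Groth.Agent.Lib.lead.WtLcB Groth.Agent.Lib.lead.WtF
  Groth.Agent.Lib.lead.WtRestrict Groth.Agent.Lib.lead.WtLcC Groth.Agent.Lib.lead.WtLcD
  Groth.Agent.Lib.lead.WtLcE

theorem isSeparated_of_isAffine {U Y : Scheme.{u}} (h : U ⟶ Y) [IsAffine U] : IsSeparated h := by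
  haveI : IsSeparated (h ≫ terminal.from Y) := by
    rw [show h ≫ terminal.from Y = terminal.from U from terminal.hom_ext _ _]
    infer_instance
  exact IsSeparated.of_comp h (terminal.from Y)

theorem lcf_of_weighting_sep {X Y : Scheme.{u}} (f : X ⟶ Y) [LocallyQuasiFinite f]
    [LocallyOfFiniteType f] [IsSeparated f] (w : X → ℤ) (hw : MoreMor.IsWeighting f w) : LCF w :=
  lcf_of_pieces f w (fun W g _ T hT => by
    haveI : IsFinite (T.ι ≫ pullback.snd f g) := hT
    exact lcf_of_finite (T.ι ≫ pullback.snd f g) _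
      (isWeighting_restrict_open (pullback.snd f g) (w ∘ pullback.fst f g)
        (S1419 f w hw (pullback.snd f g) (pullback.fst f g) g (IsPullback.of_hasPullback f g)) T))

theorem lcf_of_weighting {X Y : Scheme.{u}} (f : X ⟶ Y) [LocallyQuasiFinite f]
    [LocallyOfFiniteType f] (w : X → ℤ) (hw : MoreMor.IsWeighting f w) : LCF w :=
  LCF.of_affine_cover (fun U hU => by
    haveI : IsAffine (U : Scheme.{u}) := hU
    haveI : IsSeparated (U.ι ≫ f) := isSeparated_of_isAffine _
    exact lcf_of_weighting_sep (U.ι ≫ f) _ (isWeighting_restrict_open f w hw U))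

theorem S1423 {X Y : Scheme.{u}} (f : X ⟶ Y) [LocallyQuasiFinite f] [LocallyOfFiniteType f] (w : ↑X → ℤ) (hw : MoreMor.IsWeighting f w) (n : ℤ) :
    Topology.IsLocallyConstructible {x : ↑X | w x = n} :=
  lcf_of_weighting f w hw n

end Groth.Agent.Lib.lead.WtLcF
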