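import Mathlib
import Groth.Agent.Lib.lead.UfoF
import Groth.Agent.Lib.lead.UfoE
import Groth.Agent.Lib.lead.WtLcF
import Groth.Agent.Lib.lead.WtLcC
import Groth.Agent.Lib.Helper22.LimBaseChange
import Groth.Agent.Lib.Helper5.LimConstr
import Groth.Agent.S4759

set_option autoImplicit false
set_option linter.style.haveILetI false
set_option linter.unusedSectionVars false
universe u

namespace Groth.Agent.Lib.lead.UfoG

open AlgebraicGeometry CategoryTheory Limits TopologicalSpace Topology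
open Groth.Agent.Lib.lead.WtA Groth.Agent.Lib.lead.WtB Groth.Agent.Lib.lead.WtD
open Groth.Agent.Lib.lead.UfoF Groth.Agent.Lib.lead.WtLcA Groth.Agent.Lib.Helper22
open Groth.Agent.Lib.Helper5

section generic

variable {J : Type u} [SmallCategory J] [IsCofiltered J] (E : J ⥤ Scheme.{u}) (cE : Cone E)
  (hcE : IsLimit cE) [∀ (i j : J) (f : i ⟶ j), IsAffineHom (E.map f)]
  [∀ j, CompactSpace (E.obj j)] [∀ j, QuasiSeparatedSpace (E.obj j)]

include hcE in
theorem compactSpace_pt : CompactSpace cE.pt := by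
  haveI : ∀ {i j : J} (f : i ⟶ j), IsAffineHom (E.map f) := fun f => inferInstance
  have hπ := isAffineHom_π_app E cE hcE
  obtain ⟨j⟩ := IsCofiltered.nonempty (C := J)
  exact QuasiCompact.compactSpace_of_compactSpace (cE.π.app j)

include hcE in
theorem quasiSeparatedSpace_pt : QuasiSeparatedSpace cE.pt := by
  haveI : ∀ {i j : J} (f : i ⟶ j), IsAffineHom (E.map f) := fun f => inferInstance
  have hπ := isAffineHom_π_app E cE hcE
  obtain ⟨j⟩ := IsCofiltered.nonempty (C := J)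
  exact quasiSeparatedSpace_of_quasiSeparated (cE.π.app j)

theorem cone_apply {K K' : J} (θ : K' ⟶ K) (x : cE.pt) :
    E.map θ (cE.π.app K' x) = cE.π.app K x := by
  rw [← Scheme.Hom.comp_apply, cE.w]

include hcE in
/-- an `LCF` function on the limit descends to a finite stage -/
theorem exists_descend_lcf (φ : cE.pt → ℤ) (hφ : LCF φ) :
    ∃ (K : J) (ω : E.obj K → ℤ), LCF ω ∧ ∀ x, ω (cE.π.app K x) = φ x := by
  classical
  haveI := compactSpace_pt E cE hcE
  haveI := quasiSeparatedSpace_pt E cE hcE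
  obtain ⟨S, hS⟩ := hφ.exists_finset
  suffices H : ∀ S : Finset ℤ, ∃ (K : J) (ω : E.obj K → ℤ), LCF ω ∧
      ∀ x, ω (cE.π.app K x) = if φ x ∈ S then φ x else 0 by
    obtain ⟨K, ω, hω, h⟩ := H S
    exact ⟨K, ω, hω, fun x => by rw [h x, if_pos (hS x)]⟩
  intro S
  induction S using Finset.induction_on with
  | empty =>
    obtain ⟨j⟩ := IsCofiltered.nonempty (C := J)
    exact ⟨j, fun _ => 0, LCF.const 0, fun x => by simp⟩
  | insert v S' hv ih =>
    obtain ⟨K₁, ω₁, hω₁, h₁⟩ := ih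
    have hZ : IsConstructible {x | φ x = v} := (hφ v).isConstructible
    obtain ⟨K₂, -, Z₂, hZ₂, hpre⟩ := Groth.Agent.S4759.result E cE hcE K₁ _ hZ
    let K := IsCofiltered.min K₁ K₂
    let a : K ⟶ K₁ := IsCofiltered.minToLeft K₁ K₂
    let b : K ⟶ K₂ := IsCofiltered.minToRight K₁ K₂
    refine ⟨K, fun x => ω₁ (E.map a x) + (if x ∈ (E.map b) ⁻¹' Z₂ then v else 0), ?_, ?_⟩
    · refine LCF.add (LCF.comp (E.map a) hω₁) ?_
      exact LCF.indicator (LCF.const v)
        (isLocallyConstructible_preimage (E.map b) hZ₂.isLocallyConstructible)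
    · intro x
      have e1 : ω₁ (E.map a (cE.π.app K x)) = if φ x ∈ S' then φ x else 0 := by
        rw [cone_apply, h₁]
      have e2 : (cE.π.app K x ∈ (E.map b) ⁻¹' Z₂) ↔ φ x = v := by
        rw [Set.mem_preimage, cone_apply]
        have : x ∈ (cE.π.app K₂) ⁻¹' Z₂ ↔ x ∈ {x | φ x = v} := by rw [hpre]
        exact this
      show ω₁ (E.map a (cE.π.app K x)) + (if cE.π.app K x ∈ (E.map b) ⁻¹' Z₂ then v else 0) = _
      rw [e1]
      by_cases hxv : φ x = v
      · have hnot : φ x ∉ S' := by rw [hxv]; exact hv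
        rw [if_neg hnot, if_pos (e2.mpr hxv), if_pos (by rw [hxv]; exact Finset.mem_insert_self _ _),
          hxv, zero_add]
      · have : ¬ (cE.π.app K x ∈ (E.map b) ⁻¹' Z₂) := fun h => hxv (e2.mp h)
        rw [if_neg this, add_zero]
        by_cases hx : φ x ∈ S'
        · rw [if_pos hx, if_pos (Finset.mem_insert_of_mem hx)]
        · rw [if_neg hx, if_neg]
          intro h
          rcases Finset.mem_insert.mp h with h | h
          · exact hxv h
          · exact hx h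

include hcE in
/-- an `LCF` function at a finite stage whose pullback to the limit is locally constant becomes
locally constant at a later stage -/
theorem exists_isLocallyConstant_stage (K : J) (F : E.obj K → ℤ) (hF : LCF F)
    (hloc : IsLocallyConstant (fun x => F (cE.π.app K x))) :
    ∃ (K' : J) (θ : K' ⟶ K), IsLocallyConstant (fun y => F (E.map θ y)) := by
  classical
  obtain ⟨S, hS⟩ := hF.exists_finset
  haveI : ∀ {i j : J} (f : i ⟶ j), IsAffineHom (E.map f) := fun f => inferInstance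
  suffices H : ∀ S : Finset ℤ, ∃ (K' : J) (θ : K' ⟶ K), ∀ v ∈ S,
      IsOpen ((E.map θ) ⁻¹' {y | F y = v}) by
    obtain ⟨K', θ, h⟩ := H S
    refine ⟨K', θ, ?_⟩
    rw [IsLocallyConstant.iff_isOpen_fiber]
    intro v
    by_cases hv : v ∈ S
    · exact h v hv
    · convert isOpen_empty
      ext y
      simp only [Set.mem_preimage, Set.mem_singleton_iff, Set.mem_empty_iff_false, iff_false]
      intro hy
      exact hv (hy ▸ hS _)
  intro S
  induction S using Finset.induction_on with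
  | empty => exact ⟨K, 𝟙 K, fun v hv => absurd hv (Finset.notMem_empty v)⟩
  | insert v S' hv ih =>
    obtain ⟨K₁, θ₁, h₁⟩ := ih
    have hL : IsConstructible {y | F y = v} := (hF v).isConstructible
    have hZ₁ : IsConstructible ((E.map θ₁) ⁻¹' {y | F y = v}) :=
      (E.map θ₁).isConstructible_preimage hL
    have hopen : IsOpen ((cE.π.app K₁) ⁻¹' ((E.map θ₁) ⁻¹' {y | F y = v})) := by
      have : (cE.π.app K₁) ⁻¹' ((E.map θ₁) ⁻¹' {y | F y = v}) =
          (fun x => F (cE.π.app K x)) ⁻¹' {v} := by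
        ext x
        simp only [Set.mem_preimage, Set.mem_ofPred_eq, Set.mem_singleton_iff]
        rw [cone_apply]
      rw [this]
      exact hloc.isOpen_fiber v
    obtain ⟨K₂, φ₂, hφ₂⟩ := exists_isOpen_map_preimage E cE hcE K₁ _ hZ₁ hopen
    refine ⟨K₂, φ₂ ≫ θ₁, fun w hw => ?_⟩
    have hpre : (E.map (φ₂ ≫ θ₁)) ⁻¹' {y | F y = w} =
        (E.map φ₂) ⁻¹' ((E.map θ₁) ⁻¹' {y | F y = w}) := by
      ext y
      simp only [Set.mem_preimage, Set.mem_ofPred_eq]
      rw [E.map_comp, Scheme.Hom.comp_apply]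
    rw [hpre]
    rcases Finset.mem_insert.mp hw with rfl | hw'
    · exact hφ₂
    · exact (h₁ w hw').preimage (E.map φ₂).continuous

end generic

section main

variable {I : Type u} [SmallCategory I] [IsCofiltered I] (D : I ⥤ Scheme.{u}) (c : Cone D)
  {X0 Yu : Scheme.{u}} (i0 : I) (f0 : X0 ⟶ D.obj i0) (au : Yu ⟶ D.obj i0)
  (Uu : (pullback f0 au).Opens)

theorem over_hom_eq {K K' : Over i0} (θ : K' ⟶ K) :
    D.map K'.hom = D.map θ.left ≫ D.map K.hom := by
  rw [← D.map_comp, Over.w θ]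

theorem cone_hom_eq (K : Over i0) : c.π.app i0 = c.π.app K.left ≫ D.map K.hom :=
  (c.w K.hom).symm

theorem bcDiag_map_eq_xτ {K K' : Over i0} (θ : K' ⟶ K) :
    (bcDiag D i0 f0).map θ =
      xτ f0 (D.map K.hom) (D.map K'.hom) (D.map θ.left) (over_hom_eq D i0 θ) := by
  refine pullback.hom_ext (f := D.map K.hom) (g := f0) ?_ ?_
  · exact (bcDiag_map_fst D i0 f0 θ).trans (xτ_fst f0 _ _ _ _).symm
  · exact (bcDiag_map_snd D i0 f0 θ).trans (xτ_snd f0 _ _ _ _).symm

theorem bcDiag_map_eq_tτ {K K' : Over i0} (θ : K' ⟶ K) :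
    (bcDiag D i0 au).map θ =
      tτ au (D.map K.hom) (D.map K'.hom) (D.map θ.left) (over_hom_eq D i0 θ) := by
  refine pullback.hom_ext (f := D.map K.hom) (g := au) ?_ ?_
  · exact (bcDiag_map_fst D i0 au θ).trans (tτ_fst au _ _ _ _).symm
  · exact (bcDiag_map_snd D i0 au θ).trans (tτ_snd au _ _ _ _).symm

theorem bcCone_π_eq_xτ (K : Over i0) :
    (bcCone D c i0 f0).π.app K =
      xτ f0 (D.map K.hom) (c.π.app i0) (c.π.app K.left) (cone_hom_eq D c i0 K) := by
  refine pullback.hom_ext (f := D.map K.hom) (g := f0) ?_ ?_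
  · exact (bcCone_π_fst D c i0 f0 K).trans (xτ_fst f0 _ _ _ _).symm
  · exact (bcCone_π_snd D c i0 f0 K).trans (xτ_snd f0 _ _ _ _).symm

theorem bcCone_π_eq_tτ (K : Over i0) :
    (bcCone D c i0 au).π.app K =
      tτ au (D.map K.hom) (c.π.app i0) (c.π.app K.left) (cone_hom_eq D c i0 K) := by
  refine pullback.hom_ext (f := D.map K.hom) (g := au) ?_ ?_
  · exact (bcCone_π_fst D c i0 au K).trans (tτ_fst au _ _ _ _).symm
  · exact (bcCone_π_snd D c i0 au K).trans (tτ_snd au _ _ _ _).symm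

theorem FS_cone [IsFinite (πu f0 au Uu)] (K : Over i0) (ω : XS f0 (D.map K.hom) → ℤ) :
    FS f0 au Uu (c.π.app i0) (fun x => ω ((bcCone D c i0 f0).π.app K x)) =
      fun y => FS f0 au Uu (D.map K.hom) ω ((bcCone D c i0 au).π.app K y) := by
  rw [bcCone_π_eq_xτ, bcCone_π_eq_tτ]
  exact FS_comp f0 au Uu (D.map K.hom) (c.π.app i0) (c.π.app K.left) (cone_hom_eq D c i0 K) ω

theorem FS_diag [IsFinite (πu f0 au Uu)] {K K' : Over i0} (θ : K' ⟶ K)
    (ω : XS f0 (D.map K.hom) → ℤ) :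
    FS f0 au Uu (D.map K'.hom) (fun x => ω ((bcDiag D i0 f0).map θ x)) =
      fun y => FS f0 au Uu (D.map K.hom) ω ((bcDiag D i0 au).map θ y) := by
  rw [bcDiag_map_eq_xτ, bcDiag_map_eq_tτ]
  exact FS_comp f0 au Uu (D.map K.hom) (D.map K'.hom) (D.map θ.left) (over_hom_eq D i0 θ) ω

theorem S7192 {I : Type u} [SmallCategory I] [IsCofiltered I]
    (D : I ⥤ Scheme.{u}) (c : Limits.Cone D) (hc : Limits.IsLimit c) [∀ i, IsAffine (D.obj i)]
    (i0 : I) {X0 X : Scheme.{u}} [IsAffine X0] (f0 : X0 ⟶ D.obj i0) [LocallyQuasiFinite f0] [LocallyOfFinitePresentation f0] [QuasiCompact f0]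
    (f : X ⟶ c.pt) (pX : X ⟶ X0) (hX : IsPullback pX f f0 (c.π.app i0))
    (w : X → ℤ) (hw : MoreMor.IsWeighting f w) :
    ∃ (i : I) (a : i ⟶ i0) (Xi : Scheme.{u}) (fi : Xi ⟶ D.obj i) (pXi : Xi ⟶ X0) (g : X ⟶ Xi) (wi : Xi → ℤ),
      IsPullback pXi fi f0 (D.map a) ∧ g ≫ fi = f ≫ c.π.app i ∧ g ≫ pXi = pX ∧
      MoreMor.IsWeighting fi wi ∧ ∀ x : X, wi (g x) = w x := by
  classical
  haveI hAff : ∀ (i j : I) (φ : i ⟶ j), IsAffineHom (D.map φ) := fun i j φ => inferInstance
  haveI hAff' : ∀ {i j : I} (φ : i ⟶ j), IsAffineHom (D.map φ) := fun φ => inferInstance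
  obtain ⟨Yu, au, Uu, hfp, hQC, hQS, hfinU, hvers⟩ := Groth.Agent.Lib.lead.UfoE.S1445 f0
  haveI : IsFinite (πu f0 au Uu) := hfinU
  have hvers' : IsVersal f0 au Uu := hvers
  haveI : CompactSpace Yu := QuasiCompact.compactSpace_of_compactSpace au
  have hcE : IsLimit (bcCone D c i0 f0) := bcIsLimit D hc i0 f0
  have hcG : IsLimit (bcCone D c i0 au) := bcIsLimit D hc i0 au
  haveI hEaff : ∀ K : Over i0, IsAffine ((bcDiag D i0 f0).obj K) := fun K => by
    show IsAffine (pullback (D.map K.hom) f0); infer_instance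
  haveI : ∀ K : Over i0, QuasiSeparatedSpace ((bcDiag D i0 f0).obj K) := fun K => inferInstance
  haveI : ∀ K : Over i0, CompactSpace ((bcDiag D i0 f0).obj K) := fun K => inferInstance
  haveI : ∀ K : Over i0, QuasiSeparatedSpace ((bcDiag D i0 au).obj K) := fun K => by
    show QuasiSeparatedSpace ↥(pullback (D.map K.hom) au)
    exact quasiSeparatedSpace_of_quasiSeparated (pullback.fst (D.map K.hom) au)
  haveI : ∀ K : Over i0, CompactSpace ((bcDiag D i0 au).obj K) := fun K => inferInstance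
  haveI : ∀ (K K' : Over i0) (θ : K ⟶ K'), IsAffineHom ((bcDiag D i0 f0).map θ) :=
    fun K K' θ => inferInstance
  haveI : ∀ (K K' : Over i0) (θ : K ⟶ K'), IsAffineHom ((bcDiag D i0 au).map θ) :=
    fun K K' θ => inferInstance
  -- transport to the canonical pullback
  let eX : X ≅ pullback (c.π.app i0) f0 := hX.flip.isoPullback
  have heX1 : eX.hom ≫ pullback.fst (c.π.app i0) f0 = f := hX.flip.isoPullback_hom_fst
  have heX2 : eX.hom ≫ pullback.snd (c.π.app i0) f0 = pX := hX.flip.isoPullback_hom_snd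
  have heX3 : eX.inv ≫ f = pullback.fst (c.π.app i0) f0 := hX.flip.isoPullback_inv_fst
  haveI : LocallyQuasiFinite f := MorphismProperty.of_isPullback hX ‹LocallyQuasiFinite f0›
  haveI : LocallyOfFinitePresentation f :=
    MorphismProperty.of_isPullback hX ‹LocallyOfFinitePresentation f0›
  let wInf : XS f0 (c.π.app i0) → ℤ := w ∘ eX.inv
  have hwInf : MoreMor.IsWeighting (fS f0 (c.π.app i0)) wInf := by
    refine Groth.Agent.Lib.lead.WtF.S1419 f w hw (fS f0 (c.π.app i0)) eX.inv (𝟙 c.pt) ?_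
    have hsq : CommSq eX.inv (fS f0 (c.π.app i0)) f (𝟙 c.pt) :=
      ⟨by rw [heX3]; exact (Category.comp_id _).symm⟩
    haveI : IsIso (𝟙 c.pt : c.pt ⟶ c.pt) := IsIso.id c.pt
    exact IsPullback.of_horiz_isIso hsq
  have hFInf : IsLocallyConstant (FS f0 au Uu (c.π.app i0) wInf) :=
    isLocallyConstant_FS_of_isWeighting f0 au Uu (c.π.app i0) wInf hwInf
  have hlcf : LCF wInf := Groth.Agent.Lib.lead.WtLcF.lcf_of_weighting (fS f0 (c.π.app i0)) wInf hwInf
  -- descend the weighting as an LCF function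
  obtain ⟨K, ωK, hωK, hωKπ⟩ := exists_descend_lcf (bcDiag D i0 f0) (bcCone D c i0 f0) hcE wInf hlcf
  -- the universal integral at stage K is LCF
  have hFK : LCF (FS f0 au Uu (D.map K.hom) ωK) := by
    haveI : CompactSpace (YuS au (D.map K.hom)) :=
      inferInstanceAs (CompactSpace ((bcDiag D i0 au).obj K))
    haveI : CompactSpace (AS f0 au Uu (D.map K.hom)) :=
      QuasiCompact.compactSpace_of_compactSpace (pS f0 au Uu (D.map K.hom))
    obtain ⟨d, hd⟩ := Groth.Agent.Lib.lead.WtLcE.exists_bound_cnt (pS f0 au Uu (D.map K.hom))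
    exact (Groth.Agent.Lib.lead.WtLcC.main d (pS f0 au Uu (D.map K.hom)) (fun y => (hd y).2)).1 _
      (LCF.comp (aS f0 au Uu (D.map K.hom)) hωK)
  have hloc : IsLocallyConstant
      (fun y => FS f0 au Uu (D.map K.hom) ωK ((bcCone D c i0 au).π.app K y)) := by
    have h1 : FS f0 au Uu (c.π.app i0) wInf =
        fun y => FS f0 au Uu (D.map K.hom) ωK ((bcCone D c i0 au).π.app K y) := by
      rw [← FS_cone D c i0 f0 au Uu K ωK]
      congr 1
      exact (funext hωKπ).symm
    rw [← h1]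
    exact hFInf
  obtain ⟨K', θ, hθ⟩ := exists_isLocallyConstant_stage (bcDiag D i0 au) (bcCone D c i0 au) hcG K
    (FS f0 au Uu (D.map K.hom) ωK) hFK hloc
  let ωK' : XS f0 (D.map K'.hom) → ℤ := fun x => ωK ((bcDiag D i0 f0).map θ x)
  have hloc' : IsLocallyConstant (FS f0 au Uu (D.map K'.hom) ωK') := by
    rw [FS_diag D i0 f0 au Uu θ ωK]
    exact hθ
  have hwK' : MoreMor.IsWeighting (fS f0 (D.map K'.hom)) ωK' :=
    isWeighting_of_isLocallyConstant_FS f0 au Uu (D.map K'.hom) hvers' ωK' hloc'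
  refine ⟨K'.left, K'.hom, pullback (D.map K'.hom) f0, pullback.fst _ _, pullback.snd _ _,
    eX.hom ≫ (bcCone D c i0 f0).π.app K', ωK', (IsPullback.of_hasPullback _ _).flip, ?_, ?_, hwK',
    ?_⟩
  · have h := bcCone_π_fst D c i0 f0 K'
    calc (eX.hom ≫ (bcCone D c i0 f0).π.app K') ≫ pullback.fst (D.map K'.hom) f0
        = eX.hom ≫ ((bcCone D c i0 f0).π.app K' ≫ pullback.fst (D.map K'.hom) f0) :=
          Category.assoc _ _ _
      _ = eX.hom ≫ (pullback.fst (c.π.app i0) f0 ≫ c.π.app K'.left) := congrArg (eX.hom ≫ ·) h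
      _ = (eX.hom ≫ pullback.fst (c.π.app i0) f0) ≫ c.π.app K'.left := (Category.assoc _ _ _).symm
      _ = f ≫ c.π.app K'.left := by rw [heX1]
  · have h := bcCone_π_snd D c i0 f0 K'
    calc (eX.hom ≫ (bcCone D c i0 f0).π.app K') ≫ pullback.snd (D.map K'.hom) f0
        = eX.hom ≫ ((bcCone D c i0 f0).π.app K' ≫ pullback.snd (D.map K'.hom) f0) :=
          Category.assoc _ _ _
      _ = eX.hom ≫ pullback.snd (c.π.app i0) f0 := congrArg (eX.hom ≫ ·) h
      _ = pX := heX2
  · intro x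
    show ωK ((bcDiag D i0 f0).map θ ((eX.hom ≫ (bcCone D c i0 f0).π.app K') x)) = w x
    rw [Scheme.Hom.comp_apply]
    have e1 := cone_apply (bcDiag D i0 f0) (bcCone D c i0 f0) θ (eX.hom x)
    have e2 := hωKπ (eX.hom x)
    refine (congrArg ωK e1).trans (e2.trans ?_)
    show w (eX.inv (eX.hom x)) = w x
    rw [← Scheme.Hom.comp_apply, eX.hom_inv_id]
    rfl

end main

end Groth.Agent.Lib.lead.UfoG
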