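import Mathlib
import Groth.Agent.Lib.lead.UfoF
import Groth.Agent.Lib.lead.WtG
import Groth.Agent.Lib.lead.WtN

set_option autoImplicit false
set_option linter.style.haveILetI false
set_option linter.unusedSectionVars false
universe u

namespace Groth.Agent.Lib.lead.UfoH

open AlgebraicGeometry CategoryTheory Limits TopologicalSpace Topology
open Groth.Agent.Lib.lead.WtA Groth.Agent.Lib.lead.WtB Groth.Agent.Lib.lead.WtD
open Groth.Agent.Lib.lead.UfoF Groth.Agent.Lib.lead.WtG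

/-- finite opens of base changes to affine schemes have open image in the base -/
def FOC {X Y : Scheme.{u}} (f : X ⟶ Y) : Prop :=
  ∀ (V : Scheme.{u}) (g : V ⟶ Y) (U : (pullback f g).Opens), IsAffine V →
    IsFinite (U.ι ≫ pullback.snd f g) → IsOpen (Set.range (U.ι ≫ pullback.snd f g))

variable {X Y : Scheme.{u}}

theorem FOC.isOpen_range_of_isChart {f : X ⟶ Y} (h : FOC f) {V A : Scheme.{u}} [IsAffine V]
    {ρ : V ⟶ Y} {a : A ⟶ X} {p : A ⟶ V} (hc : IsChart f ρ a p) [IsFinite p] :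
    IsOpen (Set.range p) := by
  let U : (pullback f ρ).Opens := hc.j.opensRange
  let e : A ≅ U := hc.j.isoOpensRange
  have he : e.hom ≫ U.ι = hc.j := hc.j.isoOpensRange_hom_ι
  have hp : p = e.hom ≫ (U.ι ≫ pullback.snd f ρ) := by
    rw [← Category.assoc, he, hc.j_snd]
  have hfin : IsFinite (U.ι ≫ pullback.snd f ρ) := by
    have : IsFinite (e.hom ≫ (U.ι ≫ pullback.snd f ρ)) := by rw [← hp]; infer_instance
    exact (MorphismProperty.cancel_left_of_respectsIso @IsFinite e.hom _).mp this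
  have hopen := h V ρ U inferInstance hfin
  have : Set.range p = Set.range (U.ι ≫ pullback.snd f ρ) := by
    rw [hp]
    ext v
    constructor
    · rintro ⟨t, rfl⟩
      exact ⟨e.hom t, rfl⟩
    · rintro ⟨t, rfl⟩
      refine ⟨e.inv t, ?_⟩
      rw [Scheme.Hom.comp_apply, ← Scheme.Hom.comp_apply e.inv e.hom, e.inv_hom_id]
      rfl
  rw [this]
  exact hopen

theorem FOC.of_isPullback {X' Y' : Scheme.{u}} {f : X ⟶ Y} {f' : X' ⟶ Y'} {h' : X' ⟶ X}
    {g₀ : Y' ⟶ Y} (hc : IsPullback h' f' f g₀) (h : FOC f) : FOC f' := by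
  intro V g U hV hU
  haveI := hV
  haveI := hU
  have hch : IsChart f' g (U.ι ≫ pullback.fst f' g) (U.ι ≫ pullback.snd f' g) :=
    IsChart.of_opens f' g U
  have hch' := hch.of_isPullback hc
  exact h.isOpen_range_of_isChart hch'

theorem FOC.isOpenMap (f : X ⟶ Y) [LocallyQuasiFinite f] [LocallyOfFiniteType f] (h : FOC f) :
    IsOpenMap f := by
  intro O hO
  rw [isOpen_iff_mem_nhds]
  rintro _ ⟨x, hxO, rfl⟩
  obtain ⟨W, g, w₀, hg, T, t, hgw, ht, hfin, htw, huniq, hpi, htx⟩ := exists_piece f x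
  haveI := hg
  haveI := hfin
  have hT : IsChart f g (T.ι ≫ pullback.fst f g) (T.ι ≫ pullback.snd f g) :=
    IsChart.of_opens f g T
  have hcl : IsClosed ((T.ι ≫ pullback.snd f g) '' ((T.ι ≫ pullback.fst f g) ⁻¹' O)ᶜ) :=
    (T.ι ≫ pullback.snd f g).isClosedMap _
      (hO.preimage (T.ι ≫ pullback.fst f g).continuous).isClosed_compl
  have hw₀ : w₀ ∉ (T.ι ≫ pullback.snd f g) '' ((T.ι ≫ pullback.fst f g) ⁻¹' O)ᶜ := by
    rintro ⟨z, hz, hzw⟩
    have hzt : z.1 = t := huniq z.1 z.2 hzw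
    apply hz
    show pullback.fst f g z.1 ∈ O
    rw [hzt, htx]
    exact hxO
  -- an affine open neighbourhood of `w₀` inside the complement
  have key : ∃ W' : W.Opens, IsAffineOpen W' ∧ w₀ ∈ W' ∧ (W' : Set W) ⊆
      ((T.ι ≫ pullback.snd f g) '' ((T.ι ≫ pullback.fst f g) ⁻¹' O)ᶜ)ᶜ := by
    obtain ⟨_, ⟨W₀, hW₀, rfl⟩, hwW₀, hW₀N⟩ :=
      W.isBasis_affineOpens.exists_subset_of_mem_open hw₀ hcl.isOpen_compl
    exact ⟨W₀, hW₀, hwW₀, hW₀N⟩
  obtain ⟨W', hW', hwW', hW'N⟩ := key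
  haveI : IsAffine (W' : Scheme.{u}) := hW'
  have h₁ := hT.baseChange W'.ι (W'.ι ≫ g) rfl
  have hopen := h.isOpen_range_of_isChart h₁
  -- the centre lies in the range
  have hmem : (⟨w₀, hwW'⟩ : W') ∈ Set.range (pullback.snd (T.ι ≫ pullback.snd f g) W'.ι) := by
    obtain ⟨z, -, hz2⟩ := Scheme.Pullback.exists_preimage_pullback
      (f := T.ι ≫ pullback.snd f g) (g := W'.ι) (⟨t, ht⟩ : T) (⟨w₀, hwW'⟩ : W') htw
    exact ⟨z, hz2⟩
  have hopen' : IsOpenMap (W'.ι ≫ g) := (W'.ι ≫ g).isOpenMap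
  have himg := hopen'.image_mem_nhds (hopen.mem_nhds hmem)
  have hcentre : (W'.ι ≫ g) (⟨w₀, hwW'⟩ : W') = f x := hgw
  rw [hcentre] at himg
  refine Filter.mem_of_superset himg ?_
  rintro _ ⟨_, ⟨z, rfl⟩, rfl⟩
  set z₁ := pullback.fst (T.ι ≫ pullback.snd f g) W'.ι z with hz₁
  have hcond : (T.ι ≫ pullback.snd f g) z₁ = W'.ι (pullback.snd (T.ι ≫ pullback.snd f g) W'.ι z) := by
    rw [hz₁, ← Scheme.Hom.comp_apply, ← Scheme.Hom.comp_apply, pullback.condition]
  have hzO : (T.ι ≫ pullback.fst f g) z₁ ∈ O := by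
    by_contra hne
    have : W'.ι (pullback.snd (T.ι ≫ pullback.snd f g) W'.ι z) ∈
        (T.ι ≫ pullback.snd f g) '' ((T.ι ≫ pullback.fst f g) ⁻¹' O)ᶜ := ⟨z₁, hne, hcond⟩
    exact hW'N (pullback.snd (T.ι ≫ pullback.snd f g) W'.ι z).2 this
  refine ⟨(T.ι ≫ pullback.fst f g) z₁, hzO, ?_⟩
  have e1 : f ((T.ι ≫ pullback.fst f g) z₁) = g ((T.ι ≫ pullback.snd f g) z₁) := by
    have := congrArg (fun φ : (T : Scheme.{u}) ⟶ Y => φ z₁) hT.comm
    simpa only [Scheme.Hom.comp_apply] using this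
  rw [e1, hcond]
  rfl

theorem FOC.universallyOpen (f : X ⟶ Y) [LocallyQuasiFinite f] [LocallyOfFiniteType f]
    (h : FOC f) : UniversallyOpen f := by
  refine ⟨fun X' Y' i₁ i₂ f' hc => ?_⟩
  haveI : LocallyQuasiFinite f' := MorphismProperty.of_isPullback hc.flip inferInstance
  haveI : LocallyOfFiniteType f' := MorphismProperty.of_isPullback hc.flip inferInstance
  exact FOC.isOpenMap f' (h.of_isPullback hc.flip)

theorem mem_range_iff_fibreIntegral_one {U V : Scheme.{u}} (π : U ⟶ V) [IsFinite π] (v : V) :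
    v ∈ Set.range π ↔ MoreMor.fibreIntegral π (fun _ => 1) v ≠ 0 := by
  constructor
  · rintro ⟨t, rfl⟩
    have h1 := le_fibreIntegral π (fun _ => (1 : ℤ)) (fun _ => zero_le_one) (π t)
      (finite_fibre_of_isFinite π (π t)) t rfl
    intro h0
    rw [h0] at h1
    exact absurd h1 (by norm_num)
  · intro h
    obtain ⟨t, ht⟩ := exists_of_fibreIntegral_ne_zero π _ v h
    exact ⟨t, ht⟩

section stage

variable {X0 Y0 Yu : Scheme.{u}} (f0 : X0 ⟶ Y0) (au : Yu ⟶ Y0) (Uu : (pullback f0 au).Opens)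
  {S : Scheme.{u}} (σ : S ⟶ Y0)

/-- the geometric point count of the universal finite open at stage `σ` -/
noncomputable def ΦS : YuS au σ → ℤ := FS f0 au Uu σ (fun _ => 1)

theorem range_pS [IsFinite (πu f0 au Uu)] :
    Set.range (pS f0 au Uu σ) = {y | ΦS f0 au Uu σ y ≠ 0} := by
  ext y
  exact mem_range_iff_fibreIntegral_one (pS f0 au Uu σ) y

theorem FOC_stage (hvers : IsVersal f0 au Uu) [IsFinite (πu f0 au Uu)]
    (hopen : IsOpen {y | ΦS f0 au Uu σ y ≠ 0}) : FOC (fS f0 σ) := by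
  intro V g U hV hU
  haveI := hV
  haveI := hU
  obtain ⟨c, -, hint⟩ := versal_stage f0 au Uu σ hvers g U hU
  have : Set.range (U.ι ≫ pullback.snd (fS f0 σ) g) = c ⁻¹' {y | ΦS f0 au Uu σ y ≠ 0} := by
    ext v
    rw [mem_range_iff_fibreIntegral_one]
    have := hint (fun _ => 1) v
    show _ ↔ FS f0 au Uu σ (fun _ => 1) (c v) ≠ 0
    rw [← this]
  rw [this]
  exact hopen.preimage c.continuous

theorem universallyOpen_stage (hvers : IsVersal f0 au Uu) [IsFinite (πu f0 au Uu)]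
    [LocallyQuasiFinite f0] [LocallyOfFiniteType f0]
    (hopen : IsOpen {y | ΦS f0 au Uu σ y ≠ 0}) : UniversallyOpen (fS f0 σ) :=
  FOC.universallyOpen _ (FOC_stage f0 au Uu σ hvers hopen)

/-- conversely, if the stage morphism is universally open the support of the count is open -/
theorem isOpen_support_of_universallyOpen [IsFinite (πu f0 au Uu)]
    [UniversallyOpen (fS f0 σ)] : IsOpen {y | ΦS f0 au Uu σ y ≠ 0} := by
  rw [← range_pS]
  have h := chartS f0 au Uu σ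
  have hp : pS f0 au Uu σ = h.j ≫ pullback.snd (fS f0 σ) (ρS au σ) := h.j_snd.symm
  rw [hp]
  exact (h.j ≫ pullback.snd (fS f0 σ) (ρS au σ)).isOpenMap.isOpen_range

end stage

end Groth.Agent.Lib.lead.UfoH
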