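import Mathlib
import Groth.Agent.Lib.lead.UfoG
import Groth.Agent.Lib.lead.UfoH
import Groth.Agent.Lib.Helper13.LimDescendSmooth
import Groth.Agent.Lib.Helper13.LimDescendQuasiFinite

set_option autoImplicit false
set_option linter.style.haveILetI false
set_option linter.unusedSectionVars false
universe u

namespace Groth.Agent.Lib.lead.UfoI

open AlgebraicGeometry CategoryTheory Limits TopologicalSpace Topology
open Groth.Agent.Lib.lead.WtA Groth.Agent.Lib.lead.WtB Groth.Agent.Lib.lead.WtD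
open Groth.Agent.Lib.lead.UfoF Groth.Agent.Lib.lead.WtLcA Groth.Agent.Lib.Helper22
open Groth.Agent.Lib.Helper5 Groth.Agent.Lib.lead.UfoG Groth.Agent.Lib.lead.UfoH

theorem fst_comp_left_iff {C : Type*} [Category C] [HasPullbacks C] (P : MorphismProperty C)
    [P.RespectsIso] {T S₁ S₀ X : C} (π : T ⟶ S₁) (m : S₁ ⟶ S₀) (a : X ⟶ S₀) (n : T ⟶ S₀)
    (hn : n = π ≫ m) :
    P (pullback.fst n a) ↔ P (pullback.fst π (pullback.fst m a)) := by
  subst hn
  have h1 : IsPullback (pullback.snd π (pullback.fst m a)) (pullback.fst π (pullback.fst m a))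
      (pullback.fst m a) π := (IsPullback.of_hasPullback π (pullback.fst m a)).flip
  have h2 : IsPullback (pullback.snd m a) (pullback.fst m a) a m :=
    (IsPullback.of_hasPullback m a).flip
  have h3 := (h1.paste_horiz h2).flip
  exact Groth.Agent.Lib.Helper13.LimDescend.prop_iff_of_isPullback P
    (IsPullback.of_hasPullback (π ≫ m) a) h3

section T

variable {I : Type u} [SmallCategory I] [IsCofiltered I] (D : I ⥤ Scheme.{u}) (c : Cone D)
  (hc : IsLimit c)

include hc in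
/-- universal openness of a quasi-finite finitely presented morphism of affine schemes descends
to a finite stage -/
theorem exists_universallyOpen_stage [∀ (i j : I) (f : i ⟶ j), IsAffineHom (D.map f)] (i0 : I)
    [IsAffine (D.obj i0)] {X0 : Scheme.{u}} [IsAffine X0] (f0 : X0 ⟶ D.obj i0)
    [LocallyQuasiFinite f0] [LocallyOfFinitePresentation f0]
    [UniversallyOpen (pullback.fst (c.π.app i0) f0)] :
    ∃ K : Over i0, UniversallyOpen (pullback.fst (D.map K.hom) f0) := by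
  classical
  haveI hAff' : ∀ {i j : I} (φ : i ⟶ j), IsAffineHom (D.map φ) := fun φ => inferInstance
  obtain ⟨Yu, au, Uu, hfp, hQC, hQS, hfinU, hvers⟩ := Groth.Agent.Lib.lead.UfoE.S1445 f0
  haveI : IsFinite (πu f0 au Uu) := hfinU
  have hvers' : IsVersal f0 au Uu := hvers
  haveI : CompactSpace Yu := QuasiCompact.compactSpace_of_compactSpace au
  haveI : QuasiSeparatedSpace Yu := quasiSeparatedSpace_of_quasiSeparated au
  have hcG : IsLimit (bcCone D c i0 au) := bcIsLimit D hc i0 au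
  haveI : ∀ K : Over i0, QuasiSeparatedSpace ((bcDiag D i0 au).obj K) := fun K => by
    show QuasiSeparatedSpace ↥(pullback (D.map K.hom) au)
    haveI : IsAffineHom (pullback.snd (D.map K.hom) au) :=
      MorphismProperty.pullback_snd (P := @IsAffineHom) _ _ inferInstance
    exact quasiSeparatedSpace_of_quasiSeparated (pullback.snd (D.map K.hom) au)
  haveI : ∀ K : Over i0, CompactSpace ((bcDiag D i0 au).obj K) := fun K => inferInstance
  haveI : ∀ {K K' : Over i0} (θ : K ⟶ K'), IsAffineHom ((bcDiag D i0 au).map θ) :=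
    fun θ => inferInstance
  let K₀ : Over i0 := Over.mk (𝟙 i0)
  -- the count at the top stage is LCF
  have hΦ : LCF (ΦS f0 au Uu (D.map K₀.hom)) := by
    haveI : CompactSpace (YuS au (D.map K₀.hom)) :=
      inferInstanceAs (CompactSpace ((bcDiag D i0 au).obj K₀))
    haveI : CompactSpace (AS f0 au Uu (D.map K₀.hom)) :=
      QuasiCompact.compactSpace_of_compactSpace (pS f0 au Uu (D.map K₀.hom))
    obtain ⟨d, hd⟩ := Groth.Agent.Lib.lead.WtLcE.exists_bound_cnt (pS f0 au Uu (D.map K₀.hom))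
    exact (Groth.Agent.Lib.lead.WtLcC.main d (pS f0 au Uu (D.map K₀.hom)) (fun y => (hd y).2)).1 _
      (LCF.const 1)
  have hZ : IsConstructible {y : (bcDiag D i0 au).obj K₀ | ΦS f0 au Uu (D.map K₀.hom) y ≠ 0} := by
    haveI : QuasiSeparatedSpace ↥(YuS au (D.map K₀.hom)) :=
      inferInstanceAs (QuasiSeparatedSpace ((bcDiag D i0 au).obj K₀))
    haveI : CompactSpace ↥(YuS au (D.map K₀.hom)) :=
      inferInstanceAs (CompactSpace ((bcDiag D i0 au).obj K₀))
    have h0 := isLocallyConstructible_compl (hΦ 0)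
    exact h0.isConstructible
  have hpre : ((bcCone D c i0 au).π.app K₀) ⁻¹'
      {y : (bcDiag D i0 au).obj K₀ | ΦS f0 au Uu (D.map K₀.hom) y ≠ 0} =
      {y | ΦS f0 au Uu (c.π.app i0) y ≠ 0} := by
    have h1 := FS_cone D c i0 f0 au Uu K₀ (fun _ => 1)
    ext y
    show ΦS f0 au Uu (D.map K₀.hom) ((bcCone D c i0 au).π.app K₀ y) ≠ 0 ↔
      FS f0 au Uu (c.π.app i0) (fun _ => 1) y ≠ 0
    rw [h1]
    rfl
  have hopen : IsOpen (((bcCone D c i0 au).π.app K₀) ⁻¹'
      {y : (bcDiag D i0 au).obj K₀ | ΦS f0 au Uu (D.map K₀.hom) y ≠ 0}) := by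
    rw [hpre]
    exact isOpen_support_of_universallyOpen f0 au Uu (c.π.app i0)
  obtain ⟨K', φ, hφ⟩ := exists_isOpen_map_preimage (bcDiag D i0 au) (bcCone D c i0 au) hcG K₀ _
    hZ hopen
  refine ⟨K', ?_⟩
  have hK' : {y | ΦS f0 au Uu (D.map K'.hom) y ≠ 0} = ((bcDiag D i0 au).map φ) ⁻¹'
      {y : (bcDiag D i0 au).obj K₀ | ΦS f0 au Uu (D.map K₀.hom) y ≠ 0} := by
    have h1 := FS_diag D i0 f0 au Uu φ (fun _ => 1)
    ext y
    show FS f0 au Uu (D.map K'.hom) (fun _ => 1) y ≠ 0 ↔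
      ΦS f0 au Uu (D.map K₀.hom) ((bcDiag D i0 au).map φ y) ≠ 0
    rw [h1]
    rfl
  exact universallyOpen_stage f0 au Uu (D.map K'.hom) hvers' (hK' ▸ hφ)

end T

open Groth.Agent.Lib.Helper13.LimDescend in
theorem S9770 {I : Type u} [SmallCategory I] [IsCofiltered I]
    (D : I ⥤ Scheme.{u}) (c : Limits.Cone D) (hc : Limits.IsLimit c)
    [∀ (i j : I) (φ : i ⟶ j), IsAffineHom (D.map φ)] (i₀ : I) [CompactSpace (D.obj i₀)] [QuasiSeparatedSpace (D.obj i₀)]
    {X₀ Y₀ : Scheme.{u}} (f₀ : X₀ ⟶ Y₀) (g₀ : Y₀ ⟶ D.obj i₀) [CompactSpace X₀] [QuasiSeparatedSpace X₀]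
    [CompactSpace Y₀] [QuasiSeparatedSpace Y₀] [LocallyOfFinitePresentation f₀]
    {X Y : Scheme.{u}} (f : X ⟶ Y) (g : Y ⟶ c.pt) (qY : Y ⟶ Y₀) (qX : X ⟶ X₀)
    (hY : IsPullback qY g g₀ (c.π.app i₀)) (hX : IsPullback qX f f₀ qY)
    [LocallyQuasiFinite f] [LocallyOfFiniteType f] [UniversallyOpen f] :
    ∃ (i : I) (φ : i ⟶ i₀) (Xi Yi : Scheme.{u}) (fi : Xi ⟶ Yi) (gi : Yi ⟶ D.obj i) (pY : Yi ⟶ Y₀) (pX : Xi ⟶ X₀),
      IsPullback pY gi g₀ (D.map φ) ∧ IsPullback pX fi f₀ pY ∧ LocallyQuasiFinite fi ∧ LocallyOfFiniteType fi ∧ UniversallyOpen fi := by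
  have hf : (@UniversallyOpen ⊓ @LocallyQuasiFinite : MorphismProperty Scheme.{u}) f :=
    ⟨‹UniversallyOpen f›, ‹LocallyQuasiFinite f›⟩
  have key := descend_of_core D c (@UniversallyOpen ⊓ @LocallyQuasiFinite : MorphismProperty Scheme.{u})
    i₀ f₀ g₀ ?_ f g qY qX hY hX hf
  · obtain ⟨i, φ, Xi, Yi, fi, gi, pY, pX, h1, h2, hP⟩ := key
    refine ⟨i, φ, Xi, Yi, fi, gi, pY, pX, h1, h2, hP.2, ?_, hP.1⟩
    haveI : LocallyOfFiniteType f₀ := inferInstance
    exact MorphismProperty.of_isPullback h2 ‹LocallyOfFiniteType f₀›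
  · intro a ha hP
    haveI : ∀ (j k : Over i₀) (φ : j ⟶ k), IsAffineHom ((bcDiag D i₀ g₀).map φ) :=
      fun _ _ φ => inferInstance
    obtain ⟨s, hs, rfl⟩ := exists_iso_eq_comp D i₀ f₀ g₀ a ha
    refine core_srcLocal_affine (bcDiag D i₀ g₀) (bcCone D c i₀ g₀) (bcIsLimit D hc i₀ g₀)
      (@UniversallyOpen ⊓ @LocallyQuasiFinite : MorphismProperty Scheme.{u})
      (fun i _ => ⟨inferInstance, inferInstance⟩) ?_ (top i₀) (f₀ ≫ s) hP
    intro J' _ _ E' e' he' _ j₀' _ X₀' _ a' _ h'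
    obtain ⟨j₁, ψ₁, hLQF⟩ := core_locallyQuasiFinite E' e' he' j₀' a' h'.2
    haveI : IsAffine (E'.obj j₁) := isAffine_of_isAffineHom (E'.map ψ₁)
    haveI : LocallyQuasiFinite (pullback.fst (E'.map ψ₁) a') := hLQF
    haveI hUO : UniversallyOpen (pullback.fst (e'.π.app j₁) (pullback.fst (E'.map ψ₁) a')) := by
      exact (fst_comp_left_iff @UniversallyOpen (e'.π.app j₁) (E'.map ψ₁) a' (e'.π.app j₀')
        (e'.w ψ₁).symm).mp h'.1
    obtain ⟨K, hK⟩ := exists_universallyOpen_stage E' e' he' j₁ (pullback.fst (E'.map ψ₁) a')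
    refine ⟨K.left, K.hom ≫ ψ₁, ?_, ?_⟩
    · exact (fst_comp_left_iff @UniversallyOpen (E'.map K.hom) (E'.map ψ₁) a' _
        (E'.map_comp _ _)).mpr hK
    · exact (fst_comp_left_iff @LocallyQuasiFinite (E'.map K.hom) (E'.map ψ₁) a' _
        (E'.map_comp _ _)).mpr inferInstance

end Groth.Agent.Lib.lead.UfoI
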