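import Mathlib
import Groth.Prelude.Def_EGA43
import Groth.Agent.Lib.lead.UnibranchGD

set_option autoImplicit false
set_option linter.style.haveILetI false
open CategoryTheory CategoryTheory.Limits AlgebraicGeometry TensorProduct Topology

universe u

namespace Groth.Agent.Lib.lead.UnibranchOpen

open EGA43

/-- An integral injective extension `R ⊆ S` of domains with `R` integrally closed induces an open
map on spectra. -/
theorem isOpenMap_comap_of_isIntegrallyClosed {R S : Type u} [CommRing R] [CommRing S] [IsDomain R]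
    [IsDomain S] [IsIntegrallyClosed R] [Algebra R S] [FaithfulSMul R S] [Algebra.IsIntegral R S] :
    IsOpenMap (PrimeSpectrum.comap (algebraMap R S)) := by
  rw [PrimeSpectrum.isBasis_basic_opens.isOpenMap_iff]
  rintro _ ⟨_, ⟨g, rfl⟩, rfl⟩
  let S₀ : Subalgebra R S := Algebra.adjoin R {g}
  let g₀ : S₀ := ⟨g, Algebra.subset_adjoin rfl⟩
  have hg : IsIntegral R g := Algebra.IsIntegral.isIntegral g
  haveI : Algebra.FinitePresentation R (AdjoinRoot (minpoly R g)) :=
    Algebra.FinitePresentation.quotient (Submodule.fg_span_singleton _)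
  haveI : Algebra.FinitePresentation R S₀ :=
    Algebra.FinitePresentation.equiv (minpoly.equivAdjoin hg)
  haveI : Algebra.IsIntegral R S₀ := ⟨fun x => by
    have := Algebra.IsIntegral.isIntegral (R := R) (x : S)
    exact (isIntegral_algHom_iff S₀.val Subtype.val_injective).mp this⟩
  have hopen : IsOpenMap (PrimeSpectrum.comap (algebraMap R S₀)) :=
    PrimeSpectrum.isOpenMap_comap_of_hasGoingDown_of_finitePresentation
  have himg : PrimeSpectrum.comap (algebraMap R S) '' (PrimeSpectrum.basicOpen g : Set _) =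
      PrimeSpectrum.comap (algebraMap R S₀) '' (PrimeSpectrum.basicOpen g₀ : Set _) := by
    ext P
    constructor
    · rintro ⟨Q, hQ, rfl⟩
      refine ⟨PrimeSpectrum.comap (algebraMap S₀ S) Q, ?_, ?_⟩
      · exact hQ
      · rw [← PrimeSpectrum.comap_comp_apply]
        rfl
    · rintro ⟨Q₀, hQ₀, rfl⟩
      haveI : Algebra.IsIntegral S₀ S :=
        ⟨fun x => (Algebra.IsIntegral.isIntegral (R := R) x).tower_top⟩
      obtain ⟨Q, hQprime, hQ⟩ := Ideal.exists_ideal_over_prime_of_isIntegral_of_isDomain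
        (R := S₀) (S := S) Q₀.asIdeal (by
          rw [(RingHom.injective_iff_ker_eq_bot _).mp (Subtype.val_injective)]
          exact bot_le)
      refine ⟨⟨Q, hQprime⟩, ?_, ?_⟩
      · intro hgQ
        apply hQ₀
        rw [← hQ]
        exact hgQ
      · apply PrimeSpectrum.ext
        change (Q.comap (algebraMap S₀ S)).comap (algebraMap R S₀) = _
        rw [hQ]
        rfl
  rw [himg]
  exact hopen _ (PrimeSpectrum.basicOpen g₀).isOpen

section Unique

variable (A : Type u) [CommRing A] (p : Ideal A) [p.IsPrime]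
  (O : Type u) [CommRing O] [IsLocalRing O] [Algebra A O] [IsLocalization.AtPrime O p]

/-- two distinct primes over `p` in an integral `A`-algebra are comaximal up to `A ∖ p` -/
theorem exists_add_eq_of_ne {A' : Type u} [CommRing A'] [Algebra A A'] [Algebra.IsIntegral A A']
    (m₁ m₂ : Ideal A') [m₁.IsPrime] [m₂.IsPrime] (h₁ : m₁.comap (algebraMap A A') = p)
    (h₂ : m₂.comap (algebraMap A A') = p) (hne : m₁ ≠ m₂) :
    ∃ x ∈ m₁, ∃ y ∈ m₂, ∃ s ∈ p.primeCompl, x + y = algebraMap A A' s := by
  let Ms : Submonoid A' := p.primeCompl.map (algebraMap A A')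
  by_cases hd : Disjoint ((m₁ ⊔ m₂ : Ideal A') : Set A') (Ms : Set A')
  · exfalso
    obtain ⟨m₃, hm₃prime, hle, hdisj⟩ := Ideal.exists_le_prime_disjoint (m₁ ⊔ m₂) Ms hd
    have h3 : m₃.comap (algebraMap A A') = p := by
      apply le_antisymm
      · intro a ha
        by_contra hap
        exact Set.disjoint_left.mp hdisj ha ⟨a, hap, rfl⟩
      · rw [← h₁]
        exact Ideal.comap_mono (le_sup_left.trans hle)
    have e1 : m₁ = m₃ := by
      by_contra hne1
      have hlt : m₁ < m₃ := lt_of_le_of_ne (le_sup_left.trans hle) hne1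
      have := Ideal.IsIntegral.comap_lt_comap (R := A) hlt
      rw [h₁, h3] at this
      exact lt_irrefl _ this
    have e2 : m₂ = m₃ := by
      by_contra hne2
      have hlt : m₂ < m₃ := lt_of_le_of_ne (le_sup_right.trans hle) hne2
      have := Ideal.IsIntegral.comap_lt_comap (R := A) hlt
      rw [h₂, h3] at this
      exact lt_irrefl _ this
    exact hne (e1.trans e2.symm)
  · rw [Set.not_disjoint_iff] at hd
    obtain ⟨z, hz, ⟨s, hs, rfl⟩⟩ := hd
    obtain ⟨x, hx, y, hy, hxy⟩ := Submodule.mem_sup.mp hz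
    exact ⟨x, hx, y, hy, s, hs, hxy⟩

variable [IsDomain (CAlg2.red O)]

/-- an element of a prime over `p` of the integral closure of `A` in `Frac(O_red)` has no inverse
integral over `O_red` -/
theorem not_isIntegral_inv
    (n : Ideal (integralClosure A (FractionRing (CAlg2.red O)))) [n.IsPrime]
    (hn : n.comap (algebraMap A _) = p) (x : integralClosure A (FractionRing (CAlg2.red O)))
    (hx : x ∈ n) (v : FractionRing (CAlg2.red O)) (hv : IsIntegral (CAlg2.red O) v)
    (hxv : (x : FractionRing (CAlg2.red O)) * v = 1) : False := by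
  haveI : Algebra.IsIntegral O (CAlg2.red O) :=
    Algebra.isIntegral_of_surjective Ideal.Quotient.mk_surjective
  have hv' : IsIntegral O v := isIntegral_trans (R := O) (A := CAlg2.red O) v hv
  obtain ⟨⟨t, ht⟩, htv⟩ := IsIntegral.exists_multiple_integral_of_isLocalization p.primeCompl v hv'
  let w : integralClosure A (FractionRing (CAlg2.red O)) := ⟨t • v, htv⟩
  have hxw : x * w = algebraMap A _ t := by
    apply Subtype.ext
    change (x : FractionRing (CAlg2.red O)) * (t • v) = algebraMap A _ t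
    rw [mul_smul_comm, hxv, Algebra.algebraMap_eq_smul_one]
  have h1 : algebraMap A _ t ∈ n := hxw ▸ Ideal.mul_mem_right _ _ hx
  apply ht
  rw [← hn]
  exact h1

/-- over a unibranch point there is exactly one prime of the normalisation -/
theorem unique_prime_over (hO : CAlg2.IsUnibranch O)
    (n₁ n₂ : Ideal (integralClosure A (FractionRing (CAlg2.red O)))) [n₁.IsPrime] [n₂.IsPrime]
    (h₁ : n₁.comap (algebraMap A _) = p) (h₂ : n₂.comap (algebraMap A _) = p) : n₁ = n₂ := by
  by_contra hne
  obtain ⟨x, hx, y, hy, s, hs, hxy⟩ := exists_add_eq_of_ne A p n₁ n₂ h₁ h₂ hne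
  haveI : IsLocalRing (CAlg2.normRed O) := hO.2
  have hint : ∀ z : integralClosure A (FractionRing (CAlg2.red O)),
      IsIntegral (CAlg2.red O) (z : FractionRing (CAlg2.red O)) := fun z => z.2.tower_top
  let X : CAlg2.normRed O := ⟨x, hint x⟩
  let Y : CAlg2.normRed O := ⟨y, hint y⟩
  let Sx : CAlg2.normRed O := algebraMap (CAlg2.red O) (CAlg2.normRed O)
    (Ideal.Quotient.mk _ (algebraMap A O s))
  have hS : IsUnit Sx :=
    ((IsLocalization.map_units O (⟨s, hs⟩ : p.primeCompl)).map (Ideal.Quotient.mk _)).map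
      (algebraMap (CAlg2.red O) (CAlg2.normRed O))
  have hXY : X + Y = Sx := by
    apply Subtype.ext
    have h1 := congrArg Subtype.val hxy
    exact h1
  rcases IsLocalRing.isUnit_or_isUnit_of_isUnit_add (hXY ▸ hS) with hX | hY
  · obtain ⟨V, hV⟩ := hX.exists_right_inv
    exact not_isIntegral_inv A p O n₁ h₁ x hx V V.2 (congrArg Subtype.val hV)
  · obtain ⟨V, hV⟩ := hY.exists_right_inv
    exact not_isIntegral_inv A p O n₂ h₂ y hy V V.2 (congrArg Subtype.val hV)

include p in
theorem isFractionRing_integralClosure :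
    IsFractionRing (integralClosure A (FractionRing (CAlg2.red O))) (FractionRing (CAlg2.red O)) := by
  have key : ∀ r : CAlg2.red O, ∃ x s : A,
      algebraMap (CAlg2.red O) (FractionRing (CAlg2.red O)) r =
        algebraMap A (FractionRing (CAlg2.red O)) x / algebraMap A (FractionRing (CAlg2.red O)) s := by
    intro r
    obtain ⟨o, rfl⟩ := Ideal.Quotient.mk_surjective r
    obtain ⟨x, ⟨s, hs⟩, rfl⟩ := IsLocalization.exists_mk'_eq p.primeCompl o
    have hsu : IsUnit (algebraMap A (FractionRing (CAlg2.red O)) s) :=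
      ((IsLocalization.map_units O (⟨s, hs⟩ : p.primeCompl)).map (Ideal.Quotient.mk _)).map
        (algebraMap (CAlg2.red O) (FractionRing (CAlg2.red O)))
    refine ⟨x, s, ?_⟩
    rw [eq_div_iff hsu.ne_zero]
    change algebraMap (CAlg2.red O) (FractionRing (CAlg2.red O))
        (Ideal.Quotient.mk _ (IsLocalization.mk' O x (⟨s, hs⟩ : p.primeCompl))) *
      algebraMap (CAlg2.red O) (FractionRing (CAlg2.red O))
        (Ideal.Quotient.mk _ (algebraMap A O s)) =
      algebraMap (CAlg2.red O) (FractionRing (CAlg2.red O)) (Ideal.Quotient.mk _ (algebraMap A O x))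
    rw [← map_mul, ← map_mul, IsLocalization.mk'_spec]
  apply IsFractionRing.of_field
  intro z
  obtain ⟨a, b, hb, rfl⟩ := IsFractionRing.div_surjective (A := CAlg2.red O) z
  obtain ⟨x₁, s₁, h1⟩ := key a
  obtain ⟨x₂, s₂, h2⟩ := key b
  refine ⟨algebraMap A _ (x₁ * s₂), algebraMap A _ (s₁ * x₂), ?_⟩
  rw [h1, h2, div_div_div_eq, ← IsScalarTower.algebraMap_apply, ← IsScalarTower.algebraMap_apply,
    map_mul, map_mul]

include p in
theorem isIntegrallyClosed_integralClosure :
    IsIntegrallyClosed (integralClosure A (FractionRing (CAlg2.red O))) :=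
  letI := isFractionRing_integralClosure A p O
  (IsIntegrallyClosed.integralClosure_eq_bot_iff (FractionRing (CAlg2.red O))).mp
    integralClosure_idem

end Unique

set_option maxHeartbeats 3200000 in
/-- **Openness at a point with unibranch image, integral case.** -/
theorem isOpenAt_comap_of_isIntegral_of_unibranch {A B : Type u} [CommRing A] [CommRing B]
    [Algebra A B] [Algebra.IsIntegral A B]
    (hB : (nilradical B).IsPrime) (hdom : (nilradical B).comap (algebraMap A B) ≤ nilradical A)
    (q : PrimeSpectrum B) (p : Ideal A) [p.IsPrime] (hpq : q.asIdeal.comap (algebraMap A B) = p)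
    (O : Type u) [CommRing O] [IsLocalRing O] [Algebra A O] [IsLocalization.AtPrime O p]
    (hO : CAlg2.IsUnibranch O) :
    IsOpenAt (PrimeSpectrum.comap (algebraMap A B)) q := by
  classical
  haveI := hB
  haveI : IsDomain (CAlg2.red O) := hO.1
  let KO := FractionRing (CAlg2.red O)
  let A' := integralClosure A KO
  haveI : IsIntegrallyClosed A' := isIntegrallyClosed_integralClosure A p O
  let B₁ := B ⧸ nilradical B
  let L := FractionRing B₁
  have hzero : ∀ a : A, algebraMap A L a = 0 → a ∈ nilradical A := by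
    intro a ha
    apply hdom
    rw [Ideal.mem_comap]
    rw [IsScalarTower.algebraMap_apply A B₁ L] at ha
    have h1 : algebraMap A B₁ a = 0 := IsFractionRing.injective B₁ L (by rw [ha, map_zero])
    exact Ideal.Quotient.eq_zero_iff_mem.mp h1
  have hunit : ∀ y : p.primeCompl, IsUnit (algebraMap A L y) := by
    rintro ⟨s, hs⟩
    rw [isUnit_iff_ne_zero]
    intro h0
    exact hs (nilradical_le_prime p (hzero s h0))
  let ψ₀ : O →+* L := IsLocalization.lift (M := p.primeCompl) (g := algebraMap A L) hunit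
  have hψ₀ : ∀ a : A, ψ₀ (algebraMap A O a) = algebraMap A L a := IsLocalization.lift_eq _
  let g : CAlg2.red O →+* L := Ideal.Quotient.lift (nilradical O) ψ₀
    (fun a ha => IsNilpotent.eq_zero (IsNilpotent.map ha ψ₀))
  have hg : ∀ o, g (Ideal.Quotient.mk _ o) = ψ₀ o := fun o => Ideal.Quotient.lift_mk _ _ _
  have hginj : Function.Injective g := by
    rw [injective_iff_map_eq_zero]
    intro r hr
    obtain ⟨o, rfl⟩ := Ideal.Quotient.mk_surjective r
    rw [hg] at hr
    obtain ⟨x, s, rfl⟩ := IsLocalization.exists_mk'_eq p.primeCompl o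
    have h1 : ψ₀ (algebraMap A O x) = 0 := by
      rw [← IsLocalization.mk'_spec O x s, map_mul, hr, zero_mul]
    rw [hψ₀] at h1
    have h3 : x ∈ nilradical A := hzero x h1
    rw [Ideal.Quotient.eq_zero_iff_mem, IsLocalization.mk'_eq_mul_mk'_one x s]
    exact Ideal.mul_mem_right _ _ (IsNilpotent.map h3 (algebraMap A O))
  let ψ : KO →+* L := IsFractionRing.lift hginj
  have hψ : ∀ r, ψ (algebraMap (CAlg2.red O) KO r) = g r := IsFractionRing.lift_algebraMap hginj
  have hψA : ∀ a : A, ψ (algebraMap A KO a) = algebraMap A L a := by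
    intro a
    change ψ (algebraMap (CAlg2.red O) KO (Ideal.Quotient.mk _ (algebraMap A O a))) = _
    rw [hψ, hg, hψ₀]
  letI algA'L : Algebra A' L := (ψ.comp (algebraMap A' KO)).toAlgebra
  haveI : IsScalarTower A A' L := IsScalarTower.of_algebraMap_eq (fun a => (hψA a).symm)
  let C := integralClosure A' L
  have hA'Linj : Function.Injective (algebraMap A' L) :=
    ψ.injective.comp Subtype.val_injective
  haveI : FaithfulSMul A' C := by
    rw [faithfulSMul_iff_algebraMap_injective]
    intro x y hxy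
    exact hA'Linj (congrArg Subtype.val hxy)
  have hπ : IsOpenMap (PrimeSpectrum.comap (algebraMap A' C)) :=
    isOpenMap_comap_of_isIntegrallyClosed (R := A') (S := C)
  have hBint : ∀ b : B, (algebraMap B₁ L).comp (Ideal.Quotient.mk (nilradical B)) b ∈ C := by
    intro b
    have h1 : IsIntegral A (algebraMap B L b) :=
      (Algebra.IsIntegral.isIntegral (R := A) b).algebraMap
    exact h1.tower_top
  let jB : B →+* C :=
    RingHom.codRestrict ((algebraMap B₁ L).comp (Ideal.Quotient.mk (nilradical B))) C hBint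
  have hcommRing : (algebraMap A' C).comp (algebraMap A A') = jB.comp (algebraMap A B) := by
    ext a
    change algebraMap A' L (algebraMap A A' a) = algebraMap B₁ L (algebraMap A B₁ a)
    rw [← IsScalarTower.algebraMap_apply, ← IsScalarTower.algebraMap_apply]
  letI algBC : Algebra B C := jB.toAlgebra
  haveI : IsScalarTower A B C := IsScalarTower.of_algebraMap_eq (fun a => by
    apply Subtype.ext
    change algebraMap A L a = algebraMap B₁ L (algebraMap A B₁ a)
    rw [← IsScalarTower.algebraMap_apply])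
  haveI : Algebra.IsIntegral B C := ⟨fun c => by
    have h1 : IsIntegral A c := isIntegral_trans (R := A) (A := A') c
      (Algebra.IsIntegral.isIntegral c)
    exact h1.tower_top⟩
  have hker : ∀ Q : Ideal B, Q.IsPrime → ∀ b : B, jB b = 0 → b ∈ Q := by
    intro Q hQ b hb
    have h1 : algebraMap B₁ L (Ideal.Quotient.mk (nilradical B) b) = 0 :=
      congrArg Subtype.val hb
    have h2 : Ideal.Quotient.mk (nilradical B) b = 0 :=
      IsFractionRing.injective B₁ L (by rw [h1, map_zero])
    exact nilradical_le_prime Q (Ideal.Quotient.eq_zero_iff_mem.mp h2)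
  have hkerA : ∀ P : Ideal A, P.IsPrime → ∀ a : A, algebraMap A B a = 0 → a ∈ P := by
    intro P hP a ha
    apply nilradical_le_prime P
    apply hdom
    rw [Ideal.mem_comap, ha]
    exact zero_mem _
  let π := PrimeSpectrum.comap (algebraMap A' C)
  let ρ := PrimeSpectrum.comap (algebraMap A A')
  let σ := PrimeSpectrum.comap jB
  let f := PrimeSpectrum.comap (algebraMap A B)
  have hcomm : ∀ Q, ρ (π Q) = f (σ Q) := by
    intro Q
    change PrimeSpectrum.comap (algebraMap A A') (PrimeSpectrum.comap (algebraMap A' C) Q) =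
      PrimeSpectrum.comap (algebraMap A B) (PrimeSpectrum.comap jB Q)
    rw [← PrimeSpectrum.comap_comp_apply, ← PrimeSpectrum.comap_comp_apply, hcommRing]
  intro W hW
  obtain ⟨_, ⟨gg, rfl⟩, hqg, hgW⟩ :=
    PrimeSpectrum.isTopologicalBasis_basic_opens.mem_nhds_iff.mp hW
  obtain ⟨q'', -, hq''prime, hq''⟩ :=
    Ideal.exists_ideal_over_prime_of_isIntegral (R := B) (S := C) q.asIdeal ⊥ (by
      intro b hb
      rw [Ideal.mem_comap, Ideal.mem_bot] at hb
      exact hker _ q.isPrime b hb)
  let Q'' : PrimeSpectrum C := ⟨q'', hq''prime⟩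
  have hσQ'' : σ Q'' = q := PrimeSpectrum.ext hq''
  let W' : Set (PrimeSpectrum A') := π '' (PrimeSpectrum.basicOpen (jB gg) : Set _)
  have hW'open : IsOpen W' := hπ _ (PrimeSpectrum.basicOpen (jB gg)).isOpen
  have hρclosed : IsClosedMap ρ :=
    PrimeSpectrum.isClosedMap_comap_of_isIntegral _ (algebraMap_isIntegral_iff.mpr inferInstance)
  have hQ''mem : Q'' ∈ (PrimeSpectrum.basicOpen (jB gg) : Set _) := by
    intro h
    apply hqg
    change gg ∈ q.asIdeal
    rw [← hq'']
    exact h
  have hNopen : IsOpen (ρ '' W'ᶜ)ᶜ := (hρclosed _ hW'open.isClosed_compl).isOpen_compl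
  have hpN : f q ∈ (ρ '' W'ᶜ)ᶜ := by
    rintro ⟨n₂, hn₂, hn₂p⟩
    apply hn₂
    have h1 : n₂.asIdeal.comap (algebraMap A A') = p := by
      rw [← hpq]
      exact congrArg PrimeSpectrum.asIdeal hn₂p
    have h2 : (π Q'').asIdeal.comap (algebraMap A A') = p := by
      rw [← hpq]
      have := hcomm Q''
      rw [hσQ''] at this
      exact congrArg PrimeSpectrum.asIdeal this
    have h3 : n₂ = π Q'' :=
      PrimeSpectrum.ext (unique_prime_over A p O hO n₂.asIdeal (π Q'').asIdeal h1 h2)
    rw [h3]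
    exact ⟨Q'', hQ''mem, rfl⟩
  refine Filter.mem_of_superset (hNopen.mem_nhds hpN) ?_
  intro P hP
  obtain ⟨QB, -, hQBprime, hQB⟩ :=
    Ideal.exists_ideal_over_prime_of_isIntegral (R := A) (S := B) P.asIdeal ⊥ (by
      intro a ha
      rw [Ideal.mem_comap, Ideal.mem_bot] at ha
      exact hkerA _ P.isPrime a ha)
  obtain ⟨QC, -, hQCprime, hQC⟩ :=
    Ideal.exists_ideal_over_prime_of_isIntegral (R := B) (S := C) QB ⊥ (by
      intro b hb
      rw [Ideal.mem_comap, Ideal.mem_bot] at hb
      exact hker _ hQBprime b hb)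
  have h1 : ρ (π ⟨QC, hQCprime⟩) = P := by
    rw [hcomm]
    apply PrimeSpectrum.ext
    change (QC.comap jB).comap (algebraMap A B) = _
    have : QC.comap jB = QB := hQC
    rw [this, hQB]
  have h2 : π ⟨QC, hQCprime⟩ ∈ W' := by
    by_contra hnot
    exact hP ⟨_, hnot, h1⟩
  obtain ⟨Q', hQ'mem, hQ'⟩ := h2
  refine ⟨σ Q', hgW ?_, ?_⟩
  · intro h
    exact hQ'mem h
  · change f (σ Q') = P
    rw [← hcomm, hQ', h1]

/-- a prime of a subalgebra `D` avoiding `r` lifts to `T` when `D[1/r] = T[1/r]` -/
theorem exists_prime_comap_eq_of_awayMap_bijective {R T : Type u} [CommRing R] [CommRing T]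
    [Algebra R T] (D : Subalgebra R T) (r : D)
    (hbij : Function.Bijective (Localization.awayMap D.val.toRingHom r))
    (n' : Ideal D) [n'.IsPrime] (hrn' : r ∉ n') :
    ∃ Q' : Ideal T, Q'.IsPrime ∧ Q'.comap D.val.toRingHom = n' := by
  let Dr := Localization.Away r
  let Tr := Localization.Away (D.val.toRingHom r)
  let φ : Dr →+* Tr := Localization.awayMap D.val.toRingHom r
  let e : Dr ≃+* Tr := RingEquiv.ofBijective φ hbij
  have hφ : ∀ x : D, φ (algebraMap D Dr x) = algebraMap T Tr (x : T) := by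
    intro x
    exact IsLocalization.map_eq _ x
  have hdisj : Disjoint (Submonoid.powers r : Set D) (n' : Set D) := by
    rw [Set.disjoint_left]
    rintro _ ⟨k, rfl⟩ h
    exact hrn' (Ideal.IsPrime.mem_of_pow_mem inferInstance k h)
  let J' := n'.map (algebraMap D Dr)
  haveI : J'.IsPrime :=
    IsLocalization.isPrime_of_isPrime_disjoint (Submonoid.powers r) Dr n' inferInstance hdisj
  have hJ' : J'.comap (algebraMap D Dr) = n' :=
    IsLocalization.under_map_of_isPrime_disjoint (Submonoid.powers r) Dr inferInstance hdisj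
  let Q' := (J'.comap (e.symm : Tr →+* Dr)).comap (algebraMap T Tr)
  refine ⟨Q', inferInstance, ?_⟩
  ext x
  rw [Ideal.mem_comap]
  change e.symm (algebraMap T Tr (x : T)) ∈ J' ↔ _
  rw [← hφ, show φ (algebraMap D Dr x) = e (algebraMap D Dr x) from rfl, e.symm_apply_apply,
    ← Ideal.mem_comap, hJ']

set_option maxHeartbeats 1600000 in
/-- **Openness at a point with unibranch image, quasi-finite case.** -/
theorem isOpenAt_comap_of_quasiFiniteAt_of_unibranch {A B : Type u} [CommRing A] [CommRing B]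
    [Algebra A B] [Algebra.FiniteType A B]
    (hB : (nilradical B).IsPrime) (hdom : (nilradical B).comap (algebraMap A B) ≤ nilradical A)
    (q : PrimeSpectrum B) [Algebra.QuasiFiniteAt A q.asIdeal]
    (p : Ideal A) [p.IsPrime] (hpq : q.asIdeal.comap (algebraMap A B) = p)
    (O : Type u) [CommRing O] [IsLocalRing O] [Algebra A O] [IsLocalization.AtPrime O p]
    (hO : CAlg2.IsUnibranch O) :
    IsOpenAt (PrimeSpectrum.comap (algebraMap A B)) q := by
  classical
  obtain ⟨S', hS'fg, r, hrq, hbij⟩ :=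
    (Algebra.ZariskisMainProperty.of_finiteType (R := A)
      q.asIdeal).exists_fg_and_exists_notMem_and_awayMap_bijective
  haveI : Module.Finite A S' := ⟨(Submodule.fg_top _).mpr hS'fg⟩
  have hnilS' : nilradical S' = (nilradical B).comap S'.val.toRingHom := by
    ext x
    rw [Ideal.mem_comap, mem_nilradical, mem_nilradical]
    exact (IsNilpotent.map_iff (f := S'.val.toRingHom) Subtype.val_injective).symm
  have hB' : (nilradical S').IsPrime := by
    rw [hnilS']
    haveI := hB
    exact Ideal.comap_isPrime _ _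
  have hdom' : (nilradical S').comap (algebraMap A S') ≤ nilradical A := by
    rw [hnilS', Ideal.comap_comap]
    exact hdom
  let n : PrimeSpectrum S' := PrimeSpectrum.comap S'.val.toRingHom q
  have hn : n.asIdeal.comap (algebraMap A S') = p := by
    rw [← hpq]
    rfl
  have hopen := isOpenAt_comap_of_isIntegral_of_unibranch hB' hdom' n p hn O hO
  intro W hW
  obtain ⟨_, ⟨b, rfl⟩, hqb, hbW⟩ :=
    PrimeSpectrum.isTopologicalBasis_basic_opens.mem_nhds_iff.mp hW
  obtain ⟨b', m, hb'⟩ := (Localization.awayMap_surjective_iff.mp hbij.2) b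
  have hrn : r ∉ n.asIdeal := hrq
  have hb'n : b' ∉ n.asIdeal := by
    intro h
    have h1 : S'.val.toRingHom b' ∈ q.asIdeal := h
    rw [hb'] at h1
    rcases q.isPrime.mem_or_mem h1 with h2 | h2
    · exact hrq (q.isPrime.mem_of_pow_mem m h2)
    · exact hqb h2
  have hn_mem : n ∈ (PrimeSpectrum.basicOpen (r * b') : Set _) := by
    intro h
    rcases n.isPrime.mem_or_mem h with h2 | h2
    · exact hrn h2
    · exact hb'n h2
  have h1 := hopen _ ((PrimeSpectrum.basicOpen (r * b')).isOpen.mem_nhds hn_mem)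
  have h2 : PrimeSpectrum.comap (algebraMap A S') n = PrimeSpectrum.comap (algebraMap A B) q := rfl
  rw [h2] at h1
  refine Filter.mem_of_superset h1 ?_
  rintro _ ⟨n', hn', rfl⟩
  have hrn' : r ∉ n'.asIdeal := fun h => hn' (Ideal.mul_mem_right _ _ h)
  have hb'n' : b' ∉ n'.asIdeal := fun h => hn' (Ideal.mul_mem_left _ _ h)
  obtain ⟨Q', hQ'prime, hQ'⟩ :=
    exists_prime_comap_eq_of_awayMap_bijective S' r hbij n'.asIdeal hrn'
  refine ⟨⟨Q', hQ'prime⟩, hbW ?_, ?_⟩
  · intro hbQ'
    apply hb'n'
    rw [← hQ', Ideal.mem_comap, hb']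
    exact Ideal.mul_mem_left _ _ hbQ'
  · apply PrimeSpectrum.ext
    change Q'.comap (algebraMap A B) = n'.asIdeal.comap (algebraMap A S')
    rw [← hQ', Ideal.comap_comap]
    rfl

/-- part (i) -/
theorem part_one (A B : Type u) [CommRing A] [IsDomain A] [CommRing B] [IsDomain B] [Algebra A B]
    (hinj : Function.Injective (algebraMap A B)) (hint : Algebra.IsIntegral A B)
    (q : PrimeSpectrum B)
    (hO : CAlg2.IsUnibranch (Localization.AtPrime (q.asIdeal.comap (algebraMap A B)))) :
    IsOpenAt (PrimeSpectrum.comap (algebraMap A B)) q := by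
  refine isOpenAt_comap_of_isIntegral_of_unibranch ?_ ?_ q (q.asIdeal.comap (algebraMap A B)) rfl
    (Localization.AtPrime (q.asIdeal.comap (algebraMap A B))) hO
  · rw [nilradical_eq_zero]
    exact Ideal.isPrime_bot
  · intro a ha
    rw [Ideal.mem_comap, nilradical_eq_zero, Ideal.zero_eq_bot, Ideal.mem_bot] at ha
    have : a = 0 := hinj (by rw [ha, map_zero])
    rw [this]
    exact zero_mem _

open Groth.Agent.Lib.lead.OpenAt Groth.Agent.Lib.lead.OpenAtSch in
set_option maxHeartbeats 1600000 in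
/-- part (ii) -/
theorem part_two (X Y : Scheme.{u}) (f : X ⟶ Y) [IrreducibleSpace X] [IrreducibleSpace Y]
    [LocallyOfFiniteType f] (hdense : DenseRange f.base) (x : X)
    (hiso : nhdsWithin x (f.base ⁻¹' {f.base x}) = pure x)
    (hy : CAlg2.IsUnibranch (Y.presheaf.stalk (f.base x))) : IsOpenAt f.base x := by
  obtain ⟨V, U, hV, hU, e, hxU, -⟩ := exists_affine_chart f x ⊤ trivial
  have hcomm := hV.SpecMap_appLE_fromSpec f hU e
  have hcomm' : ∀ a, f (hU.fromSpec a) = hV.fromSpec ((Spec.map (f.appLE V U e)) a) := by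
    intro a
    rw [← Scheme.Hom.comp_apply, ← Scheme.Hom.comp_apply, hcomm]
  obtain ⟨x₀, hx₀x⟩ : ∃ x₀, hU.fromSpec x₀ = x := ⟨_, hU.fromSpec_primeIdealOf ⟨x, hxU⟩⟩
  subst hx₀x
  have hfx : f (hU.fromSpec x₀) ∈ V := e hxU
  letI algO : Algebra Γ(Y, V) (Y.presheaf.stalk (f (hU.fromSpec x₀))) :=
    Y.presheaf.algebra_section_stalk ⟨f (hU.fromSpec x₀), hfx⟩
  have hloc : IsLocalization.AtPrime (Y.presheaf.stalk (f (hU.fromSpec x₀)))
      (hV.primeIdealOf ⟨f (hU.fromSpec x₀), hfx⟩).asIdeal := hV.isLocalization_stalk ⟨_, hfx⟩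
  have hp : PrimeSpectrum.comap (f.appLE V U e).hom x₀ =
      hV.primeIdealOf ⟨f (hU.fromSpec x₀), hfx⟩ := by
    apply hV.fromSpec.isOpenEmbedding.injective
    rw [hV.fromSpec_primeIdealOf]
    exact (hcomm' x₀).symm
  have hloc' : IsLocalization.AtPrime (Y.presheaf.stalk (f (hU.fromSpec x₀)))
      (PrimeSpectrum.comap (f.appLE V U e).hom x₀).asIdeal := by
    rw [hp]; exact hloc
  have hξU : genericPoint X ∈ U :=
    (genericPoint_specializes (hU.fromSpec x₀)).mem_open U.isOpen hxU
  obtain ⟨ξ₀, hξ₀⟩ : genericPoint X ∈ Set.range hU.fromSpec := by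
    rw [hU.range_fromSpec]; exact hξU
  have hnilB : nilradical Γ(X, U) = ξ₀.asIdeal := by
    apply le_antisymm (nilradical_le_prime _)
    rw [nilradical_eq_sInf]
    apply le_sInf
    intro P hP
    have hPprime : P.IsPrime := hP
    have h1 : genericPoint X ⤳ hU.fromSpec ⟨P, hPprime⟩ := genericPoint_specializes _
    rw [← hξ₀] at h1
    have h2 : ξ₀ ⤳ ⟨P, hPprime⟩ :=
      hU.fromSpec.isOpenEmbedding.isInducing.specializes_iff.mp h1
    exact (PrimeSpectrum.le_iff_specializes _ _).mpr h2
  have hgen : ∀ y : Y, f (genericPoint X) ⤳ y := by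
    intro y
    have h1 : IsGenericPoint (f (genericPoint X)) (closure (f.base '' ⊤)) :=
      (genericPoint_spec X).image f.continuous
    rw [Set.top_eq_univ, Set.image_univ, hdense.closure_range] at h1
    exact h1.specializes (Set.mem_univ y)
  have hdom : (nilradical Γ(X, U)).comap (f.appLE V U e).hom ≤ nilradical Γ(Y, V) := by
    rw [hnilB, nilradical_eq_sInf]
    apply le_sInf
    intro P hP
    have hPprime : P.IsPrime := hP
    have h1 : f (genericPoint X) ⤳ hV.fromSpec ⟨P, hPprime⟩ := hgen _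
    rw [← hξ₀, hcomm'] at h1
    have h2 := hV.fromSpec.isOpenEmbedding.isInducing.specializes_iff.mp h1
    exact (PrimeSpectrum.le_iff_specializes _ _).mpr h2
  have hBprime : (nilradical Γ(X, U)).IsPrime := by rw [hnilB]; exact ξ₀.isPrime
  have hft : (f.appLE V U e).hom.FiniteType := f.finiteType_appLE hV hU e
  refine isOpenAt_of_chart (F₀ := (Spec.map (f.appLE V U e)).base) (j := hU.fromSpec.base)
    (ι := hV.fromSpec.base) hU.fromSpec.continuous hV.fromSpec.isOpenEmbedding.isOpenMap
    hcomm' x₀ ?_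
  change IsOpenAt (PrimeSpectrum.comap (f.appLE V U e).hom) x₀
  -- isolated in the fibre
  have hsing : {hU.fromSpec x₀} ∈ nhdsWithin (hU.fromSpec x₀)
      (f.base ⁻¹' {f.base (hU.fromSpec x₀)}) := by
    rw [hiso]; exact Filter.mem_pure.mpr rfl
  obtain ⟨U₀, hU₀open, hxU₀, hU₀⟩ := mem_nhdsWithin.mp hsing
  algebraize [(f.appLE V U e).hom]
  haveI : Algebra.QuasiFiniteAt Γ(Y, V) x₀.asIdeal := by
    apply Algebra.QuasiFiniteAt.of_isOpen_singleton_fiber x₀
    have h1 : IsOpen (Subtype.val ⁻¹' (hU.fromSpec.base ⁻¹' U₀) :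
        Set (PrimeSpectrum.comap (algebraMap Γ(Y, V) Γ(X, U)) ⁻¹'
          {PrimeSpectrum.comap (algebraMap Γ(Y, V) Γ(X, U)) x₀})) :=
      (hU₀open.preimage hU.fromSpec.continuous).preimage continuous_subtype_val
    convert h1 using 1
    ext ⟨y, hy⟩
    simp only [Set.mem_singleton_iff, Subtype.mk.injEq, Set.mem_preimage]
    constructor
    · intro h
      rw [h]; exact hxU₀
    · intro h
      apply hU.fromSpec.isOpenEmbedding.injective
      apply hU₀
      refine ⟨h, ?_⟩
      change f (hU.fromSpec y) = f (hU.fromSpec x₀)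
      rw [hcomm', hcomm']
      congr 1
  exact isOpenAt_comap_of_quasiFiniteAt_of_unibranch (A := Γ(Y, V)) (B := Γ(X, U))
    hBprime hdom x₀ (PrimeSpectrum.comap (f.appLE V U e).hom x₀).asIdeal rfl
    (Y.presheaf.stalk (f (hU.fromSpec x₀))) hy

end Groth.Agent.Lib.lead.UnibranchOpen
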