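import Mathlib
import Groth.Agent.Lib.lead.UnivOpenAffine

open CategoryTheory CategoryTheory.Limits AlgebraicGeometry TensorProduct

universe u

namespace Groth.Agent.Lib.lead.UnivOpenLinForm

open Groth.Agent.Lib.lead.UnivOpenAffine MorphismProperty

variable {R R' S : Type u} [CommRing R] [CommRing R'] [CommRing S] [Algebra R R'] [Algebra R S]

attribute [local instance] MvPolynomial.algebraMvPolynomial in
/-- The right square `R[X] → R'`, `S[X] → R' ⊗ S` is a pushout (index type in `Type`). -/
theorem isPushout_right0 (n : Type) (b : n → R') :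
    IsPushout (CommRingCat.ofHom (MvPolynomial.aeval b : MvPolynomial n R →ₐ[R] R').toRingHom)
      (CommRingCat.ofHom (MvPolynomial.map (algebraMap R S) : MvPolynomial n R →+* MvPolynomial n S))
      (CommRingCat.ofHom (S := R' ⊗[R] S) Algebra.TensorProduct.includeLeftRingHom)
      (CommRingCat.ofHom (S := R' ⊗[R] S)
        (MvPolynomial.eval₂Hom (Algebra.TensorProduct.includeRight (R := R) (A := R') (B := S)).toRingHom
          (fun i => b i ⊗ₜ[R] (1 : S)))) := by
  have hl := CommRingCat.isPushout_of_isPushout R (MvPolynomial n R) S (MvPolynomial n S)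
  have hbig := CommRingCat.isPushout_tensorProduct R R' S
  refine IsPushout.of_left (h₁₁ := CommRingCat.ofHom (algebraMap R (MvPolynomial n R)))
    (h₂₁ := CommRingCat.ofHom (algebraMap S (MvPolynomial n S)))
    (v₁₁ := CommRingCat.ofHom (algebraMap R S)) ?_ ?_ hl
  · convert hbig using 1
    · ext x
      simp
    · ext x
      simp
  · ext x
    · simp
    · simp

/-- universal openness of `Spec S → Spec R` from openness of all `Spec (R' ⊗ S) → Spec R'` -/
theorem universallyOpen_SpecMap_of_tensor
    (H : ∀ (R' : Type u) [CommRing R'] [Algebra R R'],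
      IsOpenMap (PrimeSpectrum.comap (algebraMap R' (R' ⊗[R] S)))) :
    UniversallyOpen (Spec.map (CommRingCat.ofHom (algebraMap R S))) := by
  refine ⟨universally_mk' _ _ fun {T} g _ ↦ ?_⟩
  wlog hT : ∃ R, T = Spec R generalizing T
  · refine (IsZariskiLocalAtTarget.iff_of_openCover T.affineCover).mpr fun i ↦ ?_
    refine (MorphismProperty.cancel_left_of_respectsIso _
      ((pullbackRightPullbackFstIso ..).inv ≫ (pullbackSymmetry ..).hom) _).mp ?_
    simpa [Scheme.Cover.pullbackHom] using! this _ _ ⟨_, rfl⟩
  obtain ⟨R', rfl⟩ := hT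
  obtain ⟨ψ, rfl⟩ := Spec.map_surjective g
  algebraize [ψ.hom]
  refine (MorphismProperty.cancel_left_of_respectsIso _ (pullbackSpecIso R R' S).inv _).mp ?_
  convert_to! topologically _ (Spec.map <| CommRingCat.ofHom (algebraMap R' (TensorProduct R R' S)))
  · exact pullbackSpecIso_inv_fst ..
  exact H R'

attribute [local instance] MvPolynomial.algebraMvPolynomial in
theorem isOpenMap_comap_map_of_universallyOpen
    (h : UniversallyOpen (Spec.map (CommRingCat.ofHom (algebraMap R S)))) (n : Type) :
    IsOpenMap (PrimeSpectrum.comap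
      (MvPolynomial.map (algebraMap R S) : MvPolynomial n R →+* MvPolynomial n S)) := by
  have hl := CommRingCat.isPushout_of_isPushout R (MvPolynomial n R) S (MvPolynomial n S)
  have hpb := isPullback_SpecMap_of_isPushout _ _ _ _ hl
  exact UniversallyOpen.universally_isOpenMap _ _ _ hpb

theorem S1372 {A B : Type u} [CommRing A] [CommRing B] [Algebra A B] {d : ℕ} (b : Fin d → B)
    (hb : Submodule.span A (Set.range b) = ⊤) :
    UniversallyOpen (Spec.map (CommRingCat.ofHom (algebraMap A B))) ↔
      IsOpen (PrimeSpectrum.comap (MvPolynomial.map (σ := Fin d) (algebraMap A B)) ''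
        (PrimeSpectrum.basicOpen (∑ i : Fin d, MvPolynomial.X i * MvPolynomial.C (b i)) : Set (PrimeSpectrum (MvPolynomial (Fin d) B)))) := by
  constructor
  · intro h
    exact isOpenMap_comap_map_of_universallyOpen h (Fin d) _ (PrimeSpectrum.basicOpen _).isOpen
  · intro hopen
    apply universallyOpen_SpecMap_of_tensor
    intro A' _ _
    rw [PrimeSpectrum.isTopologicalBasis_basic_opens.isOpenMap_iff]
    rintro _ ⟨g, rfl⟩
    -- write `g = ∑ a i ⊗ b i`
    have hspan : Submodule.span A' (Set.range fun i => (1 : A') ⊗ₜ[A] b i) = ⊤ := by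
      have := Submodule.baseChange_span (R := A) (A := A') (Set.range b)
      rw [hb, Submodule.baseChange_top] at this
      rw [this, ← Set.range_comp]
      rfl
    obtain ⟨a, rfl⟩ : ∃ a : Fin d → A', ∑ i, a i • ((1 : A') ⊗ₜ[A] b i) = g :=
      (Submodule.mem_span_range_iff_exists_fun A').mp (hspan ▸ Submodule.mem_top)
    have hpo := isPushout_right0 (R := A) (S := B) (Fin d) a
    have hpb := (isPullback_SpecMap_of_isPushout _ _ _ _ hpo).flip
    set G : MvPolynomial (Fin d) B := ∑ i : Fin d, MvPolynomial.X i * MvPolynomial.C (b i) with hGdef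
    have hG : (MvPolynomial.eval₂Hom
        (Algebra.TensorProduct.includeRight (R := A) (A := A') (B := B)).toRingHom
        (fun i => a i ⊗ₜ[A] (1 : B))) G = ∑ i, a i • ((1 : A') ⊗ₜ[A] b i) := by
      simp only [G, map_sum, map_mul, MvPolynomial.eval₂Hom_X', MvPolynomial.eval₂Hom_C]
      refine Finset.sum_congr rfl fun i _ => ?_
      simp [TensorProduct.smul_tmul']
    have key := Scheme.image_preimage_eq_of_isPullback hpb (PrimeSpectrum.basicOpen G).carrier
    have hcont : Continuous (PrimeSpectrum.comap
        (MvPolynomial.aeval a : MvPolynomial (Fin d) A →ₐ[A] A').toRingHom) :=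
      PrimeSpectrum.continuous_comap _
    have := hopen.preimage hcont
    convert this using 1
    rw [← hG]
    exact key


end Groth.Agent.Lib.lead.UnivOpenLinForm
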