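import Mathlib
import Groth.Agent.Lib.lead.DimFormula

open Groth.Agent.Lib.lead

universe u

namespace Groth.Agent.Lib.lead.ValCentre

theorem main (A : Type u) [CommRing A] [IsDomain A] [IsNoetherianRing A] [IsLocalRing A]
    (O : Type u) [CommRing O] [IsDomain O] [ValuationRing O] [Algebra A O]
    (hinj : Function.Injective (algebraMap A O)) (hloc : IsLocalHom (algebraMap A O))
    (hfrac : ∀ x : O, ∃ a b : A, b ≠ 0 ∧ algebraMap A O b * x = algebraMap A O a)
    (hnt : ¬ IsField O) (n : ℕ) (f : Fin n → O)
    (hind : ∀ p : MvPolynomial (Fin n) A,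
      MvPolynomial.eval₂ ((IsLocalRing.residue O).comp (algebraMap A O)) (fun i => IsLocalRing.residue O (f i)) p = 0 →
      ∀ m : Fin n →₀ ℕ, IsLocalRing.residue A (p.coeff m) = 0) :
    (n : WithBot ℕ∞) + 1 ≤ ringKrullDim A := by
  classical
  let B : Subalgebra A O := Algebra.adjoin A (Set.range f)
  let p : Ideal A := IsLocalRing.maximalIdeal A
  let q : Ideal B := (IsLocalRing.maximalIdeal O).comap (algebraMap B O)
  haveI : q.IsPrime := Ideal.comap_isPrime _ _
  have hBO : Function.Injective (algebraMap B O) := Subtype.val_injective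
  haveI hlies : q.LiesOver p := by
    constructor
    ext a
    simp only [Ideal.under_def, Ideal.mem_comap, q, p]
    rw [← IsScalarTower.algebraMap_apply A B O]
    rw [IsLocalRing.mem_maximalIdeal, IsLocalRing.mem_maximalIdeal, mem_nonunits_iff,
      mem_nonunits_iff]
    exact not_congr (isUnit_map_iff (algebraMap A O) a).symm
  have hAB : Function.Injective (algebraMap A B) := by
    intro x y hxy
    apply hinj
    have := congrArg (algebraMap B O) hxy
    simpa [← IsScalarTower.algebraMap_apply] using this
  haveI : FaithfulSMul A B := (faithfulSMul_iff_algebraMap_injective A B).mpr hAB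
  haveI : Algebra.FiniteType A B := by
    rw [← Subalgebra.fg_iff_finiteType]
    exact Subalgebra.fg_def.mpr ⟨Set.range f, Set.finite_range f, rfl⟩
  haveI : Algebra.IsAlgebraic A B := by
    constructor
    intro x
    rw [← isAlgebraic_algebraMap_iff hBO]
    obtain ⟨a, b, hb, hab⟩ := hfrac (algebraMap B O x)
    refine ⟨Polynomial.C b * Polynomial.X - Polynomial.C a, ?_, ?_⟩
    · intro h
      have := congrArg (fun P => Polynomial.coeff P 1) h
      simp at this
      exact hb this
    · have hab' : (algebraMap A O) b * (x : O) = (algebraMap A O) a := hab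
      simp [hab']
  have hq : q ≠ ⊥ := by
    have hm : IsLocalRing.maximalIdeal O ≠ ⊥ := by
      rwa [Ne, ← IsLocalRing.isField_iff_maximalIdeal_eq]
    obtain ⟨x, hx, hx0⟩ := Submodule.exists_mem_ne_zero_of_ne_bot hm
    obtain ⟨a, b, hb, hab⟩ := hfrac x
    have ha : algebraMap A O a ≠ 0 := by
      rw [← hab]
      exact mul_ne_zero (fun h => hb (hinj (by rw [h, map_zero]))) hx0
    intro hq
    have hmem : algebraMap A B a ∈ q := by
      simp only [q, Ideal.mem_comap]
      rw [← IsScalarTower.algebraMap_apply A B O, ← hab]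
      exact Ideal.mul_mem_left _ _ hx
    rw [hq, Ideal.mem_bot] at hmem
    apply ha
    rw [IsScalarTower.algebraMap_apply A B O, hmem, map_zero]
  have h1 : (1 : ℕ∞) ≤ q.height := by
    rw [Order.one_le_iff_ne_zero, Ne, Ideal.height_eq_zero_iff_eq_bot]
    exact hq
  -- algebraic independence
  let x : Fin n → B ⧸ q := fun i => Ideal.Quotient.mk q ⟨f i, Algebra.subset_adjoin ⟨i, rfl⟩⟩
  let ψ : B ⧸ q →+* IsLocalRing.ResidueField O :=
    Ideal.Quotient.lift q ((IsLocalRing.residue O).comp (algebraMap B O)) (by
      intro b hb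
      simp only [q, Ideal.mem_comap] at hb
      simpa [IsLocalRing.residue_eq_zero_iff] using hb)
  have hx : AlgebraicIndependent (A ⧸ p) x := by
    rw [algebraicIndependent_iff]
    intro P hP
    obtain ⟨P', rfl⟩ := MvPolynomial.map_surjective (Ideal.Quotient.mk p)
      Ideal.Quotient.mk_surjective P
    have h2 : MvPolynomial.eval₂ ((IsLocalRing.residue O).comp (algebraMap A O))
        (fun i => IsLocalRing.residue O (f i)) P' = 0 := by
      have h3 := congrArg ψ hP
      rw [map_zero, MvPolynomial.aeval_def, MvPolynomial.eval₂_map, MvPolynomial.hom_eval₂] at h3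
      rw [← h3]
      congr 1
    have h4 := hind P' h2
    ext m
    rw [MvPolynomial.coeff_map, MvPolynomial.coeff_zero]
    exact h4 m
  have h5 := hx.lift_cardinalMk_le_trdeg
  have h6 := DimFormula.dim_ineq A B p q
  rw [_root_.trdeg_eq_zero (R := A) (A := B), add_zero] at h6
  have h7 : ((n + 1 : ℕ) : Cardinal.{u}) ≤ ((p.height : ℕ∞) : Cardinal.{u}) := by
    refine le_trans ?_ h6
    rw [Nat.cast_add, add_comm]
    refine add_le_add ?_ ?_
    · rw [Nat.cast_one]
      have h8 : ((1 : ℕ∞) : Cardinal.{u}) ≤ ((q.height : ℕ∞) : Cardinal.{u}) :=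
        Cardinal.ofENat_le_ofENat.mpr h1
      exact_mod_cast h8
    · simpa using h5
  rw [Cardinal.nat_le_ofENat] at h7
  rw [← IsLocalRing.maximalIdeal_height_eq_ringKrullDim]
  exact_mod_cast h7

end Groth.Agent.Lib.lead.ValCentre

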