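import Mathlib
import Groth.Agent.Lib.lead.ValFlatI

set_option autoImplicit false
set_option linter.style.haveILetI false
universe u
open CategoryTheory CategoryTheory.Limits AlgebraicGeometry Topology

namespace Groth.Agent.Lib.lead.ValFlatJ

variable {X Y : Scheme.{u}}

theorem isUnivOpenAt_of_universallyOpen (f : X ⟶ Y) [UniversallyOpen f] (z : X) :
    EGA43.IsUnivOpenAt f z := by
  intro Y' g x' _
  have hopen : IsOpenMap (pullback.snd f g).base := (pullback.snd f g).isOpenMap
  intro U hU
  exact hopen.image_mem_nhds hU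

/-- EGA IV 15.2.3. -/
theorem main [IsLocallyNoetherian Y] [IsReduced Y]
    (f : X ⟶ Y) [LocallyOfFiniteType f] [UniversallyOpen f]
    (hfib : ∀ x : X, FBase.IsGeomReducedAt (f.fiberToSpecResidueField (f.base x)) (f.asFiber x)) :
    Flat f := by
  rw [Flat.iff_flat_stalkMap]
  intro x
  exact Groth.Agent.Lib.lead.ValFlatI.main f x
    (fun z _ _ => isUnivOpenAt_of_universallyOpen f _) (hfib x) inferInstance

end Groth.Agent.Lib.lead.ValFlatJ

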