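import Mathlib
import Groth.Agent.Lib.Helper7.ResFieldTrdeg
import Groth.Agent.Lib.Helper7.CatenaryAffine

set_option autoImplicit false
universe u
open CategoryTheory CategoryTheory.Limits AlgebraicGeometry

namespace Groth.Agent.Lib.lead.VarCov

open Groth.Agent.Lib.Helper7

/-- Two points of an affine open in immediate specialisation give a covering pair of primes. -/
theorem primeIdealOf_covBy {X : Scheme.{u}} {U : X.Opens} (hU : IsAffineOpen U) (x x' : U)
    (hne : (x : X) ≠ x') (hsp : (x : X) ⤳ (x' : X))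
    (himm : ∀ y : X, (x : X) ⤳ y → y ⤳ (x' : X) → y = x ∨ y = x') :
    hU.primeIdealOf x ⋖ hU.primeIdealOf x' := by
  refine ⟨lt_of_le_of_ne ((AffPts.primeIdealOf_le_iff hU x x').2 hsp) ?_, ?_⟩
  · intro h
    exact hne (congrArg Subtype.val (AffPts.primeIdealOf_injective hU h))
  · intro q h1 h2
    obtain ⟨z, rfl⟩ := AffPts.primeIdealOf_surjective hU q
    have s1 : (x : X) ⤳ (z : X) := (AffPts.primeIdealOf_le_iff hU x z).1 h1.le
    have s2 : (z : X) ⤳ (x' : X) := (AffPts.primeIdealOf_le_iff hU z x').1 h2.le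
    rcases himm z s1 s2 with h | h
    · have : z = x := Subtype.ext h
      rw [this] at h1
      exact lt_irrefl _ h1
    · have : z = x' := Subtype.ext h
      rw [this] at h2
      exact lt_irrefl _ h2

attribute [local instance] Curv2.stalkAlgebra Curv2.resAlgebra

theorem main (k : Type u) [Field k] (X : Scheme.{u}) [X.Over (Spec (CommRingCat.of k))]
    [LocallyOfFiniteType (X ↘ (Spec (CommRingCat.of k)))] (x x' : X) (hne : x ≠ x') (hsp : x ⤳ x')
    (himm : ∀ y : X, x ⤳ y → y ⤳ x' → y = x ∨ y = x')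
    (n : ℕ) (hn : Algebra.trdeg k (X.residueField x') = n) :
    Algebra.trdeg k (X.residueField x) = n + 1 := by
  obtain ⟨U, hU, hx'U⟩ : ∃ U : X.Opens, IsAffineOpen U ∧ x' ∈ U := by
    obtain ⟨_, ⟨U, hU, rfl⟩, hxU, -⟩ :=
      (X.isBasis_affineOpens).exists_subset_of_mem_open (Set.mem_univ x') isOpen_univ
    exact ⟨U, hU, hxU⟩
  have hxU : x ∈ U := hsp.mem_open U.isOpen hx'U
  letI := (ResTrdeg.kToΓ k X U).toAlgebra
  haveI : Algebra.FiniteType k Γ(X, U) := ResTrdeg.finiteType_kToΓ k X hU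
  obtain ⟨a, ha1, ha2, -⟩ := ResTrdeg.exists_nat_trdeg_residueField k X hU ⟨x, hxU⟩
  obtain ⟨b, hb1, hb2, -⟩ := ResTrdeg.exists_nat_trdeg_residueField k X hU ⟨x', hx'U⟩
  have hcov := primeIdealOf_covBy hU ⟨x, hxU⟩ ⟨x', hx'U⟩ hne hsp himm
  have hstep := CatAff.dim_quotient_covBy_step (k := k) Γ(X, U) _ _ hcov
  rw [ha2, hb2] at hstep
  have hab : b + 1 = a := by exact_mod_cast hstep
  have hbn : b = n := by
    have : (b : Cardinal) = n := by rw [← hb1]; exact hn
    exact_mod_cast this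
  change Algebra.trdeg k (X.residueField x) = _ at ha1
  rw [ha1, ← hab, hbn]
  norm_cast

end Groth.Agent.Lib.lead.VarCov

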