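import Mathlib
import Groth.Agent.Lib.lead.VarGenDim
import Groth.Agent.Lib.Helper18.GenFinite

set_option autoImplicit false
universe u
open CategoryTheory CategoryTheory.Limits AlgebraicGeometry

namespace Groth.Agent.Lib.lead.VarDomDim

open Groth.Agent.Lib.Helper7 Groth.Agent.Lib.Helper18

theorem main (k : Type u) [Field k] {X Y : Scheme.{u}}
    (p : X ⟶ Spec (CommRingCat.of k)) (q : Y ⟶ Spec (CommRingCat.of k))
    [LocallyOfFiniteType p] [LocallyOfFiniteType q]
    [IrreducibleSpace ↥X] (f : Y ⟶ X) (hf : f ≫ p = q)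
    (hη : genericPoint ↥X ∈ Set.range f.base) :
    topologicalKrullDim ↥X ≤ topologicalKrullDim ↥Y := by
  letI : X.Over (Spec (CommRingCat.of k)) := ⟨p⟩
  letI : Y.Over (Spec (CommRingCat.of k)) := ⟨q⟩
  haveI : LocallyOfFiniteType (X ↘ Spec (CommRingCat.of k)) := ‹LocallyOfFiniteType p›
  haveI : LocallyOfFiniteType (Y ↘ Spec (CommRingCat.of k)) := ‹LocallyOfFiniteType q›
  obtain ⟨y, hy⟩ := hη
  obtain ⟨n, hn1, hn2⟩ := VarDim.exists_nat_dim_closure_eq k X (genericPoint X)
  obtain ⟨m, hm1, hm2⟩ := VarDim.exists_nat_dim_closure_eq k Y y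
  have hle := GenFinite.td_le k f hf y
  unfold GenFinite.td at hle
  have hy' : f y = genericPoint X := hy
  rw [hy', hn1, hm1] at hle
  have hnm : n ≤ m := by exact_mod_cast hle
  rw [← VarGenDim.dim_of_closure_eq_univ (genericPoint X) (genericPoint_spec X), hn2]
  calc ((n : ℕ) : WithBot ℕ∞) ≤ (m : ℕ) := by exact_mod_cast hnm
    _ = topologicalKrullDim ↥(closure ({y} : Set Y)) := hm2.symm
    _ ≤ topologicalKrullDim Y := topologicalKrullDim_subspace_le Y _

end Groth.Agent.Lib.lead.VarDomDim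

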