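import Mathlib
import Groth.Agent.Lib.Helper3.AlgSpOpenSubsp2
import Groth.Agent.Lib.Helper3.AlgSpChartPts
import Groth.Agent.Lib.Helper3.AlgSpDiag
import Groth.Agent.Lib.Helper3.AlgSpLargestOpen
import Groth.Agent.Lib.Helper3.AlgSpHasAtMor

set_option autoImplicit false
universe u
open CategoryTheory CategoryTheory.Limits AlgebraicGeometry

namespace Groth.Agent.Lib.lead.VeryReasonable

open AlgSp Groth.Agent.Lib.Helper3

variable {S : Scheme.{u}}

/-- A surjective open morphism of schemes whose base change along itself is quasi-compact is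
quasi-compact. -/
theorem quasiCompact_of_pullback_self {P T PP : Scheme.{u}} (π : P ⟶ T) (hopen : IsOpenMap π)
    [Surjective π] (pr₁ pr₂ : PP ⟶ P) (sq : IsPullback pr₁ pr₂ π π) [QuasiCompact pr₂] :
    QuasiCompact π := by
  rw [quasiCompact_iff_forall_isAffineOpen]
  intro V hV
  -- cover `V` by images of finitely many affine opens of `π ⁻¹ V`
  have hcov : ∀ v : V, ∃ W : P.Opens, IsAffineOpen W ∧ (W : Set P) ⊆ π ⁻¹' V ∧ (v : T) ∈ π '' W := by
    intro v
    obtain ⟨p, hp⟩ := π.surjective v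
    obtain ⟨_, ⟨W, hW, rfl⟩, hpW, hWV⟩ := P.isBasis_affineOpens.exists_subset_of_mem_open
      (show p ∈ π ⁻¹' (V : Set T) by rw [Set.mem_preimage, hp]; exact v.2) (V.2.preimage π.continuous)
    exact ⟨W, hW, hWV, p, hpW, hp⟩
  choose W hWaff hWV hvW using hcov
  obtain ⟨t, ht⟩ := hV.isCompact.elim_finite_subcover (fun v : V => π '' (W v : Set P))
    (fun v => hopen _ (W v).2) (fun x hx => Set.mem_iUnion.2 ⟨⟨x, hx⟩, hvW ⟨x, hx⟩⟩)
  have hK : ∀ v : V, IsCompact (pr₁ '' (pr₂ ⁻¹' (W v : Set P))) :=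
    fun v => ((QuasiCompact.isCompact_preimage (f := pr₂) _ (W v).2 (hWaff v).isCompact)).image
      pr₁.continuous
  have : (π ⁻¹' (V : Set T)) = ⋃ v ∈ t, pr₁ '' (pr₂ ⁻¹' (W v : Set P)) := by
    ext a
    simp only [Set.mem_preimage, Set.mem_iUnion, Set.mem_image, exists_prop]
    constructor
    · intro ha
      obtain ⟨v, hv, w, hw, hwa⟩ := Set.mem_iUnion₂.1 (ht ha)
      obtain ⟨z, hz1, hz2⟩ := Scheme.Pullback.exists_preimage_pullback a w hwa.symm
      refine ⟨v, hv, (sq.isoPullback.inv) z, ?_, ?_⟩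
      · rw [← Scheme.Hom.comp_apply, sq.isoPullback_inv_snd, hz2]; exact hw
      · rw [← Scheme.Hom.comp_apply, sq.isoPullback_inv_fst, hz1]
    · rintro ⟨v, -, z, hz, rfl⟩
      have : π (pr₁ z) = π (pr₂ z) := by
        rw [← Scheme.Hom.comp_apply, ← Scheme.Hom.comp_apply, sq.w]
      rw [this]
      exact hWV v hz
  change IsCompact (π ⁻¹' (V : Set T))
  rw [this]
  exact t.isCompact_biUnion (fun v _ => hK v)

/-- If `R = U ×_{X'} U` for an etale surjective chart `a' : U ⟶ X'` and the projection `s` is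
quasi-compact, then `a'` is quasi-compact. -/
theorem repWith_quasiCompact_of_presentation {X' : Sp S} {U R : Over S}
    (a' : (yon S).obj U ⟶ X') (hae : RepWith @Etale a') (has : RepWith @Surjective a')
    (s t : R ⟶ U) (sqR : IsPullback ((yon S).map t) ((yon S).map s) a' a')
    (hs : QuasiCompact s.left) : RepWith @QuasiCompact a' := by
  refine ⟨hae.1, fun T P g fst π sq => ?_⟩
  obtain ⟨fstU, rfl⟩ := (yon S).map_surjective fst
  haveI : Etale π.left := hae.2 g _ π sq
  haveI : Surjective π.left := has.2 g _ π sq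
  obtain ⟨PP, pr₁, pr₂, sqPP⟩ :=
    exists_pullback_charts ((yon S).map π) (representable_yon_map π) ((yon S).map π)
  have outer := sqPP.paste_horiz sq
  rw [← sq.w] at outer
  let ρ : (yon S).obj PP ⟶ (yon S).obj R :=
    sqR.lift ((yon S).map pr₁ ≫ (yon S).map fstU) ((yon S).map pr₂ ≫ (yon S).map fstU)
      (by simpa only [Category.assoc] using outer.w)
  have hρ1 : ρ ≫ (yon S).map t = (yon S).map pr₁ ≫ (yon S).map fstU := sqR.lift_fst _ _ _
  have hρ2 : ρ ≫ (yon S).map s = (yon S).map pr₂ ≫ (yon S).map fstU := sqR.lift_snd _ _ _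
  rw [← hρ1] at outer
  have left : IsPullback ρ ((yon S).map pr₂) ((yon S).map s) ((yon S).map fstU) :=
    IsPullback.of_right outer hρ2 sqR
  haveI : QuasiCompact pr₂.left :=
    ((repWith_yon_map_iff @QuasiCompact s).2 hs).2 ((yon S).map fstU) ρ pr₂ left
  have comm : pr₁ ≫ π = pr₂ ≫ π := by
    apply (yon S).map_injective
    rw [Functor.map_comp, Functor.map_comp, sqPP.w]
  have sqSch : IsPullback pr₁.left pr₂.left π.left π.left :=
    (IsPullback.of_map (yon S) comm sqPP).map (Over.forget S)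
  exact quasiCompact_of_pullback_self π.left π.left.isOpenMap pr₁.left pr₂.left sqSch

theorem main (X : AlgSp.Space S) :
    (∃ (ι : Type u) (Xi : ι → AlgSp.Space S) (j : ∀ i, Xi i ⟶ X) (U : ι → Over S)
        (a : ∀ i, (AlgSp.yon S).obj (U i) ⟶ (Xi i).obj),
        AlgSp.IsZarCover (fun i => (Xi i).obj) (fun i => (j i).hom) ∧
          ∀ i, AlgSp.RepWith @Etale (a i) ∧ AlgSp.RepWith @Surjective (a i) ∧
            AlgSp.RepWith @QuasiCompact (a i)) ↔
      ∃ (ι : Type u) (U : ι → Over S) (φ : ∀ i, (AlgSp.yon S).obj (U i) ⟶ X.obj),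
        (∀ i, AlgSp.RepWith @Etale (φ i)) ∧
          (∀ x : AlgSp.Points X.obj, ∃ (i : ι) (v : ↥(U i).left), AlgSp.Points.ofPt (φ i) v = x) ∧
          ∀ (i : ι) (R : Over S) (s t : R ⟶ U i),
            IsPullback ((AlgSp.yon S).map t) ((AlgSp.yon S).map s) (φ i) (φ i) →
            QuasiCompact s.left ∧ QuasiCompact t.left := by
  constructor
  · rintro ⟨ι, Xi, j, U, a, ⟨hjo, hjs⟩, ha⟩
    refine ⟨ι, U, fun i => a i ≫ (j i).hom, fun i => ?_, fun x => ?_, fun i R s t sq => ?_⟩
    · exact (RepWith @Etale).comp_mem _ _ (ha i).1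
        (repWith_mono (fun _ _ k hk => by
          have : IsOpenImmersion k := hk
          exact inferInstanceAs (Etale k)) (hjo i))
    · obtain ⟨i, y, hy⟩ := hjs x
      obtain ⟨z, hz⟩ := surjective_map_of_repWith (ha i).2.1 y
      obtain ⟨v, rfl⟩ := (Points.schemeHomeo (U i)).surjective z
      refine ⟨i, v, ?_⟩
      rw [Points.ofPt_eq_map_ofScheme, Points.map_comp]
      change Points.map (j i).hom (Points.map (a i) (Points.schemeHomeo (U i) v)) = x
      rw [hz, hy]
    · haveI : Mono (j i).hom := mono_of_repWith_isOpenImmersion _ (hjo i)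
      have sq' : IsPullback ((yon S).map t) ((yon S).map s) (a i) (a i) :=
        isPullback_of_comp_mono (j i).hom sq
      exact ⟨(ha i).2.2.2 (a i) _ s sq', (ha i).2.2.2 (a i) _ t sq'.flip⟩
  · rintro ⟨ι, U, φ, hφ, hcov, hqc⟩
    have hW : ∀ i, IsOpen (Set.range (Points.ofPt (φ i))) :=
      fun i => (isOpenMap_ofPt (φ i) (hφ i)).isOpen_range
    have key : ∀ i, ∃ a' : (yon S).obj (U i) ⟶ openSub X.obj (Set.range (Points.ofPt (φ i))),
        RepWith @Etale a' ∧ RepWith @Surjective a' ∧ RepWith @QuasiCompact a' := by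
      intro i
      obtain ⟨a', -, hae, has, hpres⟩ := exists_factor_surjective_etale (φ i) (hφ i)
        (openSubι X.obj (Set.range (Points.ofPt (φ i))))
        (repWith_isOpenImmersion_openSubι X.obj _ (hW i)) (range_map_openSubι X.obj _)
      obtain ⟨R, t, s, sq⟩ := exists_pullback_charts (φ i) (hφ i).1 (φ i)
      exact ⟨a', hae, has, repWith_quasiCompact_of_presentation a' hae has s t
        (hpres R s t sq).isPullback (hqc i R s t sq).1⟩
    choose a' ha' using key
    refine ⟨ι, fun i => ⟨openSub X.obj (Set.range (Points.ofPt (φ i))),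
      isAlgSpace_openSub X.property _ (hW i)⟩,
      fun i => ObjectProperty.homMk (openSubι X.obj (Set.range (Points.ofPt (φ i)))), U, a',
      ⟨fun i => repWith_isOpenImmersion_openSubι X.obj _ (hW i), fun x => ?_⟩, ha'⟩
    obtain ⟨i, v, hv⟩ := hcov x
    refine ⟨i, ?_⟩
    change x ∈ Set.range (Points.map (openSubι X.obj (Set.range (Points.ofPt (φ i)))))
    rw [range_map_openSubι]
    exact ⟨v, hv⟩

end Groth.Agent.Lib.lead.VeryReasonable
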