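import Groth.Prelude.Def_RedSub
import Mathlib.LinearAlgebra.RootSystem.Base
import Mathlib.LinearAlgebra.RootSystem.Reduced
import Mathlib.Tactic

/-!
Helper lemmas on words of reflections acting on the roots of a root pairing over ℤ
(`RedSub.wordPerm`), positive/negative roots (`RedSub.posRoots`, `RedSub.negRoots`) and heights.
-/

set_option autoImplicit false

namespace Groth.Agent.Lib.lead.WordPerm

variable {idx M N : Type} [AddCommGroup M] [AddCommGroup N]
  (P : RootPairing idx ℤ M N)

theorem reflPerm_conj (j i : idx) :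
    P.reflectionPerm (P.reflectionPerm j i)
      = P.reflectionPerm j * P.reflectionPerm i * P.reflectionPerm j := by
  ext a
  apply P.root.injective
  simp only [Equiv.Perm.coe_mul, Function.comp_apply, RootPairing.root_reflectionPerm]
  rw [RootPairing.reflection_reflectionPerm]
  rfl

theorem wordPerm_nil : RedSub.wordPerm P [] = 1 := by
  simp [RedSub.wordPerm]

theorem wordPerm_cons (j : idx) (l : List idx) :
    RedSub.wordPerm P (j :: l) = P.reflectionPerm j * RedSub.wordPerm P l := by
  simp [RedSub.wordPerm]

theorem wordPerm_append (l l' : List idx) :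
    RedSub.wordPerm P (l ++ l') = RedSub.wordPerm P l * RedSub.wordPerm P l' := by
  simp [RedSub.wordPerm]

theorem wordPerm_inv (l : List idx) :
    (RedSub.wordPerm P l)⁻¹ = RedSub.wordPerm P l.reverse := by
  induction l with
  | nil => simp [wordPerm_nil]
  | cons j l ih =>
    rw [wordPerm_cons, mul_inv_rev, ih, RootPairing.reflectionPerm_inv, List.reverse_cons,
      wordPerm_append, wordPerm_cons, wordPerm_nil, mul_one]

theorem reflPerm_word (l : List idx) (a : idx) :
    P.reflectionPerm (RedSub.wordPerm P l a)
      = RedSub.wordPerm P l * P.reflectionPerm a * (RedSub.wordPerm P l)⁻¹ := by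
  induction l with
  | nil => simp [wordPerm_nil]
  | cons j l ih =>
    rw [wordPerm_cons, Equiv.Perm.mul_apply, reflPerm_conj, ih, mul_inv_rev,
      RootPairing.reflectionPerm_inv]
    simp only [mul_assoc]

theorem closure_sum (b : P.Base) (m : M)
    (hm : m ∈ AddSubmonoid.closure (P.root '' (b.support : Set idx))) :
    ∃ f : idx → ℤ, (∀ j, 0 ≤ f j) ∧ m = ∑ j ∈ b.support, f j • P.root j := by
  classical
  induction hm using AddSubmonoid.closure_induction with
  | mem x hx =>
    obtain ⟨j, hj, rfl⟩ := hx
    refine ⟨Pi.single j 1, fun k => ?_, ?_⟩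
    · by_cases h : k = j
      · subst h; simp
      · simp [h]
    · rw [Finset.sum_eq_single_of_mem j hj (by intro k _ hk; simp [hk])]
      simp
  | zero => exact ⟨0, fun _ => le_rfl, by simp⟩
  | add x y _ _ hx hy =>
    obtain ⟨f, hf, rfl⟩ := hx
    obtain ⟨g, hg, rfl⟩ := hy
    exact ⟨f + g, fun j => add_nonneg (hf j) (hg j), by simp [add_smul, Finset.sum_add_distrib]⟩

theorem isPos_of_mem_posRoots (b : P.Base) {a : idx} (ha : a ∈ RedSub.posRoots P b) :
    b.IsPos a := by
  obtain ⟨f, hf, h⟩ := closure_sum P b _ ha
  rw [b.isPos_iff', b.height_eq_sum h]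
  exact Finset.sum_nonneg fun j _ => hf j

theorem not_isPos_of_mem_negRoots (b : P.Base) {a : idx} (ha : a ∈ RedSub.negRoots P b) :
    ¬ b.IsPos a := by
  obtain ⟨f, hf, h⟩ := closure_sum P b _ ha
  have h' : P.root a = ∑ j ∈ b.support, (-f) j • P.root j := by
    rw [← neg_neg (P.root a), h]
    simp [Finset.sum_neg_distrib]
  rw [b.isPos_iff, b.height_eq_sum h']
  simp only [Pi.neg_apply, Finset.sum_neg_distrib]
  have := Finset.sum_nonneg fun j (_ : j ∈ b.support) => hf j
  omega

theorem mem_posRoots_iff (b : P.Base) (a : idx) : a ∈ RedSub.posRoots P b ↔ b.IsPos a := by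
  refine ⟨isPos_of_mem_posRoots P b, fun h => ?_⟩
  rcases b.root_mem_or_neg_mem a with h1 | h1
  · exact h1
  · exact absurd h (not_isPos_of_mem_negRoots P b h1)

theorem mem_negRoots_iff (b : P.Base) (a : idx) : a ∈ RedSub.negRoots P b ↔ ¬ b.IsPos a := by
  refine ⟨not_isPos_of_mem_negRoots P b, fun h => ?_⟩
  rcases b.root_mem_or_neg_mem a with h1 | h1
  · exact absurd (isPos_of_mem_posRoots P b h1) h
  · exact h1

/-- The linear action of a word in the reflections. -/
noncomputable def wordLin (l : List idx) : M ≃ₗ[ℤ] M := (l.map P.reflection).prod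

theorem root_wordPerm (l : List idx) (k : idx) :
    P.root (RedSub.wordPerm P l k) = wordLin P l (P.root k) := by
  induction l generalizing k with
  | nil => simp [wordLin, RedSub.wordPerm]
  | cons j l ih =>
    simp only [wordLin, RedSub.wordPerm, List.map_cons, List.prod_cons] at ih ⊢
    rw [Equiv.Perm.mul_apply, RootPairing.root_reflectionPerm, ih]
    rfl

theorem height_rel (b : P.Base) (l : List idx) {a a' d : idx} {z : ℤ}
    (h : P.root a' = P.root a + z • P.root d) :
    b.height (RedSub.wordPerm P l a')
      = b.height (RedSub.wordPerm P l a) + z * b.height (RedSub.wordPerm P l d) := by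
  have := b.height_add_zsmul (i := RedSub.wordPerm P l a) (j := RedSub.wordPerm P l d)
    (k := RedSub.wordPerm P l a') (z := z) (by
      rw [root_wordPerm, root_wordPerm, root_wordPerm, h, map_add, map_zsmul])
  simpa using this

theorem root_reflPerm_rel (d a : idx) :
    P.root (P.reflectionPerm d a) = P.root a + (-(P.pairing a d)) • P.root d := by
  rw [RootPairing.root_reflectionPerm, RootPairing.reflection_apply_root, neg_smul,
    sub_eq_add_neg]

theorem root_reflPerm_self_rel (d : idx) :
    P.root (P.reflectionPerm d d) = P.root d + (-2 : ℤ) • P.root d := by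
  rw [RootPairing.root_reflectionPerm, RootPairing.reflection_apply_self]
  module

end Groth.Agent.Lib.lead.WordPerm
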