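import Mathlib
import Groth.Agent.Lib.lead.HensSectA

/-!
# Affineness of the maximal locus of a fibre integral: general lemmas

* `isPullback_sec`: base change of the section of `X ×_Y T ⟶ T` attached to a `Y`-morphism `T ⟶ X`.
* `isFinite_of_sections_cover`: an affine morphism of finite type which is set-theoretically covered
  by finitely many sections is finite.
* `isAffine_of_isOpenImmersion_of_isClosed_range`.
-/

set_option autoImplicit false
set_option linter.style.haveILetI false
universe u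
open CategoryTheory CategoryTheory.Limits AlgebraicGeometry Opposite TopologicalSpace

namespace Groth.Agent.Lib.lead.WtAff

variable {X Y : Scheme.{u}} (f : X ⟶ Y)

/-- The section of `X ×_Y T ⟶ T` attached to a `Y`-morphism `a : T ⟶ X`. -/
noncomputable def sec {T : Scheme.{u}} (q : T ⟶ Y) (a : {a : T ⟶ X // a ≫ f = q}) :
    T ⟶ pullback f q :=
  pullback.lift a.1 (𝟙 T) (by rw [a.2, Category.id_comp])

@[reassoc (attr := simp)]
theorem sec_fst {T : Scheme.{u}} (q : T ⟶ Y) (a : {a : T ⟶ X // a ≫ f = q}) :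
    sec f q a ≫ pullback.fst f q = a.1 := pullback.lift_fst _ _ _

@[reassoc (attr := simp)]
theorem sec_snd {T : Scheme.{u}} (q : T ⟶ Y) (a : {a : T ⟶ X // a ≫ f = q}) :
    sec f q a ≫ pullback.snd f q = 𝟙 T := pullback.lift_snd _ _ _

/-- Transition map between the base changes of `f` along `g ≫ q` and along `q`. -/
noncomputable def rho {T T' : Scheme.{u}} (q : T ⟶ Y) (g : T' ⟶ T) :
    pullback f (g ≫ q) ⟶ pullback f q :=
  pullback.lift (pullback.fst f (g ≫ q)) (pullback.snd f (g ≫ q) ≫ g)
    (by rw [pullback.condition, Category.assoc])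

@[reassoc (attr := simp)]
theorem rho_fst {T T' : Scheme.{u}} (q : T ⟶ Y) (g : T' ⟶ T) :
    rho f q g ≫ pullback.fst f q = pullback.fst f (g ≫ q) := pullback.lift_fst _ _ _

@[reassoc (attr := simp)]
theorem rho_snd {T T' : Scheme.{u}} (q : T ⟶ Y) (g : T' ⟶ T) :
    rho f q g ≫ pullback.snd f q = pullback.snd f (g ≫ q) ≫ g := pullback.lift_snd _ _ _

/-- Pull back a `Y`-morphism `T ⟶ X` along `g : T' ⟶ T`. -/
def pb {T T' : Scheme.{u}} (q : T ⟶ Y) (g : T' ⟶ T) (a : {a : T ⟶ X // a ≫ f = q}) :
    {a : T' ⟶ X // a ≫ f = g ≫ q} :=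
  ⟨g ≫ a.1, by rw [Category.assoc, a.2]⟩

theorem isPullback_rho {T T' : Scheme.{u}} (q : T ⟶ Y) (g : T' ⟶ T) :
    IsPullback (rho f q g) (pullback.snd f (g ≫ q)) (pullback.snd f q) g := by
  have h1 : IsPullback (pullback.fst f q) (pullback.snd f q) f q := IsPullback.of_hasPullback f q
  have h2 : IsPullback (rho f q g ≫ pullback.fst f q) (pullback.snd f (g ≫ q)) f (g ≫ q) := by
    rw [rho_fst]
    exact IsPullback.of_hasPullback f (g ≫ q)
  exact IsPullback.of_right h2 (rho_snd f q g) h1

theorem sec_rho {T T' : Scheme.{u}} (q : T ⟶ Y) (g : T' ⟶ T) (a : {a : T ⟶ X // a ≫ f = q}) :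
    sec f (g ≫ q) (pb f q g a) ≫ rho f q g = g ≫ sec f q a := by
  apply pullback.hom_ext
  · rw [Category.assoc, rho_fst, sec_fst, Category.assoc, sec_fst]
    rfl
  · rw [Category.assoc, rho_snd, sec_snd_assoc, Category.assoc, sec_snd, Category.comp_id]

/-- The section attached to `g ≫ a` is the base change of the section attached to `a`. -/
theorem isPullback_sec {T T' : Scheme.{u}} (q : T ⟶ Y) (g : T' ⟶ T)
    (a : {a : T ⟶ X // a ≫ f = q}) :
    IsPullback (sec f (g ≫ q) (pb f q g a)) g (rho f q g) (sec f q a) := by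
  have h1 : IsPullback (pullback.snd f (g ≫ q)) (rho f q g) g (pullback.snd f q) :=
    (isPullback_rho f q g).flip
  have h2 : IsPullback (sec f (g ≫ q) (pb f q g a) ≫ pullback.snd f (g ≫ q)) g g
      (sec f q a ≫ pullback.snd f q) := by
    rw [sec_snd, sec_snd]
    exact IsPullback.of_horiz_isIso ⟨by simp⟩
  exact IsPullback.of_right h2 (sec_rho f q g a) h1

/-- Points of the base change lying over the range of a section lie in the range of the pulled
back section. -/
theorem mem_range_sec_of_rho_mem {T T' : Scheme.{u}} (q : T ⟶ Y) (g : T' ⟶ T)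
    (a : {a : T ⟶ X // a ≫ f = q}) (z : ↥(pullback f (g ≫ q)))
    (hz : rho f q g z ∈ Set.range (sec f q a)) :
    z ∈ Set.range (sec f (g ≫ q) (pb f q g a)) := by
  obtain ⟨t, ht⟩ := hz
  obtain ⟨t', h1, -⟩ := Scheme.exists_preimage_of_isPullback (isPullback_sec f q g a) z t ht.symm
  exact ⟨t', h1⟩

instance isClosedImmersion_sec [IsSeparated f] {T : Scheme.{u}} (q : T ⟶ Y)
    (a : {a : T ⟶ X // a ≫ f = q}) : IsClosedImmersion (sec f q a) := by
  haveI : IsSeparated (pullback.snd f q) :=
    MorphismProperty.pullback_snd (P := @IsSeparated) f q inferInstance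
  exact Groth.Agent.Lib.lead.HensSect.isClosedImmersion_of_section (pullback.snd f q) _
    (sec_snd f q a)

end Groth.Agent.Lib.lead.WtAff

namespace Groth.Agent.Lib.lead.WtAff

theorem range_coprodDesc {K T Z : Scheme.{u}} (c : K ⟶ Z) (s : T ⟶ Z) :
    Set.range (coprod.desc c s) = Set.range c ∪ Set.range s := by
  apply subset_antisymm
  · rintro _ ⟨p, rfl⟩
    have hcod := (isCompl_range_inl_inr K T).codisjoint
    have hp : p ∈ Set.range (coprod.inl : K ⟶ K ⨿ T) ∪ Set.range (coprod.inr : T ⟶ K ⨿ T) := by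
      rw [codisjoint_iff] at hcod
      have : (Set.range (coprod.inl : K ⟶ K ⨿ T) ⊔ Set.range (coprod.inr : T ⟶ K ⨿ T)) = ⊤ := hcod
      change p ∈ (Set.range (coprod.inl : K ⟶ K ⨿ T) ⊔ Set.range (coprod.inr : T ⟶ K ⨿ T))
      rw [this]
      trivial
    rcases hp with ⟨k, rfl⟩ | ⟨t, rfl⟩
    · left
      refine ⟨k, ?_⟩
      rw [← Scheme.Hom.comp_apply, coprod.inl_desc]
    · right
      refine ⟨t, ?_⟩
      rw [← Scheme.Hom.comp_apply, coprod.inr_desc]
  · rintro z (⟨k, rfl⟩ | ⟨t, rfl⟩)
    · refine ⟨(coprod.inl : K ⟶ K ⨿ T) k, ?_⟩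
      rw [← Scheme.Hom.comp_apply, coprod.inl_desc]
    · refine ⟨(coprod.inr : T ⟶ K ⨿ T) t, ?_⟩
      rw [← Scheme.Hom.comp_apply, coprod.inr_desc]

/-- A finite union of ranges of sections is the range of a morphism from a scheme finite over
the base. -/
theorem exists_finite_cover {Z T : Scheme.{u}} (π : Z ⟶ T)
    (S : Finset {s : T ⟶ Z // s ≫ π = 𝟙 T}) (hS : S.Nonempty) :
    ∃ (K : Scheme.{u}) (c : K ⟶ Z), IsFinite (c ≫ π) ∧
      Set.range c = ⋃ s ∈ S, Set.range s.1 := by
  classical
  induction hS using Finset.Nonempty.cons_induction with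
  | singleton s =>
    refine ⟨T, s.1, ?_, ?_⟩
    · rw [s.2]; infer_instance
    · simp
  | cons s S hs hS ih =>
    obtain ⟨K, c, hc, hr⟩ := ih
    refine ⟨K ⨿ T, coprod.desc c s.1, ?_, ?_⟩
    · have : coprod.desc c s.1 ≫ π = coprod.desc (c ≫ π) (𝟙 T) := by
        apply coprod.hom_ext
        · rw [coprod.inl_desc_assoc, coprod.inl_desc]
        · rw [coprod.inr_desc_assoc, coprod.inr_desc, s.2]
      rw [this]
      infer_instance
    · rw [range_coprodDesc, hr]
      ext z
      simp only [Set.mem_union, Set.mem_iUnion, Finset.mem_cons, exists_prop]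
      constructor
      · rintro (⟨s', hs', hz⟩ | hz)
        · exact ⟨s', Or.inr hs', hz⟩
        · exact ⟨s, Or.inl rfl, hz⟩
      · rintro ⟨s', (rfl | hs'), hz⟩
        · exact Or.inr hz
        · exact Or.inl ⟨s', hs', hz⟩

/-- An affine morphism of finite type covered by finitely many sections is finite. -/
theorem isFinite_of_sections_cover {Z T : Scheme.{u}} (π : Z ⟶ T) [IsAffineHom π]
    [LocallyOfFiniteType π] (S : Finset {s : T ⟶ Z // s ≫ π = 𝟙 T}) (hS : S.Nonempty)
    (hcov : ∀ z : Z, ∃ s ∈ S, z ∈ Set.range s.1) : IsFinite π := by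
  obtain ⟨K, c, hc, hr⟩ := exists_finite_cover π S hS
  haveI : Surjective c := by
    refine ⟨fun z => ?_⟩
    obtain ⟨s, hs, hz⟩ := hcov z
    have : z ∈ Set.range c := by
      rw [hr]
      exact Set.mem_iUnion₂.mpr ⟨s, hs, hz⟩
    exact this
  haveI := hc
  haveI : UniversallyClosed (c ≫ π) := inferInstance
  haveI : UniversallyClosed π := UniversallyClosed.of_comp_surjective c π
  haveI : IsIntegralHom π := IsIntegralHom.iff_universallyClosed_and_isAffineHom.mpr
    ⟨inferInstance, inferInstance⟩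
  exact (IsFinite.iff_isIntegralHom_and_locallyOfFiniteType π).mpr ⟨inferInstance, inferInstance⟩

/-- An open immersion into an affine scheme with closed range has affine source. -/
theorem isAffine_of_isOpenImmersion_of_isClosed_range {A E : Scheme.{u}} (j : A ⟶ E)
    [IsOpenImmersion j] [IsAffine E] (h : IsClosed (Set.range j)) : IsAffine A := by
  haveI : IsClosedImmersion j := IsClosedImmersion.of_isPreimmersion j h
  exact isAffine_of_isAffineHom j

end Groth.Agent.Lib.lead.WtAff
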