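import Mathlib
import Groth.Agent.Lib.lead.WtAffA
import Groth.Agent.Lib.lead.FibDegB
import Groth.Agent.Lib.lead.WtB

/-!
# Affineness of the maximal locus of a fibre integral: tuple spaces

Stages `(P, q : P ⟶ Y, secs)`: an (affine) scheme over `Y` with finitely many `Y`-morphisms to `X`;
`Ecl` is the closed set of points of `P` whose fibre in `X ×_Y P` is covered by the sections.
-/

set_option autoImplicit false
set_option linter.style.haveILetI false
universe u
open CategoryTheory CategoryTheory.Limits AlgebraicGeometry Opposite TopologicalSpace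

namespace Groth.Agent.Lib.lead.WtAff

variable {X Y : Scheme.{u}} (f : X ⟶ Y)

/-- `Y`-morphisms from `T` to `X`. -/
abbrev Sec {T : Scheme.{u}} (q : T ⟶ Y) := {a : T ⟶ X // a ≫ f = q}

/-- The part of `X ×_Y T` covered by the sections in `S`. -/
def Cov {T : Scheme.{u}} (q : T ⟶ Y) (S : Set (Sec f q)) : Set ↥(pullback f q) :=
  ⋃ a ∈ S, Set.range (sec f q a)

/-- The set of points of `T` whose fibre is covered by the sections in `S`. -/
def Ecl {T : Scheme.{u}} (q : T ⟶ Y) (S : Set (Sec f q)) : Set T :=
  ((pullback.snd f q) '' (Cov f q S)ᶜ)ᶜ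

theorem mem_Ecl_iff {T : Scheme.{u}} (q : T ⟶ Y) (S : Set (Sec f q)) (t : T) :
    t ∈ Ecl f q S ↔ ∀ z : ↥(pullback f q), pullback.snd f q z = t → z ∈ Cov f q S := by
  unfold Ecl
  simp only [Set.mem_compl_iff, Set.mem_image, not_exists, not_and]
  constructor
  · intro h z hz
    by_contra hc
    exact h z hc hz
  · intro h z hz hzt
    exact hz (h z hzt)

theorem isClosed_Cov [IsSeparated f] {T : Scheme.{u}} (q : T ⟶ Y) (S : Set (Sec f q))
    (hS : S.Finite) : IsClosed (Cov f q S) :=
  hS.isClosed_biUnion fun a _ => (sec f q a).isClosedEmbedding.isClosed_range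

theorem isClosed_Ecl [IsSeparated f] [UniversallyOpen f] {T : Scheme.{u}} (q : T ⟶ Y)
    (S : Set (Sec f q)) (hS : S.Finite) : IsClosed (Ecl f q S) := by
  haveI : UniversallyOpen (pullback.snd f q) :=
    MorphismProperty.pullback_snd (P := @UniversallyOpen) f q inferInstance
  have h := (pullback.snd f q).isOpenMap _ (isClosed_Cov f q S hS).isOpen_compl
  exact h.isClosed_compl

/-- The distinct covered points of the fibre over `t`. -/
def Pts {T : Scheme.{u}} (q : T ⟶ Y) (S : Set (Sec f q)) (t : T) : Set ↥(pullback f q) :=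
  (fun a => sec f q a t) '' S

theorem Pts_subset_Cov {T : Scheme.{u}} (q : T ⟶ Y) (S : Set (Sec f q)) (t : T) :
    Pts f q S t ⊆ Cov f q S := by
  rintro _ ⟨a, ha, rfl⟩
  exact Set.mem_iUnion₂.mpr ⟨a, ha, ⟨t, rfl⟩⟩

theorem Pts_subset_fibre {T : Scheme.{u}} (q : T ⟶ Y) (S : Set (Sec f q)) (t : T) :
    Pts f q S t ⊆ (pullback.snd f q) ⁻¹' {t} := by
  rintro _ ⟨a, -, rfl⟩
  change pullback.snd f q (sec f q a t) = t
  rw [← Scheme.Hom.comp_apply, sec_snd]
  rfl

/-- The structure morphism of the next stage. -/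
noncomputable abbrev nextQ {T : Scheme.{u}} (q : T ⟶ Y) : pullback f q ⟶ Y :=
  pullback.snd f q ≫ q

/-- The tautological new section on the next stage. -/
noncomputable def newSec {T : Scheme.{u}} (q : T ⟶ Y) : Sec f (nextQ f q) :=
  ⟨pullback.fst f q, pullback.condition⟩

/-- The sections of the next stage. -/
noncomputable def nextSecs {T : Scheme.{u}} (q : T ⟶ Y) (S : Set (Sec f q)) :
    Set (Sec f (nextQ f q)) :=
  insert (newSec f q) ((pb f q (pullback.snd f q)) '' S)

theorem nextSecs_finite {T : Scheme.{u}} (q : T ⟶ Y) (S : Set (Sec f q)) (h : S.Finite) :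
    (nextSecs f q S).Finite :=
  (h.image _).insert _

theorem nextSecs_nonempty {T : Scheme.{u}} (q : T ⟶ Y) (S : Set (Sec f q)) :
    (nextSecs f q S).Nonempty :=
  ⟨newSec f q, Set.mem_insert _ _⟩

/-- Padding: a point with covered fibre stays so after repeating one of its coordinates. -/
theorem sec_mem_Ecl_next {T : Scheme.{u}} (q : T ⟶ Y) (S : Set (Sec f q)) (t : T)
    (ht : t ∈ Ecl f q S) (a : Sec f q) :
    sec f q a t ∈ Ecl f (nextQ f q) (nextSecs f q S) := by
  rw [mem_Ecl_iff]
  intro z' hz'
  have h1 : pullback.snd f q (rho f q (pullback.snd f q) z') = t := by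
    rw [← Scheme.Hom.comp_apply, rho_snd, Scheme.Hom.comp_apply, hz', ← Scheme.Hom.comp_apply,
      sec_snd]
    rfl
  have h2 := (mem_Ecl_iff f q S t).1 ht _ h1
  obtain ⟨b, hb, hzb⟩ := Set.mem_iUnion₂.mp h2
  have h3 := mem_range_sec_of_rho_mem f q (pullback.snd f q) b z' hzb
  exact Set.mem_iUnion₂.mpr ⟨pb f q (pullback.snd f q) b,
    Set.mem_insert_of_mem _ ⟨b, hb, rfl⟩, h3⟩

theorem newSec_rho {T : Scheme.{u}} (q : T ⟶ Y) :
    sec f (nextQ f q) (newSec f q) ≫ rho f q (pullback.snd f q) = 𝟙 (pullback f q) := by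
  apply pullback.hom_ext
  · rw [Category.assoc, rho_fst, sec_fst, Category.id_comp]
    rfl
  · rw [Category.assoc, rho_snd, sec_snd_assoc, Category.id_comp]

/-- Extending by an uncovered point increases the number of distinct covered points. -/
theorem ncard_Pts_next {T : Scheme.{u}} (q : T ⟶ Y) (S : Set (Sec f q)) (hfin : S.Finite)
    (t' : ↥(pullback f q)) (ht' : t' ∉ Cov f q S) :
    (Pts f q S (pullback.snd f q t')).ncard + 1 ≤
      (Pts f (nextQ f q) (nextSecs f q S) t').ncard := by
  have hfinN : (Pts f (nextQ f q) (nextSecs f q S) t').Finite :=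
    (nextSecs_finite f q S hfin).image _
  have hfinD : (Pts f q S (pullback.snd f q t')).Finite := hfin.image _
  have hsub : insert t' (Pts f q S (pullback.snd f q t')) ⊆
      (rho f q (pullback.snd f q)) '' (Pts f (nextQ f q) (nextSecs f q S) t') := by
    intro z hz
    rcases Set.mem_insert_iff.mp hz with rfl | ⟨b, hb, rfl⟩
    · refine ⟨sec f (nextQ f q) (newSec f q) z, ⟨newSec f q, Set.mem_insert _ _, rfl⟩, ?_⟩
      rw [← Scheme.Hom.comp_apply, newSec_rho]
      rfl
    · refine ⟨sec f (nextQ f q) (pb f q (pullback.snd f q) b) t',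
        ⟨pb f q (pullback.snd f q) b, Set.mem_insert_of_mem _ ⟨b, hb, rfl⟩, rfl⟩, ?_⟩
      rw [← Scheme.Hom.comp_apply, sec_rho, Scheme.Hom.comp_apply]
  have hnot : t' ∉ Pts f q S (pullback.snd f q t') := fun h => ht' (Pts_subset_Cov f q S _ h)
  calc (Pts f q S (pullback.snd f q t')).ncard + 1
      = (insert t' (Pts f q S (pullback.snd f q t'))).ncard :=
        (Set.ncard_insert_of_notMem hnot hfinD).symm
    _ ≤ ((rho f q (pullback.snd f q)) '' (Pts f (nextQ f q) (nextSecs f q S) t')).ncard :=
        Set.ncard_le_ncard hsub (hfinN.image _)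
    _ ≤ (Pts f (nextQ f q) (nextSecs f q S) t').ncard := Set.ncard_image_le hfinN

/-- The number of distinct covered points is bounded by the fibre integral. -/
theorem ncard_Pts_le [LocallyQuasiFinite f] [LocallyOfFiniteType f]
    (hfib : ∀ y : Y, (f ⁻¹' {y}).Finite) (w : X → ℤ) (hw : ∀ x, 1 ≤ w x)
    {T : Scheme.{u}} (q : T ⟶ Y) (S : Set (Sec f q)) (t : T) :
    ((Pts f q S t).ncard : ℤ) ≤ MoreMor.fibreIntegral f w (q t) := by
  have hc : IsPullback (pullback.fst f q) (pullback.snd f q) f q :=
    IsPullback.of_hasPullback f q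
  haveI : LocallyQuasiFinite (pullback.snd f q) :=
    MorphismProperty.pullback_snd (P := @LocallyQuasiFinite) f q inferInstance
  have hfin' : Finite {u : ↥(pullback f q) // pullback.snd f q u = t} :=
    Groth.Agent.Lib.lead.WtB.finite_fibre_baseChange hc t (hfib (q t)).to_subtype
  have h1 := Groth.Agent.Lib.lead.FibDegB.card_le_fibreIntegral (pullback.snd f q)
    (w ∘ pullback.fst f q) (fun u => hw _) t hfin'
  rw [Groth.Agent.Lib.lead.WtB.fibreIntegral_baseChange hc w t (hfib (q t)).to_subtype] at h1
  refine le_trans ?_ h1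
  have hsetfin : ((pullback.snd f q) ⁻¹' {t}).Finite := by
    have : Finite ↥((pullback.snd f q) ⁻¹' {t}) := hfin'
    exact Set.toFinite _
  have h2 : (Pts f q S t).ncard ≤ ((pullback.snd f q) ⁻¹' {t}).ncard :=
    Set.ncard_le_ncard (Pts_subset_fibre f q S t) hsetfin
  have h3 : ((pullback.snd f q) ⁻¹' {t}).ncard =
      Nat.card {u : ↥(pullback f q) // pullback.snd f q u = t} := rfl
  rw [h3] at h2
  exact_mod_cast h2

/-- A stage of the tuple construction. -/
structure Stage where
  P : Scheme.{u}
  q : P ⟶ Y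
  secs : Set (Sec f q)

variable {f}

/-- The next stage: base change along `X ×_Y P ⟶ P`, with one more section. -/
noncomputable def Stage.next (D : Stage f) : Stage f where
  P := pullback f D.q
  q := nextQ f D.q
  secs := nextSecs f D.q D.secs

/-- Iterating the construction. -/
noncomputable def iterFrom : Stage f → ℕ → Stage f
  | D, 0 => D
  | D, j + 1 => iterFrom D.next j

theorem iterFrom_secs_finite (j : ℕ) : ∀ (D : Stage f), D.secs.Finite →
    (iterFrom D j).secs.Finite := by
  induction j with
  | zero => intro D h; exact h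
  | succ j ih => intro D h; exact ih D.next (nextSecs_finite f D.q D.secs h)

theorem iterFrom_isAffine [IsAffineHom f] (j : ℕ) : ∀ (D : Stage f), IsAffine D.P →
    IsAffine (iterFrom D j).P := by
  induction j with
  | zero => intro D h; exact h
  | succ j ih =>
    intro D h
    haveI := h
    exact ih D.next (inferInstanceAs (IsAffine (pullback f D.q)))

theorem iterFrom_secs_nonempty (j : ℕ) : ∀ (D : Stage f), D.secs.Nonempty →
    (iterFrom D j).secs.Nonempty := by
  induction j with
  | zero => intro D h; exact h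
  | succ j ih => intro D _; exact ih D.next (nextSecs_nonempty f D.q D.secs)

/-- Key existence statement: over a point `y` where the fibre integral equals `n`, after `j` steps
there is a point whose fibre is covered by the sections, provided we started with enough distinct
covered points. -/
theorem exists_mem_Ecl_iterFrom [LocallyQuasiFinite f] [LocallyOfFiniteType f]
    (hfib : ∀ y : Y, (f ⁻¹' {y}).Finite) (w : X → ℤ) (hw : ∀ x, 1 ≤ w x) (y : Y) (n : ℕ)
    (hn : MoreMor.fibreIntegral f w y = n) (j : ℕ) :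
    ∀ (D : Stage f), D.secs.Finite → ∀ t : D.P, D.q t = y →
      (n ≤ j + (Pts f D.q D.secs t).ncard ∨ t ∈ Ecl f D.q D.secs) →
      (t ∈ Ecl f D.q D.secs → D.secs.Nonempty) →
      ∃ e : (iterFrom D j).P, (iterFrom D j).q e = y ∧
        e ∈ Ecl f (iterFrom D j).q (iterFrom D j).secs := by
  induction j with
  | zero =>
    intro D hfin t hty h1 _
    change ∃ e : D.P, D.q e = y ∧ e ∈ Ecl f D.q D.secs
    refine ⟨t, hty, ?_⟩
    rcases h1 with h1 | h1
    · by_contra hne
      rw [mem_Ecl_iff] at hne
      push Not at hne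
      obtain ⟨t', ht't, ht'⟩ := hne
      have h2 := ncard_Pts_next f D.q D.secs hfin t' ht'
      rw [ht't] at h2
      have h3 := ncard_Pts_le f hfib w hw (nextQ f D.q) (nextSecs f D.q D.secs) t'
      have h4 : nextQ f D.q t' = y := by
        change (pullback.snd f D.q ≫ D.q) t' = y
        rw [Scheme.Hom.comp_apply, ht't, hty]
      rw [h4, hn] at h3
      have h5 : (Pts f (nextQ f D.q) (nextSecs f D.q D.secs) t').ncard ≤ n := by exact_mod_cast h3
      omega
    · exact h1
  | succ j ih =>
    intro D hfin t hty h1 h2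
    change ∃ e : (iterFrom D.next j).P, (iterFrom D.next j).q e = y ∧
        e ∈ Ecl f (iterFrom D.next j).q (iterFrom D.next j).secs
    by_cases hE : t ∈ Ecl f D.q D.secs
    · obtain ⟨a, -⟩ := h2 hE
      have h3 := sec_mem_Ecl_next f D.q D.secs t hE a
      refine ih D.next (nextSecs_finite f D.q D.secs hfin) (sec f D.q a t) ?_ (Or.inr h3)
        (fun _ => nextSecs_nonempty f D.q D.secs)
      change (pullback.snd f D.q ≫ D.q) (sec f D.q a t) = y
      rw [← Scheme.Hom.comp_apply, sec_snd_assoc, hty]
    · have h1' : n ≤ j + 1 + (Pts f D.q D.secs t).ncard := by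
        rcases h1 with h1 | h1
        · exact h1
        · exact absurd h1 hE
      rw [mem_Ecl_iff] at hE
      push Not at hE
      obtain ⟨t', ht't, ht'⟩ := hE
      have h3 := ncard_Pts_next f D.q D.secs hfin t' ht'
      rw [ht't] at h3
      refine ih D.next (nextSecs_finite f D.q D.secs hfin) t' ?_ (Or.inl ?_)
        (fun _ => nextSecs_nonempty f D.q D.secs)
      · change (pullback.snd f D.q ≫ D.q) t' = y
        rw [Scheme.Hom.comp_apply, ht't, hty]
      · change n ≤ j + (Pts f (nextQ f D.q) (nextSecs f D.q D.secs) t').ncard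
        omega

end Groth.Agent.Lib.lead.WtAff
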