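import Mathlib
import Groth.Agent.Lib.lead.WtAffB
import Groth.Agent.Lib.lead.WtF
import Groth.Agent.Lib.lead.ChevD
import Groth.Agent.S1420
import Groth.Agent.S1428

/-!
# Affineness of the maximal locus of a fibre integral: main theorem
-/

set_option autoImplicit false
set_option linter.style.haveILetI false
universe u
open CategoryTheory CategoryTheory.Limits AlgebraicGeometry Opposite TopologicalSpace

namespace Groth.Agent.Lib.lead.WtAff

variable {X Y : Scheme.{u}} (f : X ⟶ Y)

/-- Finiteness over an open `U` over which `f` is finite propagates to the next stage. -/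
theorem isFinite_snd_nextQ (U : Y.Opens) (hU : IsFinite (pullback.snd f U.ι))
    {T : Scheme.{u}} (q : T ⟶ Y) (hq : IsFinite (pullback.snd q U.ι)) :
    IsFinite (pullback.snd (nextQ f q) U.ι) := by
  let fT := pullback.snd f q
  let φ := pullback.fst q U.ι
  let r := pullback.snd q U.ι
  let ψ := pullback.snd fT φ
  -- ψ is a base change of `pullback.snd f U.ι`
  have hl : IsPullback (pullback.fst fT φ) ψ fT φ := IsPullback.of_hasPullback fT φ
  have hr : IsPullback (pullback.fst f q) fT f q := IsPullback.of_hasPullback f q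
  have hbig : IsPullback (pullback.fst fT φ ≫ pullback.fst f q) ψ f (φ ≫ q) := hl.paste_horiz hr
  have hφ : φ ≫ q = r ≫ U.ι := pullback.condition
  rw [hφ] at hbig
  let top : pullback fT φ ⟶ pullback f U.ι :=
    pullback.lift (pullback.fst fT φ ≫ pullback.fst f q) (ψ ≫ r) hbig.w
  have htop1 : top ≫ pullback.fst f U.ι = pullback.fst fT φ ≫ pullback.fst f q :=
    pullback.lift_fst _ _ _
  have htop2 : top ≫ pullback.snd f U.ι = ψ ≫ r := pullback.lift_snd _ _ _
  have hr' : IsPullback (pullback.fst f U.ι) (pullback.snd f U.ι) f U.ι :=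
    IsPullback.of_hasPullback f U.ι
  have hbig' : IsPullback (top ≫ pullback.fst f U.ι) ψ f (r ≫ U.ι) := by
    rw [htop1]; exact hbig
  have hsq : IsPullback top ψ (pullback.snd f U.ι) r := IsPullback.of_right hbig' htop2 hr'
  have hψ : IsFinite ψ := MorphismProperty.of_isPullback (P := @IsFinite) hsq hU
  have hcomp : pullback.snd (fT ≫ q) U.ι =
      (pullbackRightPullbackFstIso q U.ι fT).inv ≫ ψ ≫ r :=
    (pullbackRightPullbackFstIso_inv_snd_snd q U.ι fT).symm
  change IsFinite (pullback.snd (fT ≫ q) U.ι)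
  rw [hcomp]
  haveI := hψ
  haveI := hq
  infer_instance

variable {f}

theorem isFinite_snd_iterFrom (U : Y.Opens) (hU : IsFinite (pullback.snd f U.ι)) (j : ℕ) :
    ∀ D : Stage f, IsFinite (pullback.snd D.q U.ι) →
      IsFinite (pullback.snd (iterFrom D j).q U.ι) := by
  induction j with
  | zero => intro D h; exact h
  | succ j ih => intro D h; exact ih D.next (isFinite_snd_nextQ f U hU D.q h)

variable (f)

/-- The base change of `f` to a scheme mapping into the covered locus is finite. -/
theorem isFinite_snd_of_range_subset_Ecl [IsAffineHom f] [LocallyOfFiniteType f]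
    {T : Scheme.{u}} (q : T ⟶ Y) (S : Set (Sec f q)) (hS : S.Finite) (hne : S.Nonempty)
    {E' : Scheme.{u}} (ι : E' ⟶ T) (hι : Set.range ι ⊆ Ecl f q S) :
    IsFinite (pullback.snd f (ι ≫ q)) := by
  classical
  haveI : IsAffineHom (pullback.snd f (ι ≫ q)) :=
    MorphismProperty.pullback_snd (P := @IsAffineHom) f (ι ≫ q) inferInstance
  haveI : LocallyOfFiniteType (pullback.snd f (ι ≫ q)) :=
    MorphismProperty.pullback_snd (P := @LocallyOfFiniteType) f (ι ≫ q) inferInstance
  let F : Sec f q → {s : E' ⟶ pullback f (ι ≫ q) // s ≫ pullback.snd f (ι ≫ q) = 𝟙 E'} :=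
    fun a => ⟨sec f (ι ≫ q) (pb f q ι a), sec_snd f (ι ≫ q) _⟩
  have hfinF : (F '' S).Finite := hS.image F
  refine isFinite_of_sections_cover (pullback.snd f (ι ≫ q)) hfinF.toFinset ?_ ?_
  · obtain ⟨a, ha⟩ := hne
    exact ⟨F a, hfinF.mem_toFinset.mpr ⟨a, ha, rfl⟩⟩
  · intro z
    have h1 : pullback.snd f q (rho f q ι z) ∈ Ecl f q S := by
      rw [← Scheme.Hom.comp_apply, rho_snd, Scheme.Hom.comp_apply]
      exact hι ⟨_, rfl⟩
    have h2 := (mem_Ecl_iff f q S _).1 h1 _ rfl
    obtain ⟨a, ha, hza⟩ := Set.mem_iUnion₂.mp h2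
    exact ⟨F a, hfinF.mem_toFinset.mpr ⟨a, ha, rfl⟩, mem_range_sec_of_rho_mem f q ι a z hza⟩

/-- If the base change of `f` along `g` is finite, the fibre integral of a weighting is locally
constant along `g`. -/
theorem isClopen_level_of_isFinite [LocallyQuasiFinite f] [LocallyOfFiniteType f]
    (hfib : ∀ y : Y, (f ⁻¹' {y}).Finite) (w : X → ℤ) (hw : MoreMor.IsWeighting f w)
    {E' : Scheme.{u}} (g : E' ⟶ Y) [IsFinite (pullback.snd f g)] (d : ℤ) :
    IsClopen {e : E' | MoreMor.fibreIntegral f w (g e) = d} := by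
  have hA : Groth.Agent.Lib.lead.WtD.IsChart f g (pullback.fst f g) (pullback.snd f g) := by
    refine ⟨pullback.condition, ?_⟩
    have : pullback.lift (pullback.fst f g) (pullback.snd f g) pullback.condition =
        𝟙 (pullback f g) := by
      apply pullback.hom_ext
      · rw [pullback.lift_fst, Category.id_comp]
      · rw [pullback.lift_snd, Category.id_comp]
    rw [this]
    infer_instance
  have hlc := Groth.Agent.Lib.lead.WtF.isLocallyConstant_of_isChart hw hA
  have heq : MoreMor.fibreIntegral (pullback.snd f g) (w ∘ pullback.fst f g) =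
      fun e => MoreMor.fibreIntegral f w (g e) := by
    funext e
    exact Groth.Agent.Lib.lead.WtB.fibreIntegral_baseChange (IsPullback.of_hasPullback f g) w e
      (hfib (g e)).to_subtype
  rw [heq] at hlc
  exact hlc.isClopen_fiber d

end Groth.Agent.Lib.lead.WtAff
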