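import Mathlib
import Groth.Agent.Lib.lead.WtAffC

/-!
# Affineness of the maximal locus of a fibre integral: main theorem
-/

set_option autoImplicit false
set_option linter.style.haveILetI false
universe u
open CategoryTheory CategoryTheory.Limits AlgebraicGeometry Opposite TopologicalSpace

namespace Groth.Agent.Lib.lead.WtAff

variable {X Y : Scheme.{u}} (f : X ⟶ Y)

/-- The initial stage. -/
def stage0 : Stage f := ⟨Y, 𝟙 Y, ∅⟩

theorem isFinite_snd_of_morphismRestrict (U : Y.Opens) (h : IsFinite (f ∣_ U)) :
    IsFinite (pullback.snd f U.ι) := by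
  have h1 : f ∣_ U = (pullbackRestrictIsoRestrict f U).inv ≫ pullback.snd f U.ι := rfl
  rw [h1] at h
  exact (MorphismProperty.cancel_left_of_respectsIso @IsFinite
    (pullbackRestrictIsoRestrict f U).inv (pullback.snd f U.ι)).1 h

/-- **Main theorem**: for a quasi-finite morphism of affine schemes with a positive weighting whose
fibre integral has maximum `d`, the open locus where the integral equals `d` is affine. -/
theorem isAffineOpen_max_locus [LocallyQuasiFinite f] [LocallyOfFiniteType f] [QuasiCompact f]
    [IsAffine X] [IsAffine Y] (w : X → ℤ) (hw : MoreMor.IsWeighting f w) (hpos : ∀ x, 0 < w x)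
    (d : ℤ) (hmax : ∀ y : Y, MoreMor.fibreIntegral f w y ≤ d)
    (hatt : ∃ y : Y, MoreMor.fibreIntegral f w y = d) :
    ∃ hYd : IsOpen {y : Y | MoreMor.fibreIntegral f w y = d},
      IsAffineOpen (⟨{y : Y | MoreMor.fibreIntegral f w y = d}, hYd⟩ : Y.Opens) := by
  classical
  haveI : IsAffineHom f := inferInstance
  haveI : IsSeparated f := inferInstance
  have hfib : ∀ y : Y, (f ⁻¹' {y}).Finite := fun y => f.finite_preimage_singleton y
  obtain ⟨hYd, hfinY⟩ := Groth.Agent.S1428.result f hfib w hw hpos d hmax hatt
  refine ⟨hYd, ?_⟩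
  set Yd : Y.Opens := ⟨{y : Y | MoreMor.fibreIntegral f w y = d}, hYd⟩ with hYd_def
  have hw1 : ∀ x, 1 ≤ w x := fun x => hpos x
  have hd0 : 0 ≤ d := by
    obtain ⟨y, hy⟩ := hatt
    rw [← hy]
    exact Groth.Agent.Lib.lead.WtG.fibreIntegral_nonneg f w (fun x => (hpos x).le) y
  rcases hd0.eq_or_lt with hd | hd
  · -- `d = 0`: everything
    have : Yd = ⊤ := by
      ext y
      simp only [hYd_def, TopologicalSpace.Opens.coe_mk, Set.mem_ofPred_eq,
        TopologicalSpace.Opens.coe_top, Set.mem_univ, iff_true]
      have h1 := hmax y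
      have h2 := Groth.Agent.Lib.lead.WtG.fibreIntegral_nonneg f w (fun x => (hpos x).le) y
      omega
    rw [this]
    exact isAffineOpen_top Y
  · -- `d ≥ 1`
    haveI : UniversallyOpen f := Groth.Agent.S1420.result f w hw hpos
    obtain ⟨n, hn⟩ : ∃ n : ℕ, d = n := ⟨d.toNat, (Int.toNat_of_nonneg hd.le).symm⟩
    have hn1 : 1 ≤ n := by omega
    obtain ⟨n', rfl⟩ : ∃ n', n = n' + 1 := ⟨n - 1, by omega⟩
    let D : Stage f := iterFrom (stage0 f) (n' + 1)
    have hDfin : D.secs.Finite := iterFrom_secs_finite (n' + 1) (stage0 f) Set.finite_empty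
    have hDne : D.secs.Nonempty :=
      iterFrom_secs_nonempty n' (stage0 f).next (nextSecs_nonempty f _ _)
    haveI hDaff : IsAffine D.P :=
      iterFrom_isAffine (n' + 1) (stage0 f) (inferInstanceAs (IsAffine Y))
    have hUfin : IsFinite (pullback.snd f Yd.ι) := isFinite_snd_of_morphismRestrict f Yd hfinY
    have hDq : IsFinite (pullback.snd D.q Yd.ι) :=
      isFinite_snd_iterFrom Yd hUfin (n' + 1) (stage0 f)
        (inferInstanceAs (IsFinite (pullback.snd (𝟙 Y) Yd.ι)))
    -- the closed subscheme of covered points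
    have hEcl : IsClosed (Ecl f D.q D.secs) := isClosed_Ecl f D.q D.secs hDfin
    let J := Scheme.IdealSheafData.vanishingIdeal (⟨Ecl f D.q D.secs, hEcl⟩ : Closeds D.P)
    let ι : J.subscheme ⟶ D.P := J.subschemeι
    have hιr : Set.range ι = Ecl f D.q D.secs := by
      rw [Scheme.IdealSheafData.range_subschemeι,
        Scheme.IdealSheafData.coe_support_vanishingIdeal]
      rfl
    haveI : IsAffine J.subscheme := isAffine_of_isAffineHom ι
    let g : J.subscheme ⟶ Y := ι ≫ D.q
    haveI hfinE : IsFinite (pullback.snd f g) :=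
      isFinite_snd_of_range_subset_Ecl f D.q D.secs hDfin hDne ι hιr.le
    have hclopen := isClopen_level_of_isFinite f hfib w hw g d
    -- the part over `Yd`
    let j : pullback g Yd.ι ⟶ J.subscheme := pullback.fst g Yd.ι
    have hjr : Set.range j = {e : J.subscheme | MoreMor.fibreIntegral f w (g e) = d} := by
      rw [Scheme.Pullback.range_fst, Scheme.Opens.range_ι]
      rfl
    haveI : IsAffine (pullback g Yd.ι) :=
      isAffine_of_isOpenImmersion_of_isClosed_range j (hjr ▸ hclopen.isClosed)
    -- the map to `Yd` is finite and surjective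
    have hfin : IsFinite (pullback.snd g Yd.ι) := by
      have hcomp : pullback.snd (ι ≫ D.q) Yd.ι =
          (pullbackRightPullbackFstIso D.q Yd.ι ι).inv ≫
            pullback.snd ι (pullback.fst D.q Yd.ι) ≫ pullback.snd D.q Yd.ι :=
        (pullbackRightPullbackFstIso_inv_snd_snd D.q Yd.ι ι).symm
      change IsFinite (pullback.snd (ι ≫ D.q) Yd.ι)
      rw [hcomp]
      haveI : IsFinite (pullback.snd ι (pullback.fst D.q Yd.ι)) :=
        MorphismProperty.pullback_snd (P := @IsFinite) ι (pullback.fst D.q Yd.ι) inferInstance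
      haveI := hDq
      infer_instance
    have hsurj : Surjective (pullback.snd g Yd.ι) := by
      refine ⟨fun y => ?_⟩
      have hy : MoreMor.fibreIntegral f w (Yd.ι y) = ((n' + 1 : ℕ) : ℤ) := by
        have := y.2
        rw [← hn]
        exact this
      -- a point of the tuple space with covered fibre
      obtain ⟨e, he1, he2⟩ := exists_mem_Ecl_iterFrom hfib w hw1 (Yd.ι y) (n' + 1) hy (n' + 1)
        (stage0 f) Set.finite_empty (Yd.ι y) rfl (Or.inl (by omega)) (by
          intro hE
          exfalso
          -- the fibre over `y` is nonempty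
          have hne : ∃ x : X, f x = Yd.ι y := by
            by_contra hcon
            push Not at hcon
            haveI : IsEmpty {x : X // f x = Yd.ι y} := ⟨fun x => hcon x.1 x.2⟩
            have h0 : MoreMor.fibreIntegral f w (Yd.ι y) = 0 := by
              unfold MoreMor.fibreIntegral
              exact finsum_of_isEmpty _
            rw [h0] at hy
            omega
          obtain ⟨x, hx⟩ := hne
          obtain ⟨z, -, hz2⟩ := Scheme.Pullback.exists_preimage_pullback (f := f)
            (g := 𝟙 Y) x (Yd.ι y) (by rw [hx]; rfl)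
          have h3 := (mem_Ecl_iff f (stage0 f).q (stage0 f).secs (Yd.ι y)).1 hE z hz2
          obtain ⟨a, ha, -⟩ := Set.mem_iUnion₂.mp h3
          exact ha)
      have he3 : e ∈ Set.range ι := by rw [hιr]; exact he2
      obtain ⟨e', rfl⟩ := he3
      obtain ⟨p, -, hp2⟩ := Scheme.Pullback.exists_preimage_pullback (f := g) (g := Yd.ι) e' y
        (by rw [← he1]; rfl)
      exact ⟨p, hp2⟩
    haveI := hfin
    haveI := hsurj
    haveI : IsIntegralHom (pullback.snd g Yd.ι) := inferInstance
    exact Groth.Agent.Lib.lead.ChevD.isAffine_of_isIntegralHom_of_surjective (pullback.snd g Yd.ι)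

end Groth.Agent.Lib.lead.WtAff
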