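import Mathlib
import Groth.Agent.Lib.lead.WtAffD
import Groth.Agent.Lib.Helper13.AffStrat
import Groth.Agent.S1419

/-!
# Affine stratification number and values of the fibre integral (Stacks 0F3K-type statement)
-/

set_option autoImplicit false
set_option linter.style.haveILetI false
universe u
open CategoryTheory CategoryTheory.Limits AlgebraicGeometry Opposite TopologicalSpace

namespace Groth.Agent.Lib.lead.WtAff

variable {X Y : Scheme.{u}} (f : X ⟶ Y)

/-- For an affine quasi-finite morphism with a positive weighting, the inclusion of the maximal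
locus of the fibre integral is an affine morphism. -/
theorem isAffineHom_ι_max_locus [LocallyQuasiFinite f] [LocallyOfFiniteType f] [QuasiCompact f]
    [IsAffineHom f] (w : X → ℤ) (hw : MoreMor.IsWeighting f w) (hpos : ∀ x, 0 < w x)
    (d : ℤ) (hmax : ∀ y : Y, MoreMor.fibreIntegral f w y ≤ d) (Yd : Y.Opens)
    (hYd : (Yd : Set Y) = {y : Y | MoreMor.fibreIntegral f w y = d}) : IsAffineHom Yd.ι := by
  have hfib : ∀ y : Y, (f ⁻¹' {y}).Finite := fun y => f.finite_preimage_singleton y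
  refine ⟨fun V hV => ?_⟩
  haveI : IsAffine (V : Scheme.{u}) := hV
  haveI : IsAffine ((f ⁻¹ᵁ V : X.Opens) : Scheme.{u}) := hV.preimage f
  have hc : IsPullback (f ⁻¹ᵁ V).ι (f ∣_ V) f V.ι := (isPullback_morphismRestrict f V).flip
  haveI : LocallyQuasiFinite (f ∣_ V) := MorphismProperty.of_isPullback hc inferInstance
  haveI : LocallyOfFiniteType (f ∣_ V) := MorphismProperty.of_isPullback hc inferInstance
  haveI : QuasiCompact (f ∣_ V) := MorphismProperty.of_isPullback hc inferInstance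
  have hwV : MoreMor.IsWeighting (f ∣_ V) (w ∘ (f ⁻¹ᵁ V).ι) :=
    Groth.Agent.S1419.result f w hw (f ∣_ V) (f ⁻¹ᵁ V).ι V.ι hc
  have hint : ∀ v : V, MoreMor.fibreIntegral (f ∣_ V) (w ∘ (f ⁻¹ᵁ V).ι) v =
      MoreMor.fibreIntegral f w (V.ι v) := fun v =>
    Groth.Agent.Lib.lead.WtB.fibreIntegral_baseChange hc w v (hfib _).to_subtype
  have h1 : IsAffineOpen (V.ι ⁻¹ᵁ Yd) := by
    by_cases hex : ∃ v : V, MoreMor.fibreIntegral f w (V.ι v) = d
    · obtain ⟨hO, hA⟩ := isAffineOpen_max_locus (f ∣_ V) (w ∘ (f ⁻¹ᵁ V).ι) hwV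
        (fun x => hpos _) d (fun v => by rw [hint]; exact hmax _)
        (by obtain ⟨v, hv⟩ := hex; exact ⟨v, by rw [hint]; exact hv⟩)
      have heq : (⟨{v : V | MoreMor.fibreIntegral (f ∣_ V) (w ∘ (f ⁻¹ᵁ V).ι) v = d}, hO⟩ :
          (V : Scheme.{u}).Opens) = V.ι ⁻¹ᵁ Yd := by
        apply TopologicalSpace.Opens.ext
        apply Set.ext
        intro v
        change MoreMor.fibreIntegral (f ∣_ V) (w ∘ (f ⁻¹ᵁ V).ι) v = d ↔ V.ι v ∈ (Yd : Set Y)
        rw [hint, hYd]
        rfl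
      rw [← heq]
      exact hA
    · have heq : V.ι ⁻¹ᵁ Yd = ⊥ := by
        apply TopologicalSpace.Opens.ext
        apply Set.ext
        intro v
        change V.ι v ∈ (Yd : Set Y) ↔ v ∈ (∅ : Set (V : Scheme.{u}))
        rw [hYd]
        constructor
        · intro hv
          exact (hex ⟨v, hv⟩).elim
        · intro hv
          exact hv.elim
      rw [heq]
      exact isAffineOpen_bot _
  have h2 : IsAffineOpen (V.ι ''ᵁ (V.ι ⁻¹ᵁ Yd)) := h1.image_of_isOpenImmersion V.ι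
  have h3 : V.ι ''ᵁ (V.ι ⁻¹ᵁ Yd) = Yd ⊓ V := by
    rw [Scheme.Hom.image_preimage_eq_opensRange_inf, Scheme.Opens.opensRange_ι, inf_comm]
  rw [h3] at h2
  have h4 : IsAffineOpen (Yd.ι ⁻¹ᵁ (Yd ⊓ V)) :=
    h2.preimage_of_isOpenImmersion Yd.ι (by rw [Scheme.Opens.opensRange_ι]; exact inf_le_left)
  have h5 : Yd.ι ⁻¹ᵁ (Yd ⊓ V) = Yd.ι ⁻¹ᵁ V := by
    ext u
    simp only [TopologicalSpace.Opens.map_coe, Set.mem_preimage, SetLike.mem_coe,
      TopologicalSpace.Opens.coe_inf, Set.mem_inter_iff]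
    exact ⟨fun h => h.2, fun h => ⟨u.2, h⟩⟩
  rwa [h5] at h4

end Groth.Agent.Lib.lead.WtAff
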