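import Mathlib
import Groth.Agent.Lib.lead.WtAffE

/-!
# Affine stratification number and values of the fibre integral: the induction
-/

set_option autoImplicit false
set_option linter.style.haveILetI false
universe u
open CategoryTheory CategoryTheory.Limits AlgebraicGeometry Opposite TopologicalSpace

namespace Groth.Agent.Lib.lead.WtAff

open Groth.Agent.Lib.Helper13.AffStrat

/-- The open stratum: the maximal locus of the fibre integral is an affine open with affine
inclusion. -/
theorem exists_open_stratum {X Y : Scheme.{u}} (f : X ⟶ Y) [Surjective f] [LocallyQuasiFinite f]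
    [LocallyOfFiniteType f] [QuasiCompact f] [IsAffine X] [Y.IsSeparated] [Nonempty Y]
    (w : X → ℤ) (hw : MoreMor.IsWeighting f w) (hpos : ∀ x, 0 < w x)
    (hfin : (Set.range (MoreMor.fibreIntegral f w)).Finite) :
    ∃ (d : ℤ) (Yd : Y.Opens), (Yd : Set Y) = {y : Y | MoreMor.fibreIntegral f w y = d} ∧
      (∀ y, MoreMor.fibreIntegral f w y ≤ d) ∧ d ∈ Set.range (MoreMor.fibreIntegral f w) ∧
      IsAffineOpen Yd ∧ IsAffineHom Yd.ι := by
  classical
  have hne : hfin.toFinset.Nonempty := by
    obtain ⟨y⟩ := ‹Nonempty Y›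
    exact ⟨MoreMor.fibreIntegral f w y, hfin.mem_toFinset.mpr ⟨y, rfl⟩⟩
  let d := hfin.toFinset.max' hne
  have hd : d ∈ Set.range (MoreMor.fibreIntegral f w) :=
    hfin.mem_toFinset.mp (Finset.max'_mem _ hne)
  have hmax : ∀ y, MoreMor.fibreIntegral f w y ≤ d := fun y =>
    Finset.le_max' _ _ (hfin.mem_toFinset.mpr ⟨y, rfl⟩)
  haveI : IsAffineHom (f ≫ terminal.from Y) := by
    have : f ≫ terminal.from Y = terminal.from X := Subsingleton.elim _ _
    rw [this]
    infer_instance
  haveI : IsAffineHom f := IsAffineHom.of_comp f (terminal.from Y)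
  haveI : IsSeparated f := inferInstance
  have hfib : ∀ y : Y, (f ⁻¹' {y}).Finite := fun y => f.finite_preimage_singleton y
  obtain ⟨hYd, hfinY⟩ := Groth.Agent.S1428.result f hfib w hw hpos d hmax hd
  let Yd : Y.Opens := ⟨{y : Y | MoreMor.fibreIntegral f w y = d}, hYd⟩
  have hι : IsAffineHom Yd.ι := isAffineHom_ι_max_locus f w hw hpos d hmax Yd rfl
  refine ⟨d, Yd, rfl, hmax, hd, ?_, hι⟩
  haveI := hι
  haveI : IsAffine (pullback f Yd.ι) := inferInstance
  haveI : IsFinite (pullback.snd f Yd.ι) := isFinite_snd_of_morphismRestrict f Yd hfinY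
  haveI : Surjective (pullback.snd f Yd.ι) :=
    MorphismProperty.pullback_snd (P := @Surjective) f Yd.ι inferInstance
  haveI : IsIntegralHom (pullback.snd f Yd.ι) := inferInstance
  exact Groth.Agent.Lib.lead.ChevD.isAffine_of_isIntegralHom_of_surjective (pullback.snd f Yd.ι)

/-- **Main theorem** (ℕ-valued form): if the fibre integral of a positive weighting of a surjective
quasi-finite morphism from an affine scheme to a separated scheme takes `k + 1` values, the target
has an affine stratification with `k + 1` strata. -/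
theorem hasAffStratNat_of_values (k : ℕ) : ∀ {X Y : Scheme.{u}} (f : X ⟶ Y) [Surjective f]
    [LocallyQuasiFinite f] [LocallyOfFiniteType f] [QuasiCompact f] [IsAffine X] [Y.IsSeparated]
    [Nonempty Y] (w : X → ℤ), MoreMor.IsWeighting f w → (∀ x, 0 < w x) →
    (Set.range (MoreMor.fibreIntegral f w)).ncard = k + 1 →
    (Set.range (MoreMor.fibreIntegral f w)).Finite → HasAffStratNat Y k := by
  induction k with
  | zero =>
    intro X Y f _ _ _ _ _ _ _ w hw hpos hk hfin
    obtain ⟨d, Yd, hYd, hmax, hd, hAff, hι⟩ := exists_open_stratum f w hw hpos hfin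
    obtain ⟨a, ha⟩ := Set.ncard_eq_one.mp hk
    have hall : ∀ y, MoreMor.fibreIntegral f w y = d := by
      intro y
      have h1 : MoreMor.fibreIntegral f w y ∈ ({a} : Set ℤ) := ha ▸ ⟨y, rfl⟩
      have h2 : d ∈ ({a} : Set ℤ) := ha ▸ hd
      rw [Set.mem_singleton_iff] at h1 h2
      rw [h1, h2]
    refine ⟨fun _ => 0, fun _ => le_rfl, fun i => ?_, fun i hi => ?_⟩
    · simp
    · refine ⟨Yd, Yd.ι, inferInstance, hAff, hι, ?_⟩
      rw [Scheme.Opens.range_ι, hYd]
      ext x
      simp only [Set.mem_ofPred_eq, hall, true_iff]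
      omega
  | succ k ih =>
    intro X Y f _ _ _ _ _ _ _ w hw hpos hk hfin
    obtain ⟨d, Yd, hYd, hmax, hd, hAff, hι⟩ := exists_open_stratum f w hw hpos hfin
    haveI := hι
    haveI : IsAffineHom (f ≫ terminal.from Y) := by
      have : f ≫ terminal.from Y = terminal.from X := Subsingleton.elim _ _
      rw [this]
      infer_instance
    haveI : IsAffineHom f := IsAffineHom.of_comp f (terminal.from Y)
    have hfib : ∀ y : Y, (f ⁻¹' {y}).Finite := fun y => f.finite_preimage_singleton y
    -- the closed complement
    let Zc : Closeds Y := ⟨(Yd : Set Y)ᶜ, Yd.isOpen.isClosed_compl⟩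
    let I := Scheme.IdealSheafData.vanishingIdeal Zc
    let c : I.subscheme ⟶ Y := I.subschemeι
    have hc : Set.range c = (Yd : Set Y)ᶜ := by
      rw [Scheme.IdealSheafData.range_subschemeι, Scheme.IdealSheafData.coe_support_vanishingIdeal]
      rfl
    -- base change
    let f' : pullback f c ⟶ I.subscheme := pullback.snd f c
    haveI : Surjective f' := MorphismProperty.pullback_snd (P := @Surjective) f c inferInstance
    haveI : LocallyQuasiFinite f' :=
      MorphismProperty.pullback_snd (P := @LocallyQuasiFinite) f c inferInstance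
    haveI : LocallyOfFiniteType f' :=
      MorphismProperty.pullback_snd (P := @LocallyOfFiniteType) f c inferInstance
    haveI : QuasiCompact f' := MorphismProperty.pullback_snd (P := @QuasiCompact) f c inferInstance
    haveI : IsAffine (pullback f c) := inferInstance
    haveI : I.subscheme.IsSeparated := by
      refine ⟨?_⟩
      have : terminal.from I.subscheme = c ≫ terminal.from Y := Subsingleton.elim _ _
      rw [this]
      infer_instance
    have hpb : IsPullback (pullback.fst f c) f' f c := IsPullback.of_hasPullback f c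
    have hw' : MoreMor.IsWeighting f' (w ∘ pullback.fst f c) :=
      Groth.Agent.S1419.result f w hw f' (pullback.fst f c) c hpb
    have hint : ∀ z, MoreMor.fibreIntegral f' (w ∘ pullback.fst f c) z =
        MoreMor.fibreIntegral f w (c z) := fun z =>
      Groth.Agent.Lib.lead.WtB.fibreIntegral_baseChange hpb w z (hfib _).to_subtype
    have hrange : Set.range (MoreMor.fibreIntegral f' (w ∘ pullback.fst f c)) =
        Set.range (MoreMor.fibreIntegral f w) \ {d} := by
      ext v
      constructor
      · rintro ⟨z, rfl⟩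
        rw [hint]
        refine ⟨⟨c z, rfl⟩, ?_⟩
        have hz : c z ∈ (Yd : Set Y)ᶜ := hc ▸ ⟨z, rfl⟩
        rw [hYd] at hz
        exact hz
      · rintro ⟨⟨y, rfl⟩, hy⟩
        have hy' : y ∈ Set.range c := by
          rw [hc, hYd]
          exact hy
        obtain ⟨z, rfl⟩ := hy'
        exact ⟨z, hint z⟩
    have hk' : (Set.range (MoreMor.fibreIntegral f' (w ∘ pullback.fst f c))).ncard = k + 1 := by
      rw [hrange, Set.ncard_sdiff_singleton_of_mem hd, hk]
      rfl
    have hfin' : (Set.range (MoreMor.fibreIntegral f' (w ∘ pullback.fst f c))).Finite := by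
      rw [hrange]
      exact hfin.subset Set.sdiff_subset
    haveI : Nonempty I.subscheme := by
      have : (Set.range (MoreMor.fibreIntegral f' (w ∘ pullback.fst f c))).Nonempty := by
        rw [← Set.ncard_pos hfin', hk']
        omega
      obtain ⟨_, z, -⟩ := this
      exact ⟨z⟩
    have hZ : HasAffStratNat I.subscheme k :=
      ih f' (w ∘ pullback.fst f c) hw' (fun x => hpos _) hk' hfin'
    exact hasAffStratNat_glue Yd hAff c hc k hZ

end Groth.Agent.Lib.lead.WtAff
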