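import Mathlib
import Groth.Agent.Lib.lead.WtLcF

set_option autoImplicit false
set_option linter.style.haveILetI false
set_option linter.unusedSectionVars false
universe u

namespace Groth.Agent.Lib.lead.WtLcG

open AlgebraicGeometry CategoryTheory Limits Topology TopologicalSpace
  Groth.Agent.Lib.lead.WtLcA Groth.Agent.Lib.lead.WtLcB Groth.Agent.Lib.lead.WtF
  Groth.Agent.Lib.lead.WtRestrict Groth.Agent.Lib.lead.WtLcC Groth.Agent.Lib.lead.WtLcD
  Groth.Agent.Lib.lead.WtLcE Groth.Agent.Lib.lead.WtLcF Groth.Agent.Lib.lead.WtG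
  Groth.Agent.Lib.lead.IrrDisj Groth.Agent.Lib.lead.WtO

theorem fibreIntegral_mono {U V : Scheme.{u}} (π : U ⟶ V) (F G : U → ℤ) (h : ∀ u, F u ≤ G u)
    (v : V) (hfin : Finite {u : U // π u = v}) :
    MoreMor.fibreIntegral π F v ≤ MoreMor.fibreIntegral π G v := by
  have h1 : G = fun u => F u + (G u - F u) := by
    funext u; ring
  have h2 : 0 ≤ MoreMor.fibreIntegral π (fun u => G u - F u) v :=
    fibreIntegral_nonneg π _ (fun u => sub_nonneg.mpr (h u)) v
  rw [h1, fibreIntegral_add π F (fun u => G u - F u) v hfin]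
  omega

theorem S1427 {X Y : Scheme.{u}} (f : X ⟶ Y) [LocallyQuasiFinite f] [LocallyOfFiniteType f] [CompactSpace ↑X] (w : ↑X → ℤ) (hw : MoreMor.IsWeighting f w) [Nonempty ↑Y] :
    ∃ y₀ : Y, ∀ y : Y, MoreMor.fibreIntegral f w y ≤ MoreMor.fibreIntegral f w y₀ := by
  have hlcf := lcf_of_weighting f w hw
  obtain ⟨J, hJ⟩ := hlcf.exists_finset
  obtain ⟨M₀, hM₀⟩ := J.bddAbove
  set M : ℤ := max M₀ 0 with hM
  have hwM : ∀ x, w x ≤ M := fun x => le_trans (hM₀ (hJ x)) (le_max_left _ _)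
  have hM0 : 0 ≤ M := le_max_right _ _
  obtain ⟨d, hd⟩ := exists_bound_cnt f
  have hbound : ∀ y, MoreMor.fibreIntegral f w y ≤ M * d := by
    intro y
    obtain ⟨hfin, hcnt⟩ := hd y
    have h1 := fibreIntegral_mono f w (fun _ => 1 * M) (fun x => by rw [one_mul]; exact hwM x) y hfin
    have h2 := fibreIntegral_mul_const f (fun _ => 1) (fun _ => M) y M (fun _ _ => rfl) hfin
    rw [h2] at h1
    refine le_trans h1 ?_
    exact mul_le_mul_of_nonneg_left hcnt hM0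
  obtain ⟨ub, ⟨y₀, hy₀⟩, hub⟩ := Int.exists_greatest_of_bdd
    (P := fun z => ∃ y, MoreMor.fibreIntegral f w y = z)
    ⟨M * d, fun z ⟨y, hy⟩ => hy ▸ hbound y⟩
    ⟨_, Classical.arbitrary Y, rfl⟩
  exact ⟨y₀, fun y => hy₀ ▸ hub _ ⟨y, rfl⟩⟩

end Groth.Agent.Lib.lead.WtLcG
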