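import Mathlib
import Groth.Agent.Lib.lead.WtLcG

set_option autoImplicit false
set_option linter.style.haveILetI false
set_option linter.unusedSectionVars false
universe u

namespace Groth.Agent.Lib.lead.WtLcH

open AlgebraicGeometry CategoryTheory Limits Topology TopologicalSpace
  Groth.Agent.Lib.lead.WtLcA Groth.Agent.Lib.lead.WtLcB Groth.Agent.Lib.lead.WtF
  Groth.Agent.Lib.lead.WtRestrict Groth.Agent.Lib.lead.WtLcC Groth.Agent.Lib.lead.WtLcD
  Groth.Agent.Lib.lead.WtLcE Groth.Agent.Lib.lead.WtLcF Groth.Agent.Lib.lead.WtG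
  Groth.Agent.Lib.lead.IrrDisj Groth.Agent.Lib.lead.WtO Groth.Agent.Lib.lead.WtB

theorem lcf_fibreIntegral_affine {X Y : Scheme.{u}} (f : X ⟶ Y) [IsAffine Y]
    [LocallyQuasiFinite f] [LocallyOfFinitePresentation f] [QuasiCompact f] [QuasiSeparated f]
    (w : X → ℤ) (hw : MoreMor.IsWeighting f w) : LCF (MoreMor.fibreIntegral f w) := by
  classical
  haveI : CompactSpace X :=
    (HasAffineProperty.iff_of_isAffine (P := @QuasiCompact) (f := f)).mp inferInstance
  haveI : QuasiSeparatedSpace X :=
    (HasAffineProperty.iff_of_isAffine (P := @QuasiSeparated) (f := f)).mp inferInstance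
  have hfin := fun y => (f.finite_preimage_singleton y).to_subtype
  have hlcf := lcf_of_weighting f w hw
  let O : Finset X.affineOpens → Set X := fun s => ⋃ U ∈ s, ((U : X.Opens) : Set X)
  have hOc : ∀ s, IsConstructible (O s) := fun s =>
    IsConstructible.biUnion s.finite_toSet fun U _ =>
      (U.2.isCompact).isConstructible U.1.isOpen
  have key : ∀ s : Finset X.affineOpens,
      LCF (MoreMor.fibreIntegral f (fun x => if x ∈ O s then w x else 0)) := by
    intro s
    induction s using Finset.induction_on with
    | empty =>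
      have : MoreMor.fibreIntegral f (fun x => if x ∈ O ∅ then w x else 0) = fun _ => 0 := by
        funext y
        have h0 : (fun x => if x ∈ O ∅ then w x else 0) = fun _ => (0 : ℤ) := by
          funext x
          simp [O]
        rw [h0, WtM.fibreIntegral_eq_sdeg]
        simp
      rw [this]
      exact LCF.const 0
    | insert U s hU ih =>
      let G : X → ℤ := fun x => if x ∈ ((U : X.Opens) : Set X) \ O s then w x else 0
      have hsplit : (fun x => if x ∈ O (insert U s) then w x else 0) =
          fun x => (if x ∈ O s then w x else 0) + G x := by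
        funext x
        have hO : x ∈ O (insert U s) ↔ x ∈ ((U : X.Opens) : Set X) ∨ x ∈ O s := by
          simp only [O, Set.mem_iUnion, Finset.mem_insert, exists_prop]
          constructor
          · rintro ⟨V, (rfl | hV), hx⟩
            · exact Or.inl hx
            · exact Or.inr ⟨V, hV, hx⟩
          · rintro (hx | ⟨V, hV, hx⟩)
            · exact ⟨U, Or.inl rfl, hx⟩
            · exact ⟨V, Or.inr hV, hx⟩
        by_cases h1 : x ∈ O s
        · have h2 : x ∈ O (insert U s) := hO.mpr (Or.inr h1)
          have h3 : x ∉ ((U : X.Opens) : Set X) \ O s := fun h => h.2 h1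
          simp only [G, if_pos h1, if_pos h2, if_neg h3, add_zero]
        · by_cases h4 : x ∈ ((U : X.Opens) : Set X)
          · have h2 : x ∈ O (insert U s) := hO.mpr (Or.inl h4)
            have h3 : x ∈ ((U : X.Opens) : Set X) \ O s := ⟨h4, h1⟩
            simp only [G, if_neg h1, if_pos h2, if_pos h3, zero_add]
          · have h2 : x ∉ O (insert U s) := fun h => (hO.mp h).elim h4 h1
            have h3 : x ∉ ((U : X.Opens) : Set X) \ O s := fun h => h4 h.1
            simp only [G, if_neg h1, if_neg h2, if_neg h3, add_zero]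
      have hint : MoreMor.fibreIntegral f (fun x => if x ∈ O (insert U s) then w x else 0) =
          fun y => MoreMor.fibreIntegral f (fun x => if x ∈ O s then w x else 0) y +
            MoreMor.fibreIntegral f G y := by
        funext y
        rw [hsplit]
        exact fibreIntegral_add f _ G y (hfin y)
      rw [hint]
      refine ih.add ?_
      -- the new piece
      haveI : IsAffine (U.1 : Scheme.{u}) := U.2
      haveI : IsSeparated (U.1.ι ≫ f) := isSeparated_of_isAffine _
      have hGU : MoreMor.fibreIntegral f G = MoreMor.fibreIntegral (U.1.ι ≫ f) (G ∘ U.1.ι) := by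
        funext y
        refine (fibreIntegral_supp_open U.1.ι f y (hfin y) G fun x hx => ?_).symm
        rw [Scheme.Opens.range_ι] at hx
        have : x ∉ ((U : X.Opens) : Set X) \ O s := fun h => hx h.1
        simp only [G, if_neg this]
      rw [hGU]
      obtain ⟨d, hd⟩ := exists_bound_cnt (U.1.ι ≫ f)
      have hE : IsLocallyConstructible (((U : X.Opens) : Set X) \ O s) :=
        (((U.2.isCompact).isConstructible U.1.isOpen).sdiff (hOc s)).isLocallyConstructible
      exact (main d (U.1.ι ≫ f) (fun y => (hd y).2)).1 _ (LCF.comp U.1.ι (hlcf.indicator hE))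
  -- a finite affine cover
  have hex : ∀ x : X, ∃ U : X.affineOpens, x ∈ (U : X.Opens) := by
    intro x
    obtain ⟨_, ⟨U, hU, rfl⟩, hxU, -⟩ := X.isBasis_affineOpens.exists_subset_of_mem_open
      (Set.mem_univ x) isOpen_univ
    exact ⟨⟨U, hU⟩, hxU⟩
  choose U hU using hex
  obtain ⟨t, ht⟩ := CompactSpace.elim_nhds_subcover (fun x => ((U x : X.Opens) : Set X))
    (fun x => (U x).1.isOpen.mem_nhds (hU x))
  have hcov : ∀ x, x ∈ O (t.image U) := by
    intro x
    have hx : x ∈ ⋃ x ∈ t, ((U x : X.Opens) : Set X) := by rw [ht]; trivial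
    simp only [Set.mem_iUnion, exists_prop] at hx
    obtain ⟨x', hx't, hx'⟩ := hx
    simp only [O, Set.mem_iUnion, exists_prop]
    exact ⟨U x', Finset.mem_image_of_mem U hx't, hx'⟩
  have := key (t.image U)
  have h0 : (fun x => if x ∈ O (t.image U) then w x else 0) = w := by
    funext x
    rw [if_pos (hcov x)]
  rw [h0] at this
  exact this

theorem S1424 {X Y : Scheme.{u}} (f : X ⟶ Y) [LocallyQuasiFinite f] [LocallyOfFinitePresentation f] [QuasiCompact f] [QuasiSeparated f]
    (w : ↑X → ℤ) (hw : MoreMor.IsWeighting f w) (n : ℤ) :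
    Topology.IsLocallyConstructible {y : ↑Y | MoreMor.fibreIntegral f w y = n} := by
  have hfin := fun y => (f.finite_preimage_singleton y).to_subtype
  have : LCF (MoreMor.fibreIntegral f w) := by
    apply LCF.of_affine_cover
    intro V hV
    haveI : IsAffine (V : Scheme.{u}) := hV
    have hc : IsPullback (f ⁻¹ᵁ V).ι (f ∣_ V) f V.ι := (isPullback_morphismRestrict f V).flip
    have h1 : (fun v : (V : Scheme.{u}) => MoreMor.fibreIntegral f w (V.ι v)) =
        MoreMor.fibreIntegral (f ∣_ V) (w ∘ (f ⁻¹ᵁ V).ι) := by
      funext v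
      exact (fibreIntegral_baseChange hc w v (hfin (V.ι v))).symm
    rw [h1]
    exact lcf_fibreIntegral_affine (f ∣_ V) _ (S1419 f w hw (f ∣_ V) (f ⁻¹ᵁ V).ι V.ι hc)
  exact this n

end Groth.Agent.Lib.lead.WtLcH
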