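import Mathlib
import Groth.Agent.Lib.lead.ZForm

/-!
More on the `ℤ`-form: reducedness, coroot combinations.
-/

namespace Groth.Agent.ZForm

open Module RootPairing

variable {ι R M N : Type*} [CommRing R] [CharZero R] [IsDomain R] [AddCommGroup M] [Module R M]
  [AddCommGroup N] [Module R N] (P : RootPairing ι R M N) [Finite ι] [P.IsCrystallographic]

instance zForm_isReduced [P.IsReduced] : (zForm P).IsReduced := by
  refine ⟨fun i j h => ?_⟩
  have h' : ¬ LinearIndependent R ![P.root i, P.root j] := by
    rw [LinearIndependent.pair_iff] at h ⊢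
    push Not at h ⊢
    obtain ⟨s, t, hst, hne⟩ := h
    refine ⟨(s : R), (t : R), ?_, ?_⟩
    · have := congrArg Subtype.val hst
      simpa [Int.cast_smul_eq_zsmul] using this
    · intro hs
      have hs0 : s = 0 := by exact_mod_cast hs
      intro ht
      have ht0 : t = 0 := by exact_mod_cast ht
      exact hne hs0 ht0
  rcases RootPairing.IsReduced.eq_or_eq_neg (P := P) i j h' with e | e
  · exact Or.inl (Subtype.ext e)
  · exact Or.inr (Subtype.ext (by simpa using e))

lemma algebraMap_lc_flip_root (x : ι →₀ ℤ) (m : P.rootSpan ℤ) :
    algebraMap ℤ R ((Finsupp.linearCombination ℤ (zForm P).flip.root x) m) =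
      P.toLinearMap (m : M) (Finsupp.linearCombination ℤ (fun i => (P.coroot i : N)) x) := by
  induction x using Finsupp.induction_linear with
  | zero => simp
  | add f g hf hg =>
    rw [map_add, LinearMap.add_apply, map_add, hf, hg, map_add, map_add]
  | single i a =>
    simp only [Finsupp.linearCombination_single, LinearMap.smul_apply, map_smul]
    change algebraMap ℤ R (a • (P.coroot'In ℤ i) m) = _
    rw [smul_eq_mul, map_mul, RootPairing.algebraMap_coroot'In_apply, ← Int.cast_smul_eq_zsmul R a,
      map_smul, smul_eq_mul]
    rfl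

end Groth.Agent.ZForm
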