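import Mathlib
import Groth.Agent.Lib.lead.VarFibreDimSum
import Groth.Agent.Lib.lead.FibreDimFormula
import Groth.Agent.Lib.Helper7.IntMultBridge

set_option autoImplicit false
set_option linter.style.haveILetI false
universe u
open CategoryTheory CategoryTheory.Limits AlgebraicGeometry Topology TopologicalSpace

namespace Groth.Agent.Lib.lead.ZeroFibreSurj

open Groth.Agent.Lib.lead Groth.Agent.Lib.Helper7 Groth.Agent.Lib.Helper24 Groth.Agent.Lib.Helper18

theorem dim_univ_eq {T : Type*} [TopologicalSpace T] :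
    topologicalKrullDim ↥(Set.univ : Set T) = topologicalKrullDim T :=
  (Homeomorph.Set.univ T).isHomeomorph.topologicalKrullDim_eq

theorem S7798 (k : Type u) [Field k] {X Y : Scheme.{u}}
    (p : X ⟶ Spec (CommRingCat.of k)) (q : Y ⟶ Spec (CommRingCat.of k)) [IsProper p] [IsSeparated q]
    [LocallyOfFiniteType q] [QuasiCompact q]
    [IrreducibleSpace X] [IrreducibleSpace Y] (hdim : topologicalKrullDim Y ≤ topologicalKrullDim X)
    (f : X ⟶ Y) (hf : f ≫ q = p) (y : Y) (hy : topologicalKrullDim ↥(f.fiber y) = 0) :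
    Surjective f ∧ topologicalKrullDim X = topologicalKrullDim Y := by
  subst hf
  haveI : IsProper f := IsProper.of_comp f q
  haveI : LocallyOfFiniteType f := inferInstance
  letI : Y.Over (Spec (CommRingCat.of k)) := ⟨q⟩
  letI : X.Over (Spec (CommRingCat.of k)) := ⟨f ≫ q⟩
  haveI : LocallyOfFiniteType (Y ↘ Spec (CommRingCat.of k)) := ‹LocallyOfFiniteType q›
  haveI : LocallyOfFiniteType (X ↘ Spec (CommRingCat.of k)) :=
    inferInstanceAs (LocallyOfFiniteType (f ≫ q))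
  have hf' : f ≫ (Y ↘ Spec (CommRingCat.of k)) = X ↘ Spec (CommRingCat.of k) := rfl
  set ξ := genericPoint X with hξ
  -- fibre dimension at the generic point is zero
  have hopen : IsOpen {x : X | ¬ ((1 : ℕ) : WithBot ℕ∞) ≤ FlatMor.fibreDimAt f x} :=
    (FibreDimTarget.isClosed_setOf_le_fibreDimAt f 1).isOpen_compl
  have hfibne : ∃ x₀ : X, f x₀ = y := by
    have h0 : ((0 : ℕ) : WithBot ℕ∞) ≤ topologicalKrullDim ↥(f.fiber y) := by rw [hy]; rfl
    obtain ⟨x₀, hx₀, -⟩ := (FibreDimTarget.le_dim_fibre_iff f y 0).1 h0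
    exact ⟨x₀, hx₀⟩
  obtain ⟨x₀, hx₀⟩ := hfibne
  have hx₀mem : x₀ ∈ {x : X | ¬ ((1 : ℕ) : WithBot ℕ∞) ≤ FlatMor.fibreDimAt f x} := by
    intro h1
    have h2 : ((1 : ℕ) : WithBot ℕ∞) ≤ topologicalKrullDim ↥(f.fiber y) :=
      (FibreDimTarget.le_dim_fibre_iff f y 1).2 ⟨x₀, hx₀, h1⟩
    rw [hy] at h2
    have : (1 : ℕ) ≤ 0 := by exact_mod_cast h2
    omega
  have hξmem : ξ ∈ {x : X | ¬ ((1 : ℕ) : WithBot ℕ∞) ≤ FlatMor.fibreDimAt f x} :=
    ((genericPoint_spec X).mem_open_set_iff hopen).2 ⟨x₀, trivial, hx₀mem⟩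
  have htr : FibreDim.tr f ξ = 0 := by
    obtain ⟨b, hb⟩ := FibreDimFormula.exists_nat_G f ξ
    have h1 : ¬ ((1 : ℕ) : WithBot ℕ∞) ≤ FlatMor.fibreDimAt f ξ := hξmem
    rw [FibreDimFormula.fibreDimAt_eq f ξ b hb] at h1
    by_contra hne
    apply h1
    have : 1 ≤ FibreDim.tr f ξ + b := by omega
    exact_mod_cast this
  have h2 := VarFibreDimSum.dim_closure_eq_add k f hf' ξ
  rw [htr] at h2
  have hcl : closure ({ξ} : Set X) = Set.univ := (genericPoint_spec X).def
  rw [hcl, dim_univ_eq] at h2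
  obtain ⟨m, -, hm⟩ := VarDim.exists_nat_dim_closure_eq k Y (f ξ)
  have hX : topologicalKrullDim X = m := by
    rw [h2, hm]; simp
  have hYle : topologicalKrullDim ↥(closure ({f ξ} : Set Y)) ≤ topologicalKrullDim Y :=
    VarFibreDimSum.dim_closure_le _
  have hY : topologicalKrullDim Y = m := le_antisymm (hX ▸ hdim) (hm ▸ hYle)
  have huniv : closure ({f ξ} : Set Y) = Set.univ :=
    IMBridge.eq_univ_of_topologicalKrullDim_eq m hY _ isClosed_closure hm
  refine ⟨⟨?_⟩, by rw [hX, hY]⟩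
  have hclosed : IsClosed (Set.range f) := f.isClosedMap.isClosed_range
  have hsub : closure ({f ξ} : Set Y) ⊆ Set.range f :=
    closure_minimal (by rintro _ rfl; exact ⟨ξ, rfl⟩) hclosed
  rw [huniv] at hsub
  intro z
  exact hsub trivial

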